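import Mathlib

namespace Groth.Agent.Lib.helper1.AP

open IsDedekindDomain

variable {K : Type*} [Field K] (O : ValuationSubring K) [hO : IsDiscreteValuationRing O]

/-- the height-one prime of a DVR valuation subring -/
noncomputable def hv : HeightOneSpectrum O :=
  ⟨IsLocalRing.maximalIdeal O, inferInstance, IsDiscreteValuationRing.not_a_field O⟩

/-- the absolute value attached to a DVR valuation subring -/
noncomputable def abv : AbsoluteValue K ℝ :=
  (hv O).adicAbv (K := K) (b := 2) (by norm_num)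

lemma abv_nonarch : IsNonarchimedean (abv O) :=
  (hv O).isNonarchimedean_adicAbv (K := K) (b := 2) (by norm_num)

lemma abv_coe_le_one (x : O) : abv O (x : K) ≤ 1 :=
  (hv O).adicAbv_coe_le_one (K := K) (b := 2) (by norm_num) x

lemma abv_coe_lt_one_iff (x : O) : abv O (x : K) < 1 ↔ x ∈ IsLocalRing.maximalIdeal O :=
  (hv O).adicAbv_coe_lt_one_iff (K := K) (b := 2) (by norm_num) x

lemma mem_of_abv_le_one {x : K} (h : abv O x ≤ 1) : x ∈ O := by
  by_contra hx
  have hinv : x⁻¹ ∈ O := (O.mem_or_inv_mem x).resolve_left hx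
  have hx0 : x ≠ 0 := by
    rintro rfl
    exact hx O.zero_mem
  have hnu : (⟨x⁻¹, hinv⟩ : O) ∈ IsLocalRing.maximalIdeal O := by
    rw [IsLocalRing.mem_maximalIdeal, mem_nonunits_iff]
    intro hu
    obtain ⟨u, hu⟩ := hu
    apply hx
    have h1 : ((u⁻¹ : Oˣ) : O) * (⟨x⁻¹, hinv⟩ : O) = 1 := by
      rw [← hu]; exact Units.inv_mul u
    have h2 : (((u⁻¹ : Oˣ) : O) : K) * x⁻¹ = 1 := by
      have := congrArg (fun z : O => (z : K)) h1
      simpa using this
    have h3 : (((u⁻¹ : Oˣ) : O) : K) = x := by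
      field_simp at h2
      exact h2
    rw [← h3]
    exact ((u⁻¹ : Oˣ) : O).2
  have h1 := (abv_coe_lt_one_iff O ⟨x⁻¹, hinv⟩).mpr hnu
  simp only [map_inv₀] at h1
  have hpos : 0 < abv O x := (abv O).pos hx0
  have : 1 < abv O x := by
    rwa [inv_lt_one₀ hpos] at h1
  linarith

lemma abv_one_add {y : K} (h : abv O y < 1) : abv O (1 + y) = 1 := by
  apply le_antisymm
  · have := abv_nonarch O 1 y
    rw [map_one] at this
    exact this.trans (max_le le_rfl h.le)
  · by_contra hlt
    push Not at hlt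
    have h1 : (1 : K) = (1 + y) + (-y) := by ring
    have h2 := abv_nonarch O (1 + y) (-y)
    rw [← h1, map_one, AbsoluteValue.map_neg] at h2
    have := max_lt hlt h
    linarith

end Groth.Agent.Lib.helper1.AP
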