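import Mathlib
import Groth.Agent.Lib.helper1.AP1

namespace Groth.Agent.Lib.helper1.AP

universe u

theorem main (K : Type u) [Field K] {r : ℕ} (O : Fin r → ValuationSubring K)
    (hO : ∀ i, IsDiscreteValuationRing (O i)) (hinj : Function.Injective O)
    (fs : Fin r → K) (n : Fin r → ℤ) :
    ∃ f : K, ∀ i : Fin r, ∃ (ϖ : O i) (_ : Irreducible ϖ) (w : (O i)ˣ),
      f - fs i = ((w : O i) : K) * ((ϖ : K) ^ (n i)) := by
  haveI : ∀ i, IsDiscreteValuationRing (O i) := hO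
  let v : Fin r → AbsoluteValue K ℝ := fun i => abv (O i)
  choose ϖ hϖ using fun i => IsDiscreteValuationRing.exists_irreducible (O i)
  have hϖ0 : ∀ i, ((ϖ i : O i) : K) ≠ 0 := by
    intro i h
    exact (hϖ i).ne_zero (Subtype.ext h)
  have hϖlt : ∀ i, v i (ϖ i : K) < 1 := by
    intro i
    refine (abv_coe_lt_one_iff (O i) (ϖ i)).mpr ?_
    rw [IsLocalRing.mem_maximalIdeal, mem_nonunits_iff]
    exact (hϖ i).not_isUnit
  have hnt : ∀ i, (v i).IsNontrivial := fun i => ⟨ϖ i, hϖ0 i, (hϖlt i).ne⟩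
  have hmem : ∀ i (x : K), x ∈ O i ↔ v i x ≤ 1 := by
    intro i x
    exact ⟨fun hx => abv_coe_le_one (O i) ⟨x, hx⟩, fun h => mem_of_abv_le_one (O i) h⟩
  have hne : Pairwise fun i j => ¬ (v i).IsEquiv (v j) := by
    intro i j hij heq
    apply hij
    apply hinj
    ext x
    rw [hmem i x, hmem j x]
    have := heq x 1
    simpa using this
  have dense := AbsoluteValue.denseRange_algebraMap_pi hnt hne
  let z : (i : Fin r) → WithAbs (v i) :=
    fun i => WithAbs.toAbs (v i) (fs i + (ϖ i : K) ^ (n i))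
  let t : Fin r → ℝ := fun i => v i ((ϖ i : K) ^ (n i))
  have ht : ∀ i, 0 < t i := fun i => (v i).pos (zpow_ne_zero _ (hϖ0 i))
  let U : Set ((i : Fin r) → WithAbs (v i)) :=
    Set.pi Set.univ (fun i => Metric.ball (z i) (t i))
  have hU : IsOpen U := isOpen_set_pi Set.finite_univ (fun i _ => Metric.isOpen_ball)
  have hz : z ∈ U := fun i _ => Metric.mem_ball_self (ht i)
  obtain ⟨g, hg⟩ := dense.exists_mem_open hU ⟨z, hz⟩
  refine ⟨g, fun i => ?_⟩
  have hgi : v i (g - (fs i + (ϖ i : K) ^ (n i))) < t i := by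
    have := hg i (Set.mem_univ i)
    rw [Metric.mem_ball, dist_eq_norm] at this
    exact this
  set y : K := (g - (fs i + (ϖ i : K) ^ (n i))) / (ϖ i : K) ^ (n i) with hy
  have hylt : v i y < 1 := by
    rw [hy, map_div₀]
    exact (div_lt_one (ht i)).mpr hgi
  have hw1 : v i (1 + y) = 1 := abv_one_add (O i) hylt
  have hw0 : (1 + y) ≠ 0 := by
    intro h
    rw [h, map_zero] at hw1
    exact zero_ne_one hw1
  have hwmem : 1 + y ∈ O i := (hmem i _).mpr hw1.le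
  have hwinv : (1 + y)⁻¹ ∈ O i := (hmem i _).mpr (by rw [map_inv₀, hw1, inv_one])
  let w : (O i)ˣ := ⟨⟨1 + y, hwmem⟩, ⟨(1 + y)⁻¹, hwinv⟩,
    Subtype.ext (mul_inv_cancel₀ hw0), Subtype.ext (inv_mul_cancel₀ hw0)⟩
  refine ⟨ϖ i, hϖ i, w, ?_⟩
  show g - fs i = (1 + y) * (ϖ i : K) ^ (n i)
  have hz0 : (ϖ i : K) ^ (n i) ≠ 0 := zpow_ne_zero _ (hϖ0 i)
  rw [hy]
  field_simp
  ring

end Groth.Agent.Lib.helper1.AP
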