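import Mathlib

namespace Groth.Agent.Lib.helper1.AR

open AlgebraicGeometry CategoryTheory TopologicalSpace

universe u

theorem germ_bijective (X : Scheme.{u}) [IsAffine X] [DiscreteTopology (PrimeSpectrum Γ(X, ⊤))] :
    Function.Bijective (fun s : Γ(X, ⊤) => fun x : X => X.presheaf.germ ⊤ x trivial s) := by
  have hU : IsAffineOpen (⊤ : X.Opens) := isAffineOpen_top X
  let e1 : Γ(X, ⊤) ≃+* Π p : PrimeSpectrum Γ(X, ⊤), Localization.AtPrime p.asIdeal :=
    RingEquiv.ofBijective (PrimeSpectrum.toPiLocalization Γ(X, ⊤))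
      PrimeSpectrum.toPiLocalization_bijective
  let φ0 : X → PrimeSpectrum Γ(X, ⊤) := fun x => hU.primeIdealOf ⟨x, trivial⟩
  have hinj : Function.Injective φ0 := by
    intro x y hxy
    have hx := hU.fromSpec_primeIdealOf ⟨x, trivial⟩
    have hy := hU.fromSpec_primeIdealOf ⟨y, trivial⟩
    simp only [φ0] at hxy
    rw [hxy] at hx
    exact hx.symm.trans hy
  have hsurj : Function.Surjective φ0 := by
    intro p
    refine ⟨hU.fromSpec p, ?_⟩
    apply hU.fromSpec.isOpenEmbedding.injective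
    exact hU.fromSpec_primeIdealOf ⟨hU.fromSpec p, trivial⟩
  let φ : X ≃ PrimeSpectrum Γ(X, ⊤) := Equiv.ofBijective φ0 ⟨hinj, hsurj⟩
  let e2 : (Π x : X, X.presheaf.stalk x) ≃+* Π x : X, Localization.AtPrime (φ x).asIdeal :=
    RingEquiv.piCongrRight (fun x =>
      letI : Algebra Γ(X, ⊤) (X.presheaf.stalk x) :=
        TopCat.Presheaf.algebra_section_stalk X.presheaf (U := ⊤) ⟨x, trivial⟩
      haveI : IsLocalization.AtPrime (X.presheaf.stalk x) (φ x).asIdeal :=
        hU.isLocalization_stalk ⟨x, trivial⟩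
      (IsLocalization.algEquiv (φ x).asIdeal.primeCompl (X.presheaf.stalk x)
        (Localization.AtPrime (φ x).asIdeal)).toRingEquiv)
  let e3 : (Π x : X, Localization.AtPrime (φ x).asIdeal) ≃+*
      Π p : PrimeSpectrum Γ(X, ⊤), Localization.AtPrime p.asIdeal :=
    RingEquiv.piCongrLeft (fun p : PrimeSpectrum Γ(X, ⊤) => Localization.AtPrime p.asIdeal) φ
  let e := e1.trans (e3.symm.trans e2.symm)
  have he : ∀ s x, e s x = X.presheaf.germ ⊤ x trivial s := by
    intro s x
    letI : Algebra Γ(X, ⊤) (X.presheaf.stalk x) :=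
      TopCat.Presheaf.algebra_section_stalk X.presheaf (U := ⊤) ⟨x, trivial⟩
    haveI : IsLocalization.AtPrime (X.presheaf.stalk x) (φ x).asIdeal :=
      hU.isLocalization_stalk ⟨x, trivial⟩
    have h1 : e3.symm (e1 s) x = algebraMap Γ(X, ⊤) (Localization.AtPrime (φ x).asIdeal) s := rfl
    have h2 : e s x = (IsLocalization.algEquiv (φ x).asIdeal.primeCompl (X.presheaf.stalk x)
        (Localization.AtPrime (φ x).asIdeal)).symm (e3.symm (e1 s) x) := rfl
    rw [h2, h1, AlgEquiv.commutes]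
    rfl
  have : (fun s : Γ(X, ⊤) => fun x : X => X.presheaf.germ ⊤ x trivial s) = e := by
    funext s x; exact (he s x).symm
  rw [this]
  exact e.bijective

end Groth.Agent.Lib.helper1.AR
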