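import Mathlib
import Groth.Agent.Lib.helper1.AR2

namespace Groth.Agent.Lib.helper1.AR

open AlgebraicGeometry CategoryTheory TopologicalSpace

universe u

theorem tfae (k : Type u) [Field k] {X : Scheme.{u}} [Nonempty X]
    (f : X ⟶ Spec (CommRingCat.of k)) [LocallyOfFiniteType f] [QuasiCompact f] :
    [topologicalKrullDim ↥X = 0,
      IsAffine X ∧ f.appTop.hom.Finite ∧
        Function.Bijective (fun s : Γ(X, ⊤) => fun x : X => X.presheaf.germ ⊤ x trivial s),
      DiscreteTopology ↥X,
      Finite ↥X].TFAE := by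
  haveI : IsLocallyNoetherian X := LocallyOfFiniteType.isLocallyNoetherian f
  haveI : CompactSpace X := QuasiCompact.compactSpace_of_compactSpace f
  haveI : JacobsonSpace X := LocallyOfFiniteType.jacobsonSpace f
  tfae_have 1 → 3 := by
    intro h
    haveI : IsLocallyArtinian X := IsLocallyArtinian.of_topologicalKrullDim_le_zero h.le
    infer_instance
  tfae_have 3 → 1 := by
    intro h
    apply le_antisymm (topologicalKrullDim_zero_of_discreteTopology X)
    obtain ⟨x⟩ := ‹Nonempty X›
    haveI : Nonempty (IrreducibleCloseds X) :=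
      ⟨⟨closure {x}, isIrreducible_singleton.closure, isClosed_closure⟩⟩
    exact Order.krullDim_nonneg
  tfae_have 3 → 4 := by
    intro h
    exact finite_of_compact_of_discrete
  tfae_have 4 → 3 := by
    intro h
    infer_instance
  tfae_have 3 → 2 := by
    intro h
    haveI : Finite X := finite_of_compact_of_discrete
    haveI : IsAffine X := inferInstance
    haveI : IsNoetherian X := {}
    haveI : IsArtinianScheme X :=
      IsArtinianScheme.iff_isNoetherian_and_discreteTopology.mpr ⟨inferInstance, inferInstance⟩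
    haveI hart : IsArtinianRing Γ(X, ⊤) := inferInstance
    refine ⟨inferInstance, ?_, germ_bijective X⟩
    have hft : RingHom.FiniteType f.appTop.hom :=
      HasRingHomProperty.appTop (P := @LocallyOfFiniteType) f inferInstance
    letI := f.appTop.hom.toAlgebra
    haveI : Algebra.FiniteType Γ(Spec (CommRingCat.of k), ⊤) Γ(X, ⊤) := hft
    haveI : IsJacobsonRing Γ(Spec (CommRingCat.of k), ⊤) :=
      (isJacobsonRing_iso (Scheme.ΓSpecIso (CommRingCat.of k)).commRingCatIsoToRingEquiv).mpr
        (inferInstanceAs (IsJacobsonRing k))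
    exact Module.finite_of_isArtinianRing Γ(Spec (CommRingCat.of k), ⊤) Γ(X, ⊤)
  tfae_have 2 → 3 := by
    rintro ⟨h1, h2, -⟩
    letI := f.appTop.hom.toAlgebra
    haveI : Module.Finite Γ(Spec (CommRingCat.of k), ⊤) Γ(X, ⊤) := h2
    haveI : IsArtinianRing Γ(Spec (CommRingCat.of k), ⊤) :=
      (Scheme.ΓSpecIso (CommRingCat.of k)).symm.commRingCatIsoToRingEquiv.isArtinianRing
    haveI : IsArtinianRing Γ(X, ⊤) :=
      IsArtinianRing.of_finite Γ(Spec (CommRingCat.of k), ⊤) Γ(X, ⊤)
    haveI : DiscreteTopology (Spec Γ(X, ⊤)) :=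
      inferInstanceAs (DiscreteTopology (PrimeSpectrum Γ(X, ⊤)))
    exact X.isoSpec.hom.homeomorph.symm.discreteTopology
  tfae_finish

end Groth.Agent.Lib.helper1.AR
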