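import Mathlib

/-! Helper library for S5864: generic points (topology). -/

namespace Groth.Agent.Lib.helper1.BR

variable {α : Type*} [TopologicalSpace α]

theorem exists_generic_generization [QuasiSober α] (x : α) :
    ∃ z ∈ genericPoints α, z ⤳ x := by
  have hirr : IsIrreducible (irreducibleComponent x) := isIrreducible_irreducibleComponent
  have hcl : IsClosed (irreducibleComponent x) := isClosed_irreducibleComponent
  refine ⟨hirr.genericPoint, ?_, ?_⟩
  · change closure {hirr.genericPoint} ∈ irreducibleComponents α
    rw [hirr.closure_genericPoint hcl]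
    exact irreducibleComponent_mem_irreducibleComponents x
  · rw [specializes_iff_mem_closure, hirr.closure_genericPoint hcl]
    exact mem_irreducibleComponent

theorem mem_genericPoints_iff_maximal [QuasiSober α] [T0Space α] (x : α) :
    x ∈ genericPoints α ↔ ∀ z, z ⤳ x → z = x := by
  constructor
  · intro hx z hz
    have h1 : closure {x} ⊆ closure {z} := hz.closure_subset
    have hx' : closure {x} ∈ irreducibleComponents α := hx
    have h2 : closure {z} ⊆ closure {x} :=
      hx'.2 (isIrreducible_singleton.closure) h1
    have h3 : x ⤳ z := specializes_iff_closure_subset.mpr h2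
    exact (hz.antisymm h3).eq
  · intro h
    obtain ⟨z, hz, hzx⟩ := exists_generic_generization x
    rw [← h z hzx]; exact hz

theorem map_mem_genericPoints {β : Type*} [TopologicalSpace β] [QuasiSober α] [T0Space α]
    [QuasiSober β] [T0Space β] {g : α → β} (hg : GeneralizingMap g) {x : α}
    (hx : x ∈ genericPoints α) : g x ∈ genericPoints β := by
  rw [mem_genericPoints_iff_maximal] at hx ⊢
  intro z hz
  obtain ⟨z', hz', rfl⟩ := hg hz
  rw [hx z' hz']

end Groth.Agent.Lib.helper1.BR
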