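import Mathlib
import Groth.Prelude.Def_EGA4Misc

/-! Helper library for S5862: radicial at a point, composition. -/

open AlgebraicGeometry CategoryTheory

namespace Groth.Agent.Lib.helper1.RP

universe u

/-- purely inseparable ring homs between fields: cancellation on the top. -/
theorem pi_tower_top {F E K : Type*} [Field F] [Field E] [Field K] {f : F →+* E} {g : E →+* K}
    (h : (g.comp f).IsPurelyInseparable) : g.IsPurelyInseparable := by
  algebraize [f, g, g.comp f]
  exact IsPurelyInseparable.tower_top F E K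

theorem pi_tower_bot {F E K : Type*} [Field F] [Field E] [Field K] {f : F →+* E} {g : E →+* K}
    (h : (g.comp f).IsPurelyInseparable) : f.IsPurelyInseparable := by
  algebraize [f, g, g.comp f]
  exact IsPurelyInseparable.tower_bot F E K

variable {X Y Z : Scheme.{u}} (f : X ⟶ Y) (g : Y ⟶ Z)

theorem residueFieldMap_comp_hom (x : X) :
    ((f ≫ g).residueFieldMap x).hom =
      (f.residueFieldMap x).hom.comp (g.residueFieldMap (f x)).hom := by
  rw [Scheme.residueFieldMap_comp]; rfl

theorem comp_radicial (y : Y) (hf : RadPt.IsRadicialAt f y) (hg : RadPt.IsRadicialAt g (g y)) :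
    RadPt.IsRadicialAt (f ≫ g) (g y) := by
  have key : ∀ x : X, (f ≫ g) x = g y → f x = y := fun x hx => hg.1 (f x) y hx rfl
  refine ⟨fun x x' hx hx' => hf.1 x x' (key x hx) (key x' hx'), fun x hx => ?_⟩
  rw [residueFieldMap_comp_hom]
  exact RingHom.IsPurelyInseparable.comp (hg.2 (f x) hx) (hf.2 x (key x hx))

theorem radicial_of_comp (y : Y) [Surjective f] (h : RadPt.IsRadicialAt (f ≫ g) (g y)) :
    RadPt.IsRadicialAt f y ∧ RadPt.IsRadicialAt g (g y) := by
  refine ⟨⟨fun x x' hx hx' => h.1 x x' ?_ ?_, fun x hx => ?_⟩,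
    ⟨fun y₁ y₂ h₁ h₂ => ?_, fun y₁ h₁ => ?_⟩⟩
  · change g (f x) = g y; rw [hx]
  · change g (f x') = g y; rw [hx']
  · have hx' : (f ≫ g) x = g y := by change g (f x) = g y; rw [hx]
    have := h.2 x hx'
    rw [residueFieldMap_comp_hom] at this
    exact pi_tower_top this
  · obtain ⟨x₁, rfl⟩ := f.surjective y₁
    obtain ⟨x₂, rfl⟩ := f.surjective y₂
    rw [h.1 x₁ x₂ h₁ h₂]
  · obtain ⟨x₁, rfl⟩ := f.surjective y₁
    have := h.2 x₁ h₁
    rw [residueFieldMap_comp_hom] at this
    exact pi_tower_bot this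

end Groth.Agent.Lib.helper1.RP
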