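import Mathlib
import Groth.Prelude.Def_EGA4Misc
import Groth.Agent.Lib.helper1.RP1

/-! Helper library for S5863: radicial at a point vs universally injective fibre. -/

open AlgebraicGeometry CategoryTheory CategoryTheory.Limits

namespace Groth.Agent.Lib.helper1.RP

universe u

theorem surj_pi {F E : Type*} [Field F] [Field E] (f : F →+* E) (hf : Function.Surjective f) :
    f.IsPurelyInseparable := by
  algebraize [f]
  refine (isPurelyInseparable_iff).2 fun x => ?_
  obtain ⟨a, rfl⟩ := hf x
  exact ⟨isIntegral_algebraMap, fun _ => ⟨a, rfl⟩⟩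

theorem rFM_surjective {X Y : Scheme.{u}} (f : X ⟶ Y) [SurjectiveOnStalks f] (x : X) :
    Function.Surjective (f.residueFieldMap x).hom := by
  intro t
  obtain ⟨s, rfl⟩ := X.residue_surjective x t
  obtain ⟨s', rfl⟩ := f.stalkMap_surjective x s
  refine ⟨Y.residue (f x) s', ?_⟩
  have := congrArg (fun φ => φ.hom s') (Scheme.residue_residueFieldMap f x)
  simpa using this

variable {X Y : Scheme.{u}} (f : X ⟶ Y) (y : Y)

/-- The key identity of residue field maps around the fibre square. -/
theorem fibre_rFM (z : f.fiber y) :
    ∃ c : Y.residueField (f (f.fiberι y z)) →+*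
        Y.residueField ((Y.fromSpecResidueField y) (f.fiberToSpecResidueField y z)),
      Function.Surjective c ∧
      ((f.fiberι y).residueFieldMap z).hom.comp (f.residueFieldMap (f.fiberι y z)).hom =
        (((f.fiberToSpecResidueField y).residueFieldMap z).hom.comp
          ((Y.fromSpecResidueField y).residueFieldMap (f.fiberToSpecResidueField y z)).hom).comp
            c := by
  have h1 := Scheme.Hom.residueFieldMap_congr (f.fiber_fac y) z
  rw [Scheme.residueFieldMap_comp, Scheme.residueFieldMap_comp] at h1
  have e : f (f.fiberι y z) = (Y.fromSpecResidueField y) (f.fiberToSpecResidueField y z) := by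
    rw [← Scheme.Hom.comp_apply, ← Scheme.Hom.comp_apply, f.fiber_fac y]
  refine ⟨(Y.residueFieldCongr e).hom.hom, ?_, ?_⟩
  · exact (ConcreteCategory.bijective_of_isIso (Y.residueFieldCongr e).hom).2
  · have := congrArg CommRingCat.Hom.hom h1
    simpa [RingHom.comp_assoc] using this

theorem radicialAt_iff :
    RadPt.IsRadicialAt f y ↔ UniversallyInjective (f.fiberToSpecResidueField y) := by
  have htfae := (tfae_universallyInjective (f.fiberToSpecResidueField y)).out 0 2
  rw [htfae]
  have hmem : ∀ z : f.fiber y, f (f.fiberι y z) = y := fun z => by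
    have : f.fiberι y z ∈ Set.range (f.fiberι y) := ⟨z, rfl⟩
    rw [f.range_fiberι y] at this; exact this
  have hex : ∀ x : X, f x = y → ∃ z, f.fiberι y z = x := fun x hx => by
    have : x ∈ Set.range (f.fiberι y) := by rw [f.range_fiberι y]; exact hx
    exact this
  have hPI : ∀ z : f.fiber y, (f.residueFieldMap (f.fiberι y z)).hom.IsPurelyInseparable ↔
      ((f.fiberToSpecResidueField y).residueFieldMap z).hom.IsPurelyInseparable := by
    intro z
    obtain ⟨c, hc, hcomp⟩ := fibre_rFM f y z
    constructor
    · intro h
      have h1 : (((f.fiberι y).residueFieldMap z).hom.comp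
          (f.residueFieldMap (f.fiberι y z)).hom).IsPurelyInseparable :=
        RingHom.IsPurelyInseparable.comp h (surj_pi _ (rFM_surjective _ z))
      rw [hcomp, RingHom.comp_assoc] at h1
      exact pi_tower_top h1
    · intro h
      have h1 : ((((f.fiberToSpecResidueField y).residueFieldMap z).hom.comp
          ((Y.fromSpecResidueField y).residueFieldMap (f.fiberToSpecResidueField y z)).hom).comp
            c).IsPurelyInseparable := by
        rw [RingHom.comp_assoc]
        exact RingHom.IsPurelyInseparable.comp
          (surj_pi _ ((rFM_surjective _ _).comp hc)) h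
      rw [← hcomp] at h1
      exact pi_tower_bot h1
  constructor
  · rintro ⟨h1, h2⟩
    exact ⟨fun z z' _ => (f.fiberι y).isEmbedding.injective (h1 _ _ (hmem z) (hmem z')),
      fun z => (hPI z).1 (h2 _ (hmem z))⟩
  · rintro ⟨h1, h2⟩
    refine ⟨fun x x' hx hx' => ?_, fun x hx => ?_⟩
    · obtain ⟨z, rfl⟩ := hex x hx
      obtain ⟨z', rfl⟩ := hex x' hx'
      exact congrArg _ (h1 (Subsingleton.elim _ _))
    · obtain ⟨z, rfl⟩ := hex x hx
      exact (hPI z).2 (h2 z)

end Groth.Agent.Lib.helper1.RP
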