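import Mathlib
import Groth.Prelude.Def_EGA4Misc
import Groth.Agent.Lib.helper1.RP2

open AlgebraicGeometry CategoryTheory CategoryTheory.Limits

namespace Groth.Agent.Lib.helper1.RP

universe u

theorem field_faithfullyFlat {Y' Y : Scheme.{u}} (h : Y' ⟶ Y) (y' : Y') :
    Flat (Spec.map (h.residueFieldMap y')) ∧ Surjective (Spec.map (h.residueFieldMap y')) := by
  rw [flat_and_surjective_SpecMap_iff]
  algebraize [(h.residueFieldMap y').hom]
  rw [RingHom.FaithfullyFlat]
  infer_instance

theorem baseChange {X Y X' Y' : Scheme.{u}} {f : X ⟶ Y} {h : Y' ⟶ Y} {f' : X' ⟶ Y'} {h' : X' ⟶ X}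
    (sq : IsPullback h' f' f h) (y' : Y') :
    RadPt.IsRadicialAt f (h y') ↔ RadPt.IsRadicialAt f' y' := by
  rw [radicialAt_iff, radicialAt_iff]
  have hpb := isPullback_fiberToSpecResidueField_of_isPullback sq y'
  obtain ⟨h1, h2⟩ := field_faithfullyFlat h y'
  have hQ : (@Surjective ⊓ @Flat ⊓ @QuasiCompact : MorphismProperty Scheme.{u})
      (Spec.map (h.residueFieldMap y')) :=
    ⟨⟨h2, h1⟩, inferInstance⟩
  exact (MorphismProperty.iff_of_isPullback (P := @UniversallyInjective) hpb.flip hQ).symm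

end Groth.Agent.Lib.helper1.RP
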