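import Mathlib
import Groth.Prelude.Def_EGA4Misc
import Groth.Agent.Lib.helper1.RP3
import Groth.Agent.Lib.helper1.BR1

/-! Helper library for S5864: birational morphisms and flat base change. -/

open AlgebraicGeometry CategoryTheory CategoryTheory.Limits

namespace Groth.Agent.Lib.helper1.BR

universe u

variable {X Y X' Y' : Scheme.{u}} {f : X ⟶ Y} {g : Y' ⟶ Y} {f' : X' ⟶ Y'} {g' : X' ⟶ X}

/-- pointwise birationality data -/
def BirAt (f : X ⟶ Y) (y : Y) : Prop :=
  (∀ x x' : X, f x = y → f x' = y → x = x') ∧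
    ∀ x : X, f x = y → Function.Bijective (f.residueFieldMap x).hom

theorem BirAt.radicial {y : Y} (h : BirAt f y) : RadPt.IsRadicialAt f y :=
  ⟨h.1, fun x hx => RP.surj_pi _ (h.2 x hx).2⟩

/-- fibres of the base change over points above `y` have at most one point. -/
theorem fibre_subsingleton (sq : IsPullback g' f' f g) {y : Y} (h : BirAt f y) {y' : Y'}
    (hy' : g y' = y) (a b : X') (ha : f' a = y') (hb : f' b = y') : a = b := by
  subst hy'
  exact ((RP.baseChange sq y').mp h.radicial).1 a b ha hb

section section_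

variable (x : X) [hiso : IsIso (f.residueFieldMap x)]

/-- The point `Spec κ(f x) ⟶ X` inverse to the residue field isomorphism. -/
noncomputable def ePt : Spec (Y.residueField (f x)) ⟶ X :=
  Spec.map (inv (f.residueFieldMap x)) ≫ X.fromSpecResidueField x

theorem ePt_comp : ePt (f := f) x ≫ f = Y.fromSpecResidueField (f x) := by
  rw [ePt, Category.assoc, ← Scheme.Hom.SpecMap_residueFieldMap_fromSpecResidueField,
    ← Category.assoc, ← Spec.map_comp, IsIso.hom_inv_id, Spec.map_id, Category.id_comp]

/-- The section `g⁻¹(f x) ⟶ X'`. -/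
noncomputable def sec (sq : IsPullback g' f' f g) : g.fiber (f x) ⟶ X' :=
  sq.lift (g.fiberToSpecResidueField (f x) ≫ ePt (f := f) x) (g.fiberι (f x)) (by
    rw [Category.assoc, ePt_comp, g.fiber_fac])

theorem sec_snd (sq : IsPullback g' f' f g) : sec x sq ≫ f' = g.fiberι (f x) :=
  sq.lift_snd _ _ _

theorem exists_sec (sq : IsPullback g' f' f g) (y' : Y') (hy' : g y' = f x) :
    ∃ τ : g.fiber (f x), g.fiberι (f x) τ = y' ∧ f' (sec x sq τ) = y' := by
  have : y' ∈ Set.range (g.fiberι (f x)) := by rw [g.range_fiberι]; exact hy'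
  obtain ⟨τ, hτ⟩ := this
  refine ⟨τ, hτ, ?_⟩
  rw [← hτ, ← Scheme.Hom.comp_apply, sec_snd]

theorem sec_rFM_bijective (sq : IsPullback g' f' f g) (τ : g.fiber (f x)) :
    Function.Bijective (f'.residueFieldMap (sec x sq τ)).hom := by
  have h1 := Scheme.Hom.residueFieldMap_congr (sec_snd x sq) τ
  rw [Scheme.residueFieldMap_comp] at h1
  have h1' := congrArg (fun φ => (φ.hom : _ → _)) h1
  simp only [CommRingCat.hom_comp, RingHom.coe_comp] at h1'
  have hA : Function.Bijective ((g.fiberι (f x)).residueFieldMap τ).hom :=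
    ⟨RingHom.injective _, RP.rFM_surjective _ τ⟩
  have h2' := hA.comp (ConcreteCategory.bijective_of_isIso (Y'.residueFieldCongr
    (congrArg (fun φ : g.fiber (f x) ⟶ Y' => φ τ) (sec_snd x sq))).hom)
  rw [← h1'] at h2'
  have h2 : Function.Bijective
      (((sec x sq).residueFieldMap τ).hom ∘ (f'.residueFieldMap (sec x sq τ)).hom) := h2'
  have h3 : Function.Bijective ((sec x sq).residueFieldMap τ).hom :=
    ⟨RingHom.injective _, Function.Surjective.of_comp h2.2⟩
  exact (Function.Bijective.of_comp_iff' h3 _).mp h2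

end section_

end Groth.Agent.Lib.helper1.BR
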