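import Mathlib
import Groth.Prelude.Def_EGA4Misc
import Groth.Agent.Lib.helper1.BR2

/-! Helper library for S5864: main theorem. -/

open AlgebraicGeometry CategoryTheory CategoryTheory.Limits

namespace Groth.Agent.Lib.helper1.BR

universe u

variable {X Y X' Y' : Scheme.{u}} {f : X ⟶ Y} {g : Y' ⟶ Y} {f' : X' ⟶ Y'} {g' : X' ⟶ X}

theorem birAt_of_isBirational (hf : RadPt.IsBirational f) {y : Y} (hy : y ∈ genericPoints Y) :
    BirAt f y := hf.2 y hy

theorem isIso_rFM (x : X) (hb : BirAt f (f x)) : IsIso (f.residueFieldMap x) :=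
  (ConcreteCategory.isIso_iff_bijective _).mpr (hb.2 x rfl)

theorem main [Flat g] (sq : IsPullback g' f' f g) (hf : RadPt.IsBirational f) :
    RadPt.IsBirational f' := by
  haveI : Flat g' := MorphismProperty.of_isPullback (P := @Flat) sq.flip inferInstance
  have hgen_g : ∀ y' ∈ genericPoints Y', g y' ∈ genericPoints Y := fun y' hy' =>
    map_mem_genericPoints (Flat.generalizingMap g) hy'
  have hgen_g' : ∀ x' ∈ genericPoints X', g' x' ∈ genericPoints X := fun x' hx' =>
    map_mem_genericPoints (Flat.generalizingMap g') hx'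
  have hw : ∀ x' : X', g (f' x') = f (g' x') := fun x' => by
    rw [← Scheme.Hom.comp_apply, ← Scheme.Hom.comp_apply, sq.w]
  -- fibres over points above generic points of `Y`
  have hfib : ∀ (y' : Y'), g y' ∈ genericPoints Y → ∀ a b : X', f' a = y' → f' b = y' → a = b :=
    fun y' hy' a b ha hb => fibre_subsingleton sq (hf.2 _ hy') rfl a b ha hb
  refine ⟨⟨?_, ?_, ?_⟩, ?_⟩
  · -- MapsTo
    intro x' hx'
    have hx0 : g' x' ∈ genericPoints X := hgen_g' x' hx'
    have hy0 : f (g' x') ∈ genericPoints Y := hf.1.mapsTo hx0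
    have hb : BirAt f (f (g' x')) := hf.2 _ hy0
    haveI := isIso_rFM (g' x') hb
    rw [mem_genericPoints_iff_maximal]
    intro y'' hy''
    have h1 : g y'' ⤳ g (f' x') := hy''.map g.continuous
    rw [hw x'] at h1
    have h2 : g y'' = f (g' x') := (mem_genericPoints_iff_maximal _).mp hy0 _ h1
    obtain ⟨τ'', hτ''1, hτ''2⟩ := exists_sec (g' x') sq y'' h2
    obtain ⟨τ₀, hτ₀1, hτ₀2⟩ := exists_sec (g' x') sq (f' x') (hw x')
    have h3 : τ'' ⤳ τ₀ := by
      rw [← (g.fiberι (f (g' x'))).isEmbedding.isInducing.specializes_iff, hτ''1, hτ₀1]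
      exact hy''
    have h4 : sec (g' x') sq τ'' ⤳ sec (g' x') sq τ₀ := h3.map (sec (g' x') sq).continuous
    have h5 : sec (g' x') sq τ₀ = x' :=
      hfib (f' x') (by rw [hw x']; exact hy0) _ _ hτ₀2 rfl
    rw [h5] at h4
    have h6 : sec (g' x') sq τ'' = x' := (mem_genericPoints_iff_maximal _).mp hx' _ h4
    rw [← hτ''2, h6]
  · -- InjOn
    intro a ha b hb hab
    have hy0 : f (g' a) ∈ genericPoints Y := hf.1.mapsTo (hgen_g' a ha)
    exact hfib (f' a) (by rw [hw a]; exact hy0) a b rfl hab.symm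
  · -- SurjOn
    intro y' hy'
    have hy0 : g y' ∈ genericPoints Y := hgen_g y' hy'
    obtain ⟨x, hx, hxy⟩ := hf.1.surjOn hy0
    have hb : BirAt f (f x) := by rw [hxy]; exact hf.2 _ hy0
    haveI := isIso_rFM x hb
    obtain ⟨τ, hτ1, hτ2⟩ := exists_sec x sq y' hxy.symm
    refine ⟨sec x sq τ, ?_, hτ2⟩
    rw [mem_genericPoints_iff_maximal]
    intro z hz
    have h1 : f' z ⤳ y' := by
      have := hz.map f'.continuous
      rwa [hτ2] at this
    have h2 : f' z = y' := (mem_genericPoints_iff_maximal _).mp hy' _ h1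
    exact hfib y' hy0 _ _ h2 hτ2
  · -- fibres and residue fields
    intro y' hy'
    have hy0 : g y' ∈ genericPoints Y := hgen_g y' hy'
    refine ⟨fun a b ha hb => hfib y' hy0 a b ha hb, fun x' hx' => ?_⟩
    obtain ⟨x, hx, hxy⟩ := hf.1.surjOn hy0
    have hb : BirAt f (f x) := by rw [hxy]; exact hf.2 _ hy0
    haveI := isIso_rFM x hb
    obtain ⟨τ, hτ1, hτ2⟩ := exists_sec x sq y' hxy.symm
    have h1 : sec x sq τ = x' := hfib y' hy0 _ _ hτ2 hx'
    subst h1
    exact sec_rFM_bijective x sq τ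

end Groth.Agent.Lib.helper1.BR
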