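import Mathlib
import Groth.Agent.Lib.helper17.CSABaseChange

/-!
# Modules over simple Artinian algebras; general Skolem–Noether
(helper library of seat helper1; builds on helper17's CSA library)
-/

set_option autoImplicit false

namespace Groth.Agent.Lib.helper1.CSA

open TensorProduct

section simpleModules

/-- all simple modules over a simple artinian ring are isomorphic -/
theorem nonempty_linearEquiv_of_isSimpleModule (R : Type*) [Ring R] [IsSimpleRing R]
    [IsArtinianRing R] (M N : Type*) [AddCommGroup M] [Module R M] [AddCommGroup N] [Module R N]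
    [IsSimpleModule R M] [IsSimpleModule R N] : Nonempty (M ≃ₗ[R] N) := by
  obtain ⟨I, ⟨e⟩⟩ := IsSemisimpleRing.exists_linearEquiv_ideal_of_isSimpleModule R M
  obtain ⟨J, ⟨e'⟩⟩ := IsSemisimpleRing.exists_linearEquiv_ideal_of_isSimpleModule R N
  have hI : IsSimpleModule R I := IsSimpleModule.congr e.symm
  have hJ : IsSimpleModule R J := IsSimpleModule.congr e'.symm
  obtain ⟨e''⟩ := IsSimpleRing.isIsotypic R R J I
  exact ⟨e.trans (e''.trans e'.symm)⟩

/-- Finite-dimensional modules of the same dimension over a finite-dimensional simple algebra are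
isomorphic. -/
theorem nonempty_linearEquiv_of_finrank_eq (k : Type*) [Field k] (R : Type*) [Ring R] [Algebra k R]
    [IsSimpleRing R] [FiniteDimensional k R]
    (M N : Type*) [AddCommGroup M] [Module k M] [Module R M] [IsScalarTower k R M]
    [FiniteDimensional k M] [AddCommGroup N] [Module k N] [Module R N] [IsScalarTower k R N]
    [FiniteDimensional k N] (h : Module.finrank k M = Module.finrank k N) :
    Nonempty (M ≃ₗ[R] N) := by
  have : IsArtinianRing R := IsArtinianRing.of_finite k R
  have : Module.Finite R M := Module.Finite.of_restrictScalars_finite k R M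
  have : Module.Finite R N := Module.Finite.of_restrictScalars_finite k R N
  obtain ⟨S, hS⟩ := IsAtomic.exists_atom (Ideal R)
  rw [← isSimpleModule_iff_isAtom] at hS
  have hM : IsIsotypicOfType R M S := fun m _ => nonempty_linearEquiv_of_isSimpleModule R m S
  have hN : IsIsotypicOfType R N S := fun m _ => nonempty_linearEquiv_of_isSimpleModule R m S
  obtain ⟨n, ⟨eM⟩⟩ := hM.linearEquiv_fun
  obtain ⟨n', ⟨eN⟩⟩ := hN.linearEquiv_fun
  have h1 : Module.finrank k M = n * Module.finrank k S := by
    rw [(eM.restrictScalars k).finrank_eq, Module.finrank_pi_fintype]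
    simp
  have h2 : Module.finrank k N = n' * Module.finrank k S := by
    rw [(eN.restrictScalars k).finrank_eq, Module.finrank_pi_fintype]
    simp
  have hpos : 0 < Module.finrank k S := by
    have : Nontrivial S := IsSimpleModule.nontrivial R S
    exact Module.finrank_pos
  have hnn : n = n' := by
    rw [h1, h2] at h
    exact Nat.eq_of_mul_eq_mul_right hpos h
  subst hnn
  exact ⟨eM.trans eN.symm⟩

end simpleModules

section SkolemNoether

variable (k : Type*) [Field k] (A : Type*) [Ring A] [Algebra k A]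
  (B : Type*) [Ring B] [Algebra k B]

/-- The action of `B ⊗ Aᵐᵒᵖ` on `A` through `f : B → A`: `(b ⊗ op a) • x = f b * x * a`. -/
noncomputable def twAct (f : B →ₐ[k] A) : B ⊗[k] Aᵐᵒᵖ →ₐ[k] Module.End k A :=
  (AlgHom.mulLeftRight k A).comp (Algebra.TensorProduct.map f (AlgHom.id k Aᵐᵒᵖ))

@[simp] lemma twAct_tmul (f : B →ₐ[k] A) (b : B) (a : Aᵐᵒᵖ) (x : A) :
    twAct k A B f (b ⊗ₜ a) x = f b * x * a.unop := by
  simp [twAct, AlgHom.mulLeftRight_apply]

/-- `A` with the `B ⊗ Aᵐᵒᵖ`-module structure twisted by `f`. -/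
@[nolint unusedArguments]
def Tw (_f : B →ₐ[k] A) : Type _ := A

noncomputable instance (f : B →ₐ[k] A) : AddCommGroup (Tw k A B f) :=
  inferInstanceAs (AddCommGroup A)

noncomputable instance (f : B →ₐ[k] A) : Module k (Tw k A B f) :=
  inferInstanceAs (Module k A)

noncomputable instance (f : B →ₐ[k] A) : Module (B ⊗[k] Aᵐᵒᵖ) (Tw k A B f) :=
  Module.compHom A (twAct k A B f).toRingHom

lemma tw_smul_def (f : B →ₐ[k] A) (r : B ⊗[k] Aᵐᵒᵖ) (x : Tw k A B f) :
    r • x = (twAct k A B f r (x : A) : A) := rfl

instance (f : B →ₐ[k] A) : IsScalarTower k (B ⊗[k] Aᵐᵒᵖ) (Tw k A B f) where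
  smul_assoc c r x := by
    rw [tw_smul_def, tw_smul_def, map_smul]
    rfl

instance (f : B →ₐ[k] A) :
    @IsScalarTower k (B ⊗[k] Aᵐᵒᵖ) (Tw k A B f) Algebra.toSMul _ _ where
  smul_assoc c r x := by
    rw [tw_smul_def, tw_smul_def, map_smul]
    rfl

instance (f : B →ₐ[k] A) [FiniteDimensional k A] : FiniteDimensional k (Tw k A B f) :=
  inferInstanceAs (FiniteDimensional k A)

/-- **Skolem–Noether**: two algebra maps from a simple algebra into a finite-dimensional central
simple algebra are conjugate. -/
theorem skolemNoether [Algebra.IsCentral k A] [IsSimpleRing A] [FiniteDimensional k A]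
    [IsSimpleRing B] (f g : B →ₐ[k] A) :
    ∃ x : Aˣ, ∀ b : B, f b = (x : A) * g b * (x⁻¹ : Aˣ) := by
  have hfinj : Function.Injective f := (f : B →+* A).injective
  have : FiniteDimensional k B := FiniteDimensional.of_injective f.toLinearMap hfinj
  have : IsSimpleRing (B ⊗[k] Aᵐᵒᵖ) := Groth.Agent.Lib.helper17.CSA.isSimpleRing_tensor k Aᵐᵒᵖ B
  have hfr : Module.finrank k (Tw k A B g) = Module.finrank k (Tw k A B f) := rfl
  obtain ⟨T⟩ := nonempty_linearEquiv_of_finrank_eq k (B ⊗[k] Aᵐᵒᵖ) (Tw k A B g) (Tw k A B f) hfr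
  -- `T : A → A` with `T (g b * x * a) = f b * T x * a`
  let T' : A → A := fun x => T x
  have key : ∀ (b : B) (a x : A), T' (g b * x * a) = f b * T' x * a := by
    intro b a x
    have h1 := T.map_smul (b ⊗ₜ[k] MulOpposite.op a) (x : Tw k A B g)
    rw [tw_smul_def, tw_smul_def, twAct_tmul, twAct_tmul] at h1
    exact h1
  have hT'inj : Function.Injective T' := T.injective
  have hT'surj : Function.Surjective T' := T.surjective
  set u : A := T' 1 with hu
  have hTa : ∀ a : A, T' a = u * a := by
    intro a
    have := key 1 a 1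
    simpa using this
  have hTb : ∀ b : B, T' (g b) = f b * u := by
    intro b
    have := key b 1 1
    simpa using this
  obtain ⟨v, hv⟩ := hT'surj (1 : A)
  have huv : u * v = 1 := by rw [← hTa]; exact hv
  have hvu : v * u = 1 := by
    apply hT'inj
    rw [hTa, ← mul_assoc, huv, one_mul]
  -- `u * g b = f b * u`
  refine ⟨⟨u, v, huv, hvu⟩, fun b => ?_⟩
  show f b = u * g b * v
  have h2 : u * g b = f b * u := by rw [← hTa, hTb]
  rw [h2, mul_assoc, huv, mul_one]

end SkolemNoether

end Groth.Agent.Lib.helper1.CSA
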