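import Mathlib
import Groth.Agent.Lib.helper1.CSA1

/-!
# Endomorphism rings of modules over simple Artinian algebras; centralizer theorem
(helper library of seat helper1)
-/

set_option autoImplicit false

namespace Groth.Agent.Lib.helper1.CSA

open TensorProduct

section endo

universe u v w

variable (k : Type u) [Field k] (R : Type v) [Ring R] [Algebra k R]
    [IsSimpleRing R] [FiniteDimensional k R]
    (M : Type w) [AddCommGroup M] [Module k M] [Module R M] [IsScalarTower k R M]
    [FiniteDimensional k M]

/-- Structure of a finite module `M` over a finite-dimensional simple algebra `R`: there are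
`m n d` with `dim M = m n d`, `dim R = n² d`, `dim End_R M = m² d`, and `End_R M` is a matrix ring
over a division ring. -/
theorem exists_dims :
    ∃ (m n d : ℕ), 0 < n ∧ Module.finrank k M = m * (n * d) ∧ Module.finrank k R = n * (n * d) ∧
      Module.finrank k (Module.End R M) = m * m * d ∧
      ∃ (E : Type v) (_ : DivisionRing E), Nonempty (Module.End R M ≃+* Matrix (Fin m) (Fin m) E) := by
  classical
  have : IsArtinianRing R := IsArtinianRing.of_finite k R
  have : Module.Finite R M := Module.Finite.of_restrictScalars_finite k R M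
  obtain ⟨S, hS⟩ := IsAtomic.exists_atom (Ideal R)
  rw [← isSimpleModule_iff_isAtom] at hS
  have hM : IsIsotypicOfType R M S := fun m _ => nonempty_linearEquiv_of_isSimpleModule R m S
  have hR : IsIsotypicOfType R R S := fun m _ => nonempty_linearEquiv_of_isSimpleModule R m S
  obtain ⟨m, ⟨eM⟩⟩ := hM.linearEquiv_fun
  obtain ⟨n, ⟨eR⟩⟩ := hR.linearEquiv_fun
  have hpos : 0 < Module.finrank k S := by
    have : Nontrivial S := IsSimpleModule.nontrivial R S
    exact Module.finrank_pos
  have h1 : Module.finrank k M = m * Module.finrank k S := by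
    rw [(eM.restrictScalars k).finrank_eq, Module.finrank_pi_fintype]
    simp
  have h2 : Module.finrank k R = n * Module.finrank k S := by
    rw [(eR.restrictScalars k).finrank_eq, Module.finrank_pi_fintype]
    simp
  have hn : 0 < n := by
    rcases Nat.eq_zero_or_pos n with h | h
    · subst h
      have : Module.finrank k R = 0 := by rw [h2]; simp
      have hpos' : 0 < Module.finrank k R := Module.finrank_pos
      omega
    · exact h
  -- endomorphism rings
  have hEndM : Module.finrank k (Module.End R M) = m * m * Module.finrank k (Module.End R S) := by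
    have e1 := (eM.conjAlgEquiv k).trans (endVecAlgEquivMatrixEnd (Fin m) k R S)
    rw [e1.toLinearEquiv.finrank_eq, Module.finrank_matrix]
    simp
  have hEndR : Module.finrank k (Module.End R R) = n * n * Module.finrank k (Module.End R S) := by
    have e1 := (eR.conjAlgEquiv k).trans (endVecAlgEquivMatrixEnd (Fin n) k R S)
    rw [e1.toLinearEquiv.finrank_eq, Module.finrank_matrix]
    simp
  have hRop : Module.finrank k (Module.End R R) = Module.finrank k R := by
    rw [← (AlgEquiv.moduleEndSelf k (A := R)).toLinearEquiv.finrank_eq]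
    exact (MulOpposite.opLinearEquiv k : R ≃ₗ[k] Rᵐᵒᵖ).symm.finrank_eq
  set d := Module.finrank k (Module.End R S) with hd
  have hs : Module.finrank k S = n * d := by
    have : n * Module.finrank k S = n * (n * d) := by
      rw [← h2, ← hRop, hEndR]; ring
    exact Nat.eq_of_mul_eq_mul_left hn this
  refine ⟨m, n, d, hn, by rw [h1, hs], by rw [h2, hs], hEndM, Module.End R S, inferInstance, ?_⟩
  exact ⟨(eM.conjRingEquiv).trans (endVecRingEquivMatrixEnd (Fin m) R S)⟩

include k in
theorem isSimpleRing_end [Nontrivial M] : IsSimpleRing (Module.End R M) := by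
  obtain ⟨m, n, d, hn, h1, h2, h3, E, _, ⟨e⟩⟩ := exists_dims k R M
  have hm : m ≠ 0 := by
    rintro rfl
    have : Module.finrank k M = 0 := by rw [h1]; simp
    have hpos : 0 < Module.finrank k M := Module.finrank_pos
    omega
  have : NeZero m := ⟨hm⟩
  exact IsSimpleRing.of_ringEquiv e.symm inferInstance

/-- `dim_k R * dim_k End_R(M) = (dim_k M)²`. -/
theorem finrank_mul_finrank_end :
    Module.finrank k R * Module.finrank k (Module.End R M) =
      Module.finrank k M * Module.finrank k M := by
  obtain ⟨m, n, d, hn, h1, h2, h3, -⟩ := exists_dims k R M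
  rw [h1, h2, h3]; ring

end endo

section centralizer

variable (k : Type*) [Field k] (A : Type*) [Ring A] [Algebra k A]

section general

variable (B : Type*) [Ring B] [Algebra k B] (f : B →ₐ[k] A)

/-- the identity map `A ≃ Tw f`. -/
def toTw : A ≃ₗ[k] Tw k A B f := LinearEquiv.refl k A

lemma tw_tmul_smul (b : B) (a : Aᵐᵒᵖ) (x : A) :
    (b ⊗ₜ[k] a) • toTw k A B f x = toTw k A B f (f b * x * a.unop) := by
  rw [tw_smul_def, twAct_tmul]; rfl

/-- An `R = B ⊗ Aᵐᵒᵖ`-linear endomorphism of `A` from a `B`-`A`-bilinear `k`-linear map. -/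
noncomputable def mkEnd (φ : A →ₗ[k] A)
    (h : ∀ (b : B) (a x : A), φ (f b * x * a) = f b * φ x * a) :
    Module.End (B ⊗[k] Aᵐᵒᵖ) (Tw k A B f) where
  toFun x := toTw k A B f (φ ((toTw k A B f).symm x))
  map_add' x y := by simp
  map_smul' r x := by
    obtain ⟨x, rfl⟩ := (toTw k A B f).surjective x
    let φ' : Tw k A B f →ₗ[k] Tw k A B f :=
      (toTw k A B f).toLinearMap ∘ₗ φ ∘ₗ (toTw k A B f).symm.toLinearMap
    have key : φ' ∘ₗ ((LinearMap.toSpanSingleton (B ⊗[k] Aᵐᵒᵖ) (Tw k A B f)
          (toTw k A B f x)).restrictScalars k) =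
        (LinearMap.toSpanSingleton (B ⊗[k] Aᵐᵒᵖ) (Tw k A B f)
          (toTw k A B f (φ x))).restrictScalars k := by
      apply TensorProduct.ext'
      intro b a
      simp only [LinearMap.coe_comp, LinearMap.coe_restrictScalars, Function.comp_apply,
        LinearMap.toSpanSingleton_apply, tw_tmul_smul, φ', LinearEquiv.coe_coe,
        LinearEquiv.symm_apply_apply, h]
    exact LinearMap.congr_fun key r

@[simp] lemma mkEnd_apply (φ : A →ₗ[k] A)
    (h : ∀ (b : B) (a x : A), φ (f b * x * a) = f b * φ x * a) (x : A) :
    mkEnd k A B f φ h (toTw k A B f x) = toTw k A B f (φ x) := rfl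

lemma end_apply_mul (φ : Module.End (B ⊗[k] Aᵐᵒᵖ) (Tw k A B f)) (b : B) (a x : A) :
    φ (toTw k A B f (f b * x * a)) =
      toTw k A B f (f b * (toTw k A B f).symm (φ (toTw k A B f x)) * a) := by
  have h1 := φ.map_smul (b ⊗ₜ[k] MulOpposite.op a) (toTw k A B f x)
  rw [tw_tmul_smul] at h1
  rw [MulOpposite.unop_op] at h1
  rw [h1]
  obtain ⟨y, hy⟩ := (toTw k A B f).surjective (φ (toTw k A B f x))
  rw [← hy, tw_tmul_smul, LinearEquiv.symm_apply_apply, MulOpposite.unop_op]

end general

variable (B : Subalgebra k A)

/-- The centralizer of `B` in `A` acts on `A` by left multiplication, `B ⊗ Aᵐᵒᵖ`-linearly. -/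
noncomputable def centToEnd :
    Subalgebra.centralizer k (B : Set A) →ₐ[k] Module.End (B ⊗[k] Aᵐᵒᵖ) (Tw k A B B.val) where
  toFun c := mkEnd k A B B.val (LinearMap.mulLeft k (c : A)) (by
    intro b a x
    have hc := (Subalgebra.mem_centralizer_iff k).mp c.2 (b : A) b.2
    simp only [LinearMap.mulLeft_apply, Subalgebra.coe_val]
    rw [← mul_assoc, ← mul_assoc, ← hc, mul_assoc (b : A)])
  map_one' := by
    apply LinearMap.ext; intro x
    obtain ⟨x, rfl⟩ := (toTw k A B B.val).surjective x
    simp
  map_mul' c c' := by
    apply LinearMap.ext; intro x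
    obtain ⟨x, rfl⟩ := (toTw k A B B.val).surjective x
    simp
  map_zero' := by
    apply LinearMap.ext; intro x
    obtain ⟨x, rfl⟩ := (toTw k A B B.val).surjective x
    simp
  map_add' c c' := by
    apply LinearMap.ext; intro x
    obtain ⟨x, rfl⟩ := (toTw k A B B.val).surjective x
    simp [add_mul]
  commutes' r := by
    apply LinearMap.ext; intro x
    obtain ⟨x, rfl⟩ := (toTw k A B B.val).surjective x
    simp only [Module.algebraMap_end_apply]
    rw [← map_smul, Algebra.smul_def]
    rfl

@[simp] lemma centToEnd_apply (c : Subalgebra.centralizer k (B : Set A)) (x : A) :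
    centToEnd k A B c (toTw k A B B.val x) = toTw k A B B.val ((c : A) * x) := rfl

theorem centToEnd_bijective : Function.Bijective (centToEnd k A B) := by
  constructor
  · intro c c' h
    have := congrArg (fun φ : Module.End (B ⊗[k] Aᵐᵒᵖ) (Tw k A B B.val) =>
      (toTw k A B B.val).symm (φ (toTw k A B B.val 1))) h
    simp only [centToEnd_apply, mul_one, LinearEquiv.symm_apply_apply] at this
    exact Subtype.ext this
  · intro φ
    set c : A := (toTw k A B B.val).symm (φ (toTw k A B B.val 1)) with hcdef
    have hc : c ∈ Subalgebra.centralizer k (B : Set A) := by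
      rw [Subalgebra.mem_centralizer_iff]
      intro b hb
      have h1 := end_apply_mul k A B B.val φ ⟨b, hb⟩ 1 1
      have h2 := end_apply_mul k A B B.val φ 1 b 1
      simp only [mul_one, map_one, one_mul, Subalgebra.coe_val] at h1 h2
      rw [h1] at h2
      have := (toTw k A B B.val).injective h2
      exact this
    refine ⟨⟨c, hc⟩, ?_⟩
    apply LinearMap.ext; intro x
    obtain ⟨x, rfl⟩ := (toTw k A B B.val).surjective x
    have h2 := end_apply_mul k A B B.val φ 1 x 1
    simp only [mul_one, map_one, one_mul] at h2
    rw [centToEnd_apply]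
    exact h2.symm

/-- The centralizer of `B` in `A` is the endomorphism algebra of `A` as a `B ⊗ Aᵐᵒᵖ`-module. -/
noncomputable def centEquivEnd :
    Subalgebra.centralizer k (B : Set A) ≃ₐ[k] Module.End (B ⊗[k] Aᵐᵒᵖ) (Tw k A B B.val) :=
  AlgEquiv.ofBijective (centToEnd k A B) (centToEnd_bijective k A B)

variable [Algebra.IsCentral k A] [IsSimpleRing A] [FiniteDimensional k A] [IsSimpleRing B]

instance isSimpleRing_tensor_op : IsSimpleRing (B ⊗[k] Aᵐᵒᵖ) :=
  Groth.Agent.Lib.helper17.CSA.isSimpleRing_tensor k Aᵐᵒᵖ B

/-- The centralizer of a simple subalgebra of a central simple algebra is simple. -/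
theorem isSimpleRing_centralizer : IsSimpleRing (Subalgebra.centralizer k (B : Set A)) := by
  have : Nontrivial (Tw k A B B.val) := inferInstanceAs (Nontrivial A)
  have h := isSimpleRing_end k (B ⊗[k] Aᵐᵒᵖ) (Tw k A B B.val)
  exact IsSimpleRing.of_ringEquiv (centEquivEnd k A B).symm.toRingEquiv h

/-- `dim A = dim B * dim C_A(B)`. -/
theorem finrank_centralizer :
    Module.finrank k A =
      Module.finrank k B * Module.finrank k (Subalgebra.centralizer k (B : Set A)) := by
  have h := finrank_mul_finrank_end k (B ⊗[k] Aᵐᵒᵖ) (Tw k A B B.val)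
  rw [← (centEquivEnd k A B).toLinearEquiv.finrank_eq, Module.finrank_tensorProduct,
    (MulOpposite.opLinearEquiv k : A ≃ₗ[k] Aᵐᵒᵖ).symm.finrank_eq] at h
  have hA : Module.finrank k (Tw k A B B.val) = Module.finrank k A :=
    (toTw k A B B.val).symm.finrank_eq
  rw [hA] at h
  have hpos : 0 < Module.finrank k A := Module.finrank_pos
  have : Module.finrank k A * (Module.finrank k B *
      Module.finrank k (Subalgebra.centralizer k (B : Set A))) =
      Module.finrank k A * Module.finrank k A := by
    rw [← h]; ring
  exact (Nat.eq_of_mul_eq_mul_left hpos this).symm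

/-- Double centralizer theorem. -/
theorem centralizer_centralizer :
    Subalgebra.centralizer k (Subalgebra.centralizer k (B : Set A) : Set A) = B := by
  have hC : IsSimpleRing (Subalgebra.centralizer k (B : Set A)) := isSimpleRing_centralizer k A B
  have h1 := finrank_centralizer k A B
  have h2 := finrank_centralizer k A (Subalgebra.centralizer k (B : Set A))
  have hle : B ≤ Subalgebra.centralizer k (Subalgebra.centralizer k (B : Set A) : Set A) :=
    Subalgebra.le_centralizer_centralizer k
  have hpos : 0 < Module.finrank k (Subalgebra.centralizer k (B : Set A)) := Module.finrank_pos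
  have hfr : Module.finrank k B = Module.finrank k
      (Subalgebra.centralizer k (Subalgebra.centralizer k (B : Set A) : Set A)) := by
    rw [h1, mul_comm] at h2
    exact Nat.eq_of_mul_eq_mul_left hpos h2
  symm
  apply Subalgebra.toSubmodule_injective
  exact Submodule.eq_of_le_of_finrank_eq hle hfr

/-- `A = B ⊗ C_A(B)` for a central simple subalgebra `B`. -/
theorem tensor_centralizer_bijective [Algebra.IsCentral k B] :
    Function.Bijective (Algebra.TensorProduct.lift B.val
      (Subalgebra.centralizer k (B : Set A)).val (fun x y => y.2 x.1 x.2)) := by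
  have hC : IsSimpleRing (Subalgebra.centralizer k (B : Set A)) := isSimpleRing_centralizer k A B
  have : FiniteDimensional k B := inferInstance
  have h0 : IsSimpleRing ((Subalgebra.centralizer k (B : Set A)) ⊗[k] B) :=
    Groth.Agent.Lib.helper17.CSA.isSimpleRing_tensor k B (Subalgebra.centralizer k (B : Set A))
  have hS : IsSimpleRing (B ⊗[k] (Subalgebra.centralizer k (B : Set A))) :=
    IsSimpleRing.of_ringEquiv
      (Algebra.TensorProduct.comm k (Subalgebra.centralizer k (B : Set A)) B).toRingEquiv h0
  set F := Algebra.TensorProduct.lift B.val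
      (Subalgebra.centralizer k (B : Set A)).val (fun x y => y.2 x.1 x.2) with hF
  have hinj : Function.Injective F := by
    have := RingHom.injective F.toRingHom
    exact this
  have hfr : Module.finrank k (B ⊗[k] (Subalgebra.centralizer k (B : Set A))) =
      Module.finrank k A := by
    rw [Module.finrank_tensorProduct, ← finrank_centralizer k A B]
  exact ⟨hinj, (LinearMap.injective_iff_surjective_of_finrank_eq_finrank
    (f := F.toLinearMap) hfr).mp hinj⟩


end centralizer

end Groth.Agent.Lib.helper1.CSA
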