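import Mathlib
import Groth.Prelude
import Groth.Agent.Lib.helper17.CSABaseChange
import Groth.Agent.S11683

/-!
# Splitting of central simple algebras (helper library of seat helper1)
The descent direction is adapted from `Groth.Agent.S12216` (generalized to an arbitrary field extension).
-/

set_option autoImplicit false
universe u v w
open scoped TensorProduct

namespace Groth.Agent.Lib.helper1.CSA

/-- An algebra split by some field extension is finite central simple. -/
theorem csa_of_splits (K : Type u) [Field K] (A : Type v) [Ring A] [Algebra K A]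
    (L : Type w) [Field L] [Algebra K L] (h : Curves.Splits K A L) :
    Algebra.IsCentral K A ∧ IsSimpleRing A ∧ FiniteDimensional K A := by
  classical
  revert h
  rintro ⟨n, hn, ⟨e⟩⟩
  have : NeZero n := ⟨hn⟩
  have hsimpleLA : IsSimpleRing (L ⊗[K] A) := IsSimpleRing.of_ringEquiv e.symm.toRingEquiv inferInstance
  have hcentLA : Algebra.IsCentral L (L ⊗[K] A) := ⟨by
    intro z hz
    have h1 : e z ∈ Subalgebra.center L (Matrix (Fin n) (Fin n) L) := by
      rw [Subalgebra.mem_center_iff] at hz ⊢
      intro b
      obtain ⟨b', rfl⟩ := e.surjective b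
      rw [← map_mul, ← map_mul, hz]
    have h2 := Algebra.IsCentral.out h1
    rw [Algebra.mem_bot] at h2 ⊢
    obtain ⟨c, hc⟩ := h2
    refine ⟨c, ?_⟩
    apply e.injective
    rw [← hc, AlgEquiv.commutes]⟩
  have hfinLA : Module.Finite L (L ⊗[K] A) := Module.Finite.equiv e.symm.toLinearEquiv
  have hfd : FiniteDimensional K A := Module.Finite.of_finite_tensorProduct_of_faithfullyFlat L
  have hnontriv : Nontrivial (L ⊗[K] A) := inferInstance
  refine ⟨?_, ?_, hfd⟩
  · -- central
    constructor
    intro z hz
    by_contra hzbot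
    have hz1 : (1 : L) ⊗ₜ[K] z ∈ Subalgebra.center L (L ⊗[K] A) := by
      rw [Subalgebra.mem_center_iff] at hz ⊢
      intro y
      induction y using TensorProduct.induction_on with
      | zero => simp
      | tmul l a =>
        rw [Algebra.TensorProduct.tmul_mul_tmul, Algebra.TensorProduct.tmul_mul_tmul, hz a, mul_comm]
      | add y₁ y₂ h₁ h₂ => rw [add_mul, mul_add, h₁, h₂]
    have h2 := hcentLA.out hz1
    rw [Algebra.mem_bot] at h2
    obtain ⟨c, hc⟩ := h2
    -- a functional separating z from K·1
    have hznot : z ∉ (Submodule.span K {(1 : A)}) := by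
      intro hmem
      apply hzbot
      rw [Submodule.mem_span_singleton] at hmem
      obtain ⟨a, rfl⟩ := hmem
      rw [Algebra.mem_bot]
      exact ⟨a, by rw [Algebra.algebraMap_eq_smul_one]⟩
    obtain ⟨φ, hφz, hφ1⟩ := Submodule.exists_dual_map_eq_bot_of_notMem hznot inferInstance
    have hφone : φ 1 = 0 := by
      have : φ 1 ∈ (Submodule.span K {(1 : A)}).map φ :=
        Submodule.mem_map_of_mem (Submodule.mem_span_singleton_self 1)
      rw [hφ1] at this
      exact this
    have h3 := congrArg (LinearMap.lTensor L φ) hc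
    rw [Algebra.TensorProduct.algebraMap_apply, LinearMap.lTensor_tmul, LinearMap.lTensor_tmul, hφone,
      TensorProduct.tmul_zero] at h3
    exact hφz ((Module.FaithfullyFlat.one_tmul_eq_zero_iff K K (A := L) (φ z)).1 h3.symm)
  · -- simple
    rw [isSimpleRing_iff_isTwoSided_imp]
    have hA : Nontrivial A := by
      by_contra hnt
      rw [not_nontrivial_iff_subsingleton] at hnt
      have : Subsingleton (L ⊗[K] A) := by
        constructor
        intro x y
        have hx : ∀ w : L ⊗[K] A, w = 0 := by
          intro w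
          induction w using TensorProduct.induction_on with
          | zero => rfl
          | tmul l a => rw [Subsingleton.elim a 0, TensorProduct.tmul_zero]
          | add x y hx hy => rw [hx, hy, add_zero]
        rw [hx x, hx y]
      exact not_subsingleton (L ⊗[K] A) this
    refine ⟨hA, ?_⟩
    intro I hI
    by_cases hbot : I = ⊥
    · exact Or.inl hbot
    right
    obtain ⟨x, hxI, hx0⟩ : ∃ x ∈ I, x ≠ 0 := by
      by_contra hcon
      push Not at hcon
      exact hbot ((Submodule.eq_bot_iff I).2 hcon)
    set I' : Submodule K A := I.restrictScalars K with hI'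
    set ι := LinearMap.lTensor L I'.subtype with hι
    -- the two-sided ideal of L ⊗ A
    have hleft : ∀ (t y : L ⊗[K] A), y ∈ LinearMap.range ι → t * y ∈ LinearMap.range ι := by
      intro t y hy
      obtain ⟨w, rfl⟩ := hy
      induction t using TensorProduct.induction_on with
      | zero => rw [zero_mul]; exact Submodule.zero_mem _
      | tmul l a =>
        induction w using TensorProduct.induction_on with
        | zero => rw [map_zero, mul_zero]; exact Submodule.zero_mem _
        | tmul l' i =>
          refine ⟨(l * l') ⊗ₜ[K] ⟨a * i.1, I.mul_mem_left a i.2⟩, ?_⟩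
          rw [hι, LinearMap.lTensor_tmul, LinearMap.lTensor_tmul, Algebra.TensorProduct.tmul_mul_tmul]
          rfl
        | add w₁ w₂ h₁ h₂ => rw [map_add, mul_add]; exact Submodule.add_mem _ h₁ h₂
      | add t₁ t₂ h₁ h₂ => rw [add_mul]; exact Submodule.add_mem _ h₁ h₂
    have hright : ∀ (t y : L ⊗[K] A), y ∈ LinearMap.range ι → y * t ∈ LinearMap.range ι := by
      intro t y hy
      obtain ⟨w, rfl⟩ := hy
      induction t using TensorProduct.induction_on with
      | zero => rw [mul_zero]; exact Submodule.zero_mem _
      | tmul l a =>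
        induction w using TensorProduct.induction_on with
        | zero => rw [map_zero, zero_mul]; exact Submodule.zero_mem _
        | tmul l' i =>
          refine ⟨(l' * l) ⊗ₜ[K] ⟨i.1 * a, hI.mul_mem_of_left a i.2⟩, ?_⟩
          rw [hι, LinearMap.lTensor_tmul, LinearMap.lTensor_tmul, Algebra.TensorProduct.tmul_mul_tmul]
          rfl
        | add w₁ w₂ h₁ h₂ => rw [map_add, add_mul]; exact Submodule.add_mem _ h₁ h₂
      | add t₁ t₂ h₁ h₂ => rw [mul_add]; exact Submodule.add_mem _ h₁ h₂
    let J : Ideal (L ⊗[K] A) :=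
      { carrier := LinearMap.range ι
        add_mem' := fun ha hb => Submodule.add_mem _ ha hb
        zero_mem' := Submodule.zero_mem _
        smul_mem' := fun t y hy => hleft t y hy }
    have hJts : J.IsTwoSided := ⟨fun {a} b ha => hright b a ha⟩
    have hJmem : ∀ y, y ∈ J ↔ y ∈ LinearMap.range ι := fun y => Iff.rfl
    rcases (isSimpleRing_iff_isTwoSided_imp.1 hsimpleLA).2 J hJts with hJ | hJ
    · exfalso
      have h1 : (1 : L) ⊗ₜ[K] x ∈ J := ⟨(1 : L) ⊗ₜ[K] ⟨x, hxI⟩, rfl⟩
      rw [hJ, Ideal.mem_bot] at h1
      exact hx0 ((Module.FaithfullyFlat.one_tmul_eq_zero_iff K A (A := L) x).1 h1)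
    · have h1 : (1 : L ⊗[K] A) ∈ J := by rw [hJ]; trivial
      obtain ⟨w, hw⟩ := (hJmem _).1 h1
      have h2 : LinearMap.lTensor L I'.mkQ (ι w) = 0 := by
        rw [hι, ← LinearMap.comp_apply, ← LinearMap.lTensor_comp]
        have : I'.mkQ ∘ₗ I'.subtype = 0 := by
          ext i
          simp
        rw [this, LinearMap.lTensor_zero, LinearMap.zero_apply]
      rw [hw, Algebra.TensorProduct.one_def, LinearMap.lTensor_tmul] at h2
      have h3 := (Module.FaithfullyFlat.one_tmul_eq_zero_iff K (A ⧸ I') (A := L) (I'.mkQ 1)).1 h2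
      rw [Submodule.mkQ_apply, Submodule.Quotient.mk_eq_zero] at h3
      exact (Ideal.eq_top_iff_one I).2 h3

/-- A finite central simple algebra is split by any separably closed extension. -/
theorem splits_of_isSepClosed (K : Type u) [Field K] (A : Type v) [Ring A] [Algebra K A]
    [Algebra.IsCentral K A] [IsSimpleRing A] [FiniteDimensional K A]
    (L : Type w) [Field L] [Algebra K L] [IsSepClosed L] : Curves.Splits K A L := by
  have h1 : Algebra.IsCentral L (L ⊗[K] A) :=
    Groth.Agent.Lib.helper17.CSA.isCentral_baseChange K A L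
  have h2 : IsSimpleRing (L ⊗[K] A) := Groth.Agent.Lib.helper17.CSA.isSimpleRing_tensor K A L
  have h3 : FiniteDimensional L (L ⊗[K] A) := inferInstance
  obtain ⟨n, ⟨e⟩⟩ := Groth.Agent.S11683.result L (L ⊗[K] A)
  refine ⟨n, ?_, ⟨e⟩⟩
  rintro rfl
  have : Nontrivial (L ⊗[K] A) := inferInstance
  have hsub : Subsingleton (Matrix (Fin 0) (Fin 0) L) := inferInstance
  exact not_subsingleton (L ⊗[K] A) e.toEquiv.subsingleton

end Groth.Agent.Lib.helper1.CSA
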