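import Mathlib
import Groth.Prelude
import Groth.Agent.Lib.helper1.CSA3

/-!
# Finite Galois splitting fields of central simple algebras (helper library of seat helper1)
-/

set_option autoImplicit false
universe u v w
open scoped TensorProduct

namespace Groth.Agent.Lib.helper1.CSA

/-- If `L ⊗ A` is simple, of the same dimension `n²` as `Mₙ(L)`, then an algebra map
`A → Mₙ(L)` induces a splitting. -/
theorem splits_of_algHom (k : Type u) [Field k] (A : Type v) [Ring A] [Algebra k A]
    [Algebra.IsCentral k A] [IsSimpleRing A] [FiniteDimensional k A]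
    (L : Type w) [Field L] [Algebra k L] (n : ℕ) (hn : n ≠ 0)
    (hfr : Module.finrank k A = n * n)
    (φ : A →ₐ[k] Matrix (Fin n) (Fin n) L) : Curves.Splits k A L := by
  have : NeZero n := ⟨hn⟩
  let eL : L ⊗[k] A →ₐ[L] Matrix (Fin n) (Fin n) L :=
    Algebra.TensorProduct.lift (Algebra.ofId L (Matrix (Fin n) (Fin n) L)) φ
      (fun l a => Algebra.commutes l (φ a))
  have hsimple : IsSimpleRing (L ⊗[k] A) :=
    Groth.Agent.Lib.helper17.CSA.isSimpleRing_tensor k A L
  have hinj : Function.Injective eL := by
    have := RingHom.injective eL.toRingHom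
    exact this
  have hfr' : Module.finrank L (L ⊗[k] A) = Module.finrank L (Matrix (Fin n) (Fin n) L) := by
    rw [Module.finrank_baseChange, hfr, Module.finrank_matrix]; simp
  have hsurj : Function.Surjective eL :=
    (LinearMap.injective_iff_surjective_of_finrank_eq_finrank (f := eL.toLinearMap) hfr').mp hinj
  exact ⟨n, hn, ⟨AlgEquiv.ofBijective eL ⟨hinj, hsurj⟩⟩⟩

/-- Every finite central simple algebra is split by a finite Galois subextension of the
separable closure. -/
theorem exists_finite_galois_splitting (k : Type u) [Field k] (A : Type v) [Ring A] [Algebra k A]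
    [Algebra.IsCentral k A] [IsSimpleRing A] [FiniteDimensional k A] :
    ∃ L : IntermediateField k (SeparableClosure k),
      FiniteDimensional k L ∧ IsGalois k L ∧ Curves.Splits k A L := by
  classical
  obtain ⟨n, hn, ⟨e⟩⟩ := splits_of_isSepClosed k A (SeparableClosure k)
  have hfr : Module.finrank k A = n * n := by
    have h1 : Module.finrank (SeparableClosure k) (SeparableClosure k ⊗[k] A) =
        Module.finrank k A := Module.finrank_baseChange
    rw [← h1, e.toLinearEquiv.finrank_eq, Module.finrank_matrix]; simp
  let ψ : A →ₐ[k] Matrix (Fin n) (Fin n) (SeparableClosure k) :=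
    (e.restrictScalars k).toAlgHom.comp
      (Algebra.TensorProduct.includeRight : A →ₐ[k] SeparableClosure k ⊗[k] A)
  let b := Module.finBasis k A
  let S : Set (SeparableClosure k) :=
    Set.range (fun x : Fin (Module.finrank k A) × Fin n × Fin n => ψ (b x.1) x.2.1 x.2.2)
  have hSfin : S.Finite := Set.finite_range _
  let L₀ : IntermediateField k (SeparableClosure k) := IntermediateField.adjoin k S
  have hL₀fin : FiniteDimensional k L₀ :=
    IntermediateField.finiteDimensional_adjoin (fun x _ => Algebra.IsIntegral.isIntegral x)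
  let L : IntermediateField k (SeparableClosure k) :=
    IntermediateField.normalClosure k L₀ (SeparableClosure k)
  have hLfin : FiniteDimensional k L := inferInstance
  have hLnormal : Normal k L := inferInstance
  have hLsep : Algebra.IsSeparable k L :=
    Algebra.isSeparable_tower_bot_of_isSeparable k L (SeparableClosure k)
  have hLgal : IsGalois k L := ⟨⟩
  have hSL : S ⊆ L := fun x hx =>
    IntermediateField.le_normalClosure L₀ (IntermediateField.subset_adjoin k S hx)
  refine ⟨L, hLfin, hLgal, ?_⟩
  -- the inclusion of matrix algebras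
  let ιL : Matrix (Fin n) (Fin n) L →ₐ[k] Matrix (Fin n) (Fin n) (SeparableClosure k) :=
    (L.val).mapMatrix
  have hιinj : Function.Injective ιL := by
    intro M N h
    apply Matrix.ext
    intro p q
    apply Subtype.ext
    exact congrFun (congrFun h p) q
  have hmem : ∀ a : A, ψ a ∈ ιL.range := by
    have hle : (⊤ : Submodule k A) ≤ (Subalgebra.toSubmodule ιL.range).comap ψ.toLinearMap := by
      rw [← b.span_eq, Submodule.span_le]
      rintro _ ⟨i, rfl⟩
      refine ⟨Matrix.of fun p q => ⟨ψ (b i) p q, hSL ⟨(i, p, q), rfl⟩⟩, ?_⟩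
      ext p q
      rfl
    intro a
    exact hle (Submodule.mem_top (x := a))
  let φ : A →ₐ[k] Matrix (Fin n) (Fin n) L :=
    ((AlgEquiv.ofInjective ιL hιinj).symm : ιL.range ≃ₐ[k] Matrix (Fin n) (Fin n) L).toAlgHom.comp
      (ψ.codRestrict ιL.range hmem)
  exact splits_of_algHom k A L n hn hfr φ

end Groth.Agent.Lib.helper1.CSA
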