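import Mathlib
import Groth.Agent.Lib.helper1.CSA1

/-!
# Uniqueness in Wedderburn's theorem (helper library of seat helper1)
-/

set_option autoImplicit false
universe u v w

namespace Groth.Agent.Lib.helper1.CSA

open Module (End)

section endCongr

variable {k : Type*} [CommRing k] {R R' : Type*} [Ring R] [Ring R'] [Algebra k R] [Algebra k R']
  (σ : R ≃ₐ[k] R') (M : Type*) [AddCommGroup M] [Module k M] [Module R M] [Module R' M]
  [IsScalarTower k R M] [IsScalarTower k R' M]

/-- If the `R`-action on `M` is the `R'`-action through `σ`, then the endomorphism algebras agree. -/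
def endCongr (h : ∀ (r : R) (m : M), σ r • m = r • m) : End R' M ≃ₐ[k] End R M where
  toFun f :=
    { toFun := f
      map_add' := f.map_add
      map_smul' := fun r m => by
        simp only [RingHom.id_apply]
        rw [← h, ← h, f.map_smul] }
  invFun f :=
    { toFun := f
      map_add' := f.map_add
      map_smul' := fun r' m => by
        simp only [RingHom.id_apply]
        obtain ⟨r, rfl⟩ := σ.surjective r'
        rw [h, h, f.map_smul] }
  left_inv f := rfl
  right_inv f := rfl
  map_mul' f g := rfl
  map_add' f g := rfl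
  commutes' c := rfl

end endCongr

/-- Endomorphism algebras of simple modules over isomorphic simple Artinian algebras are
isomorphic. -/
theorem nonempty_end_algEquiv (k : Type*) [Field k] (R R' : Type*) [Ring R] [Ring R']
    [Algebra k R] [Algebra k R'] [IsSimpleRing R] [IsArtinianRing R] (σ : R ≃ₐ[k] R')
    (S : Type*) [AddCommGroup S] [Module k S] [Module R S] [IsScalarTower k R S]
    [IsSimpleModule R S]
    (S' : Type*) [AddCommGroup S'] [Module k S'] [Module R' S'] [IsScalarTower k R' S']
    [IsSimpleModule R' S'] : Nonempty (End R S ≃ₐ[k] End R' S') := by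
  let _ : Module R S' := Module.compHom S' (σ : R →+* R')
  have hsmul : ∀ (r : R) (m : S'), σ r • m = r • m := fun r m => rfl
  have : IsScalarTower k R S' := ⟨fun c r m => by
    rw [← hsmul, ← hsmul, map_smul, smul_assoc]⟩
  have : IsSimpleModule R S' := by
    rw [isSimpleModule_iff_toSpanSingleton_surjective]
    refine ⟨IsSimpleModule.nontrivial R' S', fun v hv w => ?_⟩
    obtain ⟨r', hr'⟩ := (isSimpleModule_iff_toSpanSingleton_surjective.mp
      (inferInstance : IsSimpleModule R' S')).2 v hv w
    refine ⟨σ.symm r', ?_⟩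
    simp only [LinearMap.toSpanSingleton_apply] at hr' ⊢
    rw [← hsmul, AlgEquiv.apply_symm_apply, hr']
  obtain ⟨Θ⟩ := nonempty_linearEquiv_of_isSimpleModule R S S'
  exact ⟨(Θ.conjAlgEquiv k).trans (endCongr σ S' hsmul).symm⟩

section wedderburn

variable (k : Type*) [Field k] (D : Type*) [DivisionRing D] [Algebra k D]
  (V : Type*) [AddCommGroup V] [Module D V] [Module k V] [IsScalarTower k D V]

/-- `D → End_{End_D V} V`. -/
noncomputable def toEndEnd : D →ₐ[k] End (End D V) V where
  toRingHom := Module.toModuleEnd (End D V) V (S := D)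
  commutes' c := by
    apply LinearMap.ext
    intro v
    show (algebraMap k D c) • v = c • v
    rw [algebraMap_smul]

theorem toEndEnd_bijective [Module.Finite D V] [Nontrivial V] [FiniteDimensional k D] :
    Function.Bijective (toEndEnd k D V) := by
  constructor
  · have : Nontrivial (End (End D V) V) := by
      refine ⟨⟨0, 1, fun h => ?_⟩⟩
      obtain ⟨v, hv⟩ := exists_ne (0 : V)
      have := LinearMap.congr_fun h v
      simp at this
      exact hv this.symm
    have := RingHom.injective (toEndEnd k D V).toRingHom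
    exact this
  · have : FiniteDimensional k V := Module.Finite.trans D V
    have : Module.Finite (End D V) V := Module.Finite.of_restrictScalars_finite k (End D V) V
    exact Module.Finite.toModuleEnd_moduleEnd_surjective (R := D) (M := V)

end wedderburn

/-- Uniqueness in Wedderburn's theorem: isomorphic matrix algebras over division algebras have
isomorphic coefficient division algebras. -/
theorem nonempty_algEquiv_of_matrix (k : Type u) [Field k]
    (D : Type v) [DivisionRing D] [Algebra k D] [FiniteDimensional k D]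
    (D' : Type w) [DivisionRing D'] [Algebra k D'] [FiniteDimensional k D']
    (n m : ℕ) (hn : n ≠ 0) (hm : m ≠ 0)
    (e : Matrix (Fin n) (Fin n) D ≃ₐ[k] Matrix (Fin m) (Fin m) D') :
    Nonempty (D ≃ₐ[k] D') := by
  classical
  have : NeZero n := ⟨hn⟩
  have : NeZero m := ⟨hm⟩
  let α : Matrix (Fin n) (Fin n) D ≃ₐ[k] (End D (Fin n → D))ᵐᵒᵖ :=
    matrixAlgEquivEndVecMulOpposite k
  let α' : Matrix (Fin m) (Fin m) D' ≃ₐ[k] (End D' (Fin m → D'))ᵐᵒᵖ :=
    matrixAlgEquivEndVecMulOpposite k
  let σ : End D (Fin n → D) ≃ₐ[k] End D' (Fin m → D') :=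
    AlgEquiv.unop (α.symm.trans (e.trans α'))
  have hs1 : IsSimpleRing (End D (Fin n → D))ᵐᵒᵖ :=
    IsSimpleRing.of_ringEquiv α.toRingEquiv inferInstance
  have hs2 : IsSimpleRing (End D (Fin n → D)) :=
    IsSimpleRing.of_ringEquiv (RingEquiv.opOp (End D (Fin n → D))).symm inferInstance
  have hf1 : Module.Finite k (End D (Fin n → D))ᵐᵒᵖ := Module.Finite.equiv α.toLinearEquiv
  have hf2 : Module.Finite k (End D (Fin n → D)) :=
    Module.Finite.equiv (MulOpposite.opLinearEquiv k).symm
  have hart : IsArtinianRing (End D (Fin n → D)) := IsArtinianRing.of_finite k _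
  obtain ⟨γ⟩ := nonempty_end_algEquiv k (End D (Fin n → D)) (End D' (Fin m → D')) σ
    (Fin n → D) (Fin m → D')
  let β : D ≃ₐ[k] End (End D (Fin n → D)) (Fin n → D) :=
    AlgEquiv.ofBijective (toEndEnd k D (Fin n → D)) (toEndEnd_bijective k D (Fin n → D))
  let β' : D' ≃ₐ[k] End (End D' (Fin m → D')) (Fin m → D') :=
    AlgEquiv.ofBijective (toEndEnd k D' (Fin m → D')) (toEndEnd_bijective k D' (Fin m → D'))
  exact ⟨β.trans (γ.trans β'.symm)⟩

end Groth.Agent.Lib.helper1.CSA
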