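import Mathlib
import Groth.Prelude
import Groth.Agent.Lib.helper1.CSA5
import Groth.Agent.Lib.helper1.CSA4
import Groth.Agent.Lib.helper1.CSA2

/-!
# More on splitting of central simple algebras (helper library of seat helper1)
-/

set_option autoImplicit false
universe u v w
open scoped TensorProduct

namespace Groth.Agent.Lib.helper1.CSA

/-- Centrality and simplicity descend along an arbitrary field extension. -/
theorem central_simple_of_baseChange (K : Type u) [Field K] (A : Type v) [Ring A] [Algebra K A]
    (L : Type w) [Field L] [Algebra K L] (hcentLA : Algebra.IsCentral L (L ⊗[K] A))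
    (hsimpleLA : IsSimpleRing (L ⊗[K] A)) :
    Algebra.IsCentral K A ∧ IsSimpleRing A := by
  classical
  have hnontriv : Nontrivial (L ⊗[K] A) := inferInstance
  refine ⟨?_, ?_⟩
  · -- central
    constructor
    intro z hz
    by_contra hzbot
    have hz1 : (1 : L) ⊗ₜ[K] z ∈ Subalgebra.center L (L ⊗[K] A) := by
      rw [Subalgebra.mem_center_iff] at hz ⊢
      intro y
      induction y using TensorProduct.induction_on with
      | zero => simp
      | tmul l a =>
        rw [Algebra.TensorProduct.tmul_mul_tmul, Algebra.TensorProduct.tmul_mul_tmul, hz a, mul_comm]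
      | add y₁ y₂ h₁ h₂ => rw [add_mul, mul_add, h₁, h₂]
    have h2 := hcentLA.out hz1
    rw [Algebra.mem_bot] at h2
    obtain ⟨c, hc⟩ := h2
    -- a functional separating z from K·1
    have hznot : z ∉ (Submodule.span K {(1 : A)}) := by
      intro hmem
      apply hzbot
      rw [Submodule.mem_span_singleton] at hmem
      obtain ⟨a, rfl⟩ := hmem
      rw [Algebra.mem_bot]
      exact ⟨a, by rw [Algebra.algebraMap_eq_smul_one]⟩
    obtain ⟨φ, hφz, hφ1⟩ := Submodule.exists_dual_map_eq_bot_of_notMem hznot inferInstance
    have hφone : φ 1 = 0 := by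
      have : φ 1 ∈ (Submodule.span K {(1 : A)}).map φ :=
        Submodule.mem_map_of_mem (Submodule.mem_span_singleton_self 1)
      rw [hφ1] at this
      exact this
    have h3 := congrArg (LinearMap.lTensor L φ) hc
    rw [Algebra.TensorProduct.algebraMap_apply, LinearMap.lTensor_tmul, LinearMap.lTensor_tmul, hφone,
      TensorProduct.tmul_zero] at h3
    exact hφz ((Module.FaithfullyFlat.one_tmul_eq_zero_iff K K (A := L) (φ z)).1 h3.symm)
  · -- simple
    rw [isSimpleRing_iff_isTwoSided_imp]
    have hA : Nontrivial A := by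
      by_contra hnt
      rw [not_nontrivial_iff_subsingleton] at hnt
      have : Subsingleton (L ⊗[K] A) := by
        constructor
        intro x y
        have hx : ∀ w : L ⊗[K] A, w = 0 := by
          intro w
          induction w using TensorProduct.induction_on with
          | zero => rfl
          | tmul l a => rw [Subsingleton.elim a 0, TensorProduct.tmul_zero]
          | add x y hx hy => rw [hx, hy, add_zero]
        rw [hx x, hx y]
      exact not_subsingleton (L ⊗[K] A) this
    refine ⟨hA, ?_⟩
    intro I hI
    by_cases hbot : I = ⊥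
    · exact Or.inl hbot
    right
    obtain ⟨x, hxI, hx0⟩ : ∃ x ∈ I, x ≠ 0 := by
      by_contra hcon
      push Not at hcon
      exact hbot ((Submodule.eq_bot_iff I).2 hcon)
    set I' : Submodule K A := I.restrictScalars K with hI'
    set ι := LinearMap.lTensor L I'.subtype with hι
    -- the two-sided ideal of L ⊗ A
    have hleft : ∀ (t y : L ⊗[K] A), y ∈ LinearMap.range ι → t * y ∈ LinearMap.range ι := by
      intro t y hy
      obtain ⟨w, rfl⟩ := hy
      induction t using TensorProduct.induction_on with
      | zero => rw [zero_mul]; exact Submodule.zero_mem _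
      | tmul l a =>
        induction w using TensorProduct.induction_on with
        | zero => rw [map_zero, mul_zero]; exact Submodule.zero_mem _
        | tmul l' i =>
          refine ⟨(l * l') ⊗ₜ[K] ⟨a * i.1, I.mul_mem_left a i.2⟩, ?_⟩
          rw [hι, LinearMap.lTensor_tmul, LinearMap.lTensor_tmul, Algebra.TensorProduct.tmul_mul_tmul]
          rfl
        | add w₁ w₂ h₁ h₂ => rw [map_add, mul_add]; exact Submodule.add_mem _ h₁ h₂
      | add t₁ t₂ h₁ h₂ => rw [add_mul]; exact Submodule.add_mem _ h₁ h₂
    have hright : ∀ (t y : L ⊗[K] A), y ∈ LinearMap.range ι → y * t ∈ LinearMap.range ι := by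
      intro t y hy
      obtain ⟨w, rfl⟩ := hy
      induction t using TensorProduct.induction_on with
      | zero => rw [mul_zero]; exact Submodule.zero_mem _
      | tmul l a =>
        induction w using TensorProduct.induction_on with
        | zero => rw [map_zero, zero_mul]; exact Submodule.zero_mem _
        | tmul l' i =>
          refine ⟨(l' * l) ⊗ₜ[K] ⟨i.1 * a, hI.mul_mem_of_left a i.2⟩, ?_⟩
          rw [hι, LinearMap.lTensor_tmul, LinearMap.lTensor_tmul, Algebra.TensorProduct.tmul_mul_tmul]
          rfl
        | add w₁ w₂ h₁ h₂ => rw [map_add, add_mul]; exact Submodule.add_mem _ h₁ h₂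
      | add t₁ t₂ h₁ h₂ => rw [mul_add]; exact Submodule.add_mem _ h₁ h₂
    let J : Ideal (L ⊗[K] A) :=
      { carrier := LinearMap.range ι
        add_mem' := fun ha hb => Submodule.add_mem _ ha hb
        zero_mem' := Submodule.zero_mem _
        smul_mem' := fun t y hy => hleft t y hy }
    have hJts : J.IsTwoSided := ⟨fun {a} b ha => hright b a ha⟩
    have hJmem : ∀ y, y ∈ J ↔ y ∈ LinearMap.range ι := fun y => Iff.rfl
    rcases (isSimpleRing_iff_isTwoSided_imp.1 hsimpleLA).2 J hJts with hJ | hJ
    · exfalso
      have h1 : (1 : L) ⊗ₜ[K] x ∈ J := ⟨(1 : L) ⊗ₜ[K] ⟨x, hxI⟩, rfl⟩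
      rw [hJ, Ideal.mem_bot] at h1
      exact hx0 ((Module.FaithfullyFlat.one_tmul_eq_zero_iff K A (A := L) x).1 h1)
    · have h1 : (1 : L ⊗[K] A) ∈ J := by rw [hJ]; trivial
      obtain ⟨w, hw⟩ := (hJmem _).1 h1
      have h2 : LinearMap.lTensor L I'.mkQ (ι w) = 0 := by
        rw [hι, ← LinearMap.comp_apply, ← LinearMap.lTensor_comp]
        have : I'.mkQ ∘ₗ I'.subtype = 0 := by
          ext i
          simp
        rw [this, LinearMap.lTensor_zero, LinearMap.zero_apply]
      rw [hw, Algebra.TensorProduct.one_def, LinearMap.lTensor_tmul] at h2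
      have h3 := (Module.FaithfullyFlat.one_tmul_eq_zero_iff K (A ⧸ I') (A := L) (I'.mkQ 1)).1 h2
      rw [Submodule.mkQ_apply, Submodule.Quotient.mk_eq_zero] at h3
      exact (Ideal.eq_top_iff_one I).2 h3

section central

variable (k : Type*) [Field k] (A : Type*) [Ring A] [Algebra k A]
  (B : Type*) [Ring B] [Algebra k B]

/-- The tensor product of central algebras over a field is central. -/
theorem isCentral_tensor [Algebra.IsCentral k A] [Algebra.IsCentral k B] [Nontrivial A] :
    Algebra.IsCentral k (B ⊗[k] A) := by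
  classical
  constructor
  intro z hz
  rw [Subalgebra.mem_center_iff] at hz
  let β := Module.Free.chooseBasis k B
  let c := TensorProduct.equivFinsuppOfBasisLeft (N := A) β z
  -- each coordinate is central
  have hcoord : ∀ j, c j ∈ Subalgebra.center k A := by
    intro j
    rw [Subalgebra.mem_center_iff]
    intro a
    have h1 : ∀ y : B ⊗[k] A, TensorProduct.equivFinsuppOfBasisLeft (N := A) β (((1 : B) ⊗ₜ[k] a) * y) j
        = a * TensorProduct.equivFinsuppOfBasisLeft (N := A) β y j := by
      intro y
      induction y using TensorProduct.induction_on with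
      | zero => simp
      | tmul l x =>
        simp
      | add y y' hy hy' => simp [mul_add, hy, hy']
    have h2 : ∀ y : B ⊗[k] A, TensorProduct.equivFinsuppOfBasisLeft (N := A) β (y * ((1 : B) ⊗ₜ[k] a)) j
        = TensorProduct.equivFinsuppOfBasisLeft (N := A) β y j * a := by
      intro y
      induction y using TensorProduct.induction_on with
      | zero => simp
      | tmul l x =>
        simp
      | add y y' hy hy' => simp [add_mul, hy, hy']
    rw [← h1 z, ← h2 z, hz]
  have hz' : z = c.sum (fun j n => β j ⊗ₜ[k] n) := by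
    rw [← TensorProduct.equivFinsuppOfBasisLeft_symm_apply]
    exact ((TensorProduct.equivFinsuppOfBasisLeft (N := A) β).symm_apply_apply z).symm
  choose r hr using fun j => (Algebra.IsCentral.mem_center_iff k).mp (hcoord j)
  -- `z = b ⊗ 1`
  set b : B := ∑ j ∈ c.support, r j • β j with hb
  have hzb : z = b ⊗ₜ[k] (1 : A) := by
    rw [hz', Finsupp.sum, hb, TensorProduct.sum_tmul]
    apply Finset.sum_congr rfl
    intro j _
    rw [hr j, Algebra.algebraMap_eq_smul_one (r j), TensorProduct.tmul_smul,
      TensorProduct.smul_tmul']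
  -- `b` is central
  have hinj : Function.Injective (Algebra.TensorProduct.includeLeft : B →ₐ[k] B ⊗[k] A) :=
    Algebra.TensorProduct.includeLeft_injective (FaithfulSMul.algebraMap_injective k A)
  have hbc : b ∈ Subalgebra.center k B := by
    rw [Subalgebra.mem_center_iff]
    intro b'
    apply hinj
    have := hz (b' ⊗ₜ[k] (1 : A))
    rw [hzb, Algebra.TensorProduct.tmul_mul_tmul, Algebra.TensorProduct.tmul_mul_tmul] at this
    simpa using this
  obtain ⟨t, ht⟩ := (Algebra.IsCentral.mem_center_iff k).mp hbc
  rw [Algebra.mem_bot]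
  refine ⟨t, ?_⟩
  rw [hzb, ht, Algebra.TensorProduct.algebraMap_apply]

end central

section tensor

open Matrix in
/-- If `K` splits `A` and `B` then it splits `A ⊗ B`. -/
theorem splits_tensor (k : Type u) [Field k] (K : Type v) [Field K] [Algebra k K]
    (A : Type w) [Ring A] [Algebra k A] [Algebra.IsCentral k A] [IsSimpleRing A]
    [FiniteDimensional k A]
    (B : Type*) [Ring B] [Algebra k B] [Algebra.IsCentral k B] [IsSimpleRing B]
    [FiniteDimensional k B]
    (hA : Curves.Splits k A K) (hB : Curves.Splits k B K) : Curves.Splits k (A ⊗[k] B) K := by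
  classical
  obtain ⟨n, hn, ⟨eA⟩⟩ := hA
  obtain ⟨m, hm, ⟨eB⟩⟩ := hB
  have hfrA : Module.finrank k A = n * n := by
    have h1 : Module.finrank K (K ⊗[k] A) = Module.finrank k A := Module.finrank_baseChange
    rw [← h1, eA.toLinearEquiv.finrank_eq, Module.finrank_matrix]; simp
  have hfrB : Module.finrank k B = m * m := by
    have h1 : Module.finrank K (K ⊗[k] B) = Module.finrank k B := Module.finrank_baseChange
    rw [← h1, eB.toLinearEquiv.finrank_eq, Module.finrank_matrix]; simp
  let φA : A →ₐ[k] Matrix (Fin n) (Fin n) K :=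
    (eA.restrictScalars k).toAlgHom.comp (Algebra.TensorProduct.includeRight : A →ₐ[k] K ⊗[k] A)
  let φB : B →ₐ[k] Matrix (Fin m) (Fin m) K :=
    (eB.restrictScalars k).toAlgHom.comp (Algebra.TensorProduct.includeRight : B →ₐ[k] K ⊗[k] B)
  let φ : A ⊗[k] B →ₐ[k] Matrix (Fin (n * m)) (Fin (n * m)) K :=
    ((Matrix.reindexAlgEquiv k K finProdFinEquiv).toAlgHom.comp
      ((Algebra.TensorProduct.lmul' k : K ⊗[k] K →ₐ[k] K).mapMatrix)).comp
      (((Matrix.kroneckerTMulAlgEquiv (Fin n) (Fin m) k k K K).toAlgHom).comp
        (Algebra.TensorProduct.map φA φB))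
  have : Algebra.IsCentral k (A ⊗[k] B) := isCentral_tensor k B A
  have : IsSimpleRing (A ⊗[k] B) := Groth.Agent.Lib.helper17.CSA.isSimpleRing_tensor k B A
  refine splits_of_algHom k (A ⊗[k] B) K (n * m) (Nat.mul_ne_zero hn hm) ?_ φ
  rw [Module.finrank_tensorProduct, hfrA, hfrB]; ring

end tensor

end Groth.Agent.Lib.helper1.CSA
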