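import Mathlib
import Groth.Prelude
import Groth.Agent.Lib.helper1.CSA6

/-!
# Splitting by maximal subfields, Brauer equivalence and splitting
(helper library of seat helper1)
-/

set_option autoImplicit false
universe u v w
open scoped TensorProduct

namespace Groth.Agent.Lib.helper1.CSA

/-- A subfield `k'` of a central simple algebra `B` with `dim B = [k':k]²` splits `B`. -/
theorem splits_of_subfield (k : Type u) [Field k] (B : Type v) [Ring B] [Algebra k B]
    [Algebra.IsCentral k B] [IsSimpleRing B] [FiniteDimensional k B]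
    (k' : Type w) [Field k'] [Algebra k k'] [FiniteDimensional k k'] (ι : k' →ₐ[k] B)
    (h : Module.finrank k B = Module.finrank k k' ^ 2) : Curves.Splits k B k' := by
  classical
  set m := Module.finrank k k' with hm
  have hmpos : 0 < m := Module.finrank_pos
  -- right `k'`-module structure on `B`
  let ιop : k' →+* Bᵐᵒᵖ :=
    { toFun := fun c => MulOpposite.op (ι c)
      map_one' := by simp
      map_mul' := fun c d => by
        rw [mul_comm c d, map_mul, MulOpposite.op_mul]
      map_zero' := by simp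
      map_add' := fun c d => by simp }
  letI : Module k' B := Module.compHom B ιop
  have hsmul : ∀ (c : k') (x : B), c • x = x * ι c := fun c x => rfl
  haveI : IsScalarTower k k' B := ⟨fun t c x => by
    rw [hsmul, hsmul, map_smul, mul_smul_comm]⟩
  have hfr : Module.finrank k' B = m := by
    have h1 := Module.finrank_mul_finrank k k' B
    rw [h, ← hm, sq] at h1
    exact Nat.eq_of_mul_eq_mul_left hmpos h1
  -- left multiplication
  let lam : B →ₐ[k] Module.End k' B :=
    { toFun := fun b =>
        { toFun := fun x => b * x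
          map_add' := fun x y => mul_add b x y
          map_smul' := fun c x => by
            simp only [RingHom.id_apply, hsmul, mul_assoc] }
      map_one' := by ext x; simp
      map_mul' := fun a b => by ext x; simp [mul_assoc]
      map_zero' := by ext x; simp
      map_add' := fun a b => by ext x; simp [add_mul]
      commutes' := fun t => by
        ext x
        simp [Algebra.smul_def] }
  haveI : Module.Finite k' B := Module.Finite.of_restrictScalars_finite k k' B
  let bas := Module.finBasisOfFinrankEq k' B hfr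
  let φ : B →ₐ[k] Matrix (Fin m) (Fin m) k' :=
    ((LinearMap.toMatrixAlgEquiv bas).restrictScalars k).toAlgHom.comp lam
  exact splits_of_algHom k B k' m hmpos.ne' (by rw [h, sq]) φ

section baseChangeMatrix

variable (k : Type u) [Field k] (L : Type v) [Field L] [Algebra k L]
  (X : Type w) [Ring X] [Algebra k X] (p : ℕ)

/-- `L ⊗ Mₚ(X) ≃ Mₚ(L ⊗ X)` as `k`-algebras. -/
noncomputable def baseChangeMatrixAux :
    L ⊗[k] Matrix (Fin p) (Fin p) X ≃ₐ[k] Matrix (Fin p) (Fin p) (L ⊗[k] X) :=
  ((Algebra.TensorProduct.congr (AlgEquiv.refl : L ≃ₐ[k] L) (matrixEquivTensor (Fin p) k X)).trans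
    (Algebra.TensorProduct.assoc k k k L X (Matrix (Fin p) (Fin p) k)).symm).trans
    (matrixEquivTensor (Fin p) k (L ⊗[k] X)).symm

lemma baseChangeMatrixAux_algebraMap (c : L) :
    baseChangeMatrixAux k L X p (algebraMap L _ c) = algebraMap L _ c := by
  rw [Algebra.TensorProduct.algebraMap_apply]
  simp only [baseChangeMatrixAux, AlgEquiv.trans_apply, Algebra.TensorProduct.congr_apply,
    Algebra.TensorProduct.map_tmul, Algebra.algebraMap_self, RingHom.id_apply, map_one]
  rw [Algebra.TensorProduct.one_def, Algebra.TensorProduct.assoc_symm_tmul,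
    matrixEquivTensor_apply_symm]
  ext i j
  simp [Matrix.algebraMap_matrix_apply, Matrix.one_apply]

/-- `L ⊗ Mₚ(X) ≃ Mₚ(L ⊗ X)` as `L`-algebras. -/
noncomputable def baseChangeMatrix :
    L ⊗[k] Matrix (Fin p) (Fin p) X ≃ₐ[L] Matrix (Fin p) (Fin p) (L ⊗[k] X) :=
  AlgEquiv.ofRingEquiv (f := (baseChangeMatrixAux k L X p).toRingEquiv)
    (baseChangeMatrixAux_algebraMap k L X p)

end baseChangeMatrix

/-- If `Mₚ(A) ≃ M_q(B)` and `L` splits `B` then `L` splits `A`. -/
theorem splits_of_matrix_algEquiv (k : Type u) [Field k] (L : Type v) [Field L] [Algebra k L]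
    (A : Type w) [Ring A] [Algebra k A] [Algebra.IsCentral k A] [IsSimpleRing A]
    [FiniteDimensional k A]
    (B : Type*) [Ring B] [Algebra k B]
    (p q : ℕ) (hp : p ≠ 0) (hq : q ≠ 0)
    (Θ : Matrix (Fin p) (Fin p) A ≃ₐ[k] Matrix (Fin q) (Fin q) B) (hB : Curves.Splits k B L) :
    Curves.Splits k A L := by
  classical
  have : Algebra.IsCentral L (L ⊗[k] A) := Groth.Agent.Lib.helper17.CSA.isCentral_baseChange k A L
  have : IsSimpleRing (L ⊗[k] A) := Groth.Agent.Lib.helper17.CSA.isSimpleRing_tensor k A L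
  have : IsArtinianRing (L ⊗[k] A) := IsArtinianRing.of_finite L _
  obtain ⟨r, hr, D', _, _, _, ⟨eA⟩⟩ :=
    IsSimpleRing.exists_algEquiv_matrix_divisionRing_finite L (L ⊗[k] A)
  obtain ⟨m, hm, ⟨eB⟩⟩ := hB
  have : NeZero m := ⟨hm⟩
  have : NeZero p := ⟨hp⟩
  have : NeZero q := ⟨hq⟩
  let e1 : Matrix (Fin p) (Fin p) (Matrix (Fin r) (Fin r) D') ≃ₐ[L]
      Matrix (Fin q) (Fin q) (Matrix (Fin m) (Fin m) L) :=
    (eA.symm.mapMatrix).trans <| (baseChangeMatrix k L A p).symm.trans <|
      (Algebra.TensorProduct.congr (AlgEquiv.refl : L ≃ₐ[L] L) Θ).trans <|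
      (baseChangeMatrix k L B q).trans eB.mapMatrix
  let e2 : Matrix (Fin (p * r)) (Fin (p * r)) D' ≃ₐ[L] Matrix (Fin (q * m)) (Fin (q * m)) L :=
    (Matrix.reindexAlgEquiv L D' finProdFinEquiv).symm.trans <|
      (Matrix.compAlgEquiv (Fin p) (Fin r) D' L).symm.trans <| e1.trans <|
      (Matrix.compAlgEquiv (Fin q) (Fin m) L L).trans (Matrix.reindexAlgEquiv L L finProdFinEquiv)
  obtain ⟨eD⟩ := nonempty_algEquiv_of_matrix L D' L (p * r) (q * m)
    (Nat.mul_ne_zero hp hr.out) (Nat.mul_ne_zero hq hm) e2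
  exact ⟨r, hr.out, ⟨eA.trans eD.mapMatrix⟩⟩

end Groth.Agent.Lib.helper1.CSA
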