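import Mathlib
import Groth.Prelude
import Groth.Agent.Lib.helper1.CSA7

/-!
# Splitting fields as maximal subfields of Brauer equivalent algebras
(helper library of seat helper1)
-/

set_option autoImplicit false
universe u v w
open scoped TensorProduct

namespace Groth.Agent.Lib.helper1.CSA

/-- universe polymorphic version of `Algebra.IsCentral.of_algEquiv` -/
theorem isCentral_of_algEquiv (K : Type*) [CommRing K] (D : Type*) [Ring D] [Algebra K D]
    (D' : Type*) [Ring D'] [Algebra K D'] [h : Algebra.IsCentral K D] (e : D ≃ₐ[K] D') :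
    Algebra.IsCentral K D' := by
  constructor
  intro x hx
  have h1 : e.symm x ∈ Subalgebra.center K D := by
    rw [Subalgebra.mem_center_iff] at hx ⊢
    intro b
    apply e.injective
    rw [map_mul, map_mul, e.apply_symm_apply]
    exact hx (e b)
  have h2 := h.out h1
  rw [Algebra.mem_bot] at h2 ⊢
  obtain ⟨t, ht⟩ := h2
  refine ⟨t, ?_⟩
  have := congrArg e ht
  rw [e.apply_symm_apply, AlgEquiv.commutes] at this
  exact this

/-- If the finite extension `k'` splits `A`, then `k'` embeds into a central simple algebra `B`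
(a subalgebra of a matrix algebra over `A`) with `M_m(A) ≃ M_n(B)` and `dim B = [k':k]²`. -/
theorem exists_subalgebra_of_splits (k : Type u) [Field k] (A : Type v) [Ring A] [Algebra k A]
    [Algebra.IsCentral k A] [IsSimpleRing A] [FiniteDimensional k A]
    (k' : Type w) [Field k'] [Algebra k k'] [FiniteDimensional k k'] (hs : Curves.Splits k A k') :
    ∃ (B : Subalgebra k (Matrix (Fin (Module.finrank k k')) (Fin (Module.finrank k k')) A))
      (_ : IsSimpleRing B) (_ : Algebra.IsCentral k B) (_ : k' →ₐ[k] B) (n : ℕ),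
      n ≠ 0 ∧ Module.finrank k k' ≠ 0 ∧
      Nonempty (Matrix (Fin (Module.finrank k k')) (Fin (Module.finrank k k')) A ≃ₐ[k]
        Matrix (Fin n) (Fin n) B) ∧
      Module.finrank k B = Module.finrank k k' ^ 2 := by
  classical
  obtain ⟨n, hn, ⟨e⟩⟩ := hs
  set m := Module.finrank k k' with hm
  have hmpos : 0 < m := Module.finrank_pos
  have : NeZero m := ⟨hmpos.ne'⟩
  have : NeZero n := ⟨hn⟩
  have hfrA : Module.finrank k A = n * n := by
    have h1 : Module.finrank k' (k' ⊗[k] A) = Module.finrank k A := Module.finrank_baseChange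
    rw [← h1, e.toLinearEquiv.finrank_eq, Module.finrank_matrix]; simp
  let bas : Module.Basis (Fin m) k k' := Module.finBasis k k'
  -- `k' → M_m(A)`
  let κ : k' →ₐ[k] Matrix (Fin m) (Fin m) A :=
    ((Algebra.ofId k A).mapMatrix).comp (Algebra.leftMulMatrix bas)
  -- `k' ⊗ A → M_m(A)`
  let j : k' ⊗[k] A →ₐ[k] Matrix (Fin m) (Fin m) A :=
    Algebra.TensorProduct.lift κ (Matrix.scalarAlgHom (Fin m) k) (fun c a => by
      show κ c * Matrix.scalar (Fin m) a = Matrix.scalar (Fin m) a * κ c
      ext i i'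
      simp only [Matrix.scalar_apply, Matrix.mul_diagonal, Matrix.diagonal_mul]
      exact (Algebra.commutes _ a))
  -- `M_n(k) → M_m(A)`
  let ψ : Matrix (Fin n) (Fin n) k →ₐ[k] Matrix (Fin m) (Fin m) A :=
    (j.comp (e.symm.restrictScalars k).toAlgHom).comp (Algebra.ofId k k').mapMatrix
  have hψinj : Function.Injective ψ := by
    have := RingHom.injective ψ.toRingHom
    exact this
  let P : Subalgebra k (Matrix (Fin m) (Fin m) A) := ψ.range
  let eP : Matrix (Fin n) (Fin n) k ≃ₐ[k] P := AlgEquiv.ofInjective ψ hψinj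
  have hPsimple : IsSimpleRing P := IsSimpleRing.of_ringEquiv eP.toRingEquiv inferInstance
  have hPcentral : Algebra.IsCentral k P := isCentral_of_algEquiv k _ _ eP
  let Bsub : Subalgebra k (Matrix (Fin m) (Fin m) A) := Subalgebra.centralizer k (P : Set _)
  have hBsimple : IsSimpleRing Bsub := isSimpleRing_centralizer k _ P
  have hfr := finrank_centralizer k (Matrix (Fin m) (Fin m) A) P
  have hfrP : Module.finrank k P = n * n := by
    rw [← eP.toLinearEquiv.finrank_eq, Module.finrank_matrix]; simp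
  have hfrB : Module.finrank k Bsub = m ^ 2 := by
    rw [Module.finrank_matrix, hfrA, hfrP] at hfr
    simp only [Fintype.card_fin] at hfr
    have hnn : 0 < n * n := Nat.mul_pos (Nat.pos_of_ne_zero hn) (Nat.pos_of_ne_zero hn)
    have : n * n * (m ^ 2) = n * n * Module.finrank k Bsub := by rw [← hfr]; ring
    exact (Nat.eq_of_mul_eq_mul_left hnn this).symm
  have hBcentral : Algebra.IsCentral k Bsub := by
    constructor
    intro z hz
    rw [Subalgebra.mem_center_iff] at hz
    have hzP : (z : Matrix (Fin m) (Fin m) A) ∈ P := by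
      rw [← centralizer_centralizer k _ P]
      rw [Subalgebra.mem_centralizer_iff]
      intro g hg
      have := hz ⟨g, hg⟩
      exact congrArg Subtype.val this
    have hzc : (⟨z, hzP⟩ : P) ∈ Subalgebra.center k P := by
      rw [Subalgebra.mem_center_iff]
      intro g
      apply Subtype.ext
      exact (Subalgebra.mem_centralizer_iff k).mp z.2 g g.2
    obtain ⟨t, ht⟩ := (Algebra.IsCentral.mem_center_iff k).mp hzc
    rw [Algebra.mem_bot]
    refine ⟨t, ?_⟩
    apply Subtype.ext
    have := congrArg Subtype.val ht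
    exact this.symm
  -- `k' → B`
  have hκmem : ∀ c : k', κ c ∈ Bsub := by
    intro c
    rw [Subalgebra.mem_centralizer_iff]
    rintro _ ⟨M, rfl⟩
    have h1 : κ c = j (c ⊗ₜ[k] (1 : A)) := by simp [j]
    have h2 : ψ.toRingHom M = j (e.symm ((Algebra.ofId k k').mapMatrix M)) := rfl
    rw [h1, h2, ← map_mul, ← map_mul]
    congr 1
    have : c ⊗ₜ[k] (1 : A) = algebraMap k' (k' ⊗[k] A) c := by
      rw [Algebra.TensorProduct.algebraMap_apply]; rfl
    rw [this]
    exact (Algebra.commutes c _).symm
  let ι : k' →ₐ[k] Bsub := κ.codRestrict Bsub hκmem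
  -- `M_m(A) ≃ P ⊗ B ≃ M_n(B)`
  let eT : P ⊗[k] Bsub ≃ₐ[k] Matrix (Fin m) (Fin m) A :=
    AlgEquiv.ofBijective _ (tensor_centralizer_bijective k (Matrix (Fin m) (Fin m) A) P)
  let eM : Matrix (Fin m) (Fin m) A ≃ₐ[k] Matrix (Fin n) (Fin n) Bsub :=
    eT.symm.trans <| (Algebra.TensorProduct.congr eP.symm (AlgEquiv.refl : Bsub ≃ₐ[k] Bsub)).trans <|
      (Algebra.TensorProduct.comm k _ _).trans (matrixEquivTensor (Fin n) k Bsub).symm
  exact ⟨Bsub, hBsimple, hBcentral, ι, n, hn, hmpos.ne', ⟨eM⟩, hfrB⟩

end Groth.Agent.Lib.helper1.CSA
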