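import Mathlib
import Groth.Prelude.Def_GSzCSA

/-!
# Tensor powers: `tpow k A (e+1) ≃ₐ A ⊗ tpow k A e` (helper library of seat helper1)
-/

set_option autoImplicit false
universe u v

namespace Groth.Agent.Lib.helper1.Tpow

open TensorProduct PiTensorProduct

variable (k : Type u) [Field k] (A : Type v) [Ring A] [Algebra k A]

/-- The index equivalence `Fin 1 ⊕ Fin e ≃ Fin (e + 1)`. -/
def idx (e : ℕ) : Fin 1 ⊕ Fin e ≃ Fin (e + 1) :=
  finSumFinEquiv.trans (finCongr (Nat.add_comm 1 e))

/-- The linear equivalence `A ⊗ tpow k A e ≃ tpow k A (e+1)`. -/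
noncomputable def succLinearEquiv (e : ℕ) :
    A ⊗[k] CSAGal.tpow k A e ≃ₗ[k] CSAGal.tpow k A (e + 1) :=
  (TensorProduct.congr (subsingletonEquiv (R := k) (s := fun _ : Fin 1 => A) (0 : Fin 1)).symm
      (LinearEquiv.refl k (CSAGal.tpow k A e))) ≪≫ₗ
    (tmulEquiv k A) ≪≫ₗ (reindex k (fun _ => A) (idx e))

theorem succLinearEquiv_tmul_tprod (e : ℕ) (a : A) (g : Fin e → A) :
    succLinearEquiv k A e (a ⊗ₜ[k] tprod k g) =
      tprod k (fun i => Sum.elim (fun _ : Fin 1 => a) g ((idx e).symm i)) := by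
  simp [succLinearEquiv]

/-- The algebra isomorphism `A ⊗ tpow k A e ≃ₐ tpow k A (e+1)`. -/
noncomputable def succAlgEquiv (e : ℕ) :
    A ⊗[k] CSAGal.tpow k A e ≃ₐ[k] CSAGal.tpow k A (e + 1) :=
  AlgEquiv.ofLinearEquiv (succLinearEquiv k A e)
    (by
      rw [Algebra.TensorProduct.one_def, PiTensorProduct.one_def, succLinearEquiv_tmul_tprod,
        PiTensorProduct.one_def]
      congr 1
      funext i
      rcases (idx e).symm i with j | j <;> rfl)
    ((LinearMap.map_mul_iff _).mpr <| by
      ext a g a' g'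
      simp only [LinearMap.compr₂_apply, LinearMap.compl₂_apply, LinearMap.mul_apply',
        LinearMap.coe_comp, Function.comp_apply, AlgebraTensorModule.curry_apply,
        TensorProduct.curry_apply, LinearMap.coe_restrictScalars,
        LinearMap.compMultilinearMap_apply, LinearEquiv.coe_coe,
        Algebra.TensorProduct.tmul_mul_tmul, tprod_mul_tprod, succLinearEquiv_tmul_tprod]
      congr 1
      funext i
      simp only [Pi.mul_apply]
      generalize (idx e).symm i = s
      cases s <;> rfl)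

end Groth.Agent.Lib.helper1.Tpow
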