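import Mathlib
import Groth.Agent.Lib.helper1.CSA8
import Groth.Agent.Lib.helper1.Tpow

/-!
# Brauer equivalence of (unbundled) algebras, tensor powers (helper library of seat helper1)
-/

set_option autoImplicit false
set_option linter.dupNamespace false
universe u v w w' w''

namespace Groth.Agent.Lib.helper1.BrEq

open TensorProduct

/-- Brauer equivalence of unbundled algebras: matrix algebras of positive sizes are isomorphic. -/
def BrEq (k : Type u) [Field k] (X : Type v) (Y : Type w) [Ring X] [Algebra k X] [Ring Y]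
    [Algebra k Y] : Prop :=
  ∃ n m : ℕ, n ≠ 0 ∧ m ≠ 0 ∧
    Nonempty (Matrix (Fin n) (Fin n) X ≃ₐ[k] Matrix (Fin m) (Fin m) Y)

variable {k : Type u} [Field k] {X : Type v} {Y : Type w} {Z : Type w'} [Ring X] [Algebra k X]
  [Ring Y] [Algebra k Y] [Ring Z] [Algebra k Z]

theorem BrEq.of_algEquiv (e : X ≃ₐ[k] Y) : BrEq k X Y :=
  ⟨1, 1, one_ne_zero, one_ne_zero, ⟨e.mapMatrix⟩⟩

theorem BrEq.symm (h : BrEq k X Y) : BrEq k Y X :=
  let ⟨n, m, hn, hm, ⟨iso⟩⟩ := h
  ⟨m, n, hm, hn, ⟨iso.symm⟩⟩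

open Matrix in
theorem BrEq.trans (hAB : BrEq k X Y) (hBC : BrEq k Y Z) : BrEq k X Z := by
  obtain ⟨n, m, hn, hm, ⟨iso1⟩⟩ := hAB
  obtain ⟨p, q, hp, hq, ⟨iso2⟩⟩ := hBC
  exact ⟨p * n, m * q, by simp_all, by simp_all,
    ⟨reindexAlgEquiv _ _ finProdFinEquiv |>.symm.trans <| compAlgEquiv _ _ _ _|>.symm.trans <|
    iso1.mapMatrix (m := Fin p)|>.trans <| compAlgEquiv _ _ _ _|>.trans <|
    reindexAlgEquiv k Y (.prodComm (Fin p) (Fin m))|>.trans <| compAlgEquiv _ _ _ _|>.symm.trans <|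
    iso2.mapMatrix.trans <| compAlgEquiv _ _ _ _|>.trans <| reindexAlgEquiv _ _ finProdFinEquiv⟩⟩

/-- `M_n(T ⊗ X) ≃ T ⊗ M_n(X)`. -/
noncomputable def matrixTensor (T : Type w'') [Ring T] [Algebra k T] (n : ℕ) :
    Matrix (Fin n) (Fin n) (T ⊗[k] X) ≃ₐ[k] T ⊗[k] Matrix (Fin n) (Fin n) X :=
  (matrixEquivTensor (Fin n) k (T ⊗[k] X)).trans <|
    (Algebra.TensorProduct.assoc k k k T X (Matrix (Fin n) (Fin n) k)).trans <|
      Algebra.TensorProduct.congr AlgEquiv.refl (matrixEquivTensor (Fin n) k X).symm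

theorem BrEq.tensor_left (T : Type w'') [Ring T] [Algebra k T] (h : BrEq k X Y) :
    BrEq k (T ⊗[k] X) (T ⊗[k] Y) := by
  obtain ⟨n, m, hn, hm, ⟨iso⟩⟩ := h
  exact ⟨n, m, hn, hm, ⟨(matrixTensor T n).trans <|
    (Algebra.TensorProduct.congr AlgEquiv.refl iso).trans (matrixTensor T m).symm⟩⟩

theorem BrEq.splits [Algebra.IsCentral k X] [IsSimpleRing X] [FiniteDimensional k X]
    (h : BrEq k X Y) (L : Type w'') [Field L] [Algebra k L] (hY : Curves.Splits k Y L) :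
    Curves.Splits k X L := by
  obtain ⟨n, m, hn, hm, ⟨iso⟩⟩ := h
  exact Groth.Agent.Lib.helper1.CSA.splits_of_matrix_algEquiv k L X Y n m hn hm iso hY

section tpow

open Groth.Agent.Lib.helper1.Tpow

variable (k : Type u) [Field k] (A : Type v) [Ring A] [Algebra k A]

/-- `tpow k A 0 ≃ₐ k`. -/
noncomputable def tpowZeroAlgEquiv : CSAGal.tpow k A 0 ≃ₐ[k] k :=
  AlgEquiv.ofLinearEquiv (PiTensorProduct.isEmptyEquiv (Fin 0))
    (by rw [PiTensorProduct.one_def, PiTensorProduct.isEmptyEquiv_apply_tprod])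
    ((LinearMap.map_mul_iff _).mpr <| by
      ext x y
      simp)

/-- `tpow k A 1 ≃ₐ A`. -/
noncomputable def tpowOneAlgEquiv : CSAGal.tpow k A 1 ≃ₐ[k] A :=
  (succAlgEquiv k A 0).symm.trans <|
    (Algebra.TensorProduct.congr AlgEquiv.refl (tpowZeroAlgEquiv k A)).trans
      (Algebra.TensorProduct.rid k k A)

theorem csa_tpow [Algebra.IsCentral k A] [IsSimpleRing A] [FiniteDimensional k A] (e : ℕ) :
    Algebra.IsCentral k (CSAGal.tpow k A e) ∧ IsSimpleRing (CSAGal.tpow k A e) ∧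
      FiniteDimensional k (CSAGal.tpow k A e) := by
  induction e with
  | zero =>
    refine ⟨?_, ?_, ?_⟩
    · exact Groth.Agent.Lib.helper1.CSA.isCentral_of_algEquiv k k _ (tpowZeroAlgEquiv k A).symm
    · exact IsSimpleRing.of_ringEquiv (tpowZeroAlgEquiv k A).symm.toRingEquiv inferInstance
    · exact Module.Finite.equiv (tpowZeroAlgEquiv k A).symm.toLinearEquiv
  | succ e ih =>
    obtain ⟨h1, h2, h3⟩ := ih
    have hnt : Nontrivial (CSAGal.tpow k A e) := inferInstance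
    have c1 : Algebra.IsCentral k (A ⊗[k] CSAGal.tpow k A e) :=
      Groth.Agent.Lib.helper1.CSA.isCentral_tensor k (CSAGal.tpow k A e) A
    have c2 : IsSimpleRing (A ⊗[k] CSAGal.tpow k A e) :=
      Groth.Agent.Lib.helper17.CSA.isSimpleRing_tensor k (CSAGal.tpow k A e) A
    refine ⟨?_, ?_, ?_⟩
    · exact Groth.Agent.Lib.helper1.CSA.isCentral_of_algEquiv k _ _ (succAlgEquiv k A e)
    · exact IsSimpleRing.of_ringEquiv (succAlgEquiv k A e).toRingEquiv inferInstance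
    · exact Module.Finite.equiv (succAlgEquiv k A e).toLinearEquiv

end tpow

end Groth.Agent.Lib.helper1.BrEq
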