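import Mathlib
import Groth.Prelude

/-!
# Descent of a central division algebra to a finitely generated subfield (helper1)
-/

set_option autoImplicit false
set_option linter.unusedSectionVars false
set_option linter.dupNamespace false
universe u v w

namespace Groth.Agent.Lib.helper1.BrSep

open TensorProduct

/-- A matrix algebra which is a division ring has size one. -/
theorem finrank_eq_one_of_algEquiv_matrix (F : Type u) [Field F] (D : Type v) [DivisionRing D]
    [Algebra F D] (n : ℕ) (e : D ≃ₐ[F] Matrix (Fin n) (Fin n) F) : Module.finrank F D = 1 := by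
  have hn : n = 1 := by
    rcases Nat.lt_or_ge n 2 with h | h
    · interval_cases n
      · exfalso
        have : e 1 = e 0 := Subsingleton.elim _ _
        exact one_ne_zero (e.injective this)
      · rfl
    · exfalso
      obtain ⟨m, rfl⟩ : ∃ m, n = m + 2 := ⟨n - 2, by omega⟩
      let x : Matrix (Fin (m + 2)) (Fin (m + 2)) F := Matrix.single 0 1 1
      have hx : x ≠ 0 := by
        intro h0
        have := congrFun (congrFun h0 0) 1
        simp [x] at this
      have hxx : x * x = 0 := by
        simp [x]
      have h1 : e.symm x * e.symm x = 0 := by rw [← map_mul, hxx, map_zero]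
      have h2 : e.symm x = 0 := by
        rcases mul_self_eq_zero.mp h1 with h
        exact h
      exact hx (by simpa using congrArg e h2)
  subst hn
  rw [e.toLinearEquiv.finrank_eq, Module.finrank_matrix]
  simp

/-- Descent: a central division algebra over an algebraic extension `F'` of `K` which becomes a
matrix algebra whenever it is defined over a finite subextension, is trivial. -/
theorem finrank_eq_one_of_descent (K F' : Type u) [Field K] [Field F'] [Algebra K F']
    [Algebra.IsAlgebraic K F']
    (D : Type u) [DivisionRing D] [Algebra F' D] [Algebra.IsCentral F' D] [FiniteDimensional F' D]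
    (hb : ∀ (E : IntermediateField K F') (_ : FiniteDimensional K E) (D₀ : Type u)
      [DivisionRing D₀] [Algebra E D₀] [Algebra.IsCentral E D₀] [FiniteDimensional E D₀],
      ∃ n : ℕ, Nonempty (F' ⊗[E] D₀ ≃ₐ[F'] Matrix (Fin n) (Fin n) F')) :
    Module.finrank F' D = 1 := by
  classical
  set N := Module.finrank F' D with hN
  let b : Module.Basis (Fin N) F' D := Module.finBasis F' D
  let S : Set F' := (Set.range fun ijl : Fin N × Fin N × Fin N =>
      b.repr (b ijl.1 * b ijl.2.1) ijl.2.2) ∪ Set.range (fun l => b.repr 1 l)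
  have hSfin : S.Finite := (Set.finite_range _).union (Set.finite_range _)
  haveI : Finite S := hSfin
  let E : IntermediateField K F' := IntermediateField.adjoin K S
  haveI hEfin : FiniteDimensional K E :=
    IntermediateField.finiteDimensional_adjoin (fun x _ => Algebra.IsIntegral.isIntegral x)
  have hc : ∀ i j l, b.repr (b i * b j) l ∈ E := fun i j l =>
    IntermediateField.subset_adjoin K S (Or.inl ⟨(i, j, l), rfl⟩)
  have hu : ∀ l, b.repr 1 l ∈ E := fun l =>
    IntermediateField.subset_adjoin K S (Or.inr ⟨l, rfl⟩)
  have hsmul : ∀ (e : E) (d : D), e • d = (e : F') • d := fun e d => rfl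
  let P : Submodule E D := Submodule.span E (Set.range b)
  have hbP : ∀ i, b i ∈ P := fun i => Submodule.subset_span ⟨i, rfl⟩
  have h_one : (1 : D) ∈ P := by
    rw [← b.sum_repr 1]
    refine Submodule.sum_mem _ fun l _ => ?_
    have : b.repr 1 l • b l = (⟨b.repr 1 l, hu l⟩ : E) • b l := rfl
    rw [this]
    exact Submodule.smul_mem _ _ (hbP l)
  have h_bb : ∀ i j, b i * b j ∈ P := by
    intro i j
    rw [← b.sum_repr (b i * b j)]
    refine Submodule.sum_mem _ fun l _ => ?_
    have : b.repr (b i * b j) l • b l = (⟨b.repr (b i * b j) l, hc i j l⟩ : E) • b l := rfl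
    rw [this]
    exact Submodule.smul_mem _ _ (hbP l)
  have h_mul : ∀ x y, x ∈ P → y ∈ P → x * y ∈ P := by
    intro x y hx hy
    have h1 : P * P ≤ P := by
      show Submodule.span E (Set.range b) * Submodule.span E (Set.range b) ≤ P
      rw [Submodule.span_mul_span]
      apply Submodule.span_le.2
      rintro _ ⟨_, ⟨i, rfl⟩, _, ⟨j, rfl⟩, rfl⟩
      exact h_bb i j
    exact h1 (Submodule.mul_mem_mul hx hy)
  let D₀ : Subalgebra E D := P.toSubalgebra h_one h_mul
  have hmemD₀ : ∀ x : D, x ∈ D₀ ↔ x ∈ P := fun x => Iff.rfl
  -- E-linear independence of b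
  have hliE : LinearIndependent E b := by
    have := b.linearIndependent
    refine this.restrict_scalars ?_
    intro e e' h
    have h1 : (e : F') = e' := by simpa [Algebra.smul_def] using h
    exact Subtype.ext h1
  haveI : FiniteDimensional E D₀ := by
    have : FiniteDimensional E P := FiniteDimensional.span_of_finite E (Set.finite_range b)
    exact this
  have hfrD₀ : Module.finrank E D₀ = N := by
    have h1 : Module.finrank E P = N := by
      have := finrank_span_eq_card hliE
      simpa using this
    exact h1
  -- division ring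
  haveI : IsDomain D₀ := inferInstance
  letI : DivisionRing D₀ := divisionRingOfFiniteDimensional E D₀
  -- central
  haveI : Algebra.IsCentral E D₀ := by
    constructor
    intro x hx
    rw [Subalgebra.mem_center_iff] at hx
    -- x commutes with all b i
    have hxb : ∀ i, (x : D) * b i = b i * (x : D) := by
      intro i
      have := hx ⟨b i, hbP i⟩
      have h2 := congrArg Subtype.val this
      exact h2.symm
    have hxc : (x : D) ∈ Subalgebra.center F' D := by
      rw [Subalgebra.mem_center_iff]
      intro d
      rw [← b.sum_repr d, Finset.sum_mul, Finset.mul_sum]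
      refine Finset.sum_congr rfl fun i _ => ?_
      rw [smul_mul_assoc, mul_smul_comm, hxb i]
    have hxbot := Algebra.IsCentral.out hxc
    obtain ⟨f, hf⟩ := Algebra.mem_bot.mp hxbot
    -- f ∈ E
    obtain ⟨l, hl⟩ : ∃ l, b.repr 1 l ≠ 0 := by
      by_contra hcon
      push Not at hcon
      have : (1 : D) = 0 := by
        rw [← b.sum_repr 1]
        simp [hcon]
      exact one_ne_zero this
    have hxP : (x : D) ∈ P := x.2
    -- coordinates of x w.r.t. b lie in E
    have hcoord : ∀ y ∈ P, ∀ l, b.repr y l ∈ E := by
      intro y hy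
      refine Submodule.span_induction (p := fun y _ => ∀ l, b.repr y l ∈ E) ?_ ?_ ?_ ?_ hy
      · rintro _ ⟨i, rfl⟩ l
        rw [b.repr_self]
        by_cases h : i = l
        · subst h; simp
        · simp [Finsupp.single_apply, h]
      · intro l; simp
      · intro y z _ _ hy hz l
        rw [map_add, Finsupp.add_apply]
        exact add_mem (hy l) (hz l)
      · intro e y _ hy l
        rw [hsmul, map_smul, Finsupp.smul_apply, smul_eq_mul]
        exact mul_mem e.2 (hy l)
    have h3 : b.repr (x : D) l = f * b.repr 1 l := by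
      rw [← hf, Algebra.algebraMap_eq_smul_one, map_smul, Finsupp.smul_apply, smul_eq_mul]
    have hfE : f ∈ E := by
      have h4 : f = b.repr (x : D) l * (b.repr 1 l)⁻¹ := by
        rw [h3, mul_assoc, mul_inv_cancel₀ hl, mul_one]
      rw [h4]
      exact mul_mem (hcoord _ hxP l) (inv_mem (hu l))
    rw [Algebra.mem_bot]
    refine ⟨⟨f, hfE⟩, ?_⟩
    apply Subtype.ext
    rw [← hf]
    rfl
  obtain ⟨n, ⟨e⟩⟩ := hb E hEfin D₀
  -- the comparison map
  let ψ : F' ⊗[E] D₀ →ₐ[F'] D :=
    Algebra.TensorProduct.lift (Algebra.ofId F' D) D₀.val (fun f d => Algebra.commutes f _)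
  have hψsurj : Function.Surjective ψ := by
    intro d
    have hd : d ∈ (⊤ : Submodule F' D) := Submodule.mem_top
    rw [← b.span_eq] at hd
    refine Submodule.span_induction (p := fun d _ => ∃ t, ψ t = d) ?_ ?_ ?_ ?_ hd
    · rintro _ ⟨i, rfl⟩
      exact ⟨1 ⊗ₜ ⟨b i, hbP i⟩, by simp [ψ]⟩
    · exact ⟨0, map_zero _⟩
    · rintro x y _ _ ⟨t, rfl⟩ ⟨t', rfl⟩
      exact ⟨t + t', map_add _ _ _⟩
    · rintro f x _ ⟨t, rfl⟩
      exact ⟨f • t, map_smul _ _ _⟩
  have hfr : Module.finrank F' (F' ⊗[E] D₀) = Module.finrank F' D := by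
    rw [Module.finrank_baseChange, hfrD₀]
  have hψinj : Function.Injective ψ :=
    (LinearMap.injective_iff_surjective_of_finrank_eq_finrank (f := ψ.toLinearMap) hfr).2 hψsurj
  let ψe : F' ⊗[E] D₀ ≃ₐ[F'] D := AlgEquiv.ofBijective ψ ⟨hψinj, hψsurj⟩
  exact finrank_eq_one_of_algEquiv_matrix F' D n (ψe.symm.trans e)

end Groth.Agent.Lib.helper1.BrSep
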