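import Mathlib
import Groth.Agent.Lib.helper1.CSA2

/-!
# Separable maximal subfields of central division algebras (helper library of seat helper1)
-/

set_option autoImplicit false
universe u v w

namespace Groth.Agent.Lib.helper1.CSA

open TensorProduct

section zoo

variable {k : Type u} [Field k] {D : Type v} [DivisionRing D] [Algebra k D] [FiniteDimensional k D]

/-- A commutative subalgebra of a finite-dimensional division algebra is a field. -/
@[reducible] noncomputable def fieldOfComm (L : Subalgebra k D)
    (hL : ∀ x ∈ L, ∀ y ∈ L, x * y = y * x) : Field L :=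
  { divisionRingOfFiniteDimensional k L with
    mul_comm := fun a b => Subtype.ext (hL a a.2 b b.2) }

/-- A subalgebra of a finite-dimensional division algebra is a division ring. -/
@[reducible] noncomputable def divisionRingOfSubalgebra (C : Subalgebra k D) : DivisionRing C :=
  divisionRingOfFiniteDimensional k C

end zoo

section sep

/-- A subalgebra all of whose elements are separable is a separable algebra. -/
theorem algebra_isSeparable_subalgebra {k : Type u} {A : Type v} [Field k] [Ring A] [Algebra k A]
    (N : Subalgebra k A) (h : ∀ y ∈ N, IsSeparable k y) : Algebra.IsSeparable k N :=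
  ⟨fun y => by
    have := h y.1 y.2
    unfold IsSeparable at this ⊢
    rwa [← minpoly.algHom_eq N.val Subtype.val_injective]⟩

theorem isSeparable_of_mem_subalgebra {k : Type u} {A : Type v} [Field k] [Ring A] [Algebra k A]
    (N : Subalgebra k A) [h : Algebra.IsSeparable k N] (y : A) (hy : y ∈ N) : IsSeparable k y := by
  have := Algebra.IsSeparable.isSeparable k (⟨y, hy⟩ : N)
  unfold IsSeparable at this ⊢
  rwa [← minpoly.algHom_eq N.val Subtype.val_injective] at this

/-- A field generated by one separable element is separable. -/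
theorem algebra_isSeparable_of_adjoin_eq_top (F : Type u) (K : Type v) [Field F] [Field K]
    [Algebra F K] (x : K) (hx : IsSeparable F x) (htop : Algebra.adjoin F {x} = ⊤) :
    Algebra.IsSeparable F K := by
  refine (separableClosure.eq_top_iff F K).1 ?_
  rw [← IntermediateField.toSubalgebra_inj, IntermediateField.top_toSubalgebra, eq_top_iff,
    ← htop]
  apply Algebra.adjoin_le
  intro z hz
  rw [Set.mem_singleton_iff] at hz
  rw [hz]
  exact hx

/-- Abstract step: in a tower `k ⊆ L ⊆ C` with `L/k` separable field extension, `C` a division ring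
finite over `L`, and `x : C` separable over `L`, every element of `L[x]` is separable over `k`. -/
theorem isSeparable_of_mem_adjoin (k : Type u) (L : Type v) (C : Type w) [Field k] [Field L]
    [Algebra k L] [Algebra.IsSeparable k L] [DivisionRing C] [Algebra k C] [Algebra L C]
    [IsScalarTower k L C] [FiniteDimensional L C] (x : C) (hx : IsSeparable L x)
    (y : C) (hy : y ∈ Algebra.adjoin L {x}) : IsSeparable k y := by
  have hcomm : ∀ a ∈ ({x} : Set C), ∀ b ∈ ({x} : Set C), a * b = b * a := by
    intro a ha b hb
    rw [Set.mem_singleton_iff] at ha hb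
    rw [ha, hb]
  have hcomm' : ∀ a ∈ Algebra.adjoin L {x}, ∀ b ∈ Algebra.adjoin L {x}, a * b = b * a := by
    intro a ha b hb
    exact congrArg Subtype.val
      ((Algebra.isMulCommutative_adjoin L hcomm).is_comm.comm ⟨a, ha⟩ ⟨b, hb⟩)
  letI : Field (Algebra.adjoin L {x}) := fieldOfComm (Algebra.adjoin L {x}) hcomm'
  -- `K/L` is separable
  have hsepK : Algebra.IsSeparable L (Algebra.adjoin L {x}) := by
    refine algebra_isSeparable_of_adjoin_eq_top L (Algebra.adjoin L {x})
      ⟨x, Algebra.self_mem_adjoin_singleton L x⟩ ?_ ?_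
    · unfold IsSeparable at hx ⊢
      rwa [← minpoly.algHom_eq (Algebra.adjoin L {x}).val Subtype.val_injective]
    · have hset : ({⟨x, Algebra.self_mem_adjoin_singleton L x⟩} : Set (Algebra.adjoin L {x})) =
          Subtype.val ⁻¹' {x} := by
        ext z
        simp [Subtype.ext_iff]
      rw [hset]
      exact Algebra.adjoin_adjoin_coe_preimage (R := L) (s := ({x} : Set C))
  haveI : IsScalarTower k L (Algebra.adjoin L {x}) := IsScalarTower.of_algebraMap_eq (fun a => by
    apply Subtype.ext
    exact IsScalarTower.algebraMap_apply k L C a)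
  have hsep : Algebra.IsSeparable k (Algebra.adjoin L {x}) :=
    Algebra.IsSeparable.trans k L (Algebra.adjoin L {x})
  have := Algebra.IsSeparable.isSeparable k (⟨y, hy⟩ : Algebra.adjoin L {x})
  unfold IsSeparable at this ⊢
  rwa [← minpoly.algHom_eq ((Algebra.adjoin L {x}).val.restrictScalars k)
    Subtype.val_injective] at this

end sep

section main

variable (k : Type u) [Field k] (D : Type v) [DivisionRing D] [Algebra k D]
  [Algebra.IsCentral k D] [FiniteDimensional k D]

/-- Key step: a separable commutative subalgebra which is not maximal commutative can be enlarged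
to a bigger separable commutative subalgebra (Jacobson–Noether applied to the centraliser). -/
theorem exists_separable_extension (L L' : Subalgebra k D)
    (hL : ∀ x ∈ L, ∀ y ∈ L, x * y = y * x) (hsep : ∀ x ∈ L, IsSeparable k x)
    (hL' : ∀ x ∈ L', ∀ y ∈ L', x * y = y * x) (hlt : L < L') :
    ∃ N : Subalgebra k D, (∀ x ∈ N, ∀ y ∈ N, x * y = y * x) ∧ (∀ x ∈ N, IsSeparable k x) ∧
      L < N := by
  letI : Field L := fieldOfComm L hL
  letI : DivisionRing (Subalgebra.centralizer k (L : Set D)) := divisionRingOfSubalgebra _
  have hLC : L ≤ Subalgebra.centralizer k (L : Set D) := fun x hx => by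
    rw [Subalgebra.mem_centralizer_iff]
    intro y hy
    exact hL y hy x hx
  have hL'C : L' ≤ Subalgebra.centralizer k (L : Set D) := fun x hx => by
    rw [Subalgebra.mem_centralizer_iff]
    intro y hy
    exact hL' y (hlt.le hy) x hx
  letI : Algebra L (Subalgebra.centralizer k (L : Set D)) :=
    RingHom.toAlgebra' (Subalgebra.inclusion hLC).toRingHom (fun a c => by
      apply Subtype.ext
      have := c.2
      rw [Subalgebra.mem_centralizer_iff] at this
      exact this a a.2)
  have halg : ∀ a : L, ((algebraMap L (Subalgebra.centralizer k (L : Set D)) a : 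
      Subalgebra.centralizer k (L : Set D)) : D) = a := fun a => rfl
  haveI : IsScalarTower k L (Subalgebra.centralizer k (L : Set D)) :=
    IsScalarTower.of_algebraMap_eq (fun a => by
      apply Subtype.ext
      rfl)
  haveI : Module.Finite L (Subalgebra.centralizer k (L : Set D)) :=
    Module.Finite.of_restrictScalars_finite k L _
  haveI : Algebra.IsAlgebraic L (Subalgebra.centralizer k (L : Set D)) :=
    Algebra.IsAlgebraic.of_finite L _
  haveI : Algebra.IsSeparable k L := algebra_isSeparable_subalgebra L hsep
  haveI : Algebra.IsCentral L (Subalgebra.centralizer k (L : Set D)) := by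
    constructor
    intro c hc
    rw [Subalgebra.mem_center_iff] at hc
    have hcL : (c : D) ∈ L := by
      have hcc : (c : D) ∈ Subalgebra.centralizer k
          (Subalgebra.centralizer k (L : Set D) : Set D) := by
        rw [Subalgebra.mem_centralizer_iff]
        intro g hg
        exact congrArg Subtype.val (hc ⟨g, hg⟩)
      rwa [centralizer_centralizer k D L] at hcc
    rw [Algebra.mem_bot]
    exact ⟨⟨c, hcL⟩, Subtype.ext rfl⟩
  obtain ⟨y, hyL', hyL⟩ := SetLike.exists_of_lt hlt
  have hne : (⊥ : Subalgebra L (Subalgebra.centralizer k (L : Set D))) ≠ ⊤ := by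
    intro h
    have : (⟨y, hL'C hyL'⟩ : Subalgebra.centralizer k (L : Set D)) ∈
        (⊥ : Subalgebra L (Subalgebra.centralizer k (L : Set D))) := by
      rw [h]; exact Algebra.mem_top
    rw [Algebra.mem_bot] at this
    obtain ⟨a, ha⟩ := this
    apply hyL
    have := congrArg Subtype.val ha
    rw [halg] at this
    simp only at this
    rw [← this]
    exact a.2
  obtain ⟨x, hxbot, hxsep⟩ := JacobsonNoether.exists_separable_and_not_isCentral' hne
  refine ⟨((Algebra.adjoin L {x}).restrictScalars k).map
    (Subalgebra.centralizer k (L : Set D)).val, ?_, ?_, ?_⟩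
  · intro a ha b hb
    rw [Subalgebra.mem_map] at ha hb
    obtain ⟨a', ha', rfl⟩ := ha
    obtain ⟨b', hb', rfl⟩ := hb
    rw [Subalgebra.mem_restrictScalars] at ha' hb'
    have hcomm : ∀ a ∈ ({x} : Set (Subalgebra.centralizer k (L : Set D))),
        ∀ b ∈ ({x} : Set (Subalgebra.centralizer k (L : Set D))), a * b = b * a := by
      intro a ha b hb
      rw [Set.mem_singleton_iff] at ha hb
      rw [ha, hb]
    have := congrArg Subtype.val
      ((Algebra.isMulCommutative_adjoin L hcomm).is_comm.comm ⟨a', ha'⟩ ⟨b', hb'⟩)
    rw [← map_mul, ← map_mul]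
    exact congrArg _ this
  · intro a ha
    rw [Subalgebra.mem_map] at ha
    obtain ⟨a', ha', rfl⟩ := ha
    rw [Subalgebra.mem_restrictScalars] at ha'
    have := isSeparable_of_mem_adjoin k L (Subalgebra.centralizer k (L : Set D)) x hxsep a' ha'
    unfold IsSeparable at this ⊢
    rwa [minpoly.algHom_eq (Subalgebra.centralizer k (L : Set D)).val Subtype.val_injective]
  · rw [SetLike.lt_iff_le_and_exists]
    refine ⟨fun l hl => ?_, (x : D), ?_, ?_⟩
    · rw [Subalgebra.mem_map]
      refine ⟨algebraMap L (Subalgebra.centralizer k (L : Set D)) ⟨l, hl⟩, ?_, rfl⟩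
      rw [Subalgebra.mem_restrictScalars]
      exact Subalgebra.algebraMap_mem _ _
    · rw [Subalgebra.mem_map]
      exact ⟨x, Algebra.self_mem_adjoin_singleton L x, rfl⟩
    · intro hxL
      apply hxbot
      rw [Algebra.mem_bot]
      exact ⟨⟨x, hxL⟩, Subtype.ext rfl⟩

/-- A finite central division algebra contains a maximal commutative subalgebra which is
separable over the base field. -/
theorem exists_separable_maximal_comm :
    ∃ L : Subalgebra k D, (∀ x ∈ L, ∀ y ∈ L, x * y = y * x) ∧
      (∀ L' : Subalgebra k D, (∀ x ∈ L', ∀ y ∈ L', x * y = y * x) → L ≤ L' → L' = L) ∧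
      Algebra.IsSeparable k L := by
  haveI : WellFoundedGT (Subalgebra k D) :=
    (Subalgebra.toSubmodule (R := k) (A := D)).strictMono.wellFoundedGT
  let S : Set (Subalgebra k D) :=
    {L | (∀ x ∈ L, ∀ y ∈ L, x * y = y * x) ∧ ∀ x ∈ L, IsSeparable k x}
  have hne : S.Nonempty := by
    refine ⟨⊥, ?_, ?_⟩
    · intro x hx y _
      rw [Algebra.mem_bot] at hx
      obtain ⟨a, rfl⟩ := hx
      exact Algebra.commutes a y
    · intro x hx
      rw [Algebra.mem_bot] at hx
      obtain ⟨a, rfl⟩ := hx
      exact isSeparable_algebraMap a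
  obtain ⟨L, hLS, hmax⟩ := wellFounded_gt.has_min S hne
  refine ⟨L, hLS.1, ?_, algebra_isSeparable_subalgebra L hLS.2⟩
  intro L' hL' hle
  by_contra hne'
  have hlt : L < L' := lt_of_le_of_ne hle (Ne.symm hne')
  obtain ⟨N, hN1, hN2, hN3⟩ := exists_separable_extension k D L L' hLS.1 hLS.2 hL' hlt
  exact hmax N ⟨hN1, hN2⟩ hN3

end main

end Groth.Agent.Lib.helper1.CSA
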