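import Mathlib

/-!
# Galois δ-lemma and eigenspace projections (helper library of seat helper1)
-/

set_option autoImplicit false
universe u v w

namespace Groth.Agent.Lib.helper1.Cyclic

section delta

variable (k : Type u) (K : Type v) [Field k] [Field K] [Algebra k K] [FiniteDimensional k K]
  [IsGalois k K]

/-- **Galois δ-lemma**: for a finite Galois extension `K/k` with group `G` there are families
`u, w : G → K` with `∑ ρ, τ (u ρ) * w ρ = δ_{τ,1}` for all `τ ∈ G`
(this is the idempotent of `K ⊗ K ≃ ∏_G K` of the unit component). -/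
theorem exists_delta [DecidableEq (K ≃ₐ[k] K)] : ∃ (u w : (K ≃ₐ[k] K) → K), ∀ τ : K ≃ₐ[k] K,
    ∑ ρ, τ (u ρ) * w ρ = if τ = 1 then 1 else 0 := by
  have hcard : Fintype.card (K ≃ₐ[k] K) = Module.finrank k K := by
    rw [← Nat.card_eq_fintype_card]; exact IsGalois.card_aut_eq_finrank k K
  let e : Fin (Module.finrank k K) ≃ (K ≃ₐ[k] K) := (Fintype.equivFinOfCardEq hcard).symm
  let b : Module.Basis (K ≃ₐ[k] K) k K := (Module.finBasis k K).reindex e
  let M : Matrix (K ≃ₐ[k] K) (K ≃ₐ[k] K) K := Matrix.of fun τ ρ => τ (b ρ)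
  have hrows : LinearIndependent K M.row := by
    have h1 := linearIndependent_toLinearMap k K K
    have h2 : LinearIndependent K (fun τ : K ≃ₐ[k] K => (τ : K →ₐ[k] K).toLinearMap) :=
      h1.comp (fun τ : K ≃ₐ[k] K => (τ : K →ₐ[k] K)) (fun τ ρ h => by
        ext x
        exact congrArg (fun f : K →ₐ[k] K => f x) h)
    -- evaluate on the basis
    let ev : (K →ₗ[k] K) →ₗ[K] ((K ≃ₐ[k] K) → K) :=
      { toFun := fun f ρ => f (b ρ)
        map_add' := fun f g => rfl
        map_smul' := fun c f => rfl }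
    have hev : LinearMap.ker ev = ⊥ := by
      rw [LinearMap.ker_eq_bot']
      intro f hf
      apply b.ext
      intro ρ
      exact congrFun hf ρ
    have h3 := h2.map' ev hev
    exact h3
  have hunit : IsUnit M := Matrix.linearIndependent_rows_iff_isUnit.1 hrows
  obtain ⟨N, hN⟩ : ∃ N : Matrix (K ≃ₐ[k] K) (K ≃ₐ[k] K) K, M * N = 1 := by
    obtain ⟨U, hU⟩ := hunit
    exact ⟨(U⁻¹ : (Matrix (K ≃ₐ[k] K) (K ≃ₐ[k] K) K)ˣ), by rw [← hU]; exact U.mul_inv⟩
  refine ⟨b, fun ρ => N ρ 1, fun τ => ?_⟩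
  have := congrFun (congrFun hN τ) 1
  rw [Matrix.mul_apply, Matrix.one_apply] at this
  exact this

end delta

section proj

variable {k : Type u} {K : Type v} [Field k] [Field K] [Algebra k K] [FiniteDimensional k K]
  [IsGalois k K] {A : Type w} [Ring A] [Algebra k A] (ι : K →ₐ[k] A)

/-- `z` is a `τ`-eigenvector for the `K`-`K`-bimodule structure: `ι x * z = z * ι (τ x)`. -/
def IsEigen (τ : K ≃ₐ[k] K) (z : A) : Prop := ∀ x : K, ι x * z = z * ι (τ x)

theorem IsEigen.mul_right {τ : K ≃ₐ[k] K} {z : A} (h : IsEigen ι τ z) (c : K) :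
    IsEigen ι τ (z * ι c) := by
  intro x
  rw [← mul_assoc, h x, mul_assoc, mul_assoc, ← map_mul, ← map_mul, mul_comm]

theorem IsEigen.mul {τ ρ : K ≃ₐ[k] K} {z z' : A} (h : IsEigen ι τ z) (h' : IsEigen ι ρ z') :
    IsEigen ι (ρ * τ) (z * z') := by
  intro x
  rw [← mul_assoc, h x, mul_assoc, h' (τ x), mul_assoc]
  rfl

theorem isEigen_one_map (c : K) : IsEigen ι 1 (ι c) := by
  intro x
  rw [← map_mul, ← map_mul, mul_comm]
  rfl

/-- **Eigenspace projection**: an additive subgroup stable under left and right multiplication by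
`ι K` contains all eigencomponents of its elements. -/
theorem eigen_mem_of_sum_mem (S : AddSubgroup A)
    (hS : ∀ (x x' : K) (a : A), a ∈ S → ι x * a * ι x' ∈ S)
    (z : (K ≃ₐ[k] K) → A) (hz : ∀ τ, IsEigen ι τ (z τ)) (hsum : ∑ τ, z τ ∈ S)
    (ρ : K ≃ₐ[k] K) : z ρ ∈ S := by
  classical
  obtain ⟨u, w, huw⟩ := exists_delta k K
  have h1 : ∑ l, ι (ρ⁻¹ (u l)) * (∑ τ, z τ) * ι (w l) ∈ S :=
    AddSubgroup.sum_mem _ fun l _ => hS _ _ _ hsum
  have h2 : ∑ l, ι (ρ⁻¹ (u l)) * (∑ τ, z τ) * ι (w l) = z ρ := by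
    calc ∑ l, ι (ρ⁻¹ (u l)) * (∑ τ, z τ) * ι (w l)
        = ∑ l, ∑ τ, z τ * ι ((τ * ρ⁻¹) (u l) * w l) := by
          refine Finset.sum_congr rfl fun l _ => ?_
          rw [Finset.mul_sum, Finset.sum_mul]
          refine Finset.sum_congr rfl fun τ _ => ?_
          rw [hz τ, mul_assoc, ← map_mul]
          rfl
      _ = ∑ τ, z τ * ι (∑ l, (τ * ρ⁻¹) (u l) * w l) := by
          rw [Finset.sum_comm]
          refine Finset.sum_congr rfl fun τ _ => ?_
          rw [map_sum, Finset.mul_sum]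
      _ = ∑ τ, z τ * ι (if τ = ρ then 1 else 0) := by
          refine Finset.sum_congr rfl fun τ _ => ?_
          rw [huw (τ * ρ⁻¹)]
          simp only [mul_inv_eq_one]
      _ = z ρ := by
          rw [Finset.sum_eq_single ρ]
          · simp
          · intro τ _ hτ
            simp [hτ]
          · intro h; exact absurd (Finset.mem_univ ρ) h
  rw [← h2]
  exact h1

/-- Eigencomponents are unique: if a sum of eigenvectors for distinct characters vanishes, each
term vanishes. -/
theorem eigen_eq_zero_of_sum_eq_zero (z : (K ≃ₐ[k] K) → A) (hz : ∀ τ, IsEigen ι τ (z τ))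
    (hsum : ∑ τ, z τ = 0) (ρ : K ≃ₐ[k] K) : z ρ = 0 := by
  have := eigen_mem_of_sum_mem ι ⊥ (fun x x' a ha => by
    rw [AddSubgroup.mem_bot] at ha ⊢
    rw [ha]; simp) z hz (by rw [hsum]; exact AddSubgroup.zero_mem _) ρ
  simpa using this

end proj

section cyclicGroup

variable {k : Type u} {K : Type v} [Field k] [Field K] [Algebra k K] [FiniteDimensional k K]
  [IsGalois k K] (σ : K ≃ₐ[k] K) (hσ : ∀ τ : K ≃ₐ[k] K, τ ∈ Subgroup.zpowers σ)

include hσ

theorem orderOf_eq_finrank : orderOf σ = Module.finrank k K := by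
  rw [orderOf_eq_card_of_forall_mem_zpowers hσ]
  exact IsGalois.card_aut_eq_finrank k K

/-- `i ↦ σ ^ i` as an equivalence `Fin [K:k] ≃ Gal(K/k)`. -/
noncomputable def powEquiv : Fin (Module.finrank k K) ≃ (K ≃ₐ[k] K) :=
  Equiv.ofBijective (fun i => σ ^ (i : ℕ)) (by
    classical
    rw [Fintype.bijective_iff_injective_and_card]
    refine ⟨fun i j hij => ?_, ?_⟩
    · have hi : (i : ℕ) ∈ Set.Iio (orderOf σ) := by
        rw [orderOf_eq_finrank σ hσ]; exact i.2
      have hj : (j : ℕ) ∈ Set.Iio (orderOf σ) := by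
        rw [orderOf_eq_finrank σ hσ]; exact j.2
      exact Fin.ext (pow_injOn_Iio_orderOf hi hj hij)
    · rw [Fintype.card_fin, ← Nat.card_eq_fintype_card]
      exact (IsGalois.card_aut_eq_finrank k K).symm)

@[simp] theorem powEquiv_apply (i : Fin (Module.finrank k K)) :
    powEquiv σ hσ i = σ ^ (i : ℕ) := rfl

theorem sigma_pow_finrank : σ ^ Module.finrank k K = 1 := by
  rw [← orderOf_eq_finrank σ hσ]; exact pow_orderOf_eq_one σ

/-- An element fixed by the generator lies in the base field. -/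
theorem mem_range_of_sigma_fixed (c : K) (hc : σ c = c) : c ∈ Set.range (algebraMap k K) := by
  rw [IsGalois.mem_range_algebraMap_iff_fixed]
  intro τ
  have h1 : σ ∈ MulAction.stabilizer (K ≃ₐ[k] K) c := by
    rw [MulAction.mem_stabilizer_iff]; exact hc
  have h2 : Subgroup.zpowers σ ≤ MulAction.stabilizer (K ≃ₐ[k] K) c :=
    (Subgroup.zpowers_le).2 h1
  have := h2 (hσ τ)
  rw [MulAction.mem_stabilizer_iff] at this
  exact this

end cyclicGroup

end Groth.Agent.Lib.helper1.Cyclic
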