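import Mathlib
import Groth.Agent.Lib.helper1.Cyclic1
import Groth.Prelude.Def_GSzCSA

/-!
# Cyclic algebras in terms of a primitive element of `K` (helper library of seat helper1)
-/

set_option autoImplicit false
set_option linter.unusedSectionVars false
universe u v w w'

namespace Groth.Agent.Lib.helper1.Cyclic

open Polynomial IntermediateField

variable {k : Type u} {K : Type v} [Field k] [Field K] [Algebra k K] [FiniteDimensional k K]

/-- If `K = k(α)` and `p` is a monic polynomial of degree `[K : k]` killing `α`, then `p` is the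
minimal polynomial of `α`. -/
theorem minpoly_eq_of_monic_of_natDegree (α : K) (hgen : k⟮α⟯ = ⊤) (p : k[X]) (hp : p.Monic)
    (hroot : aeval α p = 0) (hdeg : p.natDegree = Module.finrank k K) : minpoly k α = p := by
  have hint : IsIntegral k α := Algebra.IsIntegral.isIntegral α
  have h1 : (minpoly k α).natDegree = Module.finrank k K := by
    rw [← IntermediateField.adjoin.finrank hint, hgen, IntermediateField.finrank_top']
  exact (Polynomial.eq_of_monic_of_dvd_of_natDegree_le (minpoly.monic hint) hp
    (minpoly.dvd k α hroot) (by rw [h1, hdeg])).symm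

/-- The algebra map out of `K = k(α)` determined by the image of `α`. -/
theorem exists_algHom_of_generator (α : K) (hgen : k⟮α⟯ = ⊤) {A : Type w} [Ring A] [Algebra k A]
    (x : A) (hx : aeval x (minpoly k α) = 0) : ∃ ι : K →ₐ[k] A, ι α = x := by
  have hint : IsIntegral k α := Algebra.IsIntegral.isIntegral α
  let pb0 := IntermediateField.adjoin.powerBasis hint
  let e : k⟮α⟯ ≃ₐ[k] K := (IntermediateField.equivOfEq hgen).trans IntermediateField.topEquiv
  let pb := pb0.map e
  have hgen' : pb.gen = α := by
    show e pb0.gen = α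
    rw [IntermediateField.adjoin.powerBasis_gen]
    rfl
  have h : aeval x (minpoly k pb.gen) = 0 := by rw [hgen']; exact hx
  exact ⟨pb.lift x h, (congrArg (pb.lift x h) hgen'.symm).trans (pb.lift_gen x h)⟩

theorem adjoin_generator_eq_top (α : K) (hgen : k⟮α⟯ = ⊤) : Algebra.adjoin k ({α} : Set K) = ⊤ := by
  have hint : IsIntegral k α := Algebra.IsIntegral.isIntegral α
  rw [← IntermediateField.adjoin_simple_toSubalgebra_of_isAlgebraic hint.isAlgebraic, hgen]
  rfl

variable [IsGalois k K] (σ : K ≃ₐ[k] K)

/-- A `k`-algebra generated by `x, y` where `x` satisfies the minimal polynomial of a generator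
`α` of `K`, `y ^ n = b`, and `x * y = y * g(x)` with `σ α = g(α)`, of dimension `n²`, is a cyclic
algebra `(K, σ, b)`. -/
theorem isCyclicAlg_of_generator (b : kˣ) (α : K) (hgen : k⟮α⟯ = ⊤) {A : Type w} [Ring A]
    [Algebra k A] (x y : A) (hx : aeval x (minpoly k α) = 0)
    (hy : y ^ Module.finrank k K = algebraMap k A (b : k)) (g : k[X]) (hg : σ α = aeval α g)
    (hxy : x * y = y * aeval x g) (hadj : Algebra.adjoin k ({x, y} : Set A) = ⊤)
    (hdim : Module.finrank k A = Module.finrank k K ^ 2) : CSAGal.IsCyclicAlg k K σ b A := by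
  obtain ⟨ι, hι⟩ := exists_algHom_of_generator α hgen x hx
  have hpos : 0 < Module.finrank k K := Module.finrank_pos
  refine ⟨ι, y, hy, ?_, ?_, hpos, hdim⟩
  · -- the relation holds on a subalgebra containing α
    let S : Subalgebra k K :=
      { carrier := {z | ι z * y = y * ι (σ z)}
        mul_mem' := by
          intro z w hz hw
          simp only [Set.mem_ofPred_eq] at hz hw ⊢
          rw [map_mul, map_mul, map_mul, mul_assoc, hw, ← mul_assoc, hz, mul_assoc]
        add_mem' := by
          intro z w hz hw
          simp only [Set.mem_ofPred_eq] at hz hw ⊢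
          rw [map_add, map_add, map_add, add_mul, mul_add, hz, hw]
        algebraMap_mem' := by
          intro r
          simp only [Set.mem_ofPred_eq]
          rw [AlgEquiv.commutes, AlgHom.commutes]
          exact Algebra.commutes r y }
    have hα : α ∈ S := by
      show ι α * y = y * ι (σ α)
      rw [hι, hg, ← Polynomial.aeval_algHom_apply, hι, hxy]
    have hS : S = ⊤ := by
      rw [eq_top_iff, ← adjoin_generator_eq_top α hgen]
      exact Algebra.adjoin_le (Set.singleton_subset_iff.2 hα)
    intro z
    have : z ∈ S := by rw [hS]; trivial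
    exact this
  · rw [eq_top_iff, ← hadj]
    refine Algebra.adjoin_mono ?_
    rintro z (rfl | rfl)
    · exact Set.mem_union_left _ ⟨α, hι⟩
    · exact Set.mem_union_right _ rfl

/-- Conversely, a cyclic algebra `(K, σ, b)` with `K = k(α)` is generated by `ι α` and `y`. -/
theorem exists_generators_of_isCyclicAlg (b : kˣ) (α : K) (hgen : k⟮α⟯ = ⊤) {A : Type w} [Ring A]
    [Algebra k A] (hA : CSAGal.IsCyclicAlg k K σ b A) :
    ∃ (ι : K →ₐ[k] A) (y : A), y ^ Module.finrank k K = algebraMap k A (b : k) ∧
      (∀ z : K, ι z * y = y * ι (σ z)) ∧ Algebra.adjoin k ({ι α, y} : Set A) = ⊤ ∧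
      Module.finrank k A = Module.finrank k K ^ 2 := by
  obtain ⟨ι, y, hy, hrel, hadj, hpos, hdim⟩ := hA
  refine ⟨ι, y, hy, hrel, ?_, hdim⟩
  rw [eq_top_iff, ← hadj]
  refine Algebra.adjoin_le ?_
  rintro z (⟨w, rfl⟩ | rfl)
  · have hw : w ∈ Algebra.adjoin k ({α} : Set K) := by
      rw [adjoin_generator_eq_top α hgen]; trivial
    have h1 : ι w ∈ (Algebra.adjoin k ({α} : Set K)).map ι := ⟨w, hw, rfl⟩
    rw [AlgHom.map_adjoin, Set.image_singleton] at h1
    exact Algebra.adjoin_mono (by simp) h1
  · exact Algebra.subset_adjoin (by simp)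

end Groth.Agent.Lib.helper1.Cyclic
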