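import Mathlib
import Groth.Agent.Lib.helper1.CSA9
import Groth.Agent.Lib.helper1.BrEq
import Groth.Agent.S0196

/-!
# Index of central simple algebras: divisibility by degrees of splitting fields, maximal subfields
(helper library of seat helper1)
-/

set_option autoImplicit false
set_option linter.unusedSectionVars false
universe u v w w'

namespace Groth.Agent.Lib.helper1.CSA

open TensorProduct Groth.Agent.Lib.helper1.BrEq Groth.Agent.Lib.helper1.Tpow

/-- `M₁(A) ≃ A` (with the standard instances on `Fin 1`). -/
def matrixOne (k : Type u) [CommSemiring k] (A : Type v) [Semiring A] [Algebra k A] :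
    Matrix (Fin 1) (Fin 1) A ≃ₐ[k] A :=
  AlgEquiv.ofRingEquiv (f :=
    { toFun := fun M => M 0 0
      invFun := fun a => Matrix.of fun _ _ => a
      left_inv := fun M => by
        ext i j
        rw [Subsingleton.elim i 0, Subsingleton.elim j 0]; rfl
      right_inv := fun a => rfl
      map_mul' := fun M N => by simp [Matrix.mul_apply]
      map_add' := fun M N => by simp })
    (fun r => by simp [Matrix.algebraMap_matrix_apply])

/-- If a matrix algebra of positive size over `D` is central, so is `D`. -/
theorem isCentral_of_matrix (k : Type u) [Field k] (D : Type v) [Ring D] [Algebra k D] (m : ℕ)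
    (hm : m ≠ 0) [Algebra.IsCentral k (Matrix (Fin m) (Fin m) D)] : Algebra.IsCentral k D := by
  classical
  refine ⟨fun c hc => ?_⟩
  rw [Subalgebra.mem_center_iff] at hc
  have hmem : Matrix.scalar (Fin m) c ∈ Subalgebra.center k (Matrix (Fin m) (Fin m) D) := by
    rw [Subalgebra.mem_center_iff]
    intro M
    ext i j
    simp [Matrix.scalar_apply, Matrix.mul_diagonal, Matrix.diagonal_mul, hc (M i j)]
  obtain ⟨r, hr⟩ := Algebra.IsCentral.out hmem
  have h0 : 0 < m := Nat.pos_of_ne_zero hm
  have := congrFun (congrFun hr ⟨0, h0⟩) ⟨0, h0⟩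
  simp [Matrix.algebraMap_matrix_apply] at this
  exact ⟨r, this⟩

/-- The degree of a central division algebra divides the degree of every finite splitting field
(universe-polymorphic). -/
theorem index_dvd_of_splits (k : Type u) [Field k]
    (D : Type v) [DivisionRing D] [Algebra k D] [FiniteDimensional k D]
    (d : ℕ) (hd : Module.finrank k D = d ^ 2)
    (k' : Type w) [Field k'] [Algebra k k'] [FiniteDimensional k k'] (hs : Curves.Splits k D k') :
    d ∣ Module.finrank k k' := by
  classical
  obtain ⟨n, hn, ⟨e⟩⟩ := hs
  -- `n = d`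
  have h1 : Module.finrank k' (k' ⊗[k] D) = Module.finrank k D := Module.finrank_baseChange
  have h2 : Module.finrank k' (k' ⊗[k] D) = n * n := by
    rw [e.toLinearEquiv.finrank_eq, Module.finrank_matrix]; simp
  have hnd : n = d := by
    have : n ^ 2 = d ^ 2 := by rw [← hd, ← h1, h2, sq]
    exact Nat.pow_left_injective (n := 2) (by norm_num) this
  subst hnd
  -- the `D`-module structure on `V = k'ⁿ`
  let ρ : D →ₐ[k] Module.End k' (Fin n → k') :=
    ((Matrix.toLinAlgEquiv' : Matrix (Fin n) (Fin n) k' ≃ₐ[k'] _).restrictScalars k).toAlgHom.comp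
      ((e.restrictScalars k).toAlgHom.comp (Algebra.TensorProduct.includeRight : D →ₐ[k] k' ⊗[k] D))
  let _ : Module D (Fin n → k') := Module.compHom (Fin n → k') ρ.toRingHom
  have : IsScalarTower k D (Fin n → k') := ⟨fun c x v => by
    show ρ (c • x) v = c • ρ x v
    rw [map_smul]; rfl⟩
  have hdvd : Module.finrank k D ∣ Module.finrank k (Fin n → k') :=
    Module.finrank_dvd_finrank_right k D (Fin n → k')
  have hV : Module.finrank k (Fin n → k') = Module.finrank k k' * n := by
    rw [← Module.finrank_mul_finrank k k' (Fin n → k')]; simp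
  rw [hd, hV, sq] at hdvd
  have hnpos : 0 < n := Nat.pos_of_ne_zero hn
  exact (Nat.mul_dvd_mul_iff_right hnpos).mp (by rwa [mul_comm (Module.finrank k k') n] at hdvd ⊢)

/-- A central division algebra of dimension `d²` has a separable splitting field of degree `d`
(a maximal subfield). -/
theorem exists_splitting_field_of_degree (k : Type u) [Field k]
    (D : Type v) [DivisionRing D] [Algebra k D] [Algebra.IsCentral k D] [FiniteDimensional k D]
    (d : ℕ) (hd : Module.finrank k D = d ^ 2) :
    ∃ (L : Type v) (_ : Field L) (_ : Algebra k L), FiniteDimensional k L ∧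
      Algebra.IsSeparable k L ∧ Module.finrank k L = d ∧ Curves.Splits k D L := by
  obtain ⟨L, hcomm, hmax, hsep⟩ := exists_separable_maximal_comm k D
  letI : Field L := fieldOfComm L hcomm
  have hdim : Module.finrank k D = Module.finrank k L ^ 2 := Groth.Agent.S0196.result k D L hcomm hmax
  have hL : Module.finrank k L = d := by
    have : Module.finrank k L ^ 2 = d ^ 2 := by rw [← hdim, hd]
    exact Nat.pow_left_injective (n := 2) (by norm_num) this
  refine ⟨L, inferInstance, inferInstance, inferInstance, ?_, hL, ?_⟩
  · exact hsep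
  · exact splits_of_subfield k D L L.val hdim

/-- `BrEq` from an isomorphism with a matrix algebra. -/
theorem brEq_of_algEquiv_matrix {k : Type u} [Field k] {A : Type v} [Ring A] [Algebra k A]
    {D : Type w} [Ring D] [Algebra k D] (m : ℕ) (hm : m ≠ 0)
    (e : A ≃ₐ[k] Matrix (Fin m) (Fin m) D) : BrEq k A D :=
  ⟨1, m, one_ne_zero, hm, ⟨(matrixOne k A).trans e⟩⟩

/-- A splitting field of `A` splits every tensor power of `A`. -/
theorem splits_tpow (k : Type u) [Field k] (A : Type v) [Ring A] [Algebra k A]
    [Algebra.IsCentral k A] [IsSimpleRing A] [FiniteDimensional k A]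
    (L : Type w) [Field L] [Algebra k L] (hs : Curves.Splits k A L) (i : ℕ) :
    Curves.Splits k (CSAGal.tpow k A i) L := by
  induction i with
  | zero =>
    obtain ⟨h1, h2, h3⟩ := csa_tpow k A 0
    refine (BrEq.of_algEquiv (tpowZeroAlgEquiv k A)).splits L ?_
    exact ⟨1, one_ne_zero, ⟨(Algebra.TensorProduct.rid k L L).trans (matrixOne L L).symm⟩⟩
  | succ i ih =>
    obtain ⟨h1, h2, h3⟩ := csa_tpow k A i
    obtain ⟨h1', h2', h3'⟩ := csa_tpow k A (i + 1)
    refine (BrEq.of_algEquiv (succAlgEquiv k A i).symm).splits L ?_
    exact splits_tensor k L A (CSAGal.tpow k A i) hs ih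

end Groth.Agent.Lib.helper1.CSA
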