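import Mathlib
import Groth.Agent.Lib.helper1.CSA10

/-!
# Tensor powers: `tpow (e + e')`, `tpow (tpow r) e`, the set of splitting exponents
(helper library of seat helper1)
-/

set_option autoImplicit false
set_option linter.unusedSectionVars false
universe u v w

namespace Groth.Agent.Lib.helper1.Tpow

open TensorProduct PiTensorProduct Groth.Agent.Lib.helper1.BrEq Groth.Agent.Lib.helper1.CSA

section add

variable (k : Type u) [Field k] (A : Type v) [Ring A] [Algebra k A]

/-- The linear equivalence `tpow e ⊗ tpow e' ≃ tpow (e + e')`. -/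
noncomputable def addLinearEquiv (e e' : ℕ) :
    CSAGal.tpow k A e ⊗[k] CSAGal.tpow k A e' ≃ₗ[k] CSAGal.tpow k A (e + e') :=
  (tmulEquiv k A) ≪≫ₗ (reindex k (fun _ => A) finSumFinEquiv)

theorem addLinearEquiv_tprod_tmul_tprod (e e' : ℕ) (g : Fin e → A) (g' : Fin e' → A) :
    addLinearEquiv k A e e' (tprod k g ⊗ₜ[k] tprod k g') =
      tprod k (fun i => Sum.elim g g' (finSumFinEquiv.symm i)) := by
  simp [addLinearEquiv]

/-- The algebra isomorphism `tpow e ⊗ tpow e' ≃ₐ tpow (e + e')`. -/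
noncomputable def addAlgEquiv (e e' : ℕ) :
    CSAGal.tpow k A e ⊗[k] CSAGal.tpow k A e' ≃ₐ[k] CSAGal.tpow k A (e + e') :=
  AlgEquiv.ofLinearEquiv (addLinearEquiv k A e e')
    (by
      rw [Algebra.TensorProduct.one_def, PiTensorProduct.one_def, PiTensorProduct.one_def,
        addLinearEquiv_tprod_tmul_tprod, PiTensorProduct.one_def]
      congr 1
      funext i
      rcases finSumFinEquiv.symm i with j | j <;> rfl)
    ((LinearMap.map_mul_iff _).mpr <| by
      ext g g' h h'
      simp only [LinearMap.compr₂_apply, LinearMap.compl₂_apply, LinearMap.mul_apply',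
        LinearMap.coe_comp, Function.comp_apply, AlgebraTensorModule.curry_apply,
        TensorProduct.curry_apply, LinearMap.coe_restrictScalars,
        LinearMap.compMultilinearMap_apply, LinearEquiv.coe_coe,
        Algebra.TensorProduct.tmul_mul_tmul, tprod_mul_tprod, addLinearEquiv_tprod_tmul_tprod]
      congr 1
      funext i
      simp only [Pi.mul_apply]
      generalize finSumFinEquiv.symm i = s
      cases s <;> rfl)

/-- `tpow (tpow A r) e ≃ₐ tpow A (r * e)`. -/
theorem nonempty_mulAlgEquiv (r e : ℕ) :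
    Nonempty (CSAGal.tpow k (CSAGal.tpow k A r) e ≃ₐ[k] CSAGal.tpow k A (r * e)) := by
  induction e with
  | zero =>
    exact ⟨(tpowZeroAlgEquiv k (CSAGal.tpow k A r)).trans (tpowZeroAlgEquiv k A).symm⟩
  | succ e ih =>
    obtain ⟨f⟩ := ih
    exact ⟨(succAlgEquiv k (CSAGal.tpow k A r) e).symm.trans <|
      (Algebra.TensorProduct.congr AlgEquiv.refl f).trans <|
      (Algebra.TensorProduct.comm k _ _).trans (addAlgEquiv k A (r * e) r)⟩

end add

section splits

variable (k : Type u) [Field k] (A : Type v) [Ring A] [Algebra k A]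

/-- If `X` is split, then `X ⊗ Y` is Brauer equivalent to `Y`. -/
theorem brEq_tensor_of_splits_left (X : Type v) [Ring X] [Algebra k X] (Y : Type w) [Ring Y]
    [Algebra k Y] (hX : Curves.Splits k X k) : BrEq k (X ⊗[k] Y) Y := by
  obtain ⟨n, hn, ⟨e⟩⟩ := hX
  let e1 : X ≃ₐ[k] Matrix (Fin n) (Fin n) k := (Algebra.TensorProduct.lid k X).symm.trans e
  exact brEq_of_algEquiv_matrix n hn
    ((Algebra.TensorProduct.congr e1 AlgEquiv.refl).trans <|
      (Algebra.TensorProduct.comm k _ _).trans (matrixEquivTensor (Fin n) k Y).symm)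

variable [Algebra.IsCentral k A] [IsSimpleRing A] [FiniteDimensional k A]

theorem splits_tpow_zero : Curves.Splits k (CSAGal.tpow k A 0) k := by
  obtain ⟨h1, h2, h3⟩ := csa_tpow k A 0
  refine (BrEq.of_algEquiv (tpowZeroAlgEquiv k A)).splits k ?_
  exact ⟨1, one_ne_zero, ⟨(Algebra.TensorProduct.rid k k k).trans (matrixOne k k).symm⟩⟩

theorem splits_tpow_add (e e' : ℕ) (h : Curves.Splits k (CSAGal.tpow k A e) k)
    (h' : Curves.Splits k (CSAGal.tpow k A e') k) : Curves.Splits k (CSAGal.tpow k A (e + e')) k := by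
  obtain ⟨h1, h2, h3⟩ := csa_tpow k A e
  obtain ⟨h1', h2', h3'⟩ := csa_tpow k A e'
  obtain ⟨h1'', h2'', h3''⟩ := csa_tpow k A (e + e')
  refine (BrEq.of_algEquiv (addAlgEquiv k A e e').symm).splits k ?_
  exact splits_tensor k k _ _ h h'

theorem splits_tpow_of_add (e e' : ℕ) (h : Curves.Splits k (CSAGal.tpow k A e) k)
    (h' : Curves.Splits k (CSAGal.tpow k A (e + e')) k) : Curves.Splits k (CSAGal.tpow k A e') k := by
  obtain ⟨h1, h2, h3⟩ := csa_tpow k A e
  obtain ⟨h1', h2', h3'⟩ := csa_tpow k A e'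
  obtain ⟨h1'', h2'', h3''⟩ := csa_tpow k A (e + e')
  have hbr : BrEq k (CSAGal.tpow k A e') (CSAGal.tpow k A (e + e')) :=
    (brEq_tensor_of_splits_left k _ _ h).symm.trans (BrEq.of_algEquiv (addAlgEquiv k A e e'))
  exact hbr.splits k h'

theorem splits_tpow_mul (e q : ℕ) (h : Curves.Splits k (CSAGal.tpow k A e) k) :
    Curves.Splits k (CSAGal.tpow k A (q * e)) k := by
  induction q with
  | zero => rw [Nat.zero_mul]; exact splits_tpow_zero k A
  | succ q ih => rw [Nat.succ_mul]; exact splits_tpow_add k A _ _ ih h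

/-- For an algebra of period `p`, the `e`-th tensor power splits iff `p ∣ e`. -/
theorem splits_tpow_iff_dvd (p : ℕ) (hp : CSAGal.IsPeriod k A p) (e : ℕ) :
    Curves.Splits k (CSAGal.tpow k A e) k ↔ p ∣ e := by
  obtain ⟨hpos, hsp, hmin⟩ := hp
  constructor
  · intro h
    have hdm : e = (e / p) * p + e % p := by rw [Nat.div_add_mod' e p]
    have h1 : Curves.Splits k (CSAGal.tpow k A ((e / p) * p)) k := splits_tpow_mul k A p _ hsp
    have h2 : Curves.Splits k (CSAGal.tpow k A (e % p)) k :=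
      splits_tpow_of_add k A _ _ h1 (by rw [← hdm]; exact h)
    by_contra hnd
    have hmod : 0 < e % p := Nat.pos_of_ne_zero (fun h0 => hnd (Nat.dvd_of_mod_eq_zero h0))
    exact hmin _ hmod (Nat.mod_lt _ hpos) h2
  · rintro ⟨q, rfl⟩
    rw [mul_comm]
    exact splits_tpow_mul k A p q hsp

/-- The period of `A^{⊗ r}` is `p / gcd p r`. -/
theorem isPeriod_tpow (p : ℕ) (hp : CSAGal.IsPeriod k A p) (r : ℕ) (hr : 0 < r) :
    CSAGal.IsPeriod k (CSAGal.tpow k A r) (p / Nat.gcd p r) := by
  have hpos : 0 < p := hp.1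
  have hg : 0 < Nat.gcd p r := Nat.gcd_pos_of_pos_left r hpos
  have key : ∀ e : ℕ, Curves.Splits k (CSAGal.tpow k (CSAGal.tpow k A r) e) k ↔
      p / Nat.gcd p r ∣ e := by
    intro e
    obtain ⟨f⟩ := nonempty_mulAlgEquiv k A r e
    obtain ⟨h1, h2, h3⟩ := csa_tpow k A r
    obtain ⟨h1', h2', h3'⟩ := csa_tpow k (CSAGal.tpow k A r) e
    obtain ⟨h1'', h2'', h3''⟩ := csa_tpow k A (r * e)
    have hiff : Curves.Splits k (CSAGal.tpow k (CSAGal.tpow k A r) e) k ↔
        Curves.Splits k (CSAGal.tpow k A (r * e)) k :=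
      ⟨fun h => (BrEq.of_algEquiv f.symm).splits k h, fun h => (BrEq.of_algEquiv f).splits k h⟩
    rw [hiff, splits_tpow_iff_dvd k A p hp]
    constructor
    · intro h
      -- p ∣ r * e → p / g ∣ e
      have hcop : Nat.Coprime (p / Nat.gcd p r) (r / Nat.gcd p r) :=
        Nat.coprime_div_gcd_div_gcd hg
      have h3 : p / Nat.gcd p r ∣ (r / Nat.gcd p r) * e := by
        obtain ⟨c, hc⟩ := h
        refine ⟨c, ?_⟩
        have hp' : p = Nat.gcd p r * (p / Nat.gcd p r) := (Nat.mul_div_cancel' (Nat.gcd_dvd_left p r)).symm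
        have hr' : r = Nat.gcd p r * (r / Nat.gcd p r) := (Nat.mul_div_cancel' (Nat.gcd_dvd_right p r)).symm
        have : Nat.gcd p r * ((r / Nat.gcd p r) * e) = Nat.gcd p r * ((p / Nat.gcd p r) * c) := by
          rw [← mul_assoc, ← hr', ← mul_assoc, ← hp', hc]
        exact Nat.eq_of_mul_eq_mul_left hg this
      exact hcop.dvd_of_dvd_mul_left h3
    · rintro ⟨c, rfl⟩
      refine ⟨(r / Nat.gcd p r) * c, ?_⟩
      have hp' : p = Nat.gcd p r * (p / Nat.gcd p r) := (Nat.mul_div_cancel' (Nat.gcd_dvd_left p r)).symm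
      have hr' : r = Nat.gcd p r * (r / Nat.gcd p r) := (Nat.mul_div_cancel' (Nat.gcd_dvd_right p r)).symm
      calc r * (p / Nat.gcd p r * c) = (Nat.gcd p r * (r / Nat.gcd p r)) * (p / Nat.gcd p r * c) := by
            rw [← hr']
        _ = (Nat.gcd p r * (p / Nat.gcd p r)) * ((r / Nat.gcd p r) * c) := by ring
        _ = p * (r / Nat.gcd p r * c) := by rw [← hp']
  have hp'pos : 0 < p / Nat.gcd p r := Nat.div_pos (Nat.le_of_dvd hpos (Nat.gcd_dvd_left p r)) hg
  refine ⟨hp'pos, (key _).2 dvd_rfl, fun e' he' hlt h => ?_⟩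
  have := Nat.le_of_dvd he' ((key e').1 h)
  omega

end splits

end Groth.Agent.Lib.helper1.Tpow
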