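import Mathlib
import Groth.Prelude.Def_GSzCSA

/-!
# Norm and trace of left multiplication on matrix algebras; reduced norm vs algebra norm
(helper library of seat helper1)
-/

set_option autoImplicit false
set_option linter.unusedSectionVars false
universe u v w

namespace Groth.Agent.Lib.helper1.RedNorm

open TensorProduct Matrix
open scoped Kronecker

section matrix

variable {K : Type u} [Field K] {m : Type v} [Fintype m] [DecidableEq m]

/-- `vec` as a linear equivalence. -/
def vecLinearEquiv : Matrix m m K ≃ₗ[K] (m × m → K) where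
  toFun := Matrix.vec
  invFun := fun v => Matrix.of fun i j => v (j, i)
  left_inv := fun M => by ext i j; rfl
  right_inv := fun v => by ext ⟨i, j⟩; rfl
  map_add' := fun M N => Matrix.vec_add M N
  map_smul' := fun c M => Matrix.vec_smul c M

theorem mulLeft_eq_conj (M : Matrix m m K) :
    LinearMap.mulLeft K M =
      (vecLinearEquiv (K := K) (m := m)).symm.toLinearMap ∘ₗ
        (Matrix.toLin' ((1 : Matrix m m K) ⊗ₖ M)) ∘ₗ (vecLinearEquiv (K := K) (m := m)).toLinearMap := by
  apply LinearMap.ext
  intro X
  apply (vecLinearEquiv (K := K) (m := m)).injective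
  simp only [LinearMap.mulLeft_apply, LinearMap.comp_apply, LinearEquiv.coe_coe,
    LinearEquiv.apply_symm_apply, Matrix.toLin'_apply]
  exact Matrix.vec_mul_eq_mulVec M X

theorem det_mulLeft (M : Matrix m m K) :
    LinearMap.det (LinearMap.mulLeft K M) = M.det ^ Fintype.card m := by
  rw [mulLeft_eq_conj]
  have := LinearMap.det_conj (Matrix.toLin' ((1 : Matrix m m K) ⊗ₖ M))
    (vecLinearEquiv (K := K) (m := m)).symm
  rw [LinearEquiv.symm_symm] at this
  rw [this, LinearMap.det_toLin', Matrix.det_kronecker]
  simp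

theorem trace_mulLeft (M : Matrix m m K) :
    LinearMap.trace K _ (LinearMap.mulLeft K M) = Fintype.card m • M.trace := by
  rw [mulLeft_eq_conj]
  have := LinearMap.trace_conj' (Matrix.toLin' ((1 : Matrix m m K) ⊗ₖ M))
    (vecLinearEquiv (K := K) (m := m)).symm
  rw [LinearEquiv.conj_apply, LinearEquiv.symm_symm, LinearMap.comp_assoc] at this
  rw [this, Matrix.trace_toLin'_eq, Matrix.trace_kronecker]
  simp

end matrix

end Groth.Agent.Lib.helper1.RedNorm

namespace Groth.Agent.Lib.helper1.RedNorm

open TensorProduct Matrix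

section baseChange

variable {k : Type u} [Field k] {A : Type v} [Ring A] [Algebra k A] [FiniteDimensional k A]
  {K : Type w} [Field K] [Algebra k K] {m : ℕ}
  (φ : K ⊗[k] A ≃ₐ[K] Matrix (Fin m) (Fin m) K)

theorem baseChange_mulLeft (a : A) :
    (LinearMap.mulLeft k a).baseChange K = LinearMap.mulLeft K ((1 : K) ⊗ₜ[k] a) := by
  apply TensorProduct.AlgebraTensorModule.curry_injective
  ext x
  simp [Algebra.TensorProduct.tmul_mul_tmul]

theorem mulLeft_conj (x : K ⊗[k] A) :
    LinearMap.mulLeft K (φ x) =
      φ.toLinearEquiv.toLinearMap ∘ₗ LinearMap.mulLeft K x ∘ₗ φ.toLinearEquiv.symm.toLinearMap := by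
  apply LinearMap.ext
  intro M
  show φ x * M = φ (x * φ.symm M)
  rw [map_mul, φ.apply_symm_apply]

/-- The algebra norm is the `m`-th power of the determinant in a splitting. -/
theorem algebraMap_norm_eq (a : A) :
    algebraMap k K (Algebra.norm k a) = (φ ((1 : K) ⊗ₜ[k] a)).det ^ m := by
  have h1 : algebraMap k K (Algebra.norm k a) =
      LinearMap.det ((LinearMap.mulLeft k a).baseChange K) := by
    rw [LinearMap.det_baseChange]; rfl
  rw [h1, baseChange_mulLeft]
  have h2 := det_mulLeft (φ ((1 : K) ⊗ₜ[k] a))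
  rw [mulLeft_conj φ] at h2
  have h3 := LinearMap.det_conj (LinearMap.mulLeft K ((1 : K) ⊗ₜ[k] a)) φ.toLinearEquiv
  rw [h3] at h2
  rw [h2, Fintype.card_fin]

/-- The trace of left multiplication is `m` times the trace in a splitting. -/
theorem algebraMap_trace_eq (a : A) :
    algebraMap k K (LinearMap.trace k A (LinearMap.mulLeft k a)) =
      m • (φ ((1 : K) ⊗ₜ[k] a)).trace := by
  have h1 : algebraMap k K (LinearMap.trace k A (LinearMap.mulLeft k a)) =
      LinearMap.trace K _ ((LinearMap.mulLeft k a).baseChange K) := by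
    rw [LinearMap.trace_baseChange]
  rw [h1, baseChange_mulLeft]
  have h2 := trace_mulLeft (φ ((1 : K) ⊗ₜ[k] a))
  rw [mulLeft_conj φ] at h2
  have h3 := LinearMap.trace_conj' (LinearMap.mulLeft K ((1 : K) ⊗ₜ[k] a)) φ.toLinearEquiv
  rw [LinearEquiv.conj_apply, LinearMap.comp_assoc] at h3
  rw [h3] at h2
  rw [h2, Fintype.card_fin]

include φ in
/-- The size of a splitting is the degree. -/
theorem size_eq_of_finrank (n : ℕ) (hn : Module.finrank k A = n ^ 2) : m = n := by
  have e1 : Module.finrank K (K ⊗[k] A) = Module.finrank k A := Module.finrank_baseChange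
  have e2 : Module.finrank K (K ⊗[k] A) = m * m := by
    rw [φ.toLinearEquiv.finrank_eq, Module.finrank_matrix]; simp
  have : m ^ 2 = n ^ 2 := by rw [← hn, ← e1, e2, sq]
  exact Nat.pow_left_injective (n := 2) (by norm_num) this

end baseChange

end Groth.Agent.Lib.helper1.RedNorm
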