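import Mathlib
import Groth.Agent.S7723

/-!
# Galois descent for algebras with a semilinear action (helper library of seat helper1)
-/

set_option autoImplicit false
set_option linter.unusedSectionVars false
universe u v w

namespace Groth.Agent.Lib.helper1.Descent

open TensorProduct

section general

variable (k : Type u) (K : Type v) [Field k] [Field K] [Algebra k K] [FiniteDimensional k K]
  [IsGalois k K]
  (B : Type w) [Ring B] [Algebra K B] [Algebra k B] [IsScalarTower k K B]
  [MulSemiringAction (K ≃ₐ[k] K) B]
  (hsemi : ∀ (σ : K ≃ₐ[k] K) (c : K) (b : B), σ • (c • b) = σ c • σ • b)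

/-- The `k`-subalgebra of fixed points of a semilinear action by ring automorphisms. -/
def fixedSubalgebra : Subalgebra k B where
  carrier := {b | ∀ σ : K ≃ₐ[k] K, σ • b = b}
  mul_mem' := by
    intro a b ha hb σ
    rw [smul_mul', ha σ, hb σ]
  add_mem' := by
    intro a b ha hb σ
    rw [smul_add, ha σ, hb σ]
  algebraMap_mem' := by
    intro r σ
    have h1 : algebraMap k B r = (algebraMap k K r) • (1 : B) := by
      rw [algebraMap_smul, Algebra.algebraMap_eq_smul_one]
    rw [h1, hsemi, smul_one, AlgEquiv.commutes]

theorem mem_fixedSubalgebra (b : B) :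
    b ∈ fixedSubalgebra k K B hsemi ↔ ∀ σ : K ≃ₐ[k] K, σ • b = b := Iff.rfl

/-- The descent map `K ⊗ B^G → B`. -/
noncomputable def descentHom : K ⊗[k] (fixedSubalgebra k K B hsemi) →ₐ[K] B :=
  Algebra.TensorProduct.lift (Algebra.ofId K B) (fixedSubalgebra k K B hsemi).val
    (fun c a => Algebra.commutes c (a : B))

theorem descentHom_tmul (c : K) (a : fixedSubalgebra k K B hsemi) :
    descentHom k K B hsemi (c ⊗ₜ[k] a) = c • (a : B) := by
  simp [descentHom, Algebra.smul_def, Algebra.ofId_apply]

theorem descentHom_bijective : Function.Bijective (descentHom k K B hsemi) := by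
  classical
  obtain ⟨hspan, hind⟩ := Groth.Agent.S7723.result k K B hsemi
  constructor
  · -- injective: a `k`-basis of the fixed points is `K`-independent in `B`
    let b := Module.Free.chooseBasis k (fixedSubalgebra k K B hsemi)
    have hli : LinearIndependent k (fun i => ((b i : fixedSubalgebra k K B hsemi) : B)) :=
      b.linearIndependent.map' (fixedSubalgebra k K B hsemi).val.toLinearMap
        (LinearMap.ker_eq_bot.2 Subtype.val_injective)
    have hKli := hind _ _ (fun i => (b i).2) hli
    let bK := Algebra.TensorProduct.basis K b
    have hcomp : (fun i => descentHom k K B hsemi (bK i)) =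
        fun i => ((b i : fixedSubalgebra k K B hsemi) : B) := by
      funext i
      rw [Algebra.TensorProduct.basis_apply, descentHom_tmul, one_smul]
    have hli2 : LinearIndependent K (fun i => (descentHom k K B hsemi).toLinearMap (bK i)) := by
      have := hKli
      rw [← hcomp] at this
      exact this
    have hker : LinearMap.ker (descentHom k K B hsemi).toLinearMap = ⊥ := by
      rw [LinearMap.ker_eq_bot']
      intro x hx
      have hx' : x = ∑ i ∈ (bK.repr x).support, (bK.repr x) i • bK i := by
        conv_lhs => rw [← bK.linearCombination_repr x]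
        rfl
      rw [hx', map_sum] at hx
      simp_rw [map_smul] at hx
      have h0 := (linearIndependent_iff'.1 hli2) (bK.repr x).support (fun i => bK.repr x i) hx
      have : bK.repr x = 0 := by
        ext i
        by_cases hi : i ∈ (bK.repr x).support
        · exact h0 i hi
        · simpa using hi
      exact (bK.repr.map_eq_zero_iff).1 this
    exact LinearMap.ker_eq_bot.1 hker
  · -- surjective: the range is a `K`-subspace containing the fixed points
    have hrange : Submodule.span K (MulAction.fixedPoints (K ≃ₐ[k] K) B) ≤
        LinearMap.range (descentHom k K B hsemi).toLinearMap := by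
      rw [Submodule.span_le]
      intro x hx
      refine ⟨1 ⊗ₜ[k] ⟨x, fun σ => hx σ⟩, ?_⟩
      rw [AlgHom.toLinearMap_apply, descentHom_tmul, one_smul]
    rw [hspan, top_le_iff] at hrange
    exact LinearMap.range_eq_top.1 hrange

/-- **Galois descent for algebras**: `K ⊗ B^G ≃ₐ[K] B`. -/
noncomputable def descentEquiv : K ⊗[k] (fixedSubalgebra k K B hsemi) ≃ₐ[K] B :=
  AlgEquiv.ofBijective (descentHom k K B hsemi) (descentHom_bijective k K B hsemi)

theorem descentEquiv_tmul (c : K) (a : fixedSubalgebra k K B hsemi) :
    descentEquiv k K B hsemi (c ⊗ₜ[k] a) = c • (a : B) := descentHom_tmul k K B hsemi c a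

/-- The descent isomorphism is equivariant (for the action through the first factor). -/
theorem descentEquiv_map (σ : K ≃ₐ[k] K) (x : K ⊗[k] (fixedSubalgebra k K B hsemi)) :
    descentEquiv k K B hsemi
      (Algebra.TensorProduct.map (σ : K →ₐ[k] K) (AlgHom.id k _) x) =
      σ • descentEquiv k K B hsemi x := by
  induction x using TensorProduct.induction_on with
  | zero => rw [map_zero, map_zero, smul_zero]
  | tmul c a =>
    rw [Algebra.TensorProduct.map_tmul, descentEquiv_tmul, descentEquiv_tmul, hsemi, a.2 σ]
    rfl
  | add x y hx hy => rw [map_add, map_add, map_add, smul_add, hx, hy]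

end general

end Groth.Agent.Lib.helper1.Descent
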