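import Mathlib
import Groth.Agent.Lib.helper1.Descent1
import Groth.Agent.Lib.helper1.CSA8
import Groth.Agent.Lib.helper1.CSA6

/-!
# Twisted forms of matrix algebras attached to projective cocycles (helper library of seat helper1)
-/

set_option autoImplicit false
set_option linter.unusedSectionVars false
universe u v w

namespace Groth.Agent.Lib.helper1.Descent

open TensorProduct Matrix

section twisted

variable (k : Type u) (K : Type v) [Field k] [Field K] [Algebra k K] (n : ℕ)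

/-- A family of invertible matrices which is a cocycle up to scalars, phrased through its
conjugation action. -/
structure PCocycle where
  g : (K ≃ₐ[k] K) → GL (Fin n) K
  conj_one : ∀ M : Matrix (Fin n) (Fin n) K,
    (g 1 : Matrix (Fin n) (Fin n) K) * M * ((g 1)⁻¹ : GL (Fin n) K) = M
  conj_mul : ∀ (σ τ : K ≃ₐ[k] K) (M : Matrix (Fin n) (Fin n) K),
    (g (σ * τ) : Matrix (Fin n) (Fin n) K) * M * ((g (σ * τ))⁻¹ : GL (Fin n) K) =
      (g σ : Matrix (Fin n) (Fin n) K) * ((g τ : Matrix (Fin n) (Fin n) K).map σ * M *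
        (((g τ)⁻¹ : GL (Fin n) K) : Matrix (Fin n) (Fin n) K).map σ) * ((g σ)⁻¹ : GL (Fin n) K)

variable {k K n}

/-- The matrix algebra with the Galois action twisted by a projective cocycle. -/
def Tw (_c : PCocycle k K n) : Type v := Matrix (Fin n) (Fin n) K

variable (c : PCocycle k K n)

instance : Ring (Tw c) := inferInstanceAs (Ring (Matrix (Fin n) (Fin n) K))
instance : Algebra K (Tw c) := inferInstanceAs (Algebra K (Matrix (Fin n) (Fin n) K))
instance : Algebra k (Tw c) := inferInstanceAs (Algebra k (Matrix (Fin n) (Fin n) K))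
instance : IsScalarTower k K (Tw c) :=
  inferInstanceAs (IsScalarTower k K (Matrix (Fin n) (Fin n) K))

/-- The twisted action `σ ⋆ M = g_σ σ(M) g_σ⁻¹`. -/
def twAct (σ : K ≃ₐ[k] K) (M : Matrix (Fin n) (Fin n) K) : Matrix (Fin n) (Fin n) K :=
  (c.g σ : Matrix (Fin n) (Fin n) K) * M.map σ * ((c.g σ)⁻¹ : GL (Fin n) K)

theorem map_map_mul (σ τ : K ≃ₐ[k] K) (M : Matrix (Fin n) (Fin n) K) :
    (M.map τ).map σ = M.map (σ * τ : K ≃ₐ[k] K) := by
  ext i j; rfl

theorem map_mul_sigma (σ : K ≃ₐ[k] K) (M N : Matrix (Fin n) (Fin n) K) :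
    (M * N).map σ = M.map σ * N.map σ := by
  ext i j
  simp [Matrix.mul_apply, map_sum]

theorem twAct_one (M : Matrix (Fin n) (Fin n) K) : twAct c 1 M = M := by
  unfold twAct
  have : M.map ((1 : K ≃ₐ[k] K) : K → K) = M := by ext i j; rfl
  rw [this, c.conj_one]

theorem twAct_mul (σ τ : K ≃ₐ[k] K) (M : Matrix (Fin n) (Fin n) K) :
    twAct c (σ * τ) M = twAct c σ (twAct c τ M) := by
  unfold twAct
  rw [c.conj_mul]
  congr 2
  have h1 : ((c.g τ : Matrix (Fin n) (Fin n) K) * M.map τ *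
      (((c.g τ)⁻¹ : GL (Fin n) K) : Matrix (Fin n) (Fin n) K)).map σ =
      (c.g τ : Matrix (Fin n) (Fin n) K).map σ * (M.map τ).map σ *
      (((c.g τ)⁻¹ : GL (Fin n) K) : Matrix (Fin n) (Fin n) K).map σ := by
    rw [map_mul_sigma, map_mul_sigma]
  rw [h1, map_map_mul]

theorem twAct_add (σ : K ≃ₐ[k] K) (M N : Matrix (Fin n) (Fin n) K) :
    twAct c σ (M + N) = twAct c σ M + twAct c σ N := by
  unfold twAct
  rw [Matrix.map_add (σ : K → K) (fun a b => map_add σ a b), Matrix.mul_add, Matrix.add_mul]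

theorem twAct_mul_mat (σ : K ≃ₐ[k] K) (M N : Matrix (Fin n) (Fin n) K) :
    twAct c σ (M * N) = twAct c σ M * twAct c σ N := by
  unfold twAct
  have h1 : (M * N).map σ = M.map σ * N.map σ := map_mul_sigma σ M N
  have h2 : (((c.g σ)⁻¹ : GL (Fin n) K) : Matrix (Fin n) (Fin n) K) *
      (c.g σ : Matrix (Fin n) (Fin n) K) = 1 := by
    rw [← Units.val_mul, inv_mul_cancel]; rfl
  rw [h1]
  calc (c.g σ : Matrix (Fin n) (Fin n) K) * (M.map σ * N.map σ) * ((c.g σ)⁻¹ : GL (Fin n) K)
      = (c.g σ : Matrix (Fin n) (Fin n) K) * M.map σ * 1 * N.map σ * ((c.g σ)⁻¹ : GL (Fin n) K) := by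
        simp only [Matrix.mul_one, Matrix.mul_assoc]
    _ = _ := by rw [← h2]; simp only [Matrix.mul_assoc]

theorem twAct_one_mat (σ : K ≃ₐ[k] K) : twAct c σ 1 = 1 := by
  unfold twAct
  have h1 : (1 : Matrix (Fin n) (Fin n) K).map σ = 1 := by
    ext i j
    simp only [Matrix.map_apply, Matrix.one_apply]
    split_ifs <;> simp
  rw [h1, Matrix.mul_one, ← Units.val_mul, mul_inv_cancel]; rfl

theorem twAct_smul (σ : K ≃ₐ[k] K) (x : K) (M : Matrix (Fin n) (Fin n) K) :
    twAct c σ (x • M) = σ x • twAct c σ M := by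
  unfold twAct
  rw [Matrix.map_smul' (σ : K → K) x M (fun a b => map_mul σ a b), Matrix.mul_smul,
    Matrix.smul_mul]

instance : MulSemiringAction (K ≃ₐ[k] K) (Tw c) where
  smul σ M := twAct c σ M
  one_smul M := twAct_one c M
  mul_smul σ τ M := twAct_mul c σ τ M
  smul_zero σ := by
    show twAct c σ 0 = 0
    unfold twAct
    have : (0 : Matrix (Fin n) (Fin n) K).map σ = 0 := by ext i j; simp
    rw [this, Matrix.mul_zero, Matrix.zero_mul]
  smul_add σ M N := twAct_add c σ M N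
  smul_one σ := twAct_one_mat c σ
  smul_mul σ M N := twAct_mul_mat c σ M N

theorem tw_smul_def (σ : K ≃ₐ[k] K) (M : Tw c) : σ • M = twAct c σ M := rfl

theorem tw_hsemi (σ : K ≃ₐ[k] K) (x : K) (M : Tw c) : σ • (x • M) = σ x • σ • M :=
  twAct_smul c σ x M

variable [FiniteDimensional k K] [IsGalois k K]

/-- **Twisted forms**: a projective cocycle defines a central simple `k`-algebra `A` of degree `n`
with `K ⊗ A ≃ M_n(K)`, whose descent datum is conjugation by the cocycle. -/
theorem exists_twisted_form (hn : 0 < n) :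
    ∃ (A : Type v) (_ : Ring A) (_ : Algebra k A)
      (φ : K ⊗[k] A ≃ₐ[K] Matrix (Fin n) (Fin n) K),
      Algebra.IsCentral k A ∧ IsSimpleRing A ∧ Module.finrank k A = n ^ 2 ∧
      ∀ (σ : K ≃ₐ[k] K) (M : Matrix (Fin n) (Fin n) K),
        φ (Algebra.TensorProduct.map (σ : K →ₐ[k] K) (AlgHom.id k A) (φ.symm M)) =
          (c.g σ : Matrix (Fin n) (Fin n) K) * M.map σ * ((c.g σ)⁻¹ : GL (Fin n) K) := by
  haveI : Nonempty (Fin n) := ⟨⟨0, hn⟩⟩
  let A := fixedSubalgebra k K (Tw c) (tw_hsemi c)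
  let φ : K ⊗[k] A ≃ₐ[K] Matrix (Fin n) (Fin n) K := descentEquiv k K (Tw c) (tw_hsemi c)
  have hcent : Algebra.IsCentral K (K ⊗[k] A) :=
    Groth.Agent.Lib.helper1.CSA.isCentral_of_algEquiv K (Matrix (Fin n) (Fin n) K) _ φ.symm
  have hsimple : IsSimpleRing (K ⊗[k] A) :=
    IsSimpleRing.of_ringEquiv φ.symm.toRingEquiv inferInstance
  obtain ⟨h1, h2⟩ := Groth.Agent.Lib.helper1.CSA.central_simple_of_baseChange k A K hcent hsimple
  refine ⟨A, inferInstance, inferInstance, φ, h1, h2, ?_, ?_⟩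
  · have e1 : Module.finrank K (K ⊗[k] A) = Module.finrank k A := Module.finrank_baseChange
    rw [← e1, φ.toLinearEquiv.finrank_eq, Module.finrank_matrix]
    simp [sq]
  · intro σ M
    have := descentEquiv_map k K (Tw c) (tw_hsemi c) σ (φ.symm M)
    refine this.trans ?_
    show twAct c σ (φ (φ.symm M)) = _
    rw [φ.apply_symm_apply]
    rfl

end twisted

end Groth.Agent.Lib.helper1.Descent
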