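import Mathlib
import Groth.Agent.Lib.helper1.Descent2
import Groth.Prelude.Def_GSzCSA

/-!
# PGL-valued cocycles and their conjugation action (helper library of seat helper1)
-/

set_option autoImplicit false
set_option linter.unusedSectionVars false
universe u v w

namespace Groth.Agent.Lib.helper1.Descent

open TensorProduct Matrix
open scoped MatrixGroups

attribute [local instance] CSAGal.matrixAction GpH1.unitsAction CSAGal.pglAction

section pgl

variable {k : Type u} {K : Type v} [Field k] [Field K] [Algebra k K] {n : ℕ}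

/-- A central element of `GL` commutes with every matrix. -/
theorem commute_of_mem_center (z : GL (Fin n) K) (hz : z ∈ Subgroup.center (GL (Fin n) K))
    (M : Matrix (Fin n) (Fin n) K) :
    (z : Matrix (Fin n) (Fin n) K) * M = M * (z : Matrix (Fin n) (Fin n) K) := by
  obtain ⟨a, ha⟩ := Matrix.GeneralLinearGroup.mem_center_iff_val_mem_range_scalar.1 hz
  rw [← ha]
  exact (Matrix.scalar_commute a (fun r' => mul_comm a r') M).eq

/-- Two lifts of the same element of `PGL` induce the same conjugation. -/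
theorem conj_eq_of_mk_eq {g₁ g₂ : GL (Fin n) K}
    (h : Matrix.ProjGenLinGroup.mk g₁ = Matrix.ProjGenLinGroup.mk g₂)
    (M : Matrix (Fin n) (Fin n) K) :
    (g₁ : Matrix (Fin n) (Fin n) K) * M * ((g₁⁻¹ : GL (Fin n) K) : Matrix (Fin n) (Fin n) K) =
      (g₂ : Matrix (Fin n) (Fin n) K) * M * ((g₂⁻¹ : GL (Fin n) K) : Matrix (Fin n) (Fin n) K) := by
  have hz' : g₁⁻¹ * g₂ ∈ Subgroup.center (GL (Fin n) K) := QuotientGroup.eq.1 h
  obtain ⟨z, hzdef⟩ : ∃ z, z = g₁⁻¹ * g₂ := ⟨_, rfl⟩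
  have hz : z ∈ Subgroup.center (GL (Fin n) K) := hzdef ▸ hz'
  have hg₂ : g₂ = g₁ * z := by rw [hzdef]; group
  rw [hg₂, _root_.mul_inv_rev, Units.val_mul, Units.val_mul]
  have hc := commute_of_mem_center z hz M
  have hzz : (z : Matrix (Fin n) (Fin n) K) * ((z⁻¹ : GL (Fin n) K) : Matrix (Fin n) (Fin n) K) = 1 := by
    rw [← Units.val_mul, mul_inv_cancel]; rfl
  calc (g₁ : Matrix (Fin n) (Fin n) K) * M * ((g₁⁻¹ : GL (Fin n) K) : Matrix (Fin n) (Fin n) K)
      = (g₁ : Matrix (Fin n) (Fin n) K) * (M * ((z : Matrix (Fin n) (Fin n) K) *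
          ((z⁻¹ : GL (Fin n) K) : Matrix (Fin n) (Fin n) K))) *
          ((g₁⁻¹ : GL (Fin n) K) : Matrix (Fin n) (Fin n) K) := by rw [hzz, Matrix.mul_one]
    _ = (g₁ : Matrix (Fin n) (Fin n) K) * ((z : Matrix (Fin n) (Fin n) K) * M *
          ((z⁻¹ : GL (Fin n) K) : Matrix (Fin n) (Fin n) K)) *
          ((g₁⁻¹ : GL (Fin n) K) : Matrix (Fin n) (Fin n) K) := by
        rw [hc, Matrix.mul_assoc M]
    _ = _ := by simp only [Matrix.mul_assoc]

theorem smul_matrix_eq_map (σ : K ≃ₐ[k] K) (M : Matrix (Fin n) (Fin n) K) :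
    σ • M = M.map σ := by
  ext i j; rfl

theorem coe_smul_gl (σ : K ≃ₐ[k] K) (g : GL (Fin n) K) :
    ((σ • g : GL (Fin n) K) : Matrix (Fin n) (Fin n) K) = (g : Matrix (Fin n) (Fin n) K).map σ := by
  ext i j; rfl

theorem coe_inv_smul_gl (σ : K ≃ₐ[k] K) (g : GL (Fin n) K) :
    (((σ • g)⁻¹ : GL (Fin n) K) : Matrix (Fin n) (Fin n) K) =
      ((g⁻¹ : GL (Fin n) K) : Matrix (Fin n) (Fin n) K).map σ := by
  ext i j; rfl

theorem smul_mk (σ : K ≃ₐ[k] K) (g : GL (Fin n) K) :
    σ • (Matrix.ProjGenLinGroup.mk g : Matrix.ProjGenLinGroup (Fin n) K) =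
      Matrix.ProjGenLinGroup.mk (σ • g) := rfl

/-- A `PGL`-valued cocycle together with chosen lifts gives a projective cocycle. -/
noncomputable def pcocycleOf (c : GpH1.OneCocycle (K ≃ₐ[k] K) (Matrix.ProjGenLinGroup (Fin n) K))
    (g : (K ≃ₐ[k] K) → GL (Fin n) K) (hg : ∀ σ, Matrix.ProjGenLinGroup.mk (g σ) = c σ) :
    PCocycle k K n where
  g := g
  conj_one := by
    intro M
    have h1 : c 1 = 1 := by
      have := c.2 1 1
      rw [one_mul, one_smul] at this
      exact (mul_eq_left.1 this.symm)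
    have h2 : Matrix.ProjGenLinGroup.mk (g 1) = Matrix.ProjGenLinGroup.mk (1 : GL (Fin n) K) := by
      rw [hg, h1]; rfl
    rw [conj_eq_of_mk_eq h2 M]
    simp
  conj_mul := by
    intro σ τ M
    have h1 : Matrix.ProjGenLinGroup.mk (g (σ * τ)) =
        Matrix.ProjGenLinGroup.mk (g σ * σ • g τ) := by
      rw [hg, c.2 σ τ, map_mul, ← smul_mk, hg, hg]
    rw [conj_eq_of_mk_eq h1 M, _root_.mul_inv_rev, Units.val_mul, Units.val_mul, coe_smul_gl,
      coe_inv_smul_gl]
    simp only [Matrix.mul_assoc]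

end pgl

end Groth.Agent.Lib.helper1.Descent
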