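import Mathlib
import Groth.Agent.Lib.helper1.Descent3

/-!
# Descent of equivariant isomorphisms; conjugation and `PGL` (helper library of seat helper1)
-/

set_option autoImplicit false
set_option linter.unusedSectionVars false
universe u v w w'

namespace Groth.Agent.Lib.helper1.Descent

open TensorProduct Matrix
open scoped MatrixGroups

section pgl

variable {K : Type v} [Field K] {n : ℕ}

/-- If two invertible matrices induce the same conjugation, they agree in `PGL`. -/
theorem mk_eq_of_conj_eq {g₁ g₂ : GL (Fin n) K}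
    (h : ∀ M : Matrix (Fin n) (Fin n) K,
      (g₁ : Matrix (Fin n) (Fin n) K) * M * ((g₁⁻¹ : GL (Fin n) K) : Matrix (Fin n) (Fin n) K) =
      (g₂ : Matrix (Fin n) (Fin n) K) * M * ((g₂⁻¹ : GL (Fin n) K) : Matrix (Fin n) (Fin n) K)) :
    Matrix.ProjGenLinGroup.mk g₁ = Matrix.ProjGenLinGroup.mk g₂ := by
  refine QuotientGroup.eq.2 ?_
  rw [Subgroup.mem_center_iff]
  intro x
  have hx : g₁ * x * g₁⁻¹ = g₂ * x * g₂⁻¹ := by
    apply Units.ext
    simp only [Units.val_mul]
    exact h x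
  have h1 : x * (g₁⁻¹ * g₂) = g₁⁻¹ * (g₁ * x * g₁⁻¹) * g₂ := by group
  rw [h1, hx]
  group

/-- Conjugation by an invertible matrix as an algebra automorphism. -/
def conjAlgEquiv (h : GL (Fin n) K) : Matrix (Fin n) (Fin n) K ≃ₐ[K] Matrix (Fin n) (Fin n) K :=
  AlgEquiv.ofRingEquiv (f :=
    { toFun := fun M => (h : Matrix (Fin n) (Fin n) K) * M * ((h⁻¹ : GL (Fin n) K) : Matrix (Fin n) (Fin n) K)
      invFun := fun M => ((h⁻¹ : GL (Fin n) K) : Matrix (Fin n) (Fin n) K) * M * (h : Matrix (Fin n) (Fin n) K)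
      left_inv := fun M => by
        have h2 : ((h⁻¹ : GL (Fin n) K) : Matrix (Fin n) (Fin n) K) * (h : Matrix (Fin n) (Fin n) K) = 1 := by
          rw [← Units.val_mul, inv_mul_cancel]; rfl
        calc ((h⁻¹ : GL (Fin n) K) : Matrix (Fin n) (Fin n) K) * ((h : Matrix (Fin n) (Fin n) K) * M *
              ((h⁻¹ : GL (Fin n) K) : Matrix (Fin n) (Fin n) K)) * (h : Matrix (Fin n) (Fin n) K)
            = (((h⁻¹ : GL (Fin n) K) : Matrix (Fin n) (Fin n) K) * (h : Matrix (Fin n) (Fin n) K)) * M *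
              (((h⁻¹ : GL (Fin n) K) : Matrix (Fin n) (Fin n) K) * (h : Matrix (Fin n) (Fin n) K)) := by
              simp only [Matrix.mul_assoc]
          _ = M := by rw [h2, Matrix.one_mul, Matrix.mul_one]
      right_inv := fun M => by
        have h2 : (h : Matrix (Fin n) (Fin n) K) * ((h⁻¹ : GL (Fin n) K) : Matrix (Fin n) (Fin n) K) = 1 := by
          rw [← Units.val_mul, mul_inv_cancel]; rfl
        calc (h : Matrix (Fin n) (Fin n) K) * (((h⁻¹ : GL (Fin n) K) : Matrix (Fin n) (Fin n) K) * M *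
              (h : Matrix (Fin n) (Fin n) K)) * ((h⁻¹ : GL (Fin n) K) : Matrix (Fin n) (Fin n) K)
            = ((h : Matrix (Fin n) (Fin n) K) * ((h⁻¹ : GL (Fin n) K) : Matrix (Fin n) (Fin n) K)) * M *
              ((h : Matrix (Fin n) (Fin n) K) * ((h⁻¹ : GL (Fin n) K) : Matrix (Fin n) (Fin n) K)) := by
              simp only [Matrix.mul_assoc]
          _ = M := by rw [h2, Matrix.one_mul, Matrix.mul_one]
      map_mul' := fun M N => by
        have h2 : ((h⁻¹ : GL (Fin n) K) : Matrix (Fin n) (Fin n) K) * (h : Matrix (Fin n) (Fin n) K) = 1 := by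
          rw [← Units.val_mul, inv_mul_cancel]; rfl
        calc (h : Matrix (Fin n) (Fin n) K) * (M * N) * ((h⁻¹ : GL (Fin n) K) : Matrix (Fin n) (Fin n) K)
            = (h : Matrix (Fin n) (Fin n) K) * M * 1 * N * ((h⁻¹ : GL (Fin n) K) : Matrix (Fin n) (Fin n) K) := by
              simp only [Matrix.mul_one, Matrix.mul_assoc]
          _ = _ := by rw [← h2]; simp only [Matrix.mul_assoc]
      map_add' := fun M N => by rw [Matrix.mul_add, Matrix.add_mul] })
    (fun r => by
      show (h : Matrix (Fin n) (Fin n) K) * algebraMap K _ r * ((h⁻¹ : GL (Fin n) K) : Matrix (Fin n) (Fin n) K) = _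
      rw [← Algebra.commutes r (h : Matrix (Fin n) (Fin n) K), Matrix.mul_assoc, ← Units.val_mul,
        mul_inv_cancel]
      simp)

theorem conjAlgEquiv_apply (h : GL (Fin n) K) (M : Matrix (Fin n) (Fin n) K) :
    conjAlgEquiv h M = (h : Matrix (Fin n) (Fin n) K) * M *
      ((h⁻¹ : GL (Fin n) K) : Matrix (Fin n) (Fin n) K) := rfl

end pgl

section fixed

variable (k : Type u) (K : Type v) [Field k] [Field K] [Algebra k K] [FiniteDimensional k K]
  [IsGalois k K] (A : Type w) [Ring A] [Algebra k A]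

/-- The Galois-fixed elements of `K ⊗ A` are those of `A`. -/
theorem mem_range_includeRight_of_fixed (x : K ⊗[k] A)
    (hx : ∀ σ : K ≃ₐ[k] K, Algebra.TensorProduct.map (σ : K →ₐ[k] K) (AlgHom.id k A) x = x) :
    ∃ a : A, x = 1 ⊗ₜ[k] a := by
  classical
  let b := Module.Free.chooseBasis k A
  let bK := Algebra.TensorProduct.basis K b
  -- the action in coordinates
  have hact : ∀ (σ : K ≃ₐ[k] K) (y : K ⊗[k] A) (i),
      bK.repr (Algebra.TensorProduct.map (σ : K →ₐ[k] K) (AlgHom.id k A) y) i = σ (bK.repr y i) := by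
    intro σ y i
    induction y using TensorProduct.induction_on with
    | zero => simp
    | tmul c a =>
      rw [Algebra.TensorProduct.map_tmul]
      simp only [bK, Algebra.TensorProduct.basis_repr_tmul]
      simp
    | add y z hy hz => simp only [map_add, Finsupp.add_apply, hy, hz]
  have hcoord : ∀ i, bK.repr x i ∈ Set.range (algebraMap k K) := by
    intro i
    rw [IsGalois.mem_range_algebraMap_iff_fixed]
    intro σ
    have := hact σ x i
    rw [hx σ] at this
    exact this.symm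
  choose r hr using hcoord
  refine ⟨∑ i ∈ (bK.repr x).support, r i • b i, ?_⟩
  conv_lhs => rw [← bK.linearCombination_repr x]
  rw [Finsupp.linearCombination_apply, Finsupp.sum, TensorProduct.tmul_sum]
  refine Finset.sum_congr rfl fun i _ => ?_
  rw [← hr i, Algebra.TensorProduct.basis_apply, TensorProduct.tmul_smul, algebraMap_smul]

variable {k K A}
variable {A' : Type w'} [Ring A'] [Algebra k A']

omit [FiniteDimensional k K] [IsGalois k K] in
theorem includeRight_inj : Function.Injective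
    (Algebra.TensorProduct.includeRight : A →ₐ[k] K ⊗[k] A) :=
  Algebra.TensorProduct.includeRight_injective (FaithfulSMul.algebraMap_injective k K)

/-- An equivariant `k`-algebra map `K ⊗ A → K ⊗ A'` restricts to `A → A'`. -/
theorem exists_algHom_of_equivariant (Θ : K ⊗[k] A →ₐ[k] K ⊗[k] A')
    (hΘ : ∀ (σ : K ≃ₐ[k] K) (x : K ⊗[k] A),
      Θ (Algebra.TensorProduct.map (σ : K →ₐ[k] K) (AlgHom.id k A) x) =
        Algebra.TensorProduct.map (σ : K →ₐ[k] K) (AlgHom.id k A') (Θ x)) :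
    ∃ f : A →ₐ[k] A', ∀ a : A, Θ (1 ⊗ₜ[k] a) = 1 ⊗ₜ[k] f a := by
  let ι' : A' →ₐ[k] K ⊗[k] A' := Algebra.TensorProduct.includeRight
  have hι' : Function.Injective ι' := includeRight_inj
  have hmem : ∀ a : A, (Θ.comp (Algebra.TensorProduct.includeRight : A →ₐ[k] K ⊗[k] A)) a ∈
      ι'.range := by
    intro a
    obtain ⟨a', ha'⟩ := mem_range_includeRight_of_fixed k K A' (Θ (1 ⊗ₜ[k] a)) (fun σ => by
      rw [← hΘ σ, Algebra.TensorProduct.map_tmul, map_one]; rfl)
    exact ⟨a', ha'.symm⟩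
  let e := AlgEquiv.ofInjective ι' hι'
  let f : A →ₐ[k] A' := (e.symm : ι'.range →ₐ[k] A').comp
    ((Θ.comp (Algebra.TensorProduct.includeRight : A →ₐ[k] K ⊗[k] A)).codRestrict ι'.range hmem)
  refine ⟨f, fun a => ?_⟩
  have h1 : ι' (f a) = Θ (1 ⊗ₜ[k] a) := by
    have := e.apply_symm_apply
      (((Θ.comp (Algebra.TensorProduct.includeRight : A →ₐ[k] K ⊗[k] A)).codRestrict ι'.range hmem) a)
    exact congrArg Subtype.val this
  exact h1.symm

/-- An equivariant `k`-algebra isomorphism `K ⊗ A ≃ K ⊗ A'` descends to `A ≃ A'`. -/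
theorem nonempty_algEquiv_of_equivariant (Θ : K ⊗[k] A ≃ₐ[k] K ⊗[k] A')
    (hΘ : ∀ (σ : K ≃ₐ[k] K) (x : K ⊗[k] A),
      Θ (Algebra.TensorProduct.map (σ : K →ₐ[k] K) (AlgHom.id k A) x) =
        Algebra.TensorProduct.map (σ : K →ₐ[k] K) (AlgHom.id k A') (Θ x)) :
    Nonempty (A ≃ₐ[k] A') := by
  obtain ⟨f, hf⟩ := exists_algHom_of_equivariant (Θ : K ⊗[k] A →ₐ[k] K ⊗[k] A') hΘ
  have hΘ' : ∀ (σ : K ≃ₐ[k] K) (y : K ⊗[k] A'),
      Θ.symm (Algebra.TensorProduct.map (σ : K →ₐ[k] K) (AlgHom.id k A') y) =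
        Algebra.TensorProduct.map (σ : K →ₐ[k] K) (AlgHom.id k A) (Θ.symm y) := by
    intro σ y
    apply Θ.injective
    rw [Θ.apply_symm_apply, hΘ, Θ.apply_symm_apply]
  obtain ⟨f', hf'⟩ := exists_algHom_of_equivariant (Θ.symm : K ⊗[k] A' →ₐ[k] K ⊗[k] A) hΘ'
  refine ⟨AlgEquiv.ofAlgHom f f' ?_ ?_⟩
  · ext a'
    apply includeRight_inj (k := k) (K := K) (A := A')
    show (1 : K) ⊗ₜ[k] f (f' a') = 1 ⊗ₜ[k] a'
    rw [← hf, ← hf']
    exact Θ.apply_symm_apply _
  · ext a
    apply includeRight_inj (k := k) (K := K) (A := A)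
    show (1 : K) ⊗ₜ[k] f' (f a) = 1 ⊗ₜ[k] a
    rw [← hf', ← hf]
    exact Θ.symm_apply_apply _

end fixed

end Groth.Agent.Lib.helper1.Descent
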