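import Mathlib

/-!
# Twisted matrix representations of algebras over a Galois extension (helper library of seat helper1)

A `TwRep k K X ι c` is a `k`-algebra map `ρ : X → M_ι(K)` together with invertible matrices `g σ`
(`σ ∈ Gal(K/k)`) such that `g σ * σ(ρ x) = ρ x * g σ` and `g σ * σ(g τ) = c σ τ • g (σ τ)`:
a splitting of `X` over `K` with its "2-cocycle" `c`.
-/

set_option autoImplicit false
set_option linter.unusedSectionVars false
universe u v w w'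

namespace Groth.Agent.Lib.helper1.TwRep

open TensorProduct Matrix
open scoped Kronecker

section defs

variable (k : Type u) (K : Type v) [Field k] [Field K] [Algebra k K]

/-- A twisted representation. -/
structure TwRep (X : Type w) [Ring X] [Algebra k X] (ι : Type w') [Fintype ι] [DecidableEq ι]
    (c : (K ≃ₐ[k] K) → (K ≃ₐ[k] K) → K) where
  ρ : X →ₐ[k] Matrix ι ι K
  g : (K ≃ₐ[k] K) → Matrix ι ι K
  det_ne : ∀ σ, (g σ).det ≠ 0
  tw : ∀ σ x, g σ * (ρ x).map σ = ρ x * g σ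
  mul : ∀ σ τ, g σ * (g τ).map σ = c σ τ • g (σ * τ)

end defs

section kron

variable {k : Type u} {K : Type v} [Field k] [Field K] [Algebra k K]
variable {ι₁ : Type w} {ι₂ : Type w'} [Fintype ι₁] [DecidableEq ι₁] [Fintype ι₂] [DecidableEq ι₂]

/-- `M ↦ M ⊗ₖ 1` as an algebra map. -/
def kronLeft : Matrix ι₁ ι₁ K →ₐ[k] Matrix (ι₁ × ι₂) (ι₁ × ι₂) K where
  toFun M := M ⊗ₖ (1 : Matrix ι₂ ι₂ K)
  map_one' := one_kronecker_one
  map_mul' M N := by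
    rw [← mul_kronecker_mul, Matrix.one_mul]
  map_zero' := zero_kronecker _
  map_add' M N := add_kronecker _ _ _
  commutes' r := by
    rw [Algebra.algebraMap_eq_smul_one, Algebra.algebraMap_eq_smul_one, smul_kronecker,
      one_kronecker_one]

/-- `N ↦ 1 ⊗ₖ N` as an algebra map. -/
def kronRight : Matrix ι₂ ι₂ K →ₐ[k] Matrix (ι₁ × ι₂) (ι₁ × ι₂) K where
  toFun N := (1 : Matrix ι₁ ι₁ K) ⊗ₖ N
  map_one' := one_kronecker_one
  map_mul' M N := by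
    rw [← mul_kronecker_mul, Matrix.one_mul]
  map_zero' := kronecker_zero _
  map_add' M N := kronecker_add _ _ _
  commutes' r := by
    rw [Algebra.algebraMap_eq_smul_one, Algebra.algebraMap_eq_smul_one, kronecker_smul,
      one_kronecker_one]

theorem kronLeft_mul_kronRight (M : Matrix ι₁ ι₁ K) (N : Matrix ι₂ ι₂ K) :
    (kronLeft (k := k) (ι₂ := ι₂) M) * (kronRight (k := k) (ι₁ := ι₁) N) = M ⊗ₖ N := by
  show (M ⊗ₖ (1 : Matrix ι₂ ι₂ K)) * ((1 : Matrix ι₁ ι₁ K) ⊗ₖ N) = M ⊗ₖ N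
  rw [← mul_kronecker_mul, Matrix.mul_one, Matrix.one_mul]

theorem kronRight_mul_kronLeft (M : Matrix ι₁ ι₁ K) (N : Matrix ι₂ ι₂ K) :
    (kronRight (k := k) (ι₁ := ι₁) N) * (kronLeft (k := k) (ι₂ := ι₂) M) = M ⊗ₖ N := by
  show ((1 : Matrix ι₁ ι₁ K) ⊗ₖ N) * (M ⊗ₖ (1 : Matrix ι₂ ι₂ K)) = M ⊗ₖ N
  rw [← mul_kronecker_mul, Matrix.mul_one, Matrix.one_mul]

theorem map_kronecker (σ : K ≃ₐ[k] K) (M : Matrix ι₁ ι₁ K) (N : Matrix ι₂ ι₂ K) :
    (M ⊗ₖ N).map σ = M.map σ ⊗ₖ N.map σ := by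
  ext ⟨i, i'⟩ ⟨j, j'⟩
  simp

variable {X₁ : Type*} {X₂ : Type*} [Ring X₁] [Algebra k X₁] [Ring X₂] [Algebra k X₂]

/-- The Kronecker product of two representations. -/
noncomputable def kronRep (ρ₁ : X₁ →ₐ[k] Matrix ι₁ ι₁ K) (ρ₂ : X₂ →ₐ[k] Matrix ι₂ ι₂ K) :
    X₁ ⊗[k] X₂ →ₐ[k] Matrix (ι₁ × ι₂) (ι₁ × ι₂) K :=
  Algebra.TensorProduct.lift ((kronLeft (k := k) (ι₂ := ι₂)).comp ρ₁)
    ((kronRight (k := k) (ι₁ := ι₁)).comp ρ₂) (fun x y => by
      show kronLeft (k := k) (ι₂ := ι₂) (ρ₁ x) * kronRight (k := k) (ι₁ := ι₁) (ρ₂ y) =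
        kronRight (k := k) (ι₁ := ι₁) (ρ₂ y) * kronLeft (k := k) (ι₂ := ι₂) (ρ₁ x)
      rw [kronLeft_mul_kronRight, kronRight_mul_kronLeft])

theorem kronRep_tmul (ρ₁ : X₁ →ₐ[k] Matrix ι₁ ι₁ K) (ρ₂ : X₂ →ₐ[k] Matrix ι₂ ι₂ K)
    (x : X₁) (y : X₂) : kronRep ρ₁ ρ₂ (x ⊗ₜ[k] y) = ρ₁ x ⊗ₖ ρ₂ y := by
  rw [kronRep, Algebra.TensorProduct.lift_tmul]
  exact kronLeft_mul_kronRight (k := k) _ _

end kron

section ops

variable {k : Type u} {K : Type v} [Field k] [Field K] [Algebra k K]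

theorem map_add_sigma {ι : Type*} (σ : K ≃ₐ[k] K) (M N : Matrix ι ι K) :
    (M + N).map σ = M.map σ + N.map σ := by
  ext i j; simp

/-- Tensor product of twisted representations. -/
noncomputable def TwRep.tensor {X₁ : Type*} {X₂ : Type*} [Ring X₁] [Algebra k X₁] [Ring X₂]
    [Algebra k X₂] {ι₁ : Type w} {ι₂ : Type w'} [Fintype ι₁] [DecidableEq ι₁] [Fintype ι₂]
    [DecidableEq ι₂] {c₁ c₂ : (K ≃ₐ[k] K) → (K ≃ₐ[k] K) → K}
    (R₁ : TwRep k K X₁ ι₁ c₁) (R₂ : TwRep k K X₂ ι₂ c₂) :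
    TwRep k K (X₁ ⊗[k] X₂) (ι₁ × ι₂) (fun σ τ => c₁ σ τ * c₂ σ τ) where
  ρ := kronRep R₁.ρ R₂.ρ
  g σ := R₁.g σ ⊗ₖ R₂.g σ
  det_ne σ := by
    rw [det_kronecker]
    exact mul_ne_zero (pow_ne_zero _ (R₁.det_ne σ)) (pow_ne_zero _ (R₂.det_ne σ))
  tw σ x := by
    induction x using TensorProduct.induction_on with
    | zero => simp
    | tmul x y =>
      rw [kronRep_tmul, map_kronecker, ← mul_kronecker_mul, ← mul_kronecker_mul, R₁.tw, R₂.tw]
    | add x y hx hy =>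
      rw [map_add, map_add_sigma, Matrix.mul_add, hx, hy, Matrix.add_mul]
  mul σ τ := by
    rw [map_kronecker, ← mul_kronecker_mul, R₁.mul, R₂.mul, smul_kronecker, kronecker_smul,
      smul_smul]

/-- Transport along an algebra isomorphism. -/
def TwRep.congr {X : Type*} {X' : Type*} [Ring X] [Algebra k X] [Ring X'] [Algebra k X']
    {ι : Type w} [Fintype ι] [DecidableEq ι] {c : (K ≃ₐ[k] K) → (K ≃ₐ[k] K) → K}
    (R : TwRep k K X ι c) (e : X' ≃ₐ[k] X) : TwRep k K X' ι c where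
  ρ := R.ρ.comp (e : X' →ₐ[k] X)
  g := R.g
  det_ne := R.det_ne
  tw σ x := R.tw σ (e x)
  mul := R.mul

/-- Change of the cocycle function along an equality. -/
def TwRep.cast {X : Type*} [Ring X] [Algebra k X]
    {ι : Type w} [Fintype ι] [DecidableEq ι] {c c' : (K ≃ₐ[k] K) → (K ≃ₐ[k] K) → K}
    (R : TwRep k K X ι c) (h : ∀ σ τ, c σ τ = c' σ τ) : TwRep k K X ι c' where
  ρ := R.ρ
  g := R.g
  det_ne := R.det_ne
  tw := R.tw
  mul σ τ := by rw [R.mul, h]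

/-- Rescaling by a 1-cochain: if `c = ∂v` then the rescaled representation has trivial cocycle. -/
def TwRep.rescale {X : Type*} [Ring X] [Algebra k X]
    {ι : Type w} [Fintype ι] [DecidableEq ι] {c : (K ≃ₐ[k] K) → (K ≃ₐ[k] K) → K}
    (R : TwRep k K X ι c) (v : (K ≃ₐ[k] K) → K) (hv : ∀ σ, v σ ≠ 0)
    (hc : ∀ σ τ, c σ τ * v (σ * τ) = v σ * σ (v τ)) : TwRep k K X ι (fun _ _ => 1) where
  ρ := R.ρ
  g σ := (v σ)⁻¹ • R.g σ
  det_ne σ := by
    rw [det_smul]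
    exact mul_ne_zero (pow_ne_zero _ (inv_ne_zero (hv σ))) (R.det_ne σ)
  tw σ x := by
    rw [Matrix.smul_mul, R.tw, Matrix.mul_smul]
  mul σ τ := by
    have h1 : ((v τ)⁻¹ • R.g τ).map σ = (σ (v τ))⁻¹ • (R.g τ).map σ := by
      ext i j
      simp [Matrix.map_apply, Matrix.smul_apply]
    rw [h1, Matrix.smul_mul, Matrix.mul_smul, R.mul, smul_smul, smul_smul, one_smul]
    congr 1
    have hne : v (σ * τ) ≠ 0 := hv _
    have hne1 : v σ ≠ 0 := hv _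
    have hne2 : σ (v τ) ≠ 0 := by
      intro h; exact hv τ ((map_eq_zero σ).1 h)
    have h2 : c σ τ = v σ * σ (v τ) * (v (σ * τ))⁻¹ := by
      rw [eq_mul_inv_iff_mul_eq₀ hne]; exact hc σ τ
    rw [h2]
    field_simp

end ops

end Groth.Agent.Lib.helper1.TwRep
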