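import Mathlib
import Groth.Agent.Lib.helper1.TwRep1
import Groth.Agent.S7723
import Groth.Prelude.Def_GSzCSA

/-!
# A twisted representation with trivial cocycle splits the algebra (helper library of seat helper1)
-/

set_option autoImplicit false
set_option linter.unusedSectionVars false
set_option linter.dupNamespace false
universe u v w w'

namespace Groth.Agent.Lib.helper1.TwRep

open TensorProduct Matrix

section split

variable {k : Type u} {K : Type v} [Field k] [Field K] [Algebra k K]
  {X : Type w} [Ring X] [Algebra k X] {ι : Type w'} [Fintype ι] [DecidableEq ι]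

/-- The column space with the Galois action twisted by `g`. -/
def TwV (_R : TwRep k K X ι (fun _ _ => 1)) : Type (max v w') := ι → K

variable (R : TwRep k K X ι (fun _ _ => 1))

instance : AddCommGroup (TwV R) := inferInstanceAs (AddCommGroup (ι → K))
instance : Module K (TwV R) := inferInstanceAs (Module K (ι → K))
instance : Module k (TwV R) := inferInstanceAs (Module k (ι → K))
instance : IsScalarTower k K (TwV R) := inferInstanceAs (IsScalarTower k K (ι → K))
instance [FiniteDimensional k K] : Module.Finite k (TwV R) :=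
  inferInstanceAs (Module.Finite k (ι → K))
instance : Module.Finite K (TwV R) := inferInstanceAs (Module.Finite K (ι → K))

theorem sigma_mulVec (σ : K ≃ₐ[k] K) (M : Matrix ι ι K) (v : ι → K) :
    (fun i => σ ((M *ᵥ v) i)) = M.map σ *ᵥ (fun i => σ (v i)) := by
  funext i
  exact RingHom.map_mulVec (σ : K →+* K) M v i

theorem TwRep.g_one : R.g 1 = 1 := by
  have h := R.mul 1 1
  have h1 : (R.g 1).map ((1 : K ≃ₐ[k] K) : K → K) = R.g 1 := by ext i j; rfl
  rw [h1, one_smul, mul_one] at h
  have hU : IsUnit (R.g 1) := (Matrix.isUnit_iff_isUnit_det _).2 (IsUnit.mk0 _ (R.det_ne 1))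
  exact hU.mul_left_cancel (by rw [h, mul_one])

/-- The twisted action on column vectors. -/
def twSmul (σ : K ≃ₐ[k] K) (v : TwV R) : TwV R := R.g σ *ᵥ (fun i => σ (v i))

instance : DistribMulAction (K ≃ₐ[k] K) (TwV R) where
  smul σ v := twSmul R σ v
  one_smul v := by
    show R.g 1 *ᵥ (fun i => (1 : K ≃ₐ[k] K) (v i)) = v
    rw [R.g_one]
    exact Matrix.one_mulVec v
  mul_smul σ τ v := by
    show R.g (σ * τ) *ᵥ (fun i => (σ * τ) (v i)) =
      R.g σ *ᵥ (fun i => σ ((R.g τ *ᵥ (fun i => τ (v i))) i))
    rw [sigma_mulVec, Matrix.mulVec_mulVec, R.mul, one_smul]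
    rfl
  smul_zero σ := by
    show R.g σ *ᵥ (fun i => σ ((0 : ι → K) i)) = 0
    have : (fun i => σ ((0 : ι → K) i)) = 0 := by funext i; simp
    rw [this, Matrix.mulVec_zero]
  smul_add σ v w := by
    show R.g σ *ᵥ (fun i => σ ((v + w : ι → K) i)) =
      R.g σ *ᵥ (fun i => σ (v i)) + R.g σ *ᵥ (fun i => σ (w i))
    rw [← Matrix.mulVec_add]
    congr 1
    funext i
    exact map_add σ (v i) (w i)

theorem tw_smul_def (σ : K ≃ₐ[k] K) (v : TwV R) :
    σ • v = R.g σ *ᵥ (fun i => σ (v i)) := rfl

theorem tw_hsemi (σ : K ≃ₐ[k] K) (c : K) (v : TwV R) : σ • (c • v) = σ c • σ • v := by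
  rw [tw_smul_def, tw_smul_def]
  have : (fun i => σ ((c • v : TwV R) i)) = σ c • (fun i => σ (v i)) := by
    funext i
    show σ (c * v i) = σ c * σ (v i)
    rw [map_mul]
  rw [this, Matrix.mulVec_smul]
  rfl

/-- The fixed vectors as a `k`-subspace. -/
def fixedSub : Submodule k (TwV R) where
  carrier := {v | ∀ σ : K ≃ₐ[k] K, σ • v = v}
  add_mem' := by
    intro v w hv hw σ
    rw [smul_add, hv σ, hw σ]
  zero_mem' := fun σ => smul_zero σ
  smul_mem' := by
    intro r v hv σ
    have : r • v = (algebraMap k K r) • v := (algebraMap_smul K r v).symm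
    rw [this, tw_hsemi, hv σ, AlgEquiv.commutes]

theorem mem_fixedSub (v : TwV R) : v ∈ fixedSub R ↔ ∀ σ : K ≃ₐ[k] K, σ • v = v := Iff.rfl

theorem rho_mulVec_mem (x : X) (v : TwV R) (hv : v ∈ fixedSub R) :
    (R.ρ x *ᵥ v : TwV R) ∈ fixedSub R := by
  intro σ
  rw [tw_smul_def, sigma_mulVec, Matrix.mulVec_mulVec, R.tw, ← Matrix.mulVec_mulVec]
  congr 1
  exact hv σ

/-- The action of `X` on the fixed vectors. -/
def actEnd (x : X) : Module.End k (fixedSub R) :=
  LinearMap.restrict ((Matrix.toLin' (R.ρ x)).restrictScalars k)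
    (p := fixedSub R) (q := fixedSub R) (fun v hv => rho_mulVec_mem R x v hv)

theorem actEnd_apply (x : X) (v : fixedSub R) :
    ((actEnd R x v : fixedSub R) : TwV R) = R.ρ x *ᵥ (v : TwV R) := rfl

/-- The action as an algebra map. -/
def actHom : X →ₐ[k] Module.End k (fixedSub R) where
  toFun := actEnd R
  map_one' := by
    apply LinearMap.ext; intro v; apply Subtype.ext
    rw [actEnd_apply, map_one, Matrix.one_mulVec]; rfl
  map_mul' x y := by
    apply LinearMap.ext; intro v; apply Subtype.ext
    rw [actEnd_apply, map_mul, ← Matrix.mulVec_mulVec]; rfl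
  map_zero' := by
    apply LinearMap.ext; intro v; apply Subtype.ext
    rw [actEnd_apply, map_zero, Matrix.zero_mulVec]; rfl
  map_add' x y := by
    apply LinearMap.ext; intro v; apply Subtype.ext
    rw [actEnd_apply, map_add, Matrix.add_mulVec]; rfl
  commutes' r := by
    apply LinearMap.ext; intro v; apply Subtype.ext
    rw [actEnd_apply, AlgHom.commutes, Algebra.algebraMap_eq_smul_one, Matrix.smul_mulVec,
      Matrix.one_mulVec]
    rfl

variable [FiniteDimensional k K] [IsGalois k K]

/-- The fixed vectors form a `k`-form of the column space. -/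
theorem finrank_fixedSub : Module.finrank k (fixedSub R) = Fintype.card ι := by
  classical
  obtain ⟨hspan, hind⟩ := Groth.Agent.S7723.result k K (TwV R) (tw_hsemi R)
  let b := Module.finBasis k (fixedSub R)
  let wf : Fin (Module.finrank k (fixedSub R)) → TwV R := fun j => ((b j : fixedSub R) : TwV R)
  have hli : LinearIndependent k wf :=
    b.linearIndependent.map' (fixedSub R).subtype (LinearMap.ker_eq_bot.2 Subtype.val_injective)
  have hfix : ∀ j, wf j ∈ MulAction.fixedPoints (K ≃ₐ[k] K) (TwV R) := fun j σ => (b j).2 σ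
  have hVfin : Module.finrank K (TwV R) = Fintype.card ι := Module.finrank_fintype_fun_eq_card K
  apply le_antisymm
  · -- independence
    have hKli : LinearIndependent K wf := by
      have := hind (ULift.{max v w'} (Fin (Module.finrank k (fixedSub R)))) (wf ∘ ULift.down)
        (fun i => hfix i.down) (hli.comp _ ULift.down_injective)
      exact (this.comp ULift.up ULift.up_injective)
    have := hKli.fintype_card_le_finrank
    rwa [Fintype.card_fin, hVfin] at this
  · -- spanning
    have hsp : Submodule.span K (Set.range wf) = ⊤ := by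
      rw [eq_top_iff, ← hspan, Submodule.span_le]
      intro v hv
      have hv' : v ∈ fixedSub R := fun σ => hv σ
      have hrepr := b.sum_repr ⟨v, hv'⟩
      have hv2 : v = ∑ j, (algebraMap k K (b.repr ⟨v, hv'⟩ j)) • wf j := by
        have := congrArg (fun z : fixedSub R => (z : TwV R)) hrepr
        simp only [AddSubmonoidClass.coe_finsetSum, Submodule.coe_smul] at this
        refine this.symm.trans ?_
        refine Finset.sum_congr rfl fun j _ => ?_
        rw [algebraMap_smul]
      rw [hv2]
      exact Submodule.sum_mem _ fun j _ =>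
        Submodule.smul_mem _ _ (Submodule.subset_span ⟨j, rfl⟩)
    have h1 := finrank_range_le_card (R := K) wf
    rw [Set.finrank, hsp, finrank_top, hVfin, Fintype.card_fin] at h1
    exact h1

include R in
/-- **Splitting criterion**: a central simple algebra of degree `|ι|` with a twisted
representation with trivial cocycle is split. -/
theorem splits_of_twRep [Nonempty ι] [IsSimpleRing X]
    (hdim : Module.finrank k X = Fintype.card ι ^ 2) : Curves.Splits k X k := by
  classical
  have hd := finrank_fixedSub R
  have hpos : 0 < Module.finrank k (fixedSub R) := by rw [hd]; exact Fintype.card_pos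
  haveI : Nontrivial (fixedSub R) := Module.nontrivial_of_finrank_pos (R := k) hpos
  haveI : Module.Finite k X := Module.finite_of_finrank_pos (by rw [hdim]; positivity)
  have hinj : Function.Injective (actHom R) := (actHom R).toRingHom.injective
  have hbij : Function.Bijective (actHom R) := by
    refine ⟨hinj, ?_⟩
    refine (LinearMap.injective_iff_surjective_of_finrank_eq_finrank
      (f := (actHom R).toLinearMap) ?_).1 hinj
    rw [hdim, Module.finrank_linearMap, hd, sq]
  let b := Module.finBasis k (fixedSub R)
  exact ⟨Module.finrank k (fixedSub R), hpos.ne',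
    ⟨(Algebra.TensorProduct.lid k X).trans <|
      (AlgEquiv.ofBijective (actHom R) hbij).trans (LinearMap.toMatrixAlgEquiv b)⟩⟩

end split

end Groth.Agent.Lib.helper1.TwRep
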