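import Mathlib
import Groth.Agent.Lib.helper1.TwRep2
import Groth.Agent.Lib.helper1.Descent4
import Groth.Agent.Lib.helper17.CSA

/-!
# The twisted representation attached to a Galois splitting (helper library of seat helper1)
-/

set_option autoImplicit false
set_option linter.unusedSectionVars false
set_option linter.dupNamespace false
universe u v w w'

namespace Groth.Agent.Lib.helper1.TwRep

open TensorProduct Matrix Groth.Agent.Lib.helper1.Descent
open scoped MatrixGroups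

section base

variable {k : Type u} {K : Type v} [Field k] [Field K] [Algebra k K]
  {A : Type w} [Ring A] [Algebra k A] {n : ℕ}
  (φ : K ⊗[k] A ≃ₐ[K] Matrix (Fin n) (Fin n) K)

/-- The `K`-algebra automorphism `M ↦ φ(σ(φ⁻¹(σ⁻¹ M)))` of the matrix algebra. -/
noncomputable def twistAut (σ : K ≃ₐ[k] K) :
    Matrix (Fin n) (Fin n) K ≃ₐ[K] Matrix (Fin n) (Fin n) K :=
  AlgEquiv.ofRingEquiv
    (f := (((σ⁻¹ : K ≃ₐ[k] K).mapMatrix (m := Fin n)).trans ((φ.symm.restrictScalars k).trans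
      ((Algebra.TensorProduct.congr σ (AlgEquiv.refl : A ≃ₐ[k] A)).trans
        (φ.restrictScalars k)))).toRingEquiv)
    (fun c => by
      show φ (Algebra.TensorProduct.congr σ (AlgEquiv.refl : A ≃ₐ[k] A)
        (φ.symm ((σ⁻¹ : K ≃ₐ[k] K).mapMatrix (algebraMap K (Matrix (Fin n) (Fin n) K) c)))) = _
      have h1 : (σ⁻¹ : K ≃ₐ[k] K).mapMatrix (algebraMap K (Matrix (Fin n) (Fin n) K) c) =
          algebraMap K (Matrix (Fin n) (Fin n) K) ((σ⁻¹ : K ≃ₐ[k] K) c) := by
        ext i j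
        simp only [AlgEquiv.mapMatrix_apply, Matrix.map_apply, Matrix.algebraMap_matrix_apply]
        split_ifs <;> simp
      rw [h1, AlgEquiv.commutes, Algebra.TensorProduct.algebraMap_apply,
        Algebra.TensorProduct.congr_apply, Algebra.TensorProduct.map_tmul]
      have h2 : (σ : K →ₐ[k] K) ((algebraMap K K) ((σ⁻¹ : K ≃ₐ[k] K) c)) = c := by
        show σ ((σ⁻¹ : K ≃ₐ[k] K) c) = c
        exact σ.apply_symm_apply c
      rw [h2]
      have h3 : c ⊗ₜ[k] ((AlgEquiv.refl : A ≃ₐ[k] A) : A →ₐ[k] A) (1 : A) =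
          algebraMap K (K ⊗[k] A) c := by
        rw [Algebra.TensorProduct.algebraMap_apply]; rfl
      rw [h3, AlgEquiv.commutes])

theorem twistAut_map (σ : K ≃ₐ[k] K) (N : Matrix (Fin n) (Fin n) K) :
    twistAut φ σ (N.map σ) =
      φ (Algebra.TensorProduct.map (σ : K →ₐ[k] K) (AlgHom.id k A) (φ.symm N)) := by
  show φ (Algebra.TensorProduct.congr σ (AlgEquiv.refl : A ≃ₐ[k] A)
        (φ.symm ((σ⁻¹ : K ≃ₐ[k] K).mapMatrix (N.map σ)))) = _
  have h1 : (σ⁻¹ : K ≃ₐ[k] K).mapMatrix (N.map σ) = N := by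
    ext i j
    simp only [AlgEquiv.mapMatrix_apply, Matrix.map_apply]
    exact σ.symm_apply_apply _
  rw [h1]
  rfl

variable [Algebra.IsCentral k A] [IsSimpleRing A]

/-- Skolem–Noether: the descent datum of a splitting is conjugation by invertible matrices. -/
theorem exists_conj (hn : 0 < n) (σ : K ≃ₐ[k] K) :
    ∃ u : GL (Fin n) K, ∀ N : Matrix (Fin n) (Fin n) K,
      φ (Algebra.TensorProduct.map (σ : K →ₐ[k] K) (AlgHom.id k A) (φ.symm N)) =
        (u : Matrix (Fin n) (Fin n) K) * N.map σ * ((u⁻¹ : GL (Fin n) K) : Matrix (Fin n) (Fin n) K) := by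
  haveI : Nonempty (Fin n) := ⟨⟨0, hn⟩⟩
  obtain ⟨u, hu⟩ := Groth.Agent.Lib.helper17.CSA.skolemNoether K (Matrix (Fin n) (Fin n) K)
    (twistAut φ σ)
  exact ⟨u, fun N => by rw [← twistAut_map, hu]⟩


attribute [local instance] CSAGal.matrixAction GpH1.unitsAction CSAGal.pglAction

/-- If two invertible matrices induce the same conjugation they differ by a scalar. -/
theorem exists_scalar_of_conj_eq {g₁ g₂ : GL (Fin n) K}
    (h : ∀ M : Matrix (Fin n) (Fin n) K,
      (g₁ : Matrix (Fin n) (Fin n) K) * M * ((g₁⁻¹ : GL (Fin n) K) : Matrix (Fin n) (Fin n) K) =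
      (g₂ : Matrix (Fin n) (Fin n) K) * M * ((g₂⁻¹ : GL (Fin n) K) : Matrix (Fin n) (Fin n) K)) :
    ∃ a : K, (g₁ : Matrix (Fin n) (Fin n) K) = a • (g₂ : Matrix (Fin n) (Fin n) K) := by
  have hmk := mk_eq_of_conj_eq h
  have hz : g₂⁻¹ * g₁ ∈ Subgroup.center (GL (Fin n) K) := QuotientGroup.eq.1 hmk.symm
  obtain ⟨a, ha⟩ := Matrix.GeneralLinearGroup.mem_center_iff_val_mem_range_scalar.1 hz
  refine ⟨a, ?_⟩
  have h1 : (g₁ : Matrix (Fin n) (Fin n) K) =
      (g₂ : Matrix (Fin n) (Fin n) K) * ((g₂⁻¹ * g₁ : GL (Fin n) K) : Matrix (Fin n) (Fin n) K) := by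
    rw [← Units.val_mul]; congr 1; group
  rw [h1, ← ha]
  rw [Matrix.scalar_apply, ← Matrix.smul_eq_mul_diagonal]

theorem exists_twRep_of_splitting (φ : K ⊗[k] A ≃ₐ[K] Matrix (Fin n) (Fin n) K) (hn : 0 < n) :
    ∃ (c : (K ≃ₐ[k] K) → (K ≃ₐ[k] K) → K), Nonempty (TwRep k K A (Fin n) c) := by
  choose u hu using exists_conj φ hn
  -- the representation
  let ρ : A →ₐ[k] Matrix (Fin n) (Fin n) K :=
    ((φ.restrictScalars k : K ⊗[k] A ≃ₐ[k] Matrix (Fin n) (Fin n) K) : K ⊗[k] A →ₐ[k] _).comp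
      (Algebra.TensorProduct.includeRight : A →ₐ[k] K ⊗[k] A)
  have hρ : ∀ x, ρ x = φ (1 ⊗ₜ[k] x) := fun x => rfl
  have htw : ∀ σ x, (u σ : Matrix (Fin n) (Fin n) K) * (ρ x).map σ =
      ρ x * (u σ : Matrix (Fin n) (Fin n) K) := by
    intro σ x
    have h1 := hu σ (ρ x)
    rw [hρ, AlgEquiv.symm_apply_apply, Algebra.TensorProduct.map_tmul, map_one] at h1
    simp only [AlgHom.coe_id, id_eq] at h1
    rw [← hρ] at h1
    conv_rhs => rw [h1]
    rw [Matrix.mul_assoc, Matrix.mul_assoc, ← Units.val_mul, inv_mul_cancel]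
    simp
  have hmul : ∀ σ τ, ∃ a : K, (u σ : Matrix (Fin n) (Fin n) K) *
      (u τ : Matrix (Fin n) (Fin n) K).map σ = a • (u (σ * τ) : Matrix (Fin n) (Fin n) K) := by
    intro σ τ
    have key : ∀ M : Matrix (Fin n) (Fin n) K,
        ((u σ * σ • u τ : GL (Fin n) K) : Matrix (Fin n) (Fin n) K) * M *
          (((u σ * σ • u τ)⁻¹ : GL (Fin n) K) : Matrix (Fin n) (Fin n) K) =
        (u (σ * τ) : Matrix (Fin n) (Fin n) K) * M *
          (((u (σ * τ))⁻¹ : GL (Fin n) K) : Matrix (Fin n) (Fin n) K) := by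
      intro M
      obtain ⟨N, rfl⟩ : ∃ N : Matrix (Fin n) (Fin n) K, M = N.map (σ * τ) := by
        refine ⟨M.map ((σ * τ)⁻¹ : K ≃ₐ[k] K), ?_⟩
        ext i j
        simp only [Matrix.map_apply]
        exact ((σ * τ).apply_symm_apply _).symm
      rw [← hu (σ * τ) N]
      have h2 : Algebra.TensorProduct.map ((σ * τ : K ≃ₐ[k] K) : K →ₐ[k] K) (AlgHom.id k A)
          (φ.symm N) = Algebra.TensorProduct.map (σ : K →ₐ[k] K) (AlgHom.id k A)
            (φ.symm (φ (Algebra.TensorProduct.map (τ : K →ₐ[k] K) (AlgHom.id k A)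
              (φ.symm N)))) := by
        rw [AlgEquiv.symm_apply_apply]
        generalize φ.symm N = y
        induction y using TensorProduct.induction_on with
        | zero => simp
        | tmul a x => simp [Algebra.TensorProduct.map_tmul]
        | add y z hy hz => rw [map_add, map_add, map_add, hy, hz]
      rw [h2, hu σ, hu τ]
      rw [_root_.mul_inv_rev, Units.val_mul, Units.val_mul, coe_smul_gl, coe_inv_smul_gl]
      have h3 : ((u τ : Matrix (Fin n) (Fin n) K) * N.map τ *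
          ((u τ)⁻¹ : GL (Fin n) K)).map σ = (u τ : Matrix (Fin n) (Fin n) K).map σ *
            N.map (σ * τ) * (((u τ)⁻¹ : GL (Fin n) K) : Matrix (Fin n) (Fin n) K).map σ := by
        rw [Matrix.map_mul, Matrix.map_mul]
        congr 2
      rw [h3]
      simp only [Matrix.mul_assoc]
    obtain ⟨a, ha⟩ := exists_scalar_of_conj_eq key
    refine ⟨a, ?_⟩
    rw [← ha, Units.val_mul, coe_smul_gl]
  choose c hc using hmul
  refine ⟨c, ⟨{ ρ := ρ, g := fun σ => (u σ : Matrix (Fin n) (Fin n) K), det_ne := ?_, tw := htw, mul := hc }⟩⟩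
  intro σ
  have := (Matrix.isUnit_iff_isUnit_det _).1 (u σ).isUnit
  exact this.ne_zero

end base

end Groth.Agent.Lib.helper1.TwRep
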