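import Mathlib
import Groth.Agent.Lib.helper1.TwRep3
import Groth.Agent.Lib.helper1.BrEq
import Groth.Agent.Lib.helper1.Tpow
import Groth.Agent.Lib.helper1.CSA4
import Groth.Agent.Lib.helper1.RedNorm1

/-!
# The period divides the degree (helper library of seat helper1)

For a central simple algebra `A` of dimension `n²` over a field `k`, the `n`-fold tensor power of
`A` is split.
-/

set_option autoImplicit false
set_option linter.unusedSectionVars false
set_option linter.dupNamespace false
universe u v w w'

namespace Groth.Agent.Lib.helper1.TwRep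

open TensorProduct Matrix Groth.Agent.Lib.helper1.Tpow Groth.Agent.Lib.helper1
  Groth.Agent.Lib.helper1.BrEq

section power

variable {k : Type u} {K : Type v} [Field k] [Field K] [Algebra k K]
  {A : Type w} [Ring A] [Algebra k A] {n : ℕ} {c : (K ≃ₐ[k] K) → (K ≃ₐ[k] K) → K}

theorem TwRep.det_rel (R : TwRep k K A (Fin n) c) (σ τ : K ≃ₐ[k] K) :
    c σ τ ^ n * (R.g (σ * τ)).det = (R.g σ).det * σ ((R.g τ).det) := by
  have h := congrArg Matrix.det (R.mul σ τ)
  rw [Matrix.det_mul (R.g σ) ((R.g τ).map σ), Matrix.det_smul (R.g (σ * τ)) (c σ τ),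
    Fintype.card_fin] at h
  rw [← h]
  congr 1
  exact (AlgEquiv.map_det σ (R.g τ)).symm

theorem exists_twRep_tpow (R : TwRep k K A (Fin n) c) (hA : Module.finrank k A = n ^ 2) (e : ℕ) :
    ∃ (ι : Type) (_ : Fintype ι) (_ : DecidableEq ι),
      Nonempty (TwRep k K (CSAGal.tpow k A e) ι (fun σ τ => c σ τ ^ e)) ∧
        Fintype.card ι = n ^ e ∧ Module.finrank k (CSAGal.tpow k A e) = (n ^ e) ^ 2 := by
  induction e with
  | zero =>
    refine ⟨Unit, inferInstance, inferInstance, ⟨?_⟩, by simp, ?_⟩
    · refine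
        { ρ := (Algebra.ofId k (Matrix Unit Unit K)).comp
            ((tpowZeroAlgEquiv k A : CSAGal.tpow k A 0 ≃ₐ[k] k) : CSAGal.tpow k A 0 →ₐ[k] k)
          g := fun _ => 1
          det_ne := fun _ => by simp
          tw := ?_
          mul := ?_ }
      · intro σ x
        rw [Matrix.one_mul, Matrix.mul_one]
        ext i j
        simp only [AlgHom.coe_comp, Function.comp_apply, Matrix.map_apply, Algebra.ofId_apply,
          Matrix.algebraMap_matrix_apply]
        split_ifs
        · rw [IsScalarTower.algebraMap_apply k K K, Algebra.algebraMap_self, RingHom.id_apply,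
            AlgEquiv.commutes]
        · simp
      · intro σ τ
        simp
    · rw [(tpowZeroAlgEquiv k A).toLinearEquiv.finrank_eq]
      simp
  | succ e ih =>
    obtain ⟨ι, hF, hD, ⟨Re⟩, hcard, hfr⟩ := ih
    refine ⟨Fin n × ι, inferInstance, inferInstance, ⟨?_⟩, ?_, ?_⟩
    · exact ((R.tensor Re).congr (succAlgEquiv k A e).symm).cast (fun σ τ => (pow_succ' _ _).symm)
    · rw [Fintype.card_prod, Fintype.card_fin, hcard, pow_succ']
    · rw [← (succAlgEquiv k A e).toLinearEquiv.finrank_eq, Module.finrank_tensorProduct, hA, hfr]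
      ring

end power

section main

variable (k : Type u) [Field k] (A : Type v) [Ring A] [Algebra k A]
  [Algebra.IsCentral k A] [IsSimpleRing A] [FiniteDimensional k A]

/-- **The period divides the degree**: the `n`-fold tensor power of a central simple algebra of
dimension `n²` is split. -/
theorem splits_tpow_degree (n : ℕ) (hA : Module.finrank k A = n ^ 2) :
    Curves.Splits k (CSAGal.tpow k A n) k := by
  classical
  obtain ⟨L, hfin, hgal, m, hm, ⟨φ⟩⟩ := CSA.exists_finite_galois_splitting k A
  have hmn : m = n := RedNorm.size_eq_of_finrank φ n hA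
  subst hmn
  obtain ⟨c, ⟨R⟩⟩ := exists_twRep_of_splitting φ (Nat.pos_of_ne_zero hm)
  obtain ⟨ι, hF, hD, ⟨Rn⟩, hcard, hfr⟩ := exists_twRep_tpow R hA m
  obtain ⟨_, hs, _⟩ := csa_tpow k A m
  haveI : Nonempty ι := by
    rw [← Fintype.card_pos_iff, hcard]
    exact pow_pos (Nat.pos_of_ne_zero hm) _
  refine splits_of_twRep (Rn.rescale (fun σ => (R.g σ).det) (fun σ => R.det_ne σ)
    (fun σ τ => R.det_rel σ τ)) ?_
  rw [hfr, hcard]

end main

end Groth.Agent.Lib.helper1.TwRep
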