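import Mathlib
import Groth.Agent.Lib.helper1.TwRep4
import Groth.Agent.Lib.helper1.Tpow2
import Groth.Agent.Lib.helper1.CSA10
import Groth.Agent.S0192

/-!
# Period divides index (helper library of seat helper1)
-/

set_option autoImplicit false
set_option linter.unusedSectionVars false
set_option linter.dupNamespace false
universe u v w w'

namespace Groth.Agent.Lib.helper1.PerInd

open TensorProduct Matrix Groth.Agent.Lib.helper1.Tpow Groth.Agent.Lib.helper1
  Groth.Agent.Lib.helper1.BrEq Groth.Agent.Lib.helper1.CSA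

/-- Brauer equivalence is compatible with tensor powers. -/
theorem BrEq.tpow {k : Type u} [Field k] {X : Type v} {Y : Type w} [Ring X] [Algebra k X]
    [Ring Y] [Algebra k Y] (h : BrEq k X Y) (e : ℕ) :
    BrEq k (CSAGal.tpow k X e) (CSAGal.tpow k Y e) := by
  induction e with
  | zero => exact BrEq.of_algEquiv ((tpowZeroAlgEquiv k X).trans (tpowZeroAlgEquiv k Y).symm)
  | succ e ih =>
    have h1 : BrEq k (CSAGal.tpow k X (e + 1)) (X ⊗[k] CSAGal.tpow k X e) :=
      BrEq.of_algEquiv (succAlgEquiv k X e).symm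
    have h2 : BrEq k (X ⊗[k] CSAGal.tpow k X e) (X ⊗[k] CSAGal.tpow k Y e) := ih.tensor_left X
    have h3 : BrEq k (X ⊗[k] CSAGal.tpow k Y e) (CSAGal.tpow k Y e ⊗[k] X) :=
      BrEq.of_algEquiv (Algebra.TensorProduct.comm k _ _)
    have h4 : BrEq k (CSAGal.tpow k Y e ⊗[k] X) (CSAGal.tpow k Y e ⊗[k] Y) :=
      h.tensor_left (CSAGal.tpow k Y e)
    have h5 : BrEq k (CSAGal.tpow k Y e ⊗[k] Y) (Y ⊗[k] CSAGal.tpow k Y e) :=
      BrEq.of_algEquiv (Algebra.TensorProduct.comm k _ _)
    have h6 : BrEq k (Y ⊗[k] CSAGal.tpow k Y e) (CSAGal.tpow k Y (e + 1)) :=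
      BrEq.of_algEquiv (succAlgEquiv k Y e)
    exact h1.trans (h2.trans (h3.trans (h4.trans (h5.trans h6))))

/-- If `A` is Brauer equivalent to a central division algebra of dimension `d²`, then the `d`-th
tensor power of `A` is split. -/
theorem splits_tpow_of_brEq (k : Type u) [Field k]
    (A : Type v) [Ring A] [Algebra k A] [Algebra.IsCentral k A] [IsSimpleRing A]
    [FiniteDimensional k A]
    (D : Type w) [DivisionRing D] [Algebra k D] [Algebra.IsCentral k D] [FiniteDimensional k D]
    (h : BrEq k A D) (d : ℕ) (hd : Module.finrank k D = d ^ 2) :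
    Curves.Splits k (CSAGal.tpow k A d) k := by
  obtain ⟨h1, h2, h3⟩ := csa_tpow k A d
  exact (BrEq.tpow h d).splits k (TwRep.splits_tpow_degree k D d hd)

/-- Wedderburn: a central simple algebra is Brauer equivalent to a central division algebra whose
dimension is a square. -/
theorem exists_division (k : Type u) [Field k]
    (A : Type v) [Ring A] [Algebra k A] [Algebra.IsCentral k A] [IsSimpleRing A]
    [FiniteDimensional k A] :
    ∃ (D : Type v) (_ : DivisionRing D) (_ : Algebra k D) (_ : Algebra.IsCentral k D)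
      (_ : FiniteDimensional k D) (d : ℕ), Module.finrank k D = d ^ 2 ∧ BrEq k A D ∧
        ∃ m : ℕ, m ≠ 0 ∧ Nonempty (A ≃ₐ[k] Matrix (Fin m) (Fin m) D) := by
  haveI : IsArtinianRing A := IsArtinianRing.of_finite k A
  obtain ⟨r, hr, D, _, _, _, ⟨eA⟩⟩ := IsSimpleRing.exists_algEquiv_matrix_divisionRing_finite k A
  haveI : Algebra.IsCentral k (Matrix (Fin r) (Fin r) D) := isCentral_of_algEquiv k A _ eA
  haveI : Algebra.IsCentral k D := isCentral_of_matrix k D r hr.out
  obtain ⟨d, hd⟩ := Groth.Agent.S0192.result k D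
  exact ⟨D, inferInstance, inferInstance, inferInstance, inferInstance, d, by rw [hd, sq],
    brEq_of_algEquiv_matrix r hr.out eA, r, hr.out, ⟨eA⟩⟩

/-- A finite splitting field's degree kills the class: `tpow A [K:k]` is split. -/
theorem splits_tpow_finrank_of_splits (k : Type u) [Field k]
    (A : Type v) [Ring A] [Algebra k A] [Algebra.IsCentral k A] [IsSimpleRing A]
    [FiniteDimensional k A]
    (K : Type w) [Field K] [Algebra k K] [FiniteDimensional k K] (hs : Curves.Splits k A K) :
    Curves.Splits k (CSAGal.tpow k A (Module.finrank k K)) k := by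
  obtain ⟨D, _, _, _, _, d, hd, hAD, _⟩ := exists_division k A
  have hDs : Curves.Splits k D K := hAD.symm.splits K hs
  obtain ⟨q, hq⟩ := index_dvd_of_splits k D d hd K hDs
  rw [hq, Nat.mul_comm]
  exact splits_tpow_mul k A d q (splits_tpow_of_brEq k A D hAD d hd)

end Groth.Agent.Lib.helper1.PerInd
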