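import Mathlib
import Groth.Agent.Lib.helper1.BrEq
import Groth.Agent.Lib.helper1.Tpow

/-!
# Base change of tensor powers (helper library of seat helper1)
-/

set_option autoImplicit false
set_option linter.unusedSectionVars false
set_option linter.dupNamespace false
universe u v w w'

namespace Groth.Agent.Lib.helper1.TpowBC

open TensorProduct Groth.Agent.Lib.helper1.Tpow Groth.Agent.Lib.helper1.BrEq

section cancel

variable (R : Type*) (S : Type*) (T : Type*) (A : Type*) (B : Type*)
  [CommSemiring R] [CommSemiring S] [CommSemiring T] [Semiring A] [Semiring B]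
  [Algebra R S] [Algebra R T] [Algebra R A] [Algebra R B] [Algebra T A] [IsScalarTower R T A]
  [Algebra S A] [IsScalarTower R S A] [Algebra S T] [IsScalarTower S T A]

/-- Noncommutative version of `Algebra.TensorProduct.cancelBaseChange`. -/
noncomputable def cancelBaseChange : A ⊗[S] (S ⊗[R] B) ≃ₐ[T] A ⊗[R] B :=
  AlgEquiv.symm <| AlgEquiv.ofLinearEquiv
    (TensorProduct.AlgebraTensorModule.cancelBaseChange R S T A B).symm
    (by simp [Algebra.TensorProduct.one_def]) <|
      LinearMap.map_mul_of_map_mul_tmul (fun _ _ _ _ ↦ by simp)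

@[simp]
lemma cancelBaseChange_tmul (a : A) (s : S) (b : B) :
    cancelBaseChange R S T A B (a ⊗ₜ (s ⊗ₜ b)) = (s • a) ⊗ₜ b :=
  TensorProduct.AlgebraTensorModule.cancelBaseChange_tmul R S T a b s

@[simp]
lemma cancelBaseChange_symm_tmul (a : A) (b : B) :
    (cancelBaseChange R S T A B).symm (a ⊗ₜ b) = a ⊗ₜ (1 ⊗ₜ b) :=
  TensorProduct.AlgebraTensorModule.cancelBaseChange_symm_tmul R S T a b

end cancel

section tpow

variable (k : Type u) [Field k] (F : Type v) [Field F] [Algebra k F]
  (A : Type w) [Ring A] [Algebra k A]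

/-- Tensor powers commute with base change. -/
theorem nonempty_tpow_baseChange (e : ℕ) :
    Nonempty (F ⊗[k] CSAGal.tpow k A e ≃ₐ[F] CSAGal.tpow F (F ⊗[k] A) e) := by
  induction e with
  | zero =>
    exact ⟨(Algebra.TensorProduct.congr (AlgEquiv.refl : F ≃ₐ[F] F) (tpowZeroAlgEquiv k A)).trans <|
      (Algebra.TensorProduct.rid k F F).trans (tpowZeroAlgEquiv F (F ⊗[k] A)).symm⟩
  | succ e ih =>
    obtain ⟨f⟩ := ih
    exact ⟨(Algebra.TensorProduct.congr (AlgEquiv.refl : F ≃ₐ[F] F) (succAlgEquiv k A e).symm).trans <|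
      (Algebra.TensorProduct.assoc k k F F A (CSAGal.tpow k A e)).symm.trans <|
      (cancelBaseChange k F F (F ⊗[k] A) (CSAGal.tpow k A e)).symm.trans <|
      (Algebra.TensorProduct.congr (AlgEquiv.refl : (F ⊗[k] A) ≃ₐ[F] (F ⊗[k] A)) f).trans <|
      succAlgEquiv F (F ⊗[k] A) e⟩

end tpow

end Groth.Agent.Lib.helper1.TpowBC
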