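import Mathlib
import Groth.Agent.Lib.helper1.PerInd1
import Groth.Agent.Lib.helper1.TpowBC
import Groth.Agent.Lib.helper17.CSABaseChange

/-!
# Period and index have the same prime factors (helper library of seat helper1)
-/

set_option autoImplicit false
set_option linter.unusedSectionVars false
set_option linter.dupNamespace false
universe u v w w'

namespace Groth.Agent.Lib.helper1.PerInd

open TensorProduct Matrix Groth.Agent.Lib.helper1.Tpow Groth.Agent.Lib.helper1
  Groth.Agent.Lib.helper1.BrEq Groth.Agent.Lib.helper1.CSA Groth.Agent.Lib.helper1.TpowBC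

section basechange

variable (k : Type u) [Field k] (A : Type v) [Ring A] [Algebra k A]

/-- The base change of a central simple algebra is central simple. -/
theorem csa_baseChange [Algebra.IsCentral k A] [IsSimpleRing A] [FiniteDimensional k A]
    (F : Type w) [Field F] [Algebra k F] :
    Algebra.IsCentral F (F ⊗[k] A) ∧ IsSimpleRing (F ⊗[k] A) ∧ FiniteDimensional F (F ⊗[k] A) :=
  ⟨Groth.Agent.Lib.helper17.CSA.isCentral_baseChange k A F,
    Groth.Agent.Lib.helper17.CSA.isSimpleRing_tensor k A F, inferInstance⟩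

/-- Transitivity of splitting: in a tower `k → F → L`, `L` splits `F ⊗ A` over `F` iff it splits `A`
over `k`. -/
theorem splits_baseChange_iff (F : Type w) [Field F] [Algebra k F] (L : Type w') [Field L]
    [Algebra k L] [Algebra F L] [IsScalarTower k F L] :
    Curves.Splits F (F ⊗[k] A) L ↔ Curves.Splits k A L := by
  constructor
  · rintro ⟨n, hn, ⟨e⟩⟩
    exact ⟨n, hn, ⟨(cancelBaseChange k F L L A).symm.trans e⟩⟩
  · rintro ⟨n, hn, ⟨e⟩⟩
    exact ⟨n, hn, ⟨(cancelBaseChange k F L L A).trans e⟩⟩

/-- A split algebra is split by every extension. -/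
theorem splits_of_splits_self [Algebra.IsCentral k A] [IsSimpleRing A] [FiniteDimensional k A]
    (F : Type w) [Field F] [Algebra k F] (h : Curves.Splits k A k) :
    Curves.Splits k A F := by
  obtain ⟨n, hn, ⟨e⟩⟩ := h
  let e1 : A ≃ₐ[k] Matrix (Fin n) (Fin n) k := (Algebra.TensorProduct.lid k A).symm.trans e
  refine splits_of_algHom k A F n hn ?_ ((Algebra.ofId k F).mapMatrix.comp (e1 : A →ₐ[k] _))
  rw [e1.toLinearEquiv.finrank_eq, Module.finrank_matrix]
  simp

/-- If `A` is split by `L` with `[L:k]` finite, then ... the index of `A` divides `[F:k]` times the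
index of `F ⊗ A`. -/
theorem index_dvd_mul [Algebra.IsCentral k A] [IsSimpleRing A] [FiniteDimensional k A]
    (D : Type w) [DivisionRing D] [Algebra k D] [Algebra.IsCentral k D] [FiniteDimensional k D]
    (hAD : BrEq k A D) (d : ℕ) (hd : Module.finrank k D = d ^ 2)
    (F : Type w') [Field F] [Algebra k F] [FiniteDimensional k F]
    (D' : Type*) [DivisionRing D'] [Algebra F D'] [Algebra.IsCentral F D'] [FiniteDimensional F D']
    (hAD' : BrEq F (F ⊗[k] A) D') (d' : ℕ) (hd' : Module.finrank F D' = d' ^ 2) :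
    d ∣ Module.finrank k F * d' := by
  obtain ⟨L, _, _, hLf, hLsep, hLd, hLs⟩ := exists_splitting_field_of_degree F D' d' hd'
  letI : Algebra k L := ((algebraMap F L).comp (algebraMap k F)).toAlgebra
  haveI : IsScalarTower k F L := IsScalarTower.of_algebraMap_eq (fun _ => rfl)
  haveI : FiniteDimensional k L := Module.Finite.trans F L
  obtain ⟨c1, c2, c3⟩ := csa_baseChange k A F
  have h1 : Curves.Splits F (F ⊗[k] A) L := hAD'.splits L hLs
  have h2 : Curves.Splits k A L := (splits_baseChange_iff k A F L).1 h1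
  have h3 : Curves.Splits k D L := hAD.symm.splits L h2
  have h4 := index_dvd_of_splits k D d hd L h3
  rwa [← Module.finrank_mul_finrank k F L, hLd] at h4

end basechange

section main

variable (k : Type u) [Field k] (A : Type v) [Ring A] [Algebra k A]
  [Algebra.IsCentral k A] [IsSimpleRing A] [FiniteDimensional k A]

/-- Every central simple algebra has a period. -/
theorem exists_isPeriod : ∃ p, CSAGal.IsPeriod k A p := by
  classical
  obtain ⟨D, _, _, _, _, d, hd, hAD, _⟩ := exists_division k A
  have hdpos : 0 < d := by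
    rcases Nat.eq_zero_or_pos d with rfl | h
    · have : 0 < Module.finrank k D := Module.finrank_pos
      rw [hd] at this; simp at this
    · exact h
  have hex : ∃ e, 0 < e ∧ Curves.Splits k (CSAGal.tpow k A e) k :=
    ⟨d, hdpos, splits_tpow_of_brEq k A D hAD d hd⟩
  refine ⟨Nat.find hex, (Nat.find_spec hex).1, (Nat.find_spec hex).2, ?_⟩
  intro e' he' hlt hs
  exact Nat.find_min hex hlt ⟨he', hs⟩

/-- **The period and the index have the same prime factors.** -/
theorem prime_dvd_of_splits_tpow
    (D : Type w) [DivisionRing D] [Algebra k D] [Algebra.IsCentral k D] [FiniteDimensional k D]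
    (hAD : BrEq k A D) (d : ℕ) (hd : Module.finrank k D = d ^ 2)
    (e : ℕ) (hs : Curves.Splits k (CSAGal.tpow k A e) k)
    (p : ℕ) (hp : p.Prime) (hpd : p ∣ d) : p ∣ e := by
  classical
  haveI := Fact.mk hp
  obtain ⟨L, hfin, hgal, hL⟩ := exists_finite_galois_splitting k A
  let P : Sylow p (L ≃ₐ[k] L) := default
  let F : IntermediateField k L := IntermediateField.fixedField (P : Subgroup (L ≃ₐ[k] L))
  have hF1 : Module.finrank F L = Nat.card (P : Subgroup (L ≃ₐ[k] L)) :=
    IntermediateField.finrank_fixedField_eq_card _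
  have hF2 : Module.finrank k F * Module.finrank F L = Module.finrank k L :=
    Module.finrank_mul_finrank k F L
  have hG : Nat.card (L ≃ₐ[k] L) = Module.finrank k L := IsGalois.card_aut_eq_finrank k L
  have hidx : (P : Subgroup (L ≃ₐ[k] L)).index * Nat.card (P : Subgroup (L ≃ₐ[k] L)) =
      Nat.card (L ≃ₐ[k] L) := Subgroup.index_mul_card _
  have hcardpos : 0 < Nat.card (P : Subgroup (L ≃ₐ[k] L)) := Nat.card_pos
  have hFk : Module.finrank k F = (P : Subgroup (L ≃ₐ[k] L)).index := by
    apply Nat.eq_of_mul_eq_mul_right hcardpos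
    rw [hidx, hG, ← hF2, hF1]
  have hcop : ¬ p ∣ Module.finrank k F := by rw [hFk]; exact P.not_dvd_index
  obtain ⟨s, hs'⟩ := P.2.exists_card_eq
  obtain ⟨c1, c2, c3⟩ := csa_baseChange k A F
  obtain ⟨D', _, _, _, _, d', hd', hAD', _⟩ := exists_division F (F ⊗[k] A)
  have hLF : Curves.Splits F (F ⊗[k] A) L := (splits_baseChange_iff k A F L).2 hL
  have h1 : d' ∣ Module.finrank F L :=
    index_dvd_of_splits F D' d' hd' L (hAD'.symm.splits L hLF)
  have h2 : d ∣ Module.finrank k F * d' := index_dvd_mul k A D hAD d hd F D' hAD' d' hd'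
  have h3 : p ∣ d' := by
    have := (hp.dvd_mul).1 (hpd.trans h2)
    tauto
  obtain ⟨q, hq⟩ := exists_isPeriod F (F ⊗[k] A)
  have h4 : q ∣ d' :=
    (splits_tpow_iff_dvd F _ q hq d').1 (splits_tpow_of_brEq F _ D' hAD' d' hd')
  have h5 : q ∣ e := by
    refine (splits_tpow_iff_dvd F _ q hq e).1 ?_
    obtain ⟨f⟩ := nonempty_tpow_baseChange k F A e
    obtain ⟨t1, t2, t3⟩ := csa_tpow k A e
    obtain ⟨t1', t2', t3'⟩ := csa_tpow F (F ⊗[k] A) e
    have : Curves.Splits F (F ⊗[k] CSAGal.tpow k A e) F :=
      (splits_baseChange_iff k _ F F).2 (splits_of_splits_self k _ F hs)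
    exact (BrEq.of_algEquiv f.symm).splits F this
  by_contra hpe
  have h6 : q ∣ p ^ s := by rw [← hs', ← hF1]; exact h4.trans h1
  obtain ⟨j, hj, rfl⟩ := (Nat.dvd_prime_pow hp).1 h6
  have hj0 : j = 0 := by
    by_contra hj0
    exact hpe ((dvd_pow_self p hj0).trans h5)
  subst hj0
  have h7 : Curves.Splits F (CSAGal.tpow F (F ⊗[k] A) 1) F := by
    have := hq.2.1
    rwa [pow_zero] at this
  obtain ⟨t1, t2, t3⟩ := csa_tpow F (F ⊗[k] A) 1
  have h8 : Curves.Splits F (F ⊗[k] A) F :=
    (BrEq.of_algEquiv (tpowOneAlgEquiv F (F ⊗[k] A)).symm).splits F h7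
  have h9 : d' ∣ Module.finrank F F :=
    index_dvd_of_splits F D' d' hd' F (hAD'.symm.splits F h8)
  rw [Module.finrank_self] at h9
  have : p ∣ 1 := h3.trans h9
  exact hp.one_lt.ne' (Nat.dvd_one.1 this)

end main

end Groth.Agent.Lib.helper1.PerInd
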