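import Mathlib
import Groth.Agent.Lib.helper1.PerInd2

/-!
# Index: existence, uniqueness, behaviour under base change (helper library of seat helper1)
-/

set_option autoImplicit false
set_option linter.unusedSectionVars false
set_option linter.dupNamespace false
universe u v w w'

namespace Groth.Agent.Lib.helper1.PerInd

open TensorProduct Matrix Groth.Agent.Lib.helper1.Tpow Groth.Agent.Lib.helper1
  Groth.Agent.Lib.helper1.BrEq Groth.Agent.Lib.helper1.CSA Groth.Agent.Lib.helper1.TpowBC

section index

variable (k : Type u) [Field k] (A : Type v) [Ring A] [Algebra k A]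
  [Algebra.IsCentral k A] [IsSimpleRing A] [FiniteDimensional k A]

/-- Unpack `IsIndex`. -/
theorem exists_of_isIndex {d : ℕ} (h : CSAGal.IsIndex k A d) :
    ∃ (D : Type v) (_ : DivisionRing D) (_ : Algebra k D) (_ : Algebra.IsCentral k D)
      (_ : FiniteDimensional k D), Module.finrank k D = d ^ 2 ∧ BrEq k A D := by
  obtain ⟨hdpos, mA, DA, _, _, hmA, hdimDA, ⟨eA⟩⟩ := h
  haveI : FiniteDimensional k DA := Module.finite_of_finrank_pos (by rw [hdimDA]; positivity)
  haveI : Algebra.IsCentral k (Matrix (Fin mA) (Fin mA) DA) := isCentral_of_algEquiv k A _ eA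
  haveI : Algebra.IsCentral k DA := isCentral_of_matrix k DA mA hmA.ne'
  exact ⟨DA, inferInstance, inferInstance, inferInstance, inferInstance, hdimDA,
    brEq_of_algEquiv_matrix mA hmA.ne' eA⟩

theorem pos_of_finrank_eq_sq (D : Type w) [DivisionRing D] [Algebra k D] [FiniteDimensional k D]
    (d : ℕ) (hd : Module.finrank k D = d ^ 2) : 0 < d := by
  rcases Nat.eq_zero_or_pos d with rfl | h
  · have : 0 < Module.finrank k D := Module.finrank_pos
    rw [hd] at this; simp at this
  · exact h

/-- Every central simple algebra has an index. -/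
theorem exists_isIndex : ∃ d, CSAGal.IsIndex k A d := by
  obtain ⟨D, _, _, _, _, d, hd, hAD, m, hm, ⟨e⟩⟩ := exists_division k A
  exact ⟨d, pos_of_finrank_eq_sq k D d hd, m, D, inferInstance, inferInstance,
    Nat.pos_of_ne_zero hm, hd, ⟨e⟩⟩

/-- Brauer-equivalent central division algebras have the same degree (one divisibility). -/
theorem degree_dvd_of_brEq
    (D : Type w) [DivisionRing D] [Algebra k D] [Algebra.IsCentral k D] [FiniteDimensional k D]
    (D' : Type w') [DivisionRing D'] [Algebra k D'] [Algebra.IsCentral k D'] [FiniteDimensional k D']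
    (h : BrEq k D D') (d d' : ℕ) (hd : Module.finrank k D = d ^ 2)
    (hd' : Module.finrank k D' = d' ^ 2) : d ∣ d' := by
  obtain ⟨L, _, _, hLf, hLsep, hLd, hLs⟩ := exists_splitting_field_of_degree k D' d' hd'
  have := index_dvd_of_splits k D d hd L (h.splits L hLs)
  rwa [hLd] at this

theorem degree_eq_of_brEq
    (D : Type w) [DivisionRing D] [Algebra k D] [Algebra.IsCentral k D] [FiniteDimensional k D]
    (D' : Type w') [DivisionRing D'] [Algebra k D'] [Algebra.IsCentral k D'] [FiniteDimensional k D']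
    (h : BrEq k D D') (d d' : ℕ) (hd : Module.finrank k D = d ^ 2)
    (hd' : Module.finrank k D' = d' ^ 2) : d = d' :=
  Nat.dvd_antisymm (degree_dvd_of_brEq k D D' h d d' hd hd')
    (degree_dvd_of_brEq k D' D h.symm d' d hd' hd)

/-- The index is unique. -/
theorem isIndex_unique {d d' : ℕ} (h : CSAGal.IsIndex k A d) (h' : CSAGal.IsIndex k A d') :
    d = d' := by
  obtain ⟨D, _, _, _, _, hd, hAD⟩ := exists_of_isIndex k A h
  obtain ⟨D', _, _, _, _, hd', hAD'⟩ := exists_of_isIndex k A h'
  exact degree_eq_of_brEq k D D' (hAD.symm.trans hAD') d d' hd hd'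

/-- The index computed from any Brauer-equivalent division algebra. -/
theorem isIndex_of_brEq
    (D : Type w) [DivisionRing D] [Algebra k D] [Algebra.IsCentral k D] [FiniteDimensional k D]
    (h : BrEq k A D) (d : ℕ) (hd : Module.finrank k D = d ^ 2) : CSAGal.IsIndex k A d := by
  obtain ⟨d₀, h₀⟩ := exists_isIndex k A
  obtain ⟨D₀, _, _, _, _, hd₀, hAD₀⟩ := exists_of_isIndex k A h₀
  have : d₀ = d := degree_eq_of_brEq k D₀ D (hAD₀.symm.trans h) d₀ d hd₀ hd
  exact this ▸ h₀

end index

section basechange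

variable (k : Type u) [Field k] (A : Type v) [Ring A] [Algebra k A]
  [Algebra.IsCentral k A] [IsSimpleRing A] [FiniteDimensional k A]

/-- Base change of Brauer equivalences. -/
theorem BrEq.baseChange {X : Type v} {Y : Type w} [Ring X] [Algebra k X] [Ring Y] [Algebra k Y]
    (h : BrEq k X Y) (L : Type w') [Field L] [Algebra k L] :
    BrEq L (L ⊗[k] X) (L ⊗[k] Y) := by
  obtain ⟨n, m, hn, hm, ⟨iso⟩⟩ := h
  exact ⟨n, m, hn, hm, ⟨(baseChangeMatrix k L X n).symm.trans <|
    (Algebra.TensorProduct.congr (AlgEquiv.refl : L ≃ₐ[L] L) iso).trans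
      (baseChangeMatrix k L Y m)⟩⟩

/-- The index of a base change divides the index. -/
theorem index_baseChange_dvd
    (D : Type w) [DivisionRing D] [Algebra k D] [Algebra.IsCentral k D] [FiniteDimensional k D]
    (hAD : BrEq k A D) (d : ℕ) (hd : Module.finrank k D = d ^ 2)
    (L : Type w') [Field L] [Algebra k L]
    (D' : Type*) [DivisionRing D'] [Algebra L D'] [Algebra.IsCentral L D'] [FiniteDimensional L D']
    (hAD' : BrEq L (L ⊗[k] A) D') (d' : ℕ) (hd' : Module.finrank L D' = d' ^ 2) : d' ∣ d := by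
  obtain ⟨c1, c2, c3⟩ := csa_baseChange k D L
  obtain ⟨D'', _, _, _, _, d'', hd'', hDD'', m, hm, ⟨e⟩⟩ := exists_division L (L ⊗[k] D)
  have h1 : BrEq L D' D'' := hAD'.symm.trans ((BrEq.baseChange k hAD L).trans hDD'')
  have h2 : d' = d'' := degree_eq_of_brEq L D' D'' h1 d' d'' hd' hd''
  have h3 : Module.finrank L (L ⊗[k] D) = d ^ 2 := by rw [Module.finrank_baseChange, hd]
  have h4 : Module.finrank L (L ⊗[k] D) = (m * d'') ^ 2 := by
    rw [e.toLinearEquiv.finrank_eq, Module.finrank_matrix, hd'']
    simp only [Fintype.card_fin]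
    ring
  have h5 : m * d'' = d := by
    have : (m * d'') ^ 2 = d ^ 2 := by rw [← h4, h3]
    exact Nat.pow_left_injective (n := 2) (by norm_num) this
  rw [h2, ← h5]
  exact Dvd.intro_left m rfl

/-- If `[L:k]` is prime to `n`, the `n`-th power of `A` is split and the index of `L ⊗ A` divides
`n`, then the index of `A` divides `n`. -/
theorem index_dvd_of_coprime
    (D : Type w) [DivisionRing D] [Algebra k D] [Algebra.IsCentral k D] [FiniteDimensional k D]
    (hAD : BrEq k A D) (d : ℕ) (hd : Module.finrank k D = d ^ 2)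
    (L : Type w') [Field L] [Algebra k L] [FiniteDimensional k L]
    (D' : Type*) [DivisionRing D'] [Algebra L D'] [Algebra.IsCentral L D'] [FiniteDimensional L D']
    (hAD' : BrEq L (L ⊗[k] A) D') (d' : ℕ) (hd' : Module.finrank L D' = d' ^ 2)
    (n : ℕ) (hcop : Nat.Coprime n (Module.finrank k L))
    (hper : Curves.Splits k (CSAGal.tpow k A n) k) (hdn : d' ∣ n) : d ∣ n := by
  have h1 : d ∣ Module.finrank k L * d' := index_dvd_mul k A D hAD d hd L D' hAD' d' hd'
  have h2 : Nat.Coprime d (Module.finrank k L) := by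
    apply Nat.coprime_of_dvd
    intro p hp hpd hpL
    have hpn : p ∣ n := prime_dvd_of_splits_tpow k A D hAD d hd n hper p hp hpd
    have : p ∣ Nat.gcd n (Module.finrank k L) := Nat.dvd_gcd hpn hpL
    rw [hcop] at this
    exact hp.one_lt.ne' (Nat.dvd_one.1 this)
  exact (h2.dvd_of_dvd_mul_left h1).trans hdn

end basechange

end Groth.Agent.Lib.helper1.PerInd
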