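import Mathlib
import Groth.Prelude
import Groth.Agent.Lib.helper1.BrSep1
import Groth.Agent.Lib.helper1.IndBinom1

/-!
# Splitting over a compositum (helper1)
-/

set_option autoImplicit false
set_option linter.unusedSectionVars false
set_option linter.dupNamespace false
universe u v w

namespace Groth.Agent.Lib.helper1.BrSep

open TensorProduct Groth.Agent.Lib.helper1.PerInd Groth.Agent.Lib.helper1.IndBinom

/-- If all central division algebras over finite separable extensions of `F` are trivial, then every
central division algebra over a finite separable extension `E` of `K` is split by every field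
containing `E` and `F`. -/
theorem splits_of_trivial (K F : Type u) [Field K] [Field F] [Algebra K F]
    (ha : ∀ (F' : Type u) [Field F'] [Algebra F F'] [FiniteDimensional F F'] [Algebra.IsSeparable F F']
        (D : Type u) [DivisionRing D] [Algebra F' D] [Algebra.IsCentral F' D] [FiniteDimensional F' D],
        Module.finrank F' D = 1)
    (E : Type u) [Field E] [Algebra K E] [FiniteDimensional K E] [Algebra.IsSeparable K E]
    (D : Type u) [DivisionRing D] [Algebra E D] [Algebra.IsCentral E D] [FiniteDimensional E D]
    (M : Type u) [Field M] [Algebra K M] [Algebra E M] [Algebra F M] [IsScalarTower K E M]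
    [IsScalarTower K F M] :
    ∃ n : ℕ, Nonempty ((M ⊗[E] D) ≃ₐ[M] Matrix (Fin n) (Fin n) M) := by
  classical
  let bE := Module.finBasis K E
  let S₀ : Set M := Set.range fun i => algebraMap E M (bE i)
  haveI : Finite S₀ := Set.finite_range _
  let F'' : IntermediateField F M := IntermediateField.adjoin F S₀
  have hint : ∀ x : E, IsIntegral F (algebraMap E M x) := by
    intro x
    have h1 : IsIntegral K x := Algebra.IsIntegral.isIntegral x
    have h2 : IsIntegral K (algebraMap E M x) := h1.map (IsScalarTower.toAlgHom K E M)
    exact h2.tower_top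
  have hsep : ∀ x : E, IsSeparable F (algebraMap E M x) := by
    intro x
    have h1 : IsSeparable K x := Algebra.IsSeparable.isSeparable K x
    have h2 : IsSeparable K (algebraMap E M x) :=
      h1.map (IsScalarTower.toAlgHom K E M) (algebraMap E M).injective
    exact IsSeparable.tower_top (F := K) (L := F) (E := M) h2
  haveI : FiniteDimensional F F'' :=
    IntermediateField.finiteDimensional_adjoin (by rintro _ ⟨i, rfl⟩; exact hint _)
  haveI : Algebra.IsSeparable F F'' :=
    (IntermediateField.isSeparable_adjoin_iff_isSeparable F M).2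
      (by rintro _ ⟨i, rfl⟩; exact hsep _)
  have hmem : ∀ x : E, algebraMap E M x ∈ F'' := by
    intro x
    rw [← bE.sum_repr x, map_sum]
    refine sum_mem fun i _ => ?_
    rw [Algebra.smul_def, map_mul, ← IsScalarTower.algebraMap_apply K E M,
      IsScalarTower.algebraMap_apply K F M]
    exact mul_mem (F''.algebraMap_mem _) (IntermediateField.subset_adjoin F S₀ ⟨i, rfl⟩)
  let φ : E →+* F'' := (algebraMap E M).codRestrict F'' hmem
  letI : Algebra E F'' := φ.toAlgebra
  haveI : IsScalarTower E F'' M := IsScalarTower.of_algebraMap_eq (fun x => rfl)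
  obtain ⟨c1, c2, c3⟩ := csa_baseChange E D F''
  obtain ⟨D', _, _, _, _, d, hd, -, m, hm, ⟨e⟩⟩ := exists_division F'' (F'' ⊗[E] D)
  have h1 : Module.finrank F'' D' = 1 := ha F'' D'
  have hbt : (⊥ : Subalgebra F'' D') = ⊤ := Subalgebra.bot_eq_top_of_finrank_eq_one h1
  let e' : D' ≃ₐ[F''] F'' :=
    (Subalgebra.topEquiv.symm.trans (Subalgebra.equivOfEq _ _ hbt.symm)).trans
      (Algebra.botEquiv F'' D')
  have hs1 : Curves.Splits F'' (F'' ⊗[E] D) F'' :=
    ⟨m, hm, ⟨(Algebra.TensorProduct.lid F'' (F'' ⊗[E] D)).trans (e.trans e'.mapMatrix)⟩⟩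
  have hs2 : Curves.Splits E D F'' := (splits_baseChange_iff E D F'' F'').1 hs1
  have hs3 : Curves.Splits E D M :=
    splits_of_algHom_field E D F'' M (IsScalarTower.toAlgHom E F'' M) hs2
  obtain ⟨n, _, h⟩ := hs3
  exact ⟨n, h⟩

end Groth.Agent.Lib.helper1.BrSep
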