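import Mathlib

namespace Groth.Agent.Lib.helper1.CF

open Module

section R1
variable {K V : Type*} [Field K] [AddCommGroup V] [Module K V] [FiniteDimensional K V]

/-- extraction of a linearly independent subfamily of size `n`. -/
lemma exists_li_of_le_finrank_span {σ : Type*} (v : σ → V) (n : ℕ)
    (h : n ≤ finrank K (Submodule.span K (Set.range v))) :
    ∃ g : Fin n → σ, LinearIndependent K (v ∘ g) := by
  obtain ⟨κ, a, ha, hsp, hli⟩ := exists_linearIndependent' K v
  haveI : Finite κ := hli.finite
  haveI : Fintype κ := Fintype.ofFinite κ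
  have hc : finrank K (Submodule.span K (Set.range (v ∘ a))) = Fintype.card κ :=
    finrank_span_eq_card hli
  rw [hsp] at hc
  rw [hc] at h
  have : Fintype.card (Fin n) ≤ Fintype.card κ := by simpa using h
  obtain ⟨emb⟩ := Function.Embedding.nonempty_of_card_le this
  exact ⟨a ∘ emb, hli.comp emb emb.injective⟩

lemma le_finrank_span_of_li {σ : Type*} (v : σ → V) (n : ℕ) (g : Fin n → σ)
    (h : LinearIndependent K (v ∘ g)) :
    n ≤ finrank K (Submodule.span K (Set.range v)) := by
  have hc : finrank K (Submodule.span K (Set.range (v ∘ g))) = Fintype.card (Fin n) :=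
    finrank_span_eq_card h
  rw [Fintype.card_fin] at hc
  rw [← hc]
  apply Submodule.finrank_mono
  apply Submodule.span_mono
  rintro _ ⟨k, rfl⟩
  exact ⟨g k, rfl⟩

lemma le_finrank_span_iff {σ : Type*} (v : σ → V) (n : ℕ) :
    n ≤ finrank K (Submodule.span K (Set.range v)) ↔
      ∃ g : Fin n → σ, LinearIndependent K (v ∘ g) :=
  ⟨exists_li_of_le_finrank_span v n, fun ⟨g, h⟩ => le_finrank_span_of_li v n g h⟩

end R1

section R2

variable {K : Type*} [Field K] {ι : Type*} [Fintype ι] {n : ℕ}

/-- rows independent iff some maximal minor is nonzero -/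
lemma li_rows_iff_exists_minor (X : Matrix (Fin n) ι K) :
    LinearIndependent K X.row ↔ ∃ e : Fin n → ι, (X.submatrix id e).det ≠ 0 := by
  constructor
  · intro h
    have h1 : X.rank = n := by simpa using h.rank_matrix
    rw [Matrix.rank_eq_finrank_span_cols] at h1
    obtain ⟨e, he⟩ := exists_li_of_le_finrank_span X.col n h1.ge
    refine ⟨e, ?_⟩
    have : LinearIndependent K (X.submatrix id e).col := he
    rw [Matrix.linearIndependent_cols_iff_isUnit, Matrix.isUnit_iff_isUnit_det] at this
    exact this.ne_zero
  · rintro ⟨e, he⟩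
    have h1 : LinearIndependent K (X.submatrix id e).row := by
      rw [Matrix.linearIndependent_rows_iff_isUnit, Matrix.isUnit_iff_isUnit_det]
      exact he.isUnit
    have h2 : (X.submatrix id e).row = (LinearMap.funLeft K K e) ∘ X.row := by
      ext k j
      rfl
    rw [h2] at h1
    exact LinearIndependent.of_comp _ h1

end R2

end Groth.Agent.Lib.helper1.CF
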