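import Mathlib
import Groth.Agent.Lib.helper1.CF1

namespace Groth.Agent.Lib.helper1.CF

open Module

section R3
variable {A : Type*} [CommRing A] {ι : Type*} [Fintype ι]

/-- reduction of a vector mod p -/
noncomputable def red (p : PrimeSpectrum A) (w : ι → A) : ι → p.asIdeal.ResidueField :=
  fun i => algebraMap A p.asIdeal.ResidueField (w i)

lemma isOpen_li [DecidableEq ι] {n : ℕ} (x : Fin n → ι → A) :
    IsOpen {p : PrimeSpectrum A |
      LinearIndependent p.asIdeal.ResidueField (fun k => red p (x k))} := by
  have : {p : PrimeSpectrum A |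
      LinearIndependent p.asIdeal.ResidueField (fun k => red p (x k))} =
      ⋃ e : Fin n → ι,
        (PrimeSpectrum.basicOpen (Matrix.det ((Matrix.of x).submatrix id e)) : Set _) := by
    ext p
    simp only [Set.mem_ofPred_eq, Set.mem_iUnion, SetLike.mem_coe, PrimeSpectrum.mem_basicOpen]
    have h1 : (fun k => red p (x k)) =
        ((Matrix.of x).map (algebraMap A p.asIdeal.ResidueField)).row := by
      ext k i
      rfl
    rw [h1, li_rows_iff_exists_minor]
    refine exists_congr fun e => ?_
    have h2 : (((Matrix.of x).map (algebraMap A p.asIdeal.ResidueField)).submatrix id e).det =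
        algebraMap A p.asIdeal.ResidueField (((Matrix.of x).submatrix id e).det) := by
      rw [RingHom.map_det]
      rfl
    rw [h2, Ne, Ideal.algebraMap_residueField_eq_zero]
  rw [this]
  exact isOpen_iUnion fun e => (PrimeSpectrum.basicOpen _).2

theorem isOpen_le_finrank {σ : Type*} (w : σ → ι → A) (n : ℕ) :
    IsOpen {p : PrimeSpectrum A | n ≤ finrank p.asIdeal.ResidueField
      (Submodule.span p.asIdeal.ResidueField (Set.range fun s => red p (w s)))} := by
  classical
  have : {p : PrimeSpectrum A | n ≤ finrank p.asIdeal.ResidueField
      (Submodule.span p.asIdeal.ResidueField (Set.range fun s => red p (w s)))} =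
      ⋃ g : Fin n → σ, {p : PrimeSpectrum A |
        LinearIndependent p.asIdeal.ResidueField (fun k => red p (w (g k)))} := by
    ext p
    simp only [Set.mem_ofPred_eq, Set.mem_iUnion]
    rw [le_finrank_span_iff]
    rfl
  rw [this]
  exact isOpen_iUnion fun g => isOpen_li _

theorem isConstructible_finrank_eq [IsNoetherianRing A] {σ : Type*} (w : σ → ι → A) (n : ℕ) :
    Topology.IsConstructible {p : PrimeSpectrum A | finrank p.asIdeal.ResidueField
      (Submodule.span p.asIdeal.ResidueField (Set.range fun s => red p (w s))) = n} := by
  have : {p : PrimeSpectrum A | finrank p.asIdeal.ResidueField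
      (Submodule.span p.asIdeal.ResidueField (Set.range fun s => red p (w s))) = n} =
      {p : PrimeSpectrum A | n ≤ finrank p.asIdeal.ResidueField
      (Submodule.span p.asIdeal.ResidueField (Set.range fun s => red p (w s)))} \
      {p : PrimeSpectrum A | n + 1 ≤ finrank p.asIdeal.ResidueField
      (Submodule.span p.asIdeal.ResidueField (Set.range fun s => red p (w s)))} := by
    ext p
    simp only [Set.mem_ofPred_eq, Set.mem_sdiff]
    omega
  rw [this]
  have hc : ∀ U : Set (PrimeSpectrum A), IsOpen U → Topology.IsConstructible U :=
    fun U hU => (TopologicalSpace.NoetherianSpace.isCompact U).isConstructible hU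
  exact (hc _ (isOpen_le_finrank w n)).sdiff (hc _ (isOpen_le_finrank w (n + 1)))

end R3

end Groth.Agent.Lib.helper1.CF
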