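import Mathlib
import Groth.Agent.Lib.helper1.CF2

namespace Groth.Agent.Lib.helper1.CF

open Module TensorProduct

section F
variable {A : Type*} [CommRing A] (K : Type*) [Field K] [Algebra A K]
variable {Q : Type*} [AddCommGroup Q] [Module A Q] {m : ℕ}
  (f : (Fin m → A) →ₗ[A] Q) (g : Q →ₗ[A] (Fin m → A))

/-- the coordinate map on endomorphisms of the fibre -/
noncomputable def Lam : (K ⊗[A] Q →ₗ[K] K ⊗[A] Q) →ₗ[K] (Fin m × Fin m → K) :=
  LinearMap.pi fun ab =>
    (LinearMap.proj ab.1 : (Fin m → K) →ₗ[K] K) ∘ₗ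
      (TensorProduct.piScalarRight A K K (Fin m)).toLinearMap ∘ₗ
      (g.baseChange K) ∘ₗ
      (LinearMap.applyₗ ((1 : K) ⊗ₜ[A] f (Pi.single ab.2 1)))

lemma Lam_apply (ψ : K ⊗[A] Q →ₗ[K] K ⊗[A] Q) (a b : Fin m) :
    Lam K f g ψ (a, b) =
      TensorProduct.piScalarRight A K K (Fin m)
        ((g.baseChange K) (ψ ((1 : K) ⊗ₜ[A] f (Pi.single b 1)))) a := rfl

lemma Lam_baseChange (T : Q →ₗ[A] Q) (a b : Fin m) :
    Lam K f g (T.baseChange K) (a, b) = algebraMap A K (g (T (f (Pi.single b 1))) a) := by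
  rw [Lam_apply, LinearMap.baseChange_tmul, LinearMap.baseChange_tmul]
  simp [Algebra.algebraMap_eq_smul_one]

lemma Lam_injective (hf : Function.Surjective f) (hfg : f ∘ₗ g = LinearMap.id) :
    Function.Injective (Lam K f g) := by
  intro ψ₁ ψ₂ hψ
  have h1 : ∀ b, ψ₁ ((1 : K) ⊗ₜ[A] f (Pi.single b 1)) = ψ₂ ((1 : K) ⊗ₜ[A] f (Pi.single b 1)) := by
    intro b
    have h2 : (g.baseChange K) (ψ₁ ((1 : K) ⊗ₜ[A] f (Pi.single b 1))) =
        (g.baseChange K) (ψ₂ ((1 : K) ⊗ₜ[A] f (Pi.single b 1))) := by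
      apply (TensorProduct.piScalarRight A K K (Fin m)).injective
      funext a
      have := congrFun hψ (a, b)
      rw [Lam_apply, Lam_apply] at this
      exact this
    have h3 : ∀ y : K ⊗[A] Q, (f.baseChange K) ((g.baseChange K) y) = y := by
      intro y
      rw [← LinearMap.comp_apply, ← LinearMap.baseChange_comp, hfg, LinearMap.baseChange_id]
      rfl
    rw [← h3 (ψ₁ _), h2, h3]
  apply TensorProduct.AlgebraTensorModule.ext
  intro c q
  obtain ⟨v, rfl⟩ := hf q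
  have hv : v = ∑ b, v b • (Pi.single b (1 : A) : Fin m → A) := by
    ext i
    simp [Finset.sum_apply, Pi.single_apply]
  have h4 : ψ₁ ((1 : K) ⊗ₜ[A] f v) = ψ₂ ((1 : K) ⊗ₜ[A] f v) := by
    rw [hv, map_sum, TensorProduct.tmul_sum, map_sum, map_sum]
    refine Finset.sum_congr rfl fun b _ => ?_
    rw [map_smul, TensorProduct.tmul_smul, LinearMap.map_smul_of_tower,
      LinearMap.map_smul_of_tower, h1]
  have h5 : c ⊗ₜ[A] f v = c • ((1 : K) ⊗ₜ[A] f v) := by
    rw [TensorProduct.smul_tmul', smul_eq_mul, mul_one]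
  rw [h5, map_smul, map_smul, h4]

end F

end Groth.Agent.Lib.helper1.CF
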