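import Mathlib
import Groth.Agent.Lib.helper1.CF3

namespace Groth.Agent.Lib.helper1.CF

open Module TensorProduct

universe u

theorem main (A : Type u) [CommRing A] [IsNoetherianRing A]
    (S : Type u) [CommRing S] [Algebra A S]
    (Q : Type u) [AddCommGroup Q] [Module A Q] [Module S Q] [IsScalarTower A S Q]
    [Module.Finite A Q] [Module.Flat A Q] (n : ℕ) :
    Topology.IsConstructible {p : PrimeSpectrum A |
      Module.finrank p.asIdeal.ResidueField
        (Submodule.span p.asIdeal.ResidueField
          (Set.range fun s : S =>
            LinearMap.baseChange p.asIdeal.ResidueField (DistribSMul.toLinearMap A Q s))) = n} := by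
  haveI : Module.FinitePresentation A Q := Module.finitePresentation_of_finite A Q
  haveI : Module.Projective A Q := Module.Flat.projective_of_finitePresentation
  obtain ⟨m, f, g, hf, hg, hfg⟩ := Module.Finite.exists_comp_eq_id_of_projective A Q
  let w : S → (Fin m × Fin m → A) := fun s ab => g (s • f (Pi.single ab.2 1)) ab.1
  have key : ∀ p : PrimeSpectrum A,
      Module.finrank p.asIdeal.ResidueField
        (Submodule.span p.asIdeal.ResidueField
          (Set.range fun s : S =>
            LinearMap.baseChange p.asIdeal.ResidueField (DistribSMul.toLinearMap A Q s))) =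
      Module.finrank p.asIdeal.ResidueField
        (Submodule.span p.asIdeal.ResidueField (Set.range fun s => red p (w s))) := by
    intro p
    have hinj := Lam_injective p.asIdeal.ResidueField f g hf hfg
    have h1 : (fun s => red p (w s)) = (Lam p.asIdeal.ResidueField f g) ∘
        (fun s : S =>
            LinearMap.baseChange p.asIdeal.ResidueField (DistribSMul.toLinearMap A Q s)) := by
      funext s
      funext ab
      obtain ⟨a, b⟩ := ab
      rw [Function.comp_apply, Lam_baseChange]
      rfl
    rw [h1, Set.range_comp, ← Submodule.map_span]
    exact (Submodule.equivMapOfInjective _ hinj _).finrank_eq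
  simp_rw [key]
  exact isConstructible_finrank_eq w n

end Groth.Agent.Lib.helper1.CF
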