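import Mathlib

set_option autoImplicit false
universe u
open CategoryTheory CategoryTheory.Limits AlgebraicGeometry TopologicalSpace Opposite

namespace Groth.Agent.Lib.helper1.CI

theorem epi_kernelComparison {C D : Type*} [Category C] [Abelian C] [Category D] [Abelian D]
    (F : C ⥤ D) [F.Additive] [PreservesFiniteColimits F] {X Y : C} (ψ : X ⟶ Y) [Epi ψ] :
    Epi (kernelComparison ψ F) := by
  have h13 := (Functor.preservesFiniteColimits_tfae F).out 1 3
  have h := h13.mpr (inferInstance : PreservesFiniteColimits F)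
  let S := ShortComplex.mk (kernel.ι ψ) ψ (kernel.condition ψ)
  have hS := (h S ⟨ShortComplex.exact_kernel ψ, inferInstance⟩).1
  have := (S.map F).exact_iff_epi_kernel_lift.1 hS
  exact this

theorem faithful_pushforward {S T : Scheme.{u}} (f : S ⟶ T) [IsClosedImmersion f] :
    (Scheme.Modules.pushforward f).Faithful := by
  refine ⟨fun {E E'} a b h => ?_⟩
  ext V : 1
  obtain ⟨U, rfl⟩ : ∃ U : T.Opens, f ⁻¹ᵁ U = V := by
    obtain ⟨U, hU, hUV⟩ := f.isEmbedding.isOpen_iff.mp V.2
    exact ⟨⟨U, hU⟩, Opens.ext hUV⟩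
  have := congrArg (fun φ => Scheme.Modules.Hom.app φ U) h
  simpa [Scheme.Modules.pushforward_map_app] using this

theorem epi_adjoint {S T : Scheme.{u}} (f : S ⟶ T) [IsClosedImmersion f] (G : T.Modules)
    (E : S.Modules) (ψ : G ⟶ (Scheme.Modules.pushforward f).obj E) [Epi ψ] :
    Epi (((Scheme.Modules.pullbackPushforwardAdjunction f).homEquiv G E).symm ψ) := by
  have := faithful_pushforward f
  rw [Adjunction.homEquiv_counit]
  have : Epi ((Scheme.Modules.pullbackPushforwardAdjunction f).counit.app E) := by
    infer_instance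
  infer_instance

end Groth.Agent.Lib.helper1.CI
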