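import Mathlib

universe u

open CategoryTheory Simplicial SimplexCategory Truncated
open Opposite Category Functor Limits StructuredArrow

namespace Groth.Agent.Lib.helper1.CK

variable (n : ℕ)

/-- A morphism in `SimplexCategory` with domain `⦋0⦌` or `⦋1⦌` defines an object in the
comma category. -/
abbrev strArrowMk₁ {i : ℕ} {m : ℕ} (φ : ⦋i⦌ ⟶ ⦋m⦌) (hi : i ≤ 1 := by lia) :
    StructuredArrow (op ⦋m⦌) (Truncated.inclusion 1).op :=
  StructuredArrow.mk (Y := op ⦋i⦌₁) φ.op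

variable {n} in
/-- the vertex function -/
noncomputable def vtx {m : ℕ}
    (s : Cone (proj (op ⦋m⦌) (Truncated.inclusion 1).op ⋙
      (Truncated.inclusion 1).op ⋙ (SSet.stdSimplex.{u}.obj ⦋n⦌))) (x : s.pt) (k : Fin (m + 1)) :
    Fin (n + 1) :=
  (show (Δ[n] _⦋0⦌ : Type u) from
    s.π.app (strArrowMk₁ (⦋0⦌.const ⦋m⦌ k)) x) 0

end Groth.Agent.Lib.helper1.CK

namespace Groth.Agent.Lib.helper1.CK

variable {n : ℕ}

lemma compat {m i i' : ℕ}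
    (s : Cone (proj (op ⦋m⦌) (Truncated.inclusion 1).op ⋙
      (Truncated.inclusion 1).op ⋙ (SSet.stdSimplex.{u}.obj ⦋n⦌))) (x : s.pt)
    (f : ⦋i⦌ ⟶ ⦋m⦌) (g : ⦋i'⦌ ⟶ ⦋i⦌) (hi : i ≤ 1) (hi' : i' ≤ 1) :
    s.π.app (strArrowMk₁ (g ≫ f) hi') x =
      (SSet.stdSimplex.{u}.obj ⦋n⦌).map g.op (s.π.app (strArrowMk₁ f hi) x) := by
  let α : strArrowMk₁ f hi ⟶ strArrowMk₁ (g ≫ f) hi' :=
    StructuredArrow.homMk (Hom.tr g).op (by simp)
  exact ConcreteCategory.congr_hom (s.w α).symm x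

end Groth.Agent.Lib.helper1.CK

namespace Groth.Agent.Lib.helper1.CK

variable {n : ℕ}

lemma map_eval {i i' : ℕ} (y : (Δ[n] _⦋i⦌ : Type u)) (g : ⦋i'⦌ ⟶ ⦋i⦌) (t : Fin (i' + 1)) :
    ((SSet.stdSimplex.{u}.obj ⦋n⦌).map g.op y : (Δ[n] _⦋i'⦌ : Type u)) t = y (g.toOrderHom t) := by
  rfl

lemma vtx_eq {m i : ℕ}
    (s : Cone (proj (op ⦋m⦌) (Truncated.inclusion 1).op ⋙
      (Truncated.inclusion 1).op ⋙ (SSet.stdSimplex.{u}.obj ⦋n⦌))) (x : s.pt)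
    (f : ⦋i⦌ ⟶ ⦋m⦌) (hi : i ≤ 1) (t : Fin (i + 1)) :
    (show (Δ[n] _⦋i⦌ : Type u) from s.π.app (strArrowMk₁ f hi) x) t =
      vtx s x (f.toOrderHom t) := by
  have h1 : ⦋0⦌.const ⦋m⦌ (f.toOrderHom t) = (⦋0⦌.const ⦋i⦌ t) ≫ f := by
    rw [SimplexCategory.const_comp]
  unfold vtx
  have h2 := compat s x f (⦋0⦌.const ⦋i⦌ t) hi (by omega)
  have h3 : s.π.app (strArrowMk₁ (⦋0⦌.const ⦋m⦌ (f.toOrderHom t))) x =
      s.π.app (strArrowMk₁ ((⦋0⦌.const ⦋i⦌ t) ≫ f)) x := by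
    congr 2
  rw [h3, h2]
  rfl

lemma vtx_mono {m : ℕ}
    (s : Cone (proj (op ⦋m⦌) (Truncated.inclusion 1).op ⋙
      (Truncated.inclusion 1).op ⋙ (SSet.stdSimplex.{u}.obj ⦋n⦌))) (x : s.pt) :
    Monotone (vtx s x) := by
  intro k l hkl
  have h0 := vtx_eq s x (mkOfLe k l hkl) le_rfl 0
  have h1 := vtx_eq s x (mkOfLe k l hkl) le_rfl 1
  have hm := SSet.stdSimplex.monotone_apply
    (show (Δ[n] _⦋1⦌ : Type u) from s.π.app (strArrowMk₁ (mkOfLe k l hkl)) x)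
    (show (0 : Fin 2) ≤ 1 by decide)
  simp only at hm
  rw [h0, h1] at hm
  exact hm

/-- the lift -/
noncomputable def lift {m : ℕ}
    (s : Cone (proj (op ⦋m⦌) (Truncated.inclusion 1).op ⋙
      (Truncated.inclusion 1).op ⋙ (SSet.stdSimplex.{u}.obj ⦋n⦌))) (x : s.pt) :
    (Δ[n] _⦋m⦌ : Type u) :=
  SSet.stdSimplex.objMk (n := ⦋n⦌) (m := op ⦋m⦌) ⟨vtx s x, vtx_mono s x⟩

lemma lift_apply {m : ℕ}
    (s : Cone (proj (op ⦋m⦌) (Truncated.inclusion 1).op ⋙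
      (Truncated.inclusion 1).op ⋙ (SSet.stdSimplex.{u}.obj ⦋n⦌))) (x : s.pt) (k : Fin (m + 1)) :
    lift s x k = vtx s x k := rfl

end Groth.Agent.Lib.helper1.CK

namespace Groth.Agent.Lib.helper1.CK

variable (n : ℕ)

open SSet SSet.Truncated in
/-- `Δ[n]` is the pointwise right Kan extension of its 1-truncation. -/
noncomputable def isPointwiseRightKanExtensionAt (m : ℕ) :
    (rightExtensionInclusion (SSet.stdSimplex.{u}.obj ⦋n⦌) 1).IsPointwiseRightKanExtensionAt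
      ⟨⦋m⦌⟩ where
  lift s := ↾fun x ↦ lift s x
  fac s j := by
    ext x
    obtain ⟨⟨i, hi⟩, ⟨f : _ ⟶ _⟩, rfl⟩ := j.mk_surjective
    obtain ⟨i, rfl⟩ : ∃ j, ⦋j⦌ = i := ⟨_, i.mk_len⟩
    dsimp at hi ⊢
    apply SSet.stdSimplex.ext
    intro t
    refine Eq.trans ?_ (vtx_eq s x f hi t).symm
    rfl
  uniq s g hg := by
    ext x
    apply SSet.stdSimplex.ext
    intro k
    dsimp
    rw [lift_apply]
    unfold vtx
    have := ConcreteCategory.congr_hom (hg (StructuredArrow.mk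
        (Y := op ⦋0⦌₁) (⦋0⦌.const ⦋m⦌ k).op)) x
    rw [← this]
    rfl

end Groth.Agent.Lib.helper1.CK

namespace Groth.Agent.Lib.helper1.CK

open SSet SSet.Truncated in
theorem isCoskeletal (n : ℕ) :
    SimplicialObject.IsCoskeletal (SSet.stdSimplex.{u}.obj (SimplexCategory.mk n)) 1 where
  isRightKanExtension :=
    RightExtension.IsPointwiseRightKanExtension.isRightKanExtension
      (E := rightExtensionInclusion (SSet.stdSimplex.{u}.obj ⦋n⦌) 1)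
      (fun Δ => isPointwiseRightKanExtensionAt n Δ.unop.len)

end Groth.Agent.Lib.helper1.CK
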