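import Mathlib

set_option autoImplicit false
universe u
open CategoryTheory CategoryTheory.Limits AlgebraicGeometry TopologicalSpace Opposite

namespace Groth.Agent.Lib.helper1.CV

variable (X : Scheme.{u}) [IrreducibleSpace X]

theorem closure_generic : closure ({genericPoint X} : Set X) = Set.univ :=
  genericPoint_spec X

theorem eq_generic_of_not_closed [CompactSpace X]
    (hcurve : ∀ x : X, IsClosed ({x} : Set X) → ringKrullDim (X.presheaf.stalk x) = 1)
    (x : X) (hx : ¬ IsClosed ({x} : Set X)) : x = genericPoint X := by
  by_contra hne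
  obtain ⟨y, hy, hyc⟩ := IsClosed.exists_closed_singleton (isClosed_closure (s := ({x} : Set X)))
    ⟨x, subset_closure rfl⟩
  have hxy : x ⤳ y := specializes_iff_mem_closure.mpr hy
  have hlt1 : y < x := by
    refine lt_of_le_not_ge hxy ?_
    intro h
    have h' : y ⤳ x := h
    have : x ∈ closure ({y} : Set X) := specializes_iff_mem_closure.mp h'
    rw [hyc.closure_eq] at this
    have hxe : x = y := this
    exact hx (hxe ▸ hyc)
  have hlt2 : x < genericPoint X := by
    refine lt_of_le_not_ge (genericPoint_specializes x) ?_
    intro h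
    have h' : x ⤳ genericPoint X := h
    exact hne ((h'.antisymm (genericPoint_specializes x)).eq)
  have h1 := Order.coheight_add_one_le hlt1
  have h2 := Order.coheight_add_one_le hlt2
  have h3 : (Order.coheight y : WithBot ℕ∞) = 1 := by
    rw [← ringKrullDim_stalk_eq_coheight]; exact hcurve y hyc
  have h4 : Order.coheight y = 1 := by exact_mod_cast h3
  rw [h4] at h1
  have h5 : Order.coheight x = 0 := by
    revert h1
    generalize Order.coheight x = a
    intro h1
    cases a with
    | top => simp at h1
    | coe a =>
      have : (a : ℕ∞) + 1 ≤ 1 := h1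
      have : a + 1 ≤ 1 := by exact_mod_cast this
      have : a = 0 := by omega
      simp [this]
  rw [h5] at h2
  simp at h2

theorem closed_iff [CompactSpace X] [NoetherianSpace X]
    (hcurve : ∀ x : X, IsClosed ({x} : Set X) → ringKrullDim (X.presheaf.stalk x) = 1)
    (F : Set X) (hF : IsClosed F) :
    F ≠ Set.univ ↔ (F.Finite ∧ ∀ x ∈ F, IsClosed ({x} : Set X)) := by
  constructor
  · intro hne
    have hη : genericPoint X ∉ F := by
      intro h
      apply hne
      rw [← Set.univ_subset_iff, ← closure_generic X]
      exact (hF.closure_subset_iff).mpr (Set.singleton_subset_iff.mpr h)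
    have hcl : ∀ x ∈ F, IsClosed ({x} : Set X) := by
      intro x hx
      by_contra hnc
      exact hη (eq_generic_of_not_closed X hcurve x hnc ▸ hx)
    refine ⟨?_, hcl⟩
    obtain ⟨S, hSf, hSc, hSi, hSU⟩ := NoetherianSpace.exists_finite_set_isClosed_irreducible hF
    rw [hSU]
    refine Set.Finite.sUnion hSf ?_
    intro t ht
    obtain ⟨g, hg⟩ := QuasiSober.sober (hSi t ht) (hSc t ht)
    have hgt : g ∈ t := hg.mem
    have hgF : g ∈ F := by
      rw [hSU]; exact Set.mem_sUnion.mpr ⟨t, ht, hgt⟩
    have : t = {g} := by rw [← hg.def, (hcl g hgF).closure_eq]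
    rw [this]; exact Set.finite_singleton g
  · rintro ⟨hfin, hcl⟩ hFu
    have hη : IsClosed ({genericPoint X} : Set X) := hcl _ (hFu ▸ Set.mem_univ _)
    have h1 := hcurve _ hη
    rw [ringKrullDim_stalk_eq_coheight] at h1
    have h0 : Order.coheight (genericPoint X) = 0 := by
      rw [Order.coheight_eq_zero]
      intro b _
      exact genericPoint_specializes b
    rw [h0] at h1
    simp at h1

end Groth.Agent.Lib.helper1.CV
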