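import Mathlib

namespace Groth.Agent.Lib.helper1.DD

open AlgebraicGeometry CategoryTheory

universe u

section alg

variable {A : Type u} [CommRing A] [IsDedekindDomain A]

/-- the pairs `(g, a)`, `g = a b`, `a ∈ I`, `b ∈ I⁻¹`. -/
def T (I : Ideal A) : Set (A × A) :=
  {q | q.2 ∈ I ∧ ∀ x ∈ I, ∃ r : A, x * q.1 = q.2 * r}

lemma span_fst_T (I : Ideal A) (hI : I ≠ ⊥) : Ideal.span (Prod.fst '' T I) = ⊤ := by
  classical
  set K := FractionRing A
  set J : FractionalIdeal (nonZeroDivisors A) K := (I : FractionalIdeal (nonZeroDivisors A) K)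
  have hJ : J ≠ 0 := FractionalIdeal.coeIdeal_ne_zero.mpr hI
  have hJJ : J * J⁻¹ = 1 := mul_inv_cancel₀ hJ
  have h1 : (1 : K) ∈ J * J⁻¹ := by rw [hJJ]; exact FractionalIdeal.one_mem_one _
  have key : ∀ x ∈ J * J⁻¹, ∃ y : A, algebraMap A K y = x ∧ y ∈ Ideal.span (Prod.fst '' T I) := by
    intro x hx
    refine FractionalIdeal.mul_induction_on hx ?_ ?_
    · intro i hi j hj
      obtain ⟨a, haI, rfl⟩ := (FractionalIdeal.mem_coeIdeal _).mp hi
      have hij : algebraMap A K a * j ∈ (1 : FractionalIdeal (nonZeroDivisors A) K) := by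
        rw [← hJJ]; exact FractionalIdeal.mul_mem_mul hi hj
      obtain ⟨g, hg⟩ := (FractionalIdeal.mem_one_iff _).mp hij
      refine ⟨g, hg, Ideal.subset_span ⟨(g, a), ⟨haI, ?_⟩, rfl⟩⟩
      intro x hx
      have hxj : algebraMap A K x * j ∈ (1 : FractionalIdeal (nonZeroDivisors A) K) := by
        rw [← hJJ]
        exact FractionalIdeal.mul_mem_mul ((FractionalIdeal.mem_coeIdeal _).mpr ⟨x, hx, rfl⟩) hj
      obtain ⟨r, hr⟩ := (FractionalIdeal.mem_one_iff _).mp hxj
      refine ⟨r, ?_⟩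
      apply IsFractionRing.injective A K
      simp only [map_mul, hg, hr]
      ring
    · rintro x y ⟨x', rfl, hx'⟩ ⟨y', rfl, hy'⟩
      exact ⟨x' + y', map_add _ _ _, Ideal.add_mem _ hx' hy'⟩
  obtain ⟨y, hy, hy'⟩ := key 1 h1
  have : y = 1 := IsFractionRing.injective A K (by simpa using hy)
  rw [Ideal.eq_top_iff_one, ← this]
  exact hy'

lemma mem_iff_of_T (I : Ideal A) {g a : A} (h : (g, a) ∈ T I) (p : Ideal A) [p.IsPrime]
    (hg : g ∉ p) : I ≤ p ↔ a ∈ p := by
  constructor
  · intro hle; exact hle h.1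
  · intro ha x hx
    obtain ⟨r, hr⟩ := h.2 x hx
    have : x * g ∈ p := by rw [hr]; exact Ideal.mul_mem_right _ _ ha
    exact (Ideal.IsPrime.mem_or_mem ‹_› this).resolve_right hg

end alg

theorem main' (R : CommRingCat.{u}) [IsDedekindDomain R]
    (U : (Spec R).Opens) : IsAffineOpen U := by
  classical
  let A : Type u := R
  let X := Spec R
  let U' : Set (PrimeSpectrum A) := U.1
  have hU'o : IsOpen U' := U.2
  obtain ⟨I, hI⟩ : ∃ I : Ideal A, U'ᶜ = PrimeSpectrum.zeroLocus I :=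
    (PrimeSpectrum.isClosed_iff_zeroLocus_ideal _).mp hU'o.isClosed_compl
  have hU : ∀ x : PrimeSpectrum A, x ∈ U' ↔ ¬ (I ≤ x.asIdeal) := by
    intro x
    have : x ∈ U'ᶜ ↔ x ∈ PrimeSpectrum.zeroLocus (I : Set A) := by rw [hI]
    rw [PrimeSpectrum.mem_zeroLocus, Set.mem_compl_iff] at this
    constructor
    · intro h1 h2; exact (this.mpr h2) h1
    · intro h1; by_contra h2; exact h1 (this.mp h2)
  by_cases h0 : I = ⊥
  · have : U = ⊥ := by
      ext x
      simp only [SetLike.mem_coe, TopologicalSpace.Opens.coe_bot, Set.mem_empty_iff_false, iff_false]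
      intro hx
      exact (hU x).mp hx (by rw [h0]; exact bot_le)
    rw [this]; exact isAffineOpen_bot _
  · let ρ : A →+* Γ(X, U) :=
      (X.presheaf.map (homOfLE (le_top : U ≤ ⊤)).op).hom.comp (Scheme.ΓSpecIso R).inv.hom
    apply isAffineOpen_of_isAffineOpen_basicOpen U (ρ '' (Prod.fst '' T I))
    · rw [← Ideal.map_span, span_fst_T I h0, Ideal.map_top]
    · rintro _ ⟨_, ⟨⟨g, a⟩, hga, rfl⟩, rfl⟩
      have h1 : X.basicOpen (ρ g) = U ⊓ X.basicOpen ((Scheme.ΓSpecIso R).inv g) :=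
        X.basicOpen_res _ _
      have key : ∀ y : PrimeSpectrum A, (y ∈ U' ∧ g ∉ y.asIdeal) ↔ g * a ∉ y.asIdeal := by
        intro x
        rw [hU x]
        constructor
        · rintro ⟨hx1, hx2⟩ hx3
          rcases Ideal.IsPrime.mem_or_mem x.2 hx3 with h | h
          · exact hx2 h
          · exact hx1 ((mem_iff_of_T I hga x.asIdeal hx2).mpr h)
        · intro hx
          have hg : g ∉ x.asIdeal := fun h => hx (Ideal.mul_mem_right _ _ h)
          have ha : a ∉ x.asIdeal := fun h => hx (Ideal.mul_mem_left _ _ h)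
          exact ⟨fun h => ha ((mem_iff_of_T I hga x.asIdeal hg).mp h), hg⟩
      have h2 : U ⊓ X.basicOpen ((Scheme.ΓSpecIso R).inv g) =
          X.basicOpen ((Scheme.ΓSpecIso R).inv (g * a)) := by
        rw [basicOpen_eq_of_affine, basicOpen_eq_of_affine]
        ext x
        simp only [TopologicalSpace.Opens.coe_inf, Set.mem_inter_iff, SetLike.mem_coe]
        exact key x
      rw [h1, h2]
      exact (isAffineOpen_top X).basicOpen _

theorem main (A : Type u) [CommRing A] [IsDedekindDomain A]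
    (U : (Spec (CommRingCat.of A)).Opens) : IsAffineOpen U :=
  main' (CommRingCat.of A) U

end Groth.Agent.Lib.helper1.DD
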