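import Groth.Prelude.Def_LieS
import Groth.Prelude.Def_Red

set_option autoImplicit false
universe u
open CategoryTheory

namespace Groth.Agent.Lib.helper1.DM

variable {R : Type u} [CommRing R] {M : Type} [AddCommGroup M] {B : Type u} [CommRing B]
  [Algebra R B]

/-- convolution product evaluated on a group-like element -/
theorem convMul_single (f g : WithConv (MonoidAlgebra R (Multiplicative M) →ₐ[R] DualNumber B))
    (m : Multiplicative M) :
    (f * g).ofConv (MonoidAlgebra.single m 1) =
      f.ofConv (MonoidAlgebra.single m 1) * g.ofConv (MonoidAlgebra.single m 1) := by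
  have := AlgHom.convMul_apply f g (MonoidAlgebra.single m 1)
  rw [MonoidAlgebra.comul_single] at this
  simpa using this

/-- two algebra homs out of a monoid algebra agreeing on group-likes are equal -/
theorem algHom_ext_single {C : Type u} [CommRing C] [Algebra R C]
    (φ₁ φ₂ : MonoidAlgebra R (Multiplicative M) →ₐ[R] C)
    (h : ∀ m, φ₁ (MonoidAlgebra.single m 1) = φ₂ (MonoidAlgebra.single m 1)) : φ₁ = φ₂ := by
  apply (MonoidAlgebra.lift R C (Multiplicative M)).symm.injective
  ext m
  simpa [MonoidAlgebra.lift_symm_apply] using h (Multiplicative.ofAdd m)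

/-- the additive map attached to an algebra hom with `fst = 1` on group-likes -/
noncomputable def aOf (φ : MonoidAlgebra R (Multiplicative M) →ₐ[R] DualNumber B)
    (h : ∀ m, TrivSqZeroExt.fst (φ (MonoidAlgebra.single m 1)) = 1) : M →+ B where
  toFun m := TrivSqZeroExt.snd (φ (MonoidAlgebra.single (Multiplicative.ofAdd m) 1))
  map_zero' := by
    have : (MonoidAlgebra.single (Multiplicative.ofAdd (0 : M)) (1 : R)) = 1 := rfl
    rw [this, map_one, TrivSqZeroExt.snd_one]
  map_add' m n := by
    have : (MonoidAlgebra.single (Multiplicative.ofAdd (m + n)) (1 : R)) =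
        MonoidAlgebra.single (Multiplicative.ofAdd m) 1 *
          MonoidAlgebra.single (Multiplicative.ofAdd n) 1 := by
      rw [MonoidAlgebra.single_mul_single, one_mul, ofAdd_add]
    rw [this, map_mul, TrivSqZeroExt.snd_mul, h, h]
    simp [add_comm]

theorem aOf_apply (φ : MonoidAlgebra R (Multiplicative M) →ₐ[R] DualNumber B)
    (h : ∀ m, TrivSqZeroExt.fst (φ (MonoidAlgebra.single m 1)) = 1) (m : M) :
    aOf φ h m = TrivSqZeroExt.snd (φ (MonoidAlgebra.single (Multiplicative.ofAdd m) 1)) := rfl

/-- the monoid hom `m ↦ 1 + a(m) ε` -/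
noncomputable def monOf (a : M →+ B) : Multiplicative M →* DualNumber B where
  toFun m := TrivSqZeroExt.inl 1 + TrivSqZeroExt.inr (a (Multiplicative.toAdd m))
  map_one' := by simp
  map_mul' m n := by
    ext
    · simp
    · simp [add_comm]

/-- the algebra hom `R[M] → B[ε]` attached to an additive map `a : M →+ B` -/
noncomputable def liftOf (a : M →+ B) : MonoidAlgebra R (Multiplicative M) →ₐ[R] DualNumber B :=
  MonoidAlgebra.lift R (DualNumber B) (Multiplicative M) (monOf a)

theorem liftOf_single (a : M →+ B) (m : Multiplicative M) :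
    liftOf (R := R) a (MonoidAlgebra.single m 1) =
      TrivSqZeroExt.inl 1 + TrivSqZeroExt.inr (a (Multiplicative.toAdd m)) := by
  rw [liftOf, MonoidAlgebra.lift_single, one_smul]; rfl

theorem fst_liftOf_single (a : M →+ B) (m : Multiplicative M) :
    TrivSqZeroExt.fst (liftOf (R := R) a (MonoidAlgebra.single m 1)) = 1 := by
  rw [liftOf_single]; simp

theorem snd_liftOf_single (a : M →+ B) (m : Multiplicative M) :
    TrivSqZeroExt.snd (liftOf (R := R) a (MonoidAlgebra.single m 1)) = a (Multiplicative.toAdd m) := by
  rw [liftOf_single]; simp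

theorem aOf_liftOf (a : M →+ B) :
    aOf (liftOf (R := R) a) (fst_liftOf_single a) = a := by
  ext m
  rw [aOf_apply, snd_liftOf_single]; rfl

theorem liftOf_aOf (φ : MonoidAlgebra R (Multiplicative M) →ₐ[R] DualNumber B)
    (h : ∀ m, TrivSqZeroExt.fst (φ (MonoidAlgebra.single m 1)) = 1) :
    liftOf (aOf φ h) = φ := by
  apply algHom_ext_single
  intro m
  rw [liftOf_single]
  ext
  · simp [h]
  · simp [aOf_apply]

end Groth.Agent.Lib.helper1.DM
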