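import Groth.Agent.Lib.helper1.DM1

set_option autoImplicit false
universe u
open CategoryTheory MonObj AlgebraicGeometry

namespace Groth.Agent.Lib.helper1.DM

variable (R : Type u) [CommRing R] (M : Type) [AddCommGroup M] (B : Type u) [CommRing B]
  [Algebra R B]

/-- the algebra hom attached to a dual-number point of `D(M)` -/
noncomputable def phi (v : LieS.dpt B (Spec.map (CommRingCat.ofHom (algebraMap R B))) ⟶ Red.diag R M) :
    WithConv (MonoidAlgebra R (Multiplicative M) →ₐ[R] DualNumber B) :=
  Spec.mapMulEquiv.symm ((LieS.dptIso B).inv ≫ v)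

/-- the dual-number point of `D(M)` attached to an algebra hom -/
noncomputable def psi (φ : WithConv (MonoidAlgebra R (Multiplicative M) →ₐ[R] DualNumber B)) :
    LieS.dpt B (Spec.map (CommRingCat.ofHom (algebraMap R B))) ⟶ Red.diag R M :=
  (LieS.dptIso B).hom ≫ Spec.mapMulEquiv φ

theorem psi_phi (v) : psi R M B (phi R M B v) = v := by
  simp [psi, phi]

theorem phi_psi (φ) : phi R M B (psi R M B φ) = φ := by
  simp [psi, phi]

theorem phi_mul (v w) : phi R M B (v * w) = phi R M B v * phi R M B w := by
  rw [phi, MonObj.comp_mul, map_mul]; rfl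

theorem left_one : ((1 : LieS.pt B (Spec.map (CommRingCat.ofHom (algebraMap R B))) ⟶ Red.diag R M)).left =
    Spec.map (CommRingCat.ofHom (algebraMap R B)) ≫
      Spec.map (CommRingCat.ofHom (Bialgebra.counitAlgHom R (MonoidAlgebra R (Multiplicative M)))) := by
  rw [CategoryTheory.Hom.one_def, Over.comp_left, one_spec_asOver_spec_left]
  rfl

theorem zeroSec_psi_left (φ : WithConv (MonoidAlgebra R (Multiplicative M) →ₐ[R] DualNumber B)) :
    (LieS.zeroSec B (Spec.map (CommRingCat.ofHom (algebraMap R B))) ≫ psi R M B φ).left =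
      Spec.map (CommRingCat.ofHom
        ((TrivSqZeroExt.fstHom B B B).toRingHom.comp φ.ofConv.toRingHom)) := by
  rw [CommRingCat.ofHom_comp, Spec.map_comp]
  rfl

theorem zeroSec_psi_eq_one_iff (φ : WithConv (MonoidAlgebra R (Multiplicative M) →ₐ[R] DualNumber B)) :
    LieS.zeroSec B (Spec.map (CommRingCat.ofHom (algebraMap R B))) ≫ psi R M B φ = 1 ↔
      ∀ m, TrivSqZeroExt.fst (φ.ofConv (MonoidAlgebra.single m 1)) = 1 := by
  constructor
  · intro h m
    have h1 := congrArg (fun t => t.left) h
    simp only [zeroSec_psi_left, left_one] at h1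
    rw [← Spec.map_comp] at h1
    have h2 := Spec.map_injective h1
    have h3 := congrArg (fun t => t.hom (MonoidAlgebra.single m 1)) h2
    simpa using h3
  · intro h
    apply Over.OverMorphism.ext
    rw [zeroSec_psi_left, left_one, ← Spec.map_comp]
    congr 1
    refine CommRingCat.hom_ext (RingHom.ext fun x => ?_)
    have key : ((TrivSqZeroExt.fstHom B B B).restrictScalars R).comp φ.ofConv =
        (Algebra.ofId R B).comp (Bialgebra.counitAlgHom R (MonoidAlgebra R (Multiplicative M))) := by
      apply algHom_ext_single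
      intro m
      simp [h m]
    exact congrArg (fun t => t x) key

theorem snd_scaleHom (b : B) (x : DualNumber B) :
    TrivSqZeroExt.snd (LieS.scaleHom b x) = b * TrivSqZeroExt.snd x := by
  simp [LieS.scaleHom, LieS.dualHom, TrivSqZeroExt.algebraMap_eq_inl', mul_comm]

/-- post-composition of an algebra hom with the rescaling `ε ↦ bε` -/
noncomputable def scaleAlg (b : B) (φ : MonoidAlgebra R (Multiplicative M) →ₐ[R] DualNumber B) :
    MonoidAlgebra R (Multiplicative M) →ₐ[R] DualNumber B :=
  { toRingHom := (LieS.scaleHom b).comp φ.toRingHom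
    commutes' := fun r => by
      change LieS.scaleHom b (φ (algebraMap R _ r)) = _
      rw [φ.commutes, ← LieS.algebraMap_comp_eq (R := R) B]
      exact congrArg (fun t => t (algebraMap R B r)) (LieS.scaleHom_comp_algebraMap b) }

theorem scaleAlg_apply (b : B) (φ : MonoidAlgebra R (Multiplicative M) →ₐ[R] DualNumber B) (x) :
    scaleAlg R M B b φ x = LieS.scaleHom b (φ x) := rfl

theorem scale_psi (b : B) (φ : WithConv (MonoidAlgebra R (Multiplicative M) →ₐ[R] DualNumber B)) :
    LieS.scale B (Spec.map (CommRingCat.ofHom (algebraMap R B))) b ≫ psi R M B φ =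
      psi R M B (WithConv.toConv (scaleAlg R M B b φ.ofConv)) := by
  apply Over.OverMorphism.ext
  change Spec.map _ ≫ 𝟙 _ ≫ Spec.map _ = 𝟙 _ ≫ Spec.map _
  rw [Category.id_comp, Category.id_comp, ← Spec.map_comp]
  rfl

theorem phi_scale (b : B) (v) :
    phi R M B (LieS.scale B (Spec.map (CommRingCat.ofHom (algebraMap R B))) b ≫ v) =
      WithConv.toConv (scaleAlg R M B b (phi R M B v).ofConv) := by
  conv_lhs => rw [← psi_phi R M B v]
  rw [scale_psi, phi_psi]

end Groth.Agent.Lib.helper1.DM
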