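import Groth.Agent.Lib.helper1.DM2

set_option autoImplicit false
universe u
open CategoryTheory MonObj AlgebraicGeometry

namespace Groth.Agent.Lib.helper1.DM

variable (R : Type u) [CommRing R] (M : Type) [AddCommGroup M] (B : Type u) [CommRing B]
  [Algebra R B]

theorem fst_phi_of_mem (v : LieS.LieR (Red.diag R M) B) (m : Multiplicative M) :
    TrivSqZeroExt.fst ((phi R M B v.1).ofConv (MonoidAlgebra.single m 1)) = 1 := by
  have h := v.2
  rw [LieS.mem_Lie_iff] at h
  have h2 : LieS.zeroSec B (Spec.map (CommRingCat.ofHom (algebraMap R B))) ≫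
      psi R M B (phi R M B v.1) = 1 := by rw [psi_phi]; exact h
  exact (zeroSec_psi_eq_one_iff R M B _).mp h2 m

/-- the additive map attached to an element of `Lie(D(M))(B)` -/
noncomputable def toHom (v : LieS.LieR (Red.diag R M) B) : M →+ B :=
  aOf (phi R M B v.1).ofConv (fst_phi_of_mem R M B v)

theorem toHom_apply (v : LieS.LieR (Red.diag R M) B) (m : M) :
    toHom R M B v m = TrivSqZeroExt.snd ((phi R M B v.1).ofConv
      (MonoidAlgebra.single (Multiplicative.ofAdd m) 1)) := rfl

/-- the element of `Lie(D(M))(B)` attached to an additive map -/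
noncomputable def ofHom (a : M →+ B) : LieS.LieR (Red.diag R M) B :=
  ⟨psi R M B (WithConv.toConv (liftOf a)), by
    rw [LieS.mem_Lie_iff, zeroSec_psi_eq_one_iff]
    exact fst_liftOf_single a⟩

theorem toHom_ofHom (a : M →+ B) : toHom R M B (ofHom R M B a) = a := by
  ext m
  rw [toHom_apply]
  have : phi R M B (ofHom R M B a).1 = WithConv.toConv (liftOf a) := phi_psi R M B _
  rw [this]
  exact snd_liftOf_single a _

theorem ofHom_toHom (v : LieS.LieR (Red.diag R M) B) : ofHom R M B (toHom R M B v) = v := by
  apply Subtype.ext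
  change psi R M B (WithConv.toConv (liftOf (aOf _ _))) = v.1
  rw [liftOf_aOf]
  exact psi_phi R M B v.1

theorem toHom_mul (v w : LieS.LieR (Red.diag R M) B) :
    toHom R M B (v * w) = toHom R M B v + toHom R M B w := by
  ext m
  rw [AddMonoidHom.add_apply, toHom_apply, toHom_apply, toHom_apply]
  have : (v * w).1 = v.1 * w.1 := rfl
  rw [this, phi_mul, convMul_single, TrivSqZeroExt.snd_mul, fst_phi_of_mem, fst_phi_of_mem]
  simp [add_comm]

theorem toHom_smul (b : B) (v : LieS.LieR (Red.diag R M) B) :
    toHom R M B (b • v) = b • toHom R M B v := by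
  ext m
  rw [AddMonoidHom.smul_apply, toHom_apply, toHom_apply, LieS.smul_val, phi_scale]
  change TrivSqZeroExt.snd (LieS.scaleHom b _) = _
  rw [snd_scaleHom]
  rfl

/-- `Lie(D(M))(B) ≃* Hom(M, B)` -/
noncomputable def equiv : LieS.LieR (Red.diag R M) B ≃* Multiplicative (M →+ B) where
  toFun v := Multiplicative.ofAdd (toHom R M B v)
  invFun a := ofHom R M B (Multiplicative.toAdd a)
  left_inv v := ofHom_toHom R M B v
  right_inv a := by
    change Multiplicative.ofAdd (toHom R M B (ofHom R M B (Multiplicative.toAdd a))) = a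
    rw [toHom_ofHom]; rfl
  map_mul' v w := by
    change Multiplicative.ofAdd (toHom R M B (v * w)) = _
    rw [toHom_mul]; rfl

theorem equiv_apply (v : LieS.LieR (Red.diag R M) B) :
    Multiplicative.toAdd (equiv R M B v) = toHom R M B v := rfl

end Groth.Agent.Lib.helper1.DM
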