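import Mathlib

/-! `Spec` of an injective ring map which is surjective on prime spectra is an epimorphism
of schemes. -/

open AlgebraicGeometry CategoryTheory

universe u

namespace Groth.Agent.Lib.helper1.EP

/-- `Spec` of an injective ring map is scheme-theoretically dominant. -/
lemma isSchemeTheoreticallyDominant_SpecMap {R R' : CommRingCat.{u}} (φ : R ⟶ R')
    (hinj : Function.Injective φ.hom) : IsSchemeTheoreticallyDominant (Spec.map φ) := by
  rw [isSchemeTheoreticallyDominant_iff]
  apply Scheme.IdealSheafData.ext_of_isAffine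
  rw [Scheme.Hom.ker_apply]
  simp only [Scheme.IdealSheafData.ideal_bot, Pi.bot_apply]
  rw [← RingHom.injective_iff_ker_eq_bot]
  have h1 : (Spec.map φ).appTop ≫ (Scheme.ΓSpecIso R').hom = (Scheme.ΓSpecIso R).hom ≫ φ :=
    Scheme.ΓSpecIso_naturality φ
  have h2 : (Spec.map φ).appTop = (Scheme.ΓSpecIso R).hom ≫ φ ≫ (Scheme.ΓSpecIso R').inv := by
    rw [← Category.assoc, ← h1, Category.assoc, Iso.hom_inv_id, Category.comp_id]
  change Function.Injective (Spec.map φ).appTop.hom
  rw [h2]
  simp only [CommRingCat.hom_comp, RingHom.coe_comp]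
  refine Function.Injective.comp (Function.Injective.comp ?_ hinj) ?_
  · exact (ConcreteCategory.bijective_of_isIso (Scheme.ΓSpecIso R').inv).1
  · exact (ConcreteCategory.bijective_of_isIso (Scheme.ΓSpecIso R).hom).1

end Groth.Agent.Lib.helper1.EP

namespace Groth.Agent.Lib.helper1.EP

lemma morphismRestrict_appTop_injective {X' X : Scheme.{u}} (p : X' ⟶ X)
    [IsSchemeTheoreticallyDominant p] [QuasiCompact p] (U : X.Opens) :
    Function.Injective (p ∣_ U).appTop.hom := by
  have : IsSchemeTheoreticallyDominant (p ∣_ U) :=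
    .of_isPullback (isPullback_morphismRestrict p U).flip
  exact (p ∣_ U).app_injective ⊤

/-- A quasi-compact scheme-theoretically dominant morphism which is surjective on points is an
epimorphism of schemes. -/
lemma eq_of_comp_eq {X' X G : Scheme.{u}} (p : X' ⟶ X) [IsSchemeTheoreticallyDominant p]
    [QuasiCompact p] (hsurj : Function.Surjective p.base) (g₁ g₂ : X ⟶ G)
    (h : p ≫ g₁ = p ≫ g₂) : g₁ = g₂ := by
  have hbase : ∀ x : X, g₁.base x = g₂.base x := by
    intro x
    obtain ⟨x', rfl⟩ := hsurj x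
    have := congrArg (fun t => t.base x') h
    simpa using this
  refine Scheme.hom_ext_of_forall _ _ (fun x => ?_)
  obtain ⟨_, ⟨(V : G.Opens), hV, rfl⟩, hxV, -⟩ :=
    G.isBasis_affineOpens.exists_subset_of_mem_open (Set.mem_univ (g₁.base x)) isOpen_univ
  have hVaff : IsAffine (V : G.Opens).toScheme := hV
  let U : X.Opens := g₁ ⁻¹ᵁ V
  have hU2 : U ≤ g₂ ⁻¹ᵁ V := by
    intro y hy
    change g₂.base y ∈ V
    rw [← hbase y]
    exact hy
  refine ⟨U, hxV, ?_⟩
  have h1 : g₁.resLE V U le_rfl ≫ V.ι = U.ι ≫ g₁ := Scheme.Hom.resLE_comp_ι _ _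
  have h2 : g₂.resLE V U hU2 ≫ V.ι = U.ι ≫ g₂ := Scheme.Hom.resLE_comp_ι _ _
  rw [← h1, ← h2]
  congr 1
  apply ext_of_isAffine
  have h3 : (p ∣_ U) ≫ g₁.resLE V U le_rfl = (p ∣_ U) ≫ g₂.resLE V U hU2 := by
    rw [← cancel_mono V.ι, Category.assoc, Category.assoc, h1, h2, ← Category.assoc,
      ← Category.assoc, morphismRestrict_ι, Category.assoc, Category.assoc, h]
  have h4 := congrArg (fun t => t.appTop) h3
  simp only [Scheme.Hom.comp_appTop] at h4
  ext s
  apply morphismRestrict_appTop_injective p U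
  exact congr(($h4).hom s)

end Groth.Agent.Lib.helper1.EP
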