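import Mathlib
import Groth.Prelude.Def_LieS
import Groth.Agent.Lib.helper1.EP1

/-! Affine test objects over `S` attached to `B`-algebras, and the epimorphism property of
`Spec (C₁ × C₂) ⟶ Spec C` for an injective map `C → C₁ × C₂` surjective on spectra. -/

open AlgebraicGeometry CategoryTheory

universe u

namespace Groth.Agent.Lib.helper1.DN

variable {S : Scheme.{u}} (B : Type u) [CommRing B] (f : Spec (CommRingCat.of B) ⟶ S)

/-- The affine `S`-scheme `Spec C` for a `B`-algebra `C`. -/
noncomputable def ob (C : Type u) [CommRing C] [Algebra B C] : Over S :=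
  Over.mk (Spec.map (CommRingCat.ofHom (algebraMap B C)) ≫ f)

variable {B}

/-- The morphism of `S`-schemes attached to a `B`-algebra homomorphism. -/
noncomputable def mor {C C' : Type u} [CommRing C] [CommRing C'] [Algebra B C] [Algebra B C']
    (a : C →ₐ[B] C') : ob B f C' ⟶ ob B f C :=
  Over.homMk (Spec.map (CommRingCat.ofHom (R := C) (S := C') a.toRingHom)) (by
    change Spec.map _ ≫ Spec.map _ ≫ f = Spec.map _ ≫ f
    rw [← Category.assoc, LieS.specMap_comp]
    congr 3
    exact a.comp_algebraMap)

lemma mor_left {C C' : Type u} [CommRing C] [CommRing C'] [Algebra B C] [Algebra B C']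
    (a : C →ₐ[B] C') :
    (mor f a).left = Spec.map (CommRingCat.ofHom (R := C) (S := C') a.toRingHom) := rfl

lemma mor_comp {C C' C'' : Type u} [CommRing C] [CommRing C'] [CommRing C''] [Algebra B C]
    [Algebra B C'] [Algebra B C''] (a : C →ₐ[B] C') (b : C' →ₐ[B] C'') :
    mor f b ≫ mor f a = mor f (b.comp a) := by
  ext
  change Spec.map _ ≫ Spec.map _ = Spec.map _
  rw [LieS.specMap_comp]
  rfl

lemma mor_id {C : Type u} [CommRing C] [Algebra B C] :
    mor f (AlgHom.id B C) = 𝟙 (ob B f C) := by
  ext
  change Spec.map _ = 𝟙 _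
  exact Spec.map_id _

lemma ob_dual : ob B f (DualNumber B) = LieS.dpt B f := rfl

end Groth.Agent.Lib.helper1.DN
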