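import Mathlib
import Groth.Agent.Lib.helper1.EP1

/-! Joint epimorphism property for `Spec C₁`, `Spec C₂ ⟶ Spec C`. -/

open AlgebraicGeometry CategoryTheory Limits

universe u

namespace Groth.Agent.Lib.helper1.DN

/-- Morphisms out of `Spec (R × S)` are determined by their restrictions to the two factors. -/
lemma spec_prod_hom_ext {R S : Type u} [CommRing R] [CommRing S] {X : Scheme.{u}}
    (g₁ g₂ : Spec (CommRingCat.of (R × S)) ⟶ X)
    (h1 : Spec.map (CommRingCat.ofHom (RingHom.fst R S)) ≫ g₁ =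
      Spec.map (CommRingCat.ofHom (RingHom.fst R S)) ≫ g₂)
    (h2 : Spec.map (CommRingCat.ofHom (RingHom.snd R S)) ≫ g₁ =
      Spec.map (CommRingCat.ofHom (RingHom.snd R S)) ≫ g₂) : g₁ = g₂ := by
  rw [← cancel_epi (coprodSpec R S)]
  apply coprod.hom_ext
  · rw [← Category.assoc, ← Category.assoc, coprodSpec_inl]
    exact h1
  · rw [← Category.assoc, ← Category.assoc, coprodSpec_inr]
    exact h2

/-- If `C → C₁ × C₂` is injective and `Spec C₁ → Spec C` is surjective, then morphisms out of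
`Spec C` are determined by their restrictions to `Spec C₁` and `Spec C₂`. -/
lemma spec_hom_ext_of_injective {C C₁ C₂ : Type u} [CommRing C] [CommRing C₁] [CommRing C₂]
    (q₁ : C →+* C₁) (q₂ : C →+* C₂)
    (hinj : ∀ c c' : C, q₁ c = q₁ c' → q₂ c = q₂ c' → c = c')
    (hsurj : Function.Surjective (PrimeSpectrum.comap q₁))
    {X : Scheme.{u}} (g₁ g₂ : Spec (CommRingCat.of C) ⟶ X)
    (h1 : Spec.map (CommRingCat.ofHom q₁) ≫ g₁ = Spec.map (CommRingCat.ofHom q₁) ≫ g₂)
    (h2 : Spec.map (CommRingCat.ofHom q₂) ≫ g₁ = Spec.map (CommRingCat.ofHom q₂) ≫ g₂) :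
    g₁ = g₂ := by
  let φ : CommRingCat.of C ⟶ CommRingCat.of (C₁ × C₂) := CommRingCat.ofHom (q₁.prod q₂)
  have hφinj : Function.Injective φ.hom := by
    intro c c' h
    have h' : (q₁ c, q₂ c) = (q₁ c', q₂ c') := h
    exact hinj c c' (congrArg Prod.fst h') (congrArg Prod.snd h')
  have hdom : IsSchemeTheoreticallyDominant (Spec.map φ) :=
    EP.isSchemeTheoreticallyDominant_SpecMap φ hφinj
  have hs : Function.Surjective (Spec.map φ).base := by
    intro x
    obtain ⟨y, rfl⟩ := hsurj x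
    refine ⟨PrimeSpectrum.comap (RingHom.fst C₁ C₂) y, ?_⟩
    change PrimeSpectrum.comap (q₁.prod q₂) (PrimeSpectrum.comap (RingHom.fst C₁ C₂) y) = _
    rw [← PrimeSpectrum.comap_comp_apply]
    congr 1
  refine EP.eq_of_comp_eq (Spec.map φ) hs g₁ g₂ ?_
  apply spec_prod_hom_ext
  · have e : Spec.map (CommRingCat.ofHom (RingHom.fst C₁ C₂)) ≫ Spec.map φ =
        Spec.map (CommRingCat.ofHom q₁) := by
      rw [← Spec.map_comp]; rfl
    rw [← Category.assoc, ← Category.assoc, e]
    exact h1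
  · have e : Spec.map (CommRingCat.ofHom (RingHom.snd C₁ C₂)) ≫ Spec.map φ =
        Spec.map (CommRingCat.ofHom q₂) := by
      rw [← Spec.map_comp]; rfl
    rw [← Category.assoc, ← Category.assoc, e]
    exact h2

end Groth.Agent.Lib.helper1.DN
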