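import Mathlib
import Groth.Prelude.Def_LieS
import Groth.Agent.Lib.helper1.DN1
import Groth.Agent.Lib.helper1.DN2

/-! The additivity of tangent vectors of a monoid scheme: for a point `u` of a monoid scheme `X`
with values in the dual numbers over `T = Spec B` restricting to the unit on the zero section,
`(a • u) * (b • u) = (a + b) • u`. -/

open AlgebraicGeometry CategoryTheory MonoidalCategory CartesianMonoidalCategory MonObj

universe u

namespace Groth.Agent.Lib.helper1.DN

variable (B : Type u) [CommRing B]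

/-- `B[ε₁, ε₂]/(ε₁, ε₂)²` -/
abbrev B2 : Type u := TrivSqZeroExt B (B × B)

/-- `ε ↦ cε` as a `B`-algebra endomorphism of the dual numbers -/
noncomputable def sc (c : B) : DualNumber B →ₐ[B] DualNumber B :=
  TrivSqZeroExt.map (c • (LinearMap.id : B →ₗ[B] B))

/-- `ε ↦ ε₁` -/
noncomputable def p1 : DualNumber B →ₐ[B] B2 B := TrivSqZeroExt.map (LinearMap.inl B B B)
/-- `ε ↦ ε₂` -/
noncomputable def p2 : DualNumber B →ₐ[B] B2 B := TrivSqZeroExt.map (LinearMap.inr B B B)
/-- `ε ↦ ε₁ + ε₂` -/
noncomputable def sg : DualNumber B →ₐ[B] B2 B :=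
  TrivSqZeroExt.map (LinearMap.inl B B B + LinearMap.inr B B B)
/-- `ε₁ ↦ aε, ε₂ ↦ bε` -/
noncomputable def dl (a b : B) : B2 B →ₐ[B] DualNumber B :=
  TrivSqZeroExt.map (a • LinearMap.fst B B B + b • LinearMap.snd B B B)

lemma dl_comp_p1 (a b : B) : (dl B a b).comp (p1 B) = sc B a := by
  rw [dl, p1, ← TrivSqZeroExt.map_comp_map, sc]
  congr 1
  ext; simp
lemma dl_comp_p2 (a b : B) : (dl B a b).comp (p2 B) = sc B b := by
  rw [dl, p2, ← TrivSqZeroExt.map_comp_map, sc]
  congr 1
  ext; simp
lemma dl_comp_sg (a b : B) : (dl B a b).comp (sg B) = sc B (a + b) := by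
  rw [dl, sg, ← TrivSqZeroExt.map_comp_map, sc]
  congr 1
  ext; simp [add_mul]

lemma sc_one : sc B 1 = AlgHom.id B _ := by
  rw [sc, one_smul, TrivSqZeroExt.map_id]

lemma dl_injective (c c' : B2 B) (h1 : dl B 1 0 c = dl B 1 0 c') (h2 : dl B 0 1 c = dl B 0 1 c') :
    c = c' := by
  have e1 := congrArg TrivSqZeroExt.fst h1
  have e2 := congrArg TrivSqZeroExt.snd h1
  have e3 := congrArg TrivSqZeroExt.snd h2
  simp [dl] at e1 e2 e3
  exact TrivSqZeroExt.ext e1 (Prod.ext e2 e3)

/-- every prime of a trivial square zero extension is pulled back along the augmentation -/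
lemma comap_fstHom_comap_inl {M : Type u} [AddCommGroup M] [Module B M]
    [Module Bᵐᵒᵖ M] [IsCentralScalar B M]
    (x : PrimeSpectrum (TrivSqZeroExt B M)) :
    PrimeSpectrum.comap (TrivSqZeroExt.fstHom B B M).toRingHom
      (PrimeSpectrum.comap (algebraMap B (TrivSqZeroExt B M)) x) = x := by
  ext a
  change algebraMap B (TrivSqZeroExt B M) (TrivSqZeroExt.fst a) ∈ x.asIdeal ↔ a ∈ x.asIdeal
  have hnil : (a - algebraMap B (TrivSqZeroExt B M) (TrivSqZeroExt.fst a)) ∈ x.asIdeal := by
    apply x.2.mem_of_pow_mem 2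
    have : (a - algebraMap B (TrivSqZeroExt B M) (TrivSqZeroExt.fst a)) ^ 2 = 0 := by
      ext <;> simp [pow_two, TrivSqZeroExt.algebraMap_eq_inl']
    rw [this]; exact Ideal.zero_mem _
  constructor
  · intro h
    have := Ideal.add_mem _ hnil h
    simpa using this
  · intro h
    have := Ideal.sub_mem _ h hnil
    simpa using this

lemma comap_dl_surjective :
    Function.Surjective (PrimeSpectrum.comap (dl B 1 0).toRingHom) := by
  intro x
  refine ⟨PrimeSpectrum.comap (TrivSqZeroExt.fstHom B B B).toRingHom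
    (PrimeSpectrum.comap (algebraMap B (B2 B)) x), ?_⟩
  rw [← PrimeSpectrum.comap_comp_apply]
  have : (TrivSqZeroExt.fstHom B B B).toRingHom.comp (dl B 1 0).toRingHom =
      (TrivSqZeroExt.fstHom B B (B × B)).toRingHom := by
    ext c
    simp [dl]
  rw [this]
  exact comap_fstHom_comap_inl B x

end Groth.Agent.Lib.helper1.DN
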