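import Mathlib
import Groth.Prelude.Def_LieS
import Groth.Agent.Lib.helper1.DN3

/-! Additivity of tangent vectors of monoid schemes (scheme level). -/

open AlgebraicGeometry CategoryTheory MonoidalCategory CartesianMonoidalCategory MonObj

universe u

namespace Groth.Agent.Lib.helper1.DN

variable {S : Scheme.{u}} {B : Type u} [CommRing B] (f : Spec (CommRingCat.of B) ⟶ S)

/-- `Spec B[ε₁, ε₂]` over `S` -/
noncomputable def ob2 : Over S := ob B f (B2 B)

noncomputable def morDD (a : DualNumber B →ₐ[B] DualNumber B) : LieS.dpt B f ⟶ LieS.dpt B f :=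
  mor f a
noncomputable def morD2 (a : DualNumber B →ₐ[B] B2 B) : ob2 f ⟶ LieS.dpt B f := mor f a
noncomputable def mor2D (a : B2 B →ₐ[B] DualNumber B) : LieS.dpt B f ⟶ ob2 f := mor f a

lemma mor2D_morD2 (b : B2 B →ₐ[B] DualNumber B) (a : DualNumber B →ₐ[B] B2 B) :
    mor2D f b ≫ morD2 f a = morDD f (b.comp a) := mor_comp f a b

lemma morDD_id : morDD f (AlgHom.id B _) = 𝟙 _ := mor_id f

lemma morDD_sc (b : B) : morDD f (sc B b) = LieS.scale B f b := by
  ext
  change Spec.map _ = Spec.map _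
  congr 2
  ext x <;> simp [sc, LieS.scaleHom, LieS.dualHom, TrivSqZeroExt.algebraMap_eq_inl', mul_comm]

lemma morDD_sc_zero : morDD f (sc B 0) = LieS.proj B f ≫ LieS.zeroSec B f := by
  ext
  change Spec.map _ = Spec.map _ ≫ Spec.map _
  rw [LieS.specMap_comp]
  congr 2
  ext x <;> simp [sc, TrivSqZeroExt.algebraMap_eq_inl']

/-- joint epimorphism property of the two coordinate axes in `Spec B[ε₁, ε₂]` -/
lemma hom_ext_B2 {X : Over S} (g₁ g₂ : ob2 f ⟶ X)
    (h1 : mor2D f (dl B 1 0) ≫ g₁ = mor2D f (dl B 1 0) ≫ g₂)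
    (h2 : mor2D f (dl B 0 1) ≫ g₁ = mor2D f (dl B 0 1) ≫ g₂) : g₁ = g₂ := by
  apply Over.OverMorphism.ext
  refine spec_hom_ext_of_injective (C := B2 B) (C₁ := DualNumber B) (C₂ := DualNumber B)
    (dl B 1 0).toRingHom (dl B 0 1).toRingHom (dl_injective B) (comap_dl_surjective B) _ _ ?_ ?_
  · exact congrArg (fun t => t.left) h1
  · exact congrArg (fun t => t.left) h2

/-- Additivity: for a point `u` of a monoid scheme with values in the dual numbers which restricts
to the unit along the zero section, `(a • u) * (b • u) = (a + b) • u`. -/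
theorem scale_mul_scale {X : Over S} [MonObj X] (u : LieS.dpt B f ⟶ X)
    (hu : LieS.zeroSec B f ≫ u = 1) (a b : B) :
    (LieS.scale B f a ≫ u) * (LieS.scale B f b ≫ u) = LieS.scale B f (a + b) ≫ u := by
  have hzero : morDD f (sc B 0) ≫ u = 1 := by
    rw [morDD_sc_zero, Category.assoc, hu, MonObj.comp_one]
  have hone : morDD f (sc B 1) ≫ u = u := by
    rw [sc_one, morDD_id]
    exact Category.id_comp u
  -- the key identity on `Spec B[ε₁, ε₂]`
  have key : (morD2 f (p1 B) ≫ u) * (morD2 f (p2 B) ≫ u) = morD2 f (sg B) ≫ u := by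
    apply hom_ext_B2
    · rw [MonObj.comp_mul, ← Category.assoc, ← Category.assoc, ← Category.assoc, mor2D_morD2,
        mor2D_morD2, mor2D_morD2, dl_comp_p1, dl_comp_p2, dl_comp_sg, add_zero, hone, hzero,
        _root_.mul_one]
    · rw [MonObj.comp_mul, ← Category.assoc, ← Category.assoc, ← Category.assoc, mor2D_morD2,
        mor2D_morD2, mor2D_morD2, dl_comp_p1, dl_comp_p2, dl_comp_sg, zero_add, hone, hzero,
        _root_.one_mul]
  have key2 := congrArg (fun t => mor2D f (dl B a b) ≫ t) key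
  simp only [MonObj.comp_mul] at key2
  rw [← Category.assoc, ← Category.assoc, ← Category.assoc, mor2D_morD2, mor2D_morD2,
    mor2D_morD2, dl_comp_p1, dl_comp_p2, dl_comp_sg, morDD_sc, morDD_sc, morDD_sc] at key2
  exact key2

lemma scale_zero_comp {X : Over S} [MonObj X] (u : LieS.dpt B f ⟶ X)
    (hu : LieS.zeroSec B f ≫ u = 1) : LieS.scale B f 0 ≫ u = 1 := by
  rw [← morDD_sc, morDD_sc_zero, Category.assoc, hu, MonObj.comp_one]

lemma scale_one_comp {X : Over S} (u : LieS.dpt B f ⟶ X) : LieS.scale B f 1 ≫ u = u := by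
  rw [← morDD_sc, sc_one, morDD_id]
  exact Category.id_comp u

end Groth.Agent.Lib.helper1.DN
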