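import Mathlib
import Groth.Agent.Lib.helper1.RedNorm1
import Groth.Agent.Lib.helper1.CSA4
import Groth.Agent.Lib.helper17.CSA
import Groth.Agent.Lib.helper17.CSABaseChange

/-!
# Uniqueness of the reduced norm (helper library of seat helper1)

Any two matrix representations `A → Mₙ(Ω)` of a central simple algebra of degree `n` are conjugate;
hence the determinant, trace and characteristic polynomial of a representation of degree `n`
do not depend on the representation.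
-/

set_option autoImplicit false
set_option linter.unusedSectionVars false
set_option linter.dupNamespace false
universe u v w w'

namespace Groth.Agent.Lib.helper1.RedNorm

open TensorProduct Matrix

section common

/-- Two field extensions have a common extension. -/
theorem exists_common_extension (k : Type u) [Field k] (K₁ : Type v) [Field K₁] [Algebra k K₁]
    (K₂ : Type w) [Field K₂] [Algebra k K₂] :
    ∃ (Ω : Type (max v w)) (_ : Field Ω) (_ : Algebra k Ω), Nonempty (K₁ →ₐ[k] Ω) ∧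
      Nonempty (K₂ →ₐ[k] Ω) := by
  haveI : Nontrivial (K₁ ⊗[k] K₂) := inferInstance
  obtain ⟨m, hm⟩ := Ideal.exists_maximal (K₁ ⊗[k] K₂)
  letI : Field ((K₁ ⊗[k] K₂) ⧸ m) := Ideal.Quotient.field m
  refine ⟨(K₁ ⊗[k] K₂) ⧸ m, inferInstance, inferInstance, ⟨?_⟩, ⟨?_⟩⟩
  · exact (Ideal.Quotient.mkₐ k m).comp Algebra.TensorProduct.includeLeft
  · exact (Ideal.Quotient.mkₐ k m).comp Algebra.TensorProduct.includeRight

end common

section conj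

variable {k : Type u} [Field k] {A : Type v} [Ring A] [Algebra k A]
  [Algebra.IsCentral k A] [IsSimpleRing A] [FiniteDimensional k A]
  {Ω : Type w} [Field Ω] [Algebra k Ω] {n : ℕ}

/-- The `Ω`-linear extension of a representation. -/
noncomputable def extend (ψ : A →ₐ[k] Matrix (Fin n) (Fin n) Ω) :
    Ω ⊗[k] A →ₐ[Ω] Matrix (Fin n) (Fin n) Ω :=
  Algebra.TensorProduct.lift (Algebra.ofId Ω (Matrix (Fin n) (Fin n) Ω)) ψ
    (fun l a => Algebra.commutes l (ψ a))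

theorem extend_tmul (ψ : A →ₐ[k] Matrix (Fin n) (Fin n) Ω) (a : A) :
    extend ψ (1 ⊗ₜ[k] a) = ψ a := by
  simp [extend]

theorem extend_bijective (hn : n ≠ 0) (hA : Module.finrank k A = n ^ 2)
    (ψ : A →ₐ[k] Matrix (Fin n) (Fin n) Ω) : Function.Bijective (extend ψ) := by
  have : NeZero n := ⟨hn⟩
  have hsimple : IsSimpleRing (Ω ⊗[k] A) :=
    Groth.Agent.Lib.helper17.CSA.isSimpleRing_tensor k A Ω
  have hinj : Function.Injective (extend ψ) := by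
    have := RingHom.injective (extend ψ).toRingHom
    exact this
  have hfr' : Module.finrank Ω (Ω ⊗[k] A) = Module.finrank Ω (Matrix (Fin n) (Fin n) Ω) := by
    rw [Module.finrank_baseChange, hA, Module.finrank_matrix]; simp [sq]
  exact ⟨hinj,
    (LinearMap.injective_iff_surjective_of_finrank_eq_finrank (f := (extend ψ).toLinearMap)
      hfr').mp hinj⟩

/-- Two representations of degree `n` of a central simple algebra of degree `n` are conjugate. -/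
theorem exists_conj_of_algHom (hn : n ≠ 0) (hA : Module.finrank k A = n ^ 2)
    (ψ₁ ψ₂ : A →ₐ[k] Matrix (Fin n) (Fin n) Ω) :
    ∃ u : (Matrix (Fin n) (Fin n) Ω)ˣ, ∀ a : A,
      ψ₂ a = (u : Matrix (Fin n) (Fin n) Ω) * ψ₁ a * ((u⁻¹ : (Matrix (Fin n) (Fin n) Ω)ˣ) :
        Matrix (Fin n) (Fin n) Ω) := by
  haveI : Nonempty (Fin n) := ⟨⟨0, Nat.pos_of_ne_zero hn⟩⟩
  let Ψ₁ : Ω ⊗[k] A ≃ₐ[Ω] Matrix (Fin n) (Fin n) Ω :=
    AlgEquiv.ofBijective (extend ψ₁) (extend_bijective hn hA ψ₁)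
  let Ψ₂ : Ω ⊗[k] A ≃ₐ[Ω] Matrix (Fin n) (Fin n) Ω :=
    AlgEquiv.ofBijective (extend ψ₂) (extend_bijective hn hA ψ₂)
  obtain ⟨u, hu⟩ := Groth.Agent.Lib.helper17.CSA.skolemNoether Ω (Matrix (Fin n) (Fin n) Ω)
    (Ψ₁.symm.trans Ψ₂)
  refine ⟨u, fun a => ?_⟩
  have h1 : Ψ₁ (1 ⊗ₜ[k] a) = ψ₁ a := extend_tmul ψ₁ a
  have h2 : Ψ₂ (1 ⊗ₜ[k] a) = ψ₂ a := extend_tmul ψ₂ a
  have := hu (ψ₁ a)
  rw [← this, ← h1, AlgEquiv.trans_apply, AlgEquiv.symm_apply_apply, h2]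

theorem charpoly_eq_of_algHom (hn : n ≠ 0) (hA : Module.finrank k A = n ^ 2)
    (ψ₁ ψ₂ : A →ₐ[k] Matrix (Fin n) (Fin n) Ω) (a : A) :
    (ψ₂ a).charpoly = (ψ₁ a).charpoly := by
  obtain ⟨u, hu⟩ := exists_conj_of_algHom hn hA ψ₁ ψ₂
  rw [hu a, Matrix.coe_units_inv]
  exact Matrix.charpoly_units_conj u (ψ₁ a)

end conj

section general

variable {k : Type u} [Field k] {A : Type v} [Ring A] [Algebra k A]
  [Algebra.IsCentral k A] [IsSimpleRing A] [FiniteDimensional k A]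

/-- The characteristic polynomials of two representations of degree `n` agree in any common
extension of the coefficient fields. -/
theorem charpoly_map_eq {K₁ : Type*} {K₂ : Type*} {Ω : Type*} [Field K₁] [Field K₂] [Field Ω]
    [Algebra k K₁] [Algebra k K₂] [Algebra k Ω] (j₁ : K₁ →ₐ[k] Ω) (j₂ : K₂ →ₐ[k] Ω)
    {ι₁ : Type*} {ι₂ : Type*} [Fintype ι₁] [DecidableEq ι₁] [Fintype ι₂] [DecidableEq ι₂]
    (hι₁ : Module.finrank k A = Fintype.card ι₁ ^ 2) (hι₂ : Module.finrank k A = Fintype.card ι₂ ^ 2)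
    (ρ₁ : A →ₐ[k] Matrix ι₁ ι₁ K₁) (ρ₂ : A →ₐ[k] Matrix ι₂ ι₂ K₂) (a : A) :
    (ρ₁ a).charpoly.map (j₁ : K₁ →+* Ω) = (ρ₂ a).charpoly.map (j₂ : K₂ →+* Ω) := by
  obtain ⟨n, hn1⟩ : ∃ n, n = Fintype.card ι₁ := ⟨_, rfl⟩
  have hn2 : Fintype.card ι₂ = n := by
    have : Fintype.card ι₂ ^ 2 = Fintype.card ι₁ ^ 2 := by rw [← hι₁, ← hι₂]
    rw [hn1]
    exact Nat.pow_left_injective (n := 2) (by norm_num) this
  have hA : Module.finrank k A = n ^ 2 := by rw [hn1]; exact hι₁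
  have hn : n ≠ 0 := by
    rintro rfl
    have : 0 < Module.finrank k A := Module.finrank_pos
    rw [hA] at this; simp at this
  let e₁ : ι₁ ≃ Fin n := Fintype.equivFinOfCardEq hn1.symm
  let e₂ : ι₂ ≃ Fin n := Fintype.equivFinOfCardEq hn2
  let ψ₁ : A →ₐ[k] Matrix (Fin n) (Fin n) Ω :=
    ((Matrix.reindexAlgEquiv k Ω e₁ : Matrix ι₁ ι₁ Ω ≃ₐ[k] _) : Matrix ι₁ ι₁ Ω →ₐ[k] _).comp
      (j₁.mapMatrix.comp ρ₁)
  let ψ₂ : A →ₐ[k] Matrix (Fin n) (Fin n) Ω :=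
    ((Matrix.reindexAlgEquiv k Ω e₂ : Matrix ι₂ ι₂ Ω ≃ₐ[k] _) : Matrix ι₂ ι₂ Ω →ₐ[k] _).comp
      (j₂.mapMatrix.comp ρ₂)
  have h := charpoly_eq_of_algHom hn hA ψ₁ ψ₂ a
  have h1 : (ψ₁ a).charpoly = (ρ₁ a).charpoly.map (j₁ : K₁ →+* Ω) := by
    show (Matrix.reindex e₁ e₁ ((ρ₁ a).map j₁)).charpoly = _
    rw [Matrix.charpoly_reindex]
    exact Matrix.charpoly_map (ρ₁ a) (j₁ : K₁ →+* Ω)
  have h2 : (ψ₂ a).charpoly = (ρ₂ a).charpoly.map (j₂ : K₂ →+* Ω) := by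
    show (Matrix.reindex e₂ e₂ ((ρ₂ a).map j₂)).charpoly = _
    rw [Matrix.charpoly_reindex]
    exact Matrix.charpoly_map (ρ₂ a) (j₂ : K₂ →+* Ω)
  rw [← h1, ← h2, h]

theorem det_map_eq {K₁ : Type*} {K₂ : Type*} {Ω : Type*} [Field K₁] [Field K₂] [Field Ω]
    [Algebra k K₁] [Algebra k K₂] [Algebra k Ω] (j₁ : K₁ →ₐ[k] Ω) (j₂ : K₂ →ₐ[k] Ω)
    {ι₁ : Type*} {ι₂ : Type*} [Fintype ι₁] [DecidableEq ι₁] [Fintype ι₂] [DecidableEq ι₂]
    (hι₁ : Module.finrank k A = Fintype.card ι₁ ^ 2) (hι₂ : Module.finrank k A = Fintype.card ι₂ ^ 2)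
    (ρ₁ : A →ₐ[k] Matrix ι₁ ι₁ K₁) (ρ₂ : A →ₐ[k] Matrix ι₂ ι₂ K₂) (a : A) :
    j₁ (ρ₁ a).det = j₂ (ρ₂ a).det := by
  have h := charpoly_map_eq j₁ j₂ hι₁ hι₂ ρ₁ ρ₂ a
  have hc : Fintype.card ι₁ = Fintype.card ι₂ := by
    have : Fintype.card ι₁ ^ 2 = Fintype.card ι₂ ^ 2 := by rw [← hι₁, ← hι₂]
    exact Nat.pow_left_injective (n := 2) (by norm_num) this
  rw [Matrix.det_eq_sign_charpoly_coeff, Matrix.det_eq_sign_charpoly_coeff, map_mul, map_mul,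
    map_pow, map_pow, map_neg, map_neg, map_one, map_one, hc]
  congr 1
  have := congrArg (fun p => Polynomial.coeff p 0) h
  simpa [Polynomial.coeff_map] using this

theorem trace_map_eq {K₁ : Type*} {K₂ : Type*} {Ω : Type*} [Field K₁] [Field K₂] [Field Ω]
    [Algebra k K₁] [Algebra k K₂] [Algebra k Ω] (j₁ : K₁ →ₐ[k] Ω) (j₂ : K₂ →ₐ[k] Ω)
    {ι₁ : Type*} {ι₂ : Type*} [Fintype ι₁] [DecidableEq ι₁] [Fintype ι₂] [DecidableEq ι₂]
    (hι₁ : Module.finrank k A = Fintype.card ι₁ ^ 2) (hι₂ : Module.finrank k A = Fintype.card ι₂ ^ 2)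
    (ρ₁ : A →ₐ[k] Matrix ι₁ ι₁ K₁) (ρ₂ : A →ₐ[k] Matrix ι₂ ι₂ K₂) (a : A) :
    j₁ (ρ₁ a).trace = j₂ (ρ₂ a).trace := by
  have h := charpoly_map_eq j₁ j₂ hι₁ hι₂ ρ₁ ρ₂ a
  have hc : Fintype.card ι₁ = Fintype.card ι₂ := by
    have : Fintype.card ι₁ ^ 2 = Fintype.card ι₂ ^ 2 := by rw [← hι₁, ← hι₂]
    exact Nat.pow_left_injective (n := 2) (by norm_num) this
  have hpos : 0 < Fintype.card ι₁ := by
    rcases Nat.eq_zero_or_pos (Fintype.card ι₁) with h0 | h0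
    · have : 0 < Module.finrank k A := Module.finrank_pos
      rw [hι₁, h0] at this; simp at this
    · exact h0
  haveI : Nonempty ι₁ := Fintype.card_pos_iff.1 hpos
  haveI : Nonempty ι₂ := Fintype.card_pos_iff.1 (hc ▸ hpos)
  rw [Matrix.trace_eq_neg_charpoly_coeff, Matrix.trace_eq_neg_charpoly_coeff, map_neg, map_neg, hc]
  congr 1
  have := congrArg (fun p => Polynomial.coeff p (Fintype.card ι₂ - 1)) h
  simpa [Polynomial.coeff_map] using this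

/-- **Uniqueness of the reduced norm**: the reduced norm can be computed in any representation
of the right degree. -/
theorem IsRedNorm.det_eq {N : A →* k} (hN : CSAGal.IsRedNorm k A N) {K₂ : Type w} [Field K₂]
    [Algebra k K₂] {ι : Type*} [Fintype ι] [DecidableEq ι]
    (hι : Module.finrank k A = Fintype.card ι ^ 2) (ρ : A →ₐ[k] Matrix ι ι K₂) (a : A) :
    (ρ a).det = algebraMap k K₂ (N a) := by
  obtain ⟨K₁, _, _, _, n₁, φ₁, hφ₁⟩ := hN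
  let ρ₁ : A →ₐ[k] Matrix (Fin n₁) (Fin n₁) K₁ :=
    ((φ₁.restrictScalars k : K₁ ⊗[k] A ≃ₐ[k] _) : K₁ ⊗[k] A →ₐ[k] _).comp
      (Algebra.TensorProduct.includeRight : A →ₐ[k] K₁ ⊗[k] A)
  have hρ₁ : ∀ a, ρ₁ a = φ₁ (1 ⊗ₜ[k] a) := fun a => rfl
  have hn₁ : n₁ = Fintype.card ι := size_eq_of_finrank φ₁ _ hι
  have hι₁ : Module.finrank k A = Fintype.card (Fin n₁) ^ 2 := by
    rw [Fintype.card_fin, hn₁]; exact hι
  obtain ⟨Ω, _, _, ⟨j₁⟩, ⟨j₂⟩⟩ := exists_common_extension k K₁ K₂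
  have h := det_map_eq j₁ j₂ hι₁ hι ρ₁ ρ a
  rw [hρ₁, ← hφ₁, AlgHom.commutes] at h
  apply j₂.injective
  show j₂ _ = j₂ _
  rw [← h, AlgHom.commutes]

theorem IsRedTrace.trace_eq {T : A →+ k} (hT : CSAGal.IsRedTrace k A T) {K₂ : Type w} [Field K₂]
    [Algebra k K₂] {ι : Type*} [Fintype ι] [DecidableEq ι]
    (hι : Module.finrank k A = Fintype.card ι ^ 2) (ρ : A →ₐ[k] Matrix ι ι K₂) (a : A) :
    (ρ a).trace = algebraMap k K₂ (T a) := by
  obtain ⟨K₁, _, _, _, n₁, φ₁, hφ₁⟩ := hT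
  let ρ₁ : A →ₐ[k] Matrix (Fin n₁) (Fin n₁) K₁ :=
    ((φ₁.restrictScalars k : K₁ ⊗[k] A ≃ₐ[k] _) : K₁ ⊗[k] A →ₐ[k] _).comp
      (Algebra.TensorProduct.includeRight : A →ₐ[k] K₁ ⊗[k] A)
  have hρ₁ : ∀ a, ρ₁ a = φ₁ (1 ⊗ₜ[k] a) := fun a => rfl
  have hn₁ : n₁ = Fintype.card ι := size_eq_of_finrank φ₁ _ hι
  have hι₁ : Module.finrank k A = Fintype.card (Fin n₁) ^ 2 := by
    rw [Fintype.card_fin, hn₁]; exact hι
  obtain ⟨Ω, _, _, ⟨j₁⟩, ⟨j₂⟩⟩ := exists_common_extension k K₁ K₂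
  have h := trace_map_eq j₁ j₂ hι₁ hι ρ₁ ρ a
  rw [hρ₁, ← hφ₁, AlgHom.commutes] at h
  apply j₂.injective
  show j₂ _ = j₂ _
  rw [← h, AlgHom.commutes]

end general

end Groth.Agent.Lib.helper1.RedNorm
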