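import Mathlib
import Groth.Agent.Lib.helper1.RedNorm2

/-!
# Reduced characteristic polynomial and subfields of maximal degree (helper library of seat helper1)
-/

set_option autoImplicit false
set_option linter.unusedSectionVars false
set_option linter.dupNamespace false
universe u v w w'

namespace Groth.Agent.Lib.helper1.RedNorm

open TensorProduct Matrix Polynomial
open scoped Kronecker

section kron

variable {R : Type u} [CommRing R] {m : Type v} [Fintype m] [DecidableEq m]
  {l : Type w} [Fintype l] [DecidableEq l]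

theorem charmatrix_one_kronecker (B : Matrix m m R) :
    charmatrix ((1 : Matrix l l R) ⊗ₖ B) = (1 : Matrix l l R[X]) ⊗ₖ charmatrix B := by
  ext ⟨i, i'⟩ ⟨j, j'⟩
  by_cases hij : i = j
  · subst hij
    by_cases hij' : i' = j'
    · subst hij'
      simp [kroneckerMap_apply]
    · have : (i, i') ≠ (i, j') := fun h => hij' (Prod.ext_iff.1 h).2
      simp [kroneckerMap_apply, hij', this]
  · have : (i, i') ≠ (j, j') := fun h => hij (Prod.ext_iff.1 h).1
    simp [charmatrix_apply, Matrix.diagonal_apply, kroneckerMap_apply, hij, this]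

theorem charpoly_one_kronecker (B : Matrix m m R) :
    ((1 : Matrix l l R) ⊗ₖ B).charpoly = B.charpoly ^ Fintype.card l := by
  rw [Matrix.charpoly, charmatrix_one_kronecker, Matrix.det_kronecker, Matrix.det_one, one_pow,
    one_mul, Matrix.charpoly]

end kron

section mulLeft

variable {K : Type u} [Field K] {m : Type v} [Fintype m] [DecidableEq m]

theorem charpoly_mulLeft (M : Matrix m m K) :
    (LinearMap.mulLeft K M).charpoly = M.charpoly ^ Fintype.card m := by
  rw [mulLeft_eq_conj]
  have := LinearEquiv.charpoly_conj (vecLinearEquiv (K := K) (m := m)).symm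
    (Matrix.toLin' ((1 : Matrix m m K) ⊗ₖ M))
  rw [LinearEquiv.conj_apply, LinearEquiv.symm_symm, LinearMap.comp_assoc] at this
  rw [this, Matrix.charpoly_toLin', charpoly_one_kronecker]

end mulLeft

section split

variable {k : Type u} [Field k] {A : Type v} [Ring A] [Algebra k A] [FiniteDimensional k A]
  {K : Type w} [Field K] [Algebra k K] {m : ℕ}
  (φ : K ⊗[k] A ≃ₐ[K] Matrix (Fin m) (Fin m) K)

/-- The characteristic polynomial of left multiplication is the `m`-th power of the reduced
characteristic polynomial. -/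
theorem charpoly_mulLeft_map (a : A) :
    (LinearMap.mulLeft k a).charpoly.map (algebraMap k K) =
      (φ ((1 : K) ⊗ₜ[k] a)).charpoly ^ m := by
  rw [← LinearMap.charpoly_baseChange, baseChange_mulLeft]
  have h := charpoly_mulLeft (φ ((1 : K) ⊗ₜ[k] a))
  rw [mulLeft_conj φ] at h
  have h2 := LinearEquiv.charpoly_conj φ.toLinearEquiv (LinearMap.mulLeft K ((1 : K) ⊗ₜ[k] a))
  rw [LinearEquiv.conj_apply, LinearMap.comp_assoc] at h2
  rw [← h2, h, Fintype.card_fin]

end split

section subfield

variable {k : Type u} [Field k] {A : Type v} [Ring A] [Algebra k A] [FiniteDimensional k A]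
  {K : Type w} [Field K] [Algebra k K] [FiniteDimensional k K]

/-- Left multiplication by an element of a subfield `K` has characteristic polynomial the
`r`-th power of that of the element, `r = dim_K A`. -/
theorem charpoly_mulLeft_of_field (ι : K →ₐ[k] A) (x : K) :
    ∃ r : ℕ, Module.finrank k A = Module.finrank k K * r ∧
      (LinearMap.mulLeft k (ι x)).charpoly = (LinearMap.mulLeft k x).charpoly ^ r := by
  classical
  letI : Module K A := Module.compHom A ι.toRingHom
  have hsmul : ∀ (c : K) (a : A), c • a = ι c * a := fun c a => rfl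
  haveI : IsScalarTower k K A := ⟨fun c x a => by
    rw [hsmul, hsmul, map_smul, smul_mul_assoc]⟩
  haveI : Module.Finite K A := Module.Finite.of_restrictScalars_finite k K A
  let b := Module.finBasis k K
  let c := Module.finBasis K A
  let β := b.smulTower' c
  refine ⟨Module.finrank K A, (Module.finrank_mul_finrank k K A).symm, ?_⟩
  rw [← LinearMap.charpoly_toMatrix (LinearMap.mulLeft k (ι x)) β,
    ← LinearMap.charpoly_toMatrix (LinearMap.mulLeft k x) b]
  have hmat : LinearMap.toMatrix β β (LinearMap.mulLeft k (ι x)) =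
      Matrix.kroneckerMap (· * ·) (1 : Matrix (Fin (Module.finrank K A)) (Fin (Module.finrank K A)) k)
        (LinearMap.toMatrix b b (LinearMap.mulLeft k x)) := by
    ext ⟨j, i⟩ ⟨j', i'⟩
    rw [LinearMap.toMatrix_apply, Matrix.kroneckerMap_apply, LinearMap.toMatrix_apply]
    have h1 : β (j', i') = b i' • c j' := by
      simp [β, Module.Basis.smulTower']
    rw [h1, LinearMap.mulLeft_apply, Module.Basis.smulTower'_repr_mk, hsmul, ← mul_assoc, ← map_mul,
      ← hsmul, map_smul, Module.Basis.repr_self, Finsupp.smul_apply, Finsupp.single_apply,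
      LinearMap.mulLeft_apply, Matrix.one_apply]
    split_ifs with h1 h2 h2
    · simp
    · exact absurd h1.symm h2
    · exact absurd h2.symm h1
    · simp
  rw [hmat]
  have := charpoly_one_kronecker (l := Fin (Module.finrank K A))
    (LinearMap.toMatrix b b (LinearMap.mulLeft k x))
  rw [Fintype.card_fin] at this
  exact this

end subfield

section main

variable {k : Type u} [Field k] {A : Type v} [Ring A] [Algebra k A] [FiniteDimensional k A]
  [Nontrivial A]

theorem lmul_eq_mulLeft {K : Type w} [Field K] [Algebra k K] (x : K) :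
    Algebra.lmul k K x = LinearMap.mulLeft k x := by
  ext y; simp

/-- The reduced characteristic polynomial of an element of a subfield of maximal degree is its
field characteristic polynomial. -/
theorem charpoly_eq_of_subfield (n : ℕ) (hn : Module.finrank k A = n ^ 2)
    {K₁ : Type w'} [Field K₁] [Algebra k K₁] {m : ℕ}
    (φ : K₁ ⊗[k] A ≃ₐ[K₁] Matrix (Fin m) (Fin m) K₁)
    {K : Type w} [Field K] [Algebra k K] [FiniteDimensional k K] (hK : Module.finrank k K = n)
    (ι : K →ₐ[k] A) (x : K) :
    (φ ((1 : K₁) ⊗ₜ[k] ι x)).charpoly =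
      (LinearMap.mulLeft k x).charpoly.map (algebraMap k K₁) := by
  have hm : m = n := size_eq_of_finrank φ n hn
  subst hm
  have hpos : 0 < m := by
    rcases Nat.eq_zero_or_pos m with h0 | h0
    · have : 0 < Module.finrank k A := Module.finrank_pos
      rw [hn, h0] at this; simp at this
    · exact h0
  obtain ⟨r, hr, hch⟩ := charpoly_mulLeft_of_field ι x
  have hrm : r = m := by
    rw [hn, hK, sq] at hr
    exact (Nat.eq_of_mul_eq_mul_left hpos hr).symm
  subst hrm
  have h1 := charpoly_mulLeft_map φ (ι x)
  rw [hch, Polynomial.map_pow] at h1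
  have hassoc : Associated ((φ ((1 : K₁) ⊗ₜ[k] ι x)).charpoly)
      ((LinearMap.mulLeft k x).charpoly.map (algebraMap k K₁)) := by
    rw [← Associated.pow_iff hpos.ne', h1]
  exact Polynomial.eq_of_monic_of_associated (Matrix.charpoly_monic _)
    ((LinearMap.charpoly_monic _).map _) hassoc

theorem det_eq_norm_of_subfield (n : ℕ) (hn : Module.finrank k A = n ^ 2)
    {K₁ : Type w'} [Field K₁] [Algebra k K₁] {m : ℕ}
    (φ : K₁ ⊗[k] A ≃ₐ[K₁] Matrix (Fin m) (Fin m) K₁)
    {K : Type w} [Field K] [Algebra k K] [FiniteDimensional k K] (hK : Module.finrank k K = n)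
    (ι : K →ₐ[k] A) (x : K) :
    (φ ((1 : K₁) ⊗ₜ[k] ι x)).det = algebraMap k K₁ (Algebra.norm k x) := by
  have hm : m = n := size_eq_of_finrank φ n hn
  rw [Matrix.det_eq_sign_charpoly_coeff, charpoly_eq_of_subfield n hn φ hK ι x,
    Polynomial.coeff_map, Algebra.norm_apply, lmul_eq_mulLeft,
    LinearMap.det_eq_sign_charpoly_coeff, hK, Fintype.card_fin, hm]
  simp

theorem trace_eq_trace_of_subfield (n : ℕ) (hn : Module.finrank k A = n ^ 2)
    {K₁ : Type w'} [Field K₁] [Algebra k K₁] {m : ℕ}
    (φ : K₁ ⊗[k] A ≃ₐ[K₁] Matrix (Fin m) (Fin m) K₁)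
    {K : Type w} [Field K] [Algebra k K] [FiniteDimensional k K] (hK : Module.finrank k K = n)
    (ι : K →ₐ[k] A) (x : K) :
    (φ ((1 : K₁) ⊗ₜ[k] ι x)).trace = algebraMap k K₁ (Algebra.trace k K x) := by
  classical
  have hm : m = n := size_eq_of_finrank φ n hn
  have hpos : 0 < n := by
    rcases Nat.eq_zero_or_pos n with h0 | h0
    · have : 0 < Module.finrank k A := Module.finrank_pos
      rw [hn, h0] at this; simp at this
    · exact h0
  haveI : Nonempty (Fin m) := ⟨⟨0, hm ▸ hpos⟩⟩
  let b := Module.finBasis k K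
  haveI : Nonempty (Fin (Module.finrank k K)) := ⟨⟨0, hK ▸ hpos⟩⟩
  rw [Matrix.trace_eq_neg_charpoly_coeff, charpoly_eq_of_subfield n hn φ hK ι x,
    Polynomial.coeff_map, Algebra.trace_eq_matrix_trace b, Matrix.trace_eq_neg_charpoly_coeff,
    Algebra.leftMulMatrix_apply, LinearMap.charpoly_toMatrix, lmul_eq_mulLeft, Fintype.card_fin,
    Fintype.card_fin, hK, hm]
  simp

end main

end Groth.Agent.Lib.helper1.RedNorm
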