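import Mathlib

/-!
# Block representations of matrix algebras over an algebra (helper library of seat helper1)

Given `ρ : D →ₐ[k] M_d(K)`, the induced representation `Rr : M_{I×J}(D) → M_{(I×d)×(J×d)}(K)` and its
compatibility with block matrices.
-/

set_option autoImplicit false
set_option linter.unusedSectionVars false
set_option linter.dupNamespace false
universe u v w w'

namespace Groth.Agent.Lib.helper1.RedNorm

open Matrix

section Rr

variable {k : Type u} [CommRing k] {D : Type v} [Ring D] [Algebra k D]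
  {K : Type w} [CommRing K] [Algebra k K] {d : ℕ}
  (ρ : D →ₐ[k] Matrix (Fin d) (Fin d) K)

/-- The block representation. -/
def Rr {I : Type*} {J : Type*} (g : Matrix I J D) : Matrix (I × Fin d) (J × Fin d) K :=
  Matrix.of fun ip jq => ρ (g ip.1 jq.1) ip.2 jq.2

theorem Rr_apply {I : Type*} {J : Type*} (g : Matrix I J D) (i : I) (p : Fin d) (j : J)
    (q : Fin d) : Rr ρ g (i, p) (j, q) = ρ (g i j) p q := rfl

theorem Rr_zero {I : Type*} {J : Type*} : Rr ρ (0 : Matrix I J D) = 0 := by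
  ext ⟨i, p⟩ ⟨j, q⟩
  simp [Rr_apply]

theorem Rr_add {I : Type*} {J : Type*} (g h : Matrix I J D) : Rr ρ (g + h) = Rr ρ g + Rr ρ h := by
  ext ⟨i, p⟩ ⟨j, q⟩
  simp [Rr_apply]

theorem Rr_one {I : Type*} [DecidableEq I] : Rr ρ (1 : Matrix I I D) = 1 := by
  ext ⟨i, p⟩ ⟨j, q⟩
  rw [Rr_apply]
  by_cases hij : i = j
  · subst hij
    rw [Matrix.one_apply_eq, map_one]
    by_cases hpq : p = q
    · subst hpq; simp
    · have : (i, p) ≠ (i, q) := fun h => hpq (Prod.ext_iff.1 h).2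
      rw [Matrix.one_apply_ne hpq, Matrix.one_apply_ne this]
  · have : (i, p) ≠ (j, q) := fun h => hij (Prod.ext_iff.1 h).1
    rw [Matrix.one_apply_ne hij, map_zero, Matrix.one_apply_ne this]
    rfl

theorem Rr_mul {I : Type*} {J : Type*} {L : Type*} [Fintype J] (g : Matrix I J D)
    (h : Matrix J L D) : Rr ρ (g * h) = Rr ρ g * Rr ρ h := by
  ext ⟨i, p⟩ ⟨l, q⟩
  rw [Rr_apply, Matrix.mul_apply, Matrix.mul_apply, map_sum, Matrix.sum_apply,
    Fintype.sum_prod_type]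
  refine Finset.sum_congr rfl (fun j _ => ?_)
  rw [map_mul, Matrix.mul_apply]
  rfl

theorem Rr_algebraMap {I : Type*} [DecidableEq I] [Fintype I] (c : k) :
    Rr ρ (algebraMap k (Matrix I I D) c) = algebraMap k _ c := by
  ext ⟨i, p⟩ ⟨j, q⟩
  rw [Rr_apply, Matrix.algebraMap_matrix_apply, Matrix.algebraMap_matrix_apply]
  by_cases hij : i = j
  · subst hij
    rw [if_pos rfl, AlgHom.commutes, Matrix.algebraMap_matrix_apply]
    by_cases hpq : p = q
    · subst hpq; simp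
    · have : (i, p) ≠ (i, q) := fun h => hpq (Prod.ext_iff.1 h).2
      rw [if_neg hpq, if_neg this]
  · have : (i, p) ≠ (j, q) := fun h => hij (Prod.ext_iff.1 h).1
    rw [if_neg hij, map_zero, if_neg this]
    rfl

/-- The block representation as an algebra map. -/
def RrHom (I : Type*) [Fintype I] [DecidableEq I] :
    Matrix I I D →ₐ[k] Matrix (I × Fin d) (I × Fin d) K where
  toFun := Rr ρ
  map_one' := Rr_one ρ
  map_mul' := Rr_mul ρ
  map_zero' := Rr_zero ρ
  map_add' := Rr_add ρ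
  commutes' := Rr_algebraMap ρ

theorem RrHom_apply (I : Type*) [Fintype I] [DecidableEq I] (g : Matrix I I D) :
    RrHom ρ I g = Rr ρ g := rfl

theorem Rr_reindex {I : Type*} {J : Type*} {I' : Type*} {J' : Type*} (e : I ≃ I') (f : J ≃ J')
    (g : Matrix I J D) :
    Rr ρ (Matrix.reindex e f g) =
      Matrix.reindex (e.prodCongr (Equiv.refl (Fin d))) (f.prodCongr (Equiv.refl (Fin d)))
        (Rr ρ g) := by
  ext ⟨i, p⟩ ⟨j, q⟩
  rfl

theorem det_Rr_reindex {I : Type*} {I' : Type*} [Fintype I] [DecidableEq I] [Fintype I']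
    [DecidableEq I'] (e : I ≃ I') (g : Matrix I I D) :
    (Rr ρ (Matrix.reindex e e g)).det = (Rr ρ g).det := by
  rw [Rr_reindex, Matrix.det_reindex_self]

theorem Rr_fromBlocks {I₁ : Type*} {I₂ : Type*} {J₁ : Type*} {J₂ : Type*}
    (A : Matrix I₁ J₁ D) (B : Matrix I₁ J₂ D) (C : Matrix I₂ J₁ D) (S : Matrix I₂ J₂ D) :
    Rr ρ (Matrix.fromBlocks A B C S) =
      Matrix.reindex (Equiv.sumProdDistrib I₁ I₂ (Fin d)).symm
        (Equiv.sumProdDistrib J₁ J₂ (Fin d)).symm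
        (Matrix.fromBlocks (Rr ρ A) (Rr ρ B) (Rr ρ C) (Rr ρ S)) := by
  ext ⟨i, p⟩ ⟨j, q⟩
  rcases i with i | i <;> rcases j with j | j <;> rfl

theorem det_Rr_fromBlocks_zero₂₁ {I₁ : Type*} {I₂ : Type*} [Fintype I₁] [DecidableEq I₁]
    [Fintype I₂] [DecidableEq I₂]
    (A : Matrix I₁ I₁ D) (B : Matrix I₁ I₂ D) (S : Matrix I₂ I₂ D) :
    (Rr ρ (Matrix.fromBlocks A B 0 S)).det = (Rr ρ A).det * (Rr ρ S).det := by
  rw [Rr_fromBlocks, Matrix.det_reindex_self, Rr_zero, Matrix.det_fromBlocks_zero₂₁]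

theorem det_Rr_fromBlocks_zero₁₂ {I₁ : Type*} {I₂ : Type*} [Fintype I₁] [DecidableEq I₁]
    [Fintype I₂] [DecidableEq I₂]
    (A : Matrix I₁ I₁ D) (C : Matrix I₂ I₁ D) (S : Matrix I₂ I₂ D) :
    (Rr ρ (Matrix.fromBlocks A 0 C S)).det = (Rr ρ A).det * (Rr ρ S).det := by
  rw [Rr_fromBlocks, Matrix.det_reindex_self, Rr_zero, Matrix.det_fromBlocks_zero₁₂]

theorem det_Rr_fin_one (a : Matrix (Fin 1) (Fin 1) D) :
    (Rr ρ a).det = (ρ (a 0 0)).det := by
  have h : Rr ρ a = Matrix.reindex (Equiv.uniqueProd (Fin d) (Fin 1)).symm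
      (Equiv.uniqueProd (Fin d) (Fin 1)).symm (ρ (a 0 0)) := by
    ext ⟨i, p⟩ ⟨j, q⟩
    have hi : i = 0 := Subsingleton.elim _ _
    have hj : j = 0 := Subsingleton.elim _ _
    subst hi hj
    rfl
  rw [h, Matrix.det_reindex_self]

end Rr

end Groth.Agent.Lib.helper1.RedNorm
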