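import Mathlib
import Groth.Agent.Lib.helper1.RedNorm4

/-!
# Gaussian elimination over a division ring and reduced norms (helper library of seat helper1)

For a division algebra `D` with a representation `ρ : D → M_d(K)`, the determinant of the block
representation of any square matrix over `D` is the determinant of `ρ x` for some `x : D`
(a weak form of the Dieudonné determinant).
-/

set_option autoImplicit false
set_option linter.unusedSectionVars false
set_option linter.dupNamespace false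
universe u v w w'

namespace Groth.Agent.Lib.helper1.RedNorm

open Matrix

section core

variable {k : Type u} [Field k] {D : Type v} [DivisionRing D] [Algebra k D]
  {K : Type w} [Field K] [Algebra k K] {d : ℕ}
  (ρ : D →ₐ[k] Matrix (Fin d) (Fin d) K)

/-- A `1 × 1` matrix. -/
def one1 (a : D) : Matrix (Fin 1) (Fin 1) D := Matrix.of fun _ _ => a

theorem one1_mul (a b : D) : one1 a * one1 b = one1 (a * b) := by
  ext i j
  simp [one1, Matrix.mul_apply]

theorem one1_one : one1 (1 : D) = 1 := by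
  ext i j
  have : i = j := Subsingleton.elim _ _
  subst this
  simp [one1]

theorem LDU {J : Type*} [Fintype J] [DecidableEq J] (a₀ : D) (ha : a₀ ≠ 0)
    (B : Matrix (Fin 1) J D) (C : Matrix J (Fin 1) D) (S : Matrix J J D) :
    Matrix.fromBlocks (one1 a₀) B C S =
      Matrix.fromBlocks 1 0 (C * one1 a₀⁻¹) 1 *
        Matrix.fromBlocks (one1 a₀) 0 0 (S - C * one1 a₀⁻¹ * B) *
          Matrix.fromBlocks 1 (one1 a₀⁻¹ * B) 0 1 := by
  have h1 : one1 a₀⁻¹ * one1 a₀ = 1 := by rw [one1_mul, inv_mul_cancel₀ ha, one1_one]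
  have h2 : one1 a₀ * one1 a₀⁻¹ = 1 := by rw [one1_mul, mul_inv_cancel₀ ha, one1_one]
  rw [Matrix.fromBlocks_multiply, Matrix.fromBlocks_multiply]
  congr 1
  · simp
  · simp [← Matrix.mul_assoc, h2]
  · simp [Matrix.mul_assoc, h1]
  · have h3 : one1 a₀ * (one1 a₀⁻¹ * B) = B := by rw [← Matrix.mul_assoc, h2, Matrix.one_mul]
    simp [Matrix.mul_assoc, h3]

theorem caseA {J : Type*} [Fintype J] [DecidableEq J]
    (IH : ∀ S : Matrix J J D, ∃ x : D, (Rr ρ S).det = (ρ x).det)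
    (g : Matrix (Fin 1 ⊕ J) (Fin 1 ⊕ J) D) (hg : g (Sum.inl 0) (Sum.inl 0) ≠ 0) :
    ∃ x : D, (Rr ρ g).det = (ρ x).det := by
  obtain ⟨a₀, ha₀⟩ : ∃ a₀, a₀ = g (Sum.inl 0) (Sum.inl 0) := ⟨_, rfl⟩
  have h11 : g.toBlocks₁₁ = one1 a₀ := by
    ext i j
    have hi : i = 0 := Subsingleton.elim _ _
    have hj : j = 0 := Subsingleton.elim _ _
    subst hi hj
    simp [one1, ha₀, Matrix.toBlocks₁₁]
  have hgb : g = Matrix.fromBlocks (one1 a₀) g.toBlocks₁₂ g.toBlocks₂₁ g.toBlocks₂₂ := by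
    rw [← h11, Matrix.fromBlocks_toBlocks]
  obtain ⟨y, hy⟩ := IH (g.toBlocks₂₂ - g.toBlocks₂₁ * one1 a₀⁻¹ * g.toBlocks₁₂)
  refine ⟨a₀ * y, ?_⟩
  rw [hgb, LDU a₀ (ha₀ ▸ hg), Rr_mul, Rr_mul, Matrix.det_mul, Matrix.det_mul,
    det_Rr_fromBlocks_zero₁₂, det_Rr_fromBlocks_zero₂₁, det_Rr_fromBlocks_zero₂₁, Rr_one, Rr_one,
    Matrix.det_one, Matrix.det_one, hy, det_Rr_fin_one, map_mul, Matrix.det_mul]
  simp [one1]

theorem step (hd : 0 < d) {J : Type*} [Fintype J] [DecidableEq J]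
    (IH : ∀ S : Matrix J J D, ∃ x : D, (Rr ρ S).det = (ρ x).det)
    (g : Matrix (Fin 1 ⊕ J) (Fin 1 ⊕ J) D) :
    ∃ x : D, (Rr ρ g).det = (ρ x).det := by
  by_cases h0 : g (Sum.inl 0) (Sum.inl 0) ≠ 0
  · exact caseA ρ IH g h0
  rw [not_not] at h0
  by_cases hcol : ∃ j : J, g (Sum.inr j) (Sum.inl 0) ≠ 0
  · obtain ⟨j, hj⟩ := hcol
    obtain ⟨P, hP⟩ : ∃ P : Matrix (Fin 1 ⊕ J) (Fin 1 ⊕ J) D, P = Matrix.fromBlocks 1
        (Matrix.of fun _ j' => if j' = j then (1 : D) else 0) 0 1 := ⟨_, rfl⟩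
    have hPdet : (Rr ρ P).det = 1 := by
      rw [hP, det_Rr_fromBlocks_zero₂₁, Rr_one, Rr_one, Matrix.det_one, Matrix.det_one, one_mul]
    have hne : (P * g) (Sum.inl 0) (Sum.inl 0) ≠ 0 := by
      have : (P * g) (Sum.inl 0) (Sum.inl 0) = g (Sum.inr j) (Sum.inl 0) := by
        rw [Matrix.mul_apply, Fintype.sum_sum_type, hP]
        simp [Matrix.fromBlocks_apply₁₁, Matrix.fromBlocks_apply₁₂, h0]
      rw [this]; exact hj
    obtain ⟨x, hx⟩ := caseA ρ IH (P * g) hne
    refine ⟨x, ?_⟩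
    rw [← hx, Rr_mul, Matrix.det_mul, hPdet, one_mul]
  · rw [not_exists] at hcol
    have hcol' : ∀ j : J, g (Sum.inr j) (Sum.inl 0) = 0 := fun j => not_not.1 (hcol j)
    refine ⟨0, ?_⟩
    haveI : Nonempty (Fin d) := ⟨⟨0, hd⟩⟩
    rw [map_zero, Matrix.det_zero]
    apply Matrix.det_eq_zero_of_column_eq_zero ((Sum.inl 0 : Fin 1 ⊕ J), (⟨0, hd⟩ : Fin d))
    rintro ⟨i, p⟩
    rw [Rr_apply]
    have : g i (Sum.inl 0) = 0 := by
      rcases i with i | i
      · have hi : i = 0 := Subsingleton.elim _ _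
        subst hi; exact h0
      · exact hcol' i
    rw [this, map_zero]
    rfl

/-- **Weak Dieudonné determinant**: the determinant of the block representation of any square
matrix over a division algebra is the determinant of the representation of a single element. -/
theorem exists_det_eq (hd : 0 < d) (m : ℕ) (g : Matrix (Fin m) (Fin m) D) :
    ∃ x : D, (Rr ρ g).det = (ρ x).det := by
  induction m with
  | zero =>
    refine ⟨1, ?_⟩
    rw [map_one, Matrix.det_one, Matrix.det_isEmpty]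
  | succ m ih =>
    let e : Fin 1 ⊕ Fin m ≃ Fin (m + 1) := finSumFinEquiv.trans (finCongr (Nat.add_comm 1 m))
    obtain ⟨x, hx⟩ := step ρ hd ih (Matrix.reindex e.symm e.symm g)
    refine ⟨x, ?_⟩
    rw [← hx, det_Rr_reindex]

end core

end Groth.Agent.Lib.helper1.RedNorm
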