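import Mathlib
import Groth.Agent.Lib.helper1.RedNorm5
import Groth.Agent.Lib.helper1.RedNorm2
import Groth.Agent.Lib.helper1.PerInd1
import Groth.Agent.Lib.helper1.CSA5

/-!
# The group of reduced norms depends only on the Brauer class (helper library of seat helper1)
-/

set_option autoImplicit false
set_option linter.unusedSectionVars false
set_option linter.dupNamespace false
universe u v w w'

namespace Groth.Agent.Lib.helper1.RedNorm

open Matrix TensorProduct

section normgroup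

variable {k : Type u} [Field k] {A : Type v} [Ring A] [Algebra k A]
  [Algebra.IsCentral k A] [IsSimpleRing A] [FiniteDimensional k A]
  {D : Type w} [DivisionRing D] [Algebra k D] [FiniteDimensional k D]
  {K : Type w'} [Field K] [Algebra k K] {d : ℕ}

/-- The reduced norms of units of `A ≃ M_r(D)` are exactly the "reduced norms" of nonzero elements
of `D`, computed in a fixed representation `ρ` of `D`. -/
theorem exists_unit_redNorm_iff (ρ : D →ₐ[k] Matrix (Fin d) (Fin d) K)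
    (hd : Module.finrank k D = d ^ 2) {r : ℕ} (hr : r ≠ 0)
    (eA : A ≃ₐ[k] Matrix (Fin r) (Fin r) D) {N : A →* k} (hN : CSAGal.IsRedNorm k A N) (c : k) :
    (∃ a : A, IsUnit a ∧ N a = c) ↔ ∃ x : D, x ≠ 0 ∧ (ρ x).det = algebraMap k K c := by
  have hdpos : 0 < d := by
    rcases Nat.eq_zero_or_pos d with h0 | h0
    · have : 0 < Module.finrank k D := Module.finrank_pos
      rw [hd, h0] at this; simp at this
    · exact h0
  haveI : Nonempty (Fin d) := ⟨⟨0, hdpos⟩⟩
  let ψ : A →ₐ[k] Matrix (Fin r × Fin d) (Fin r × Fin d) K :=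
    (RrHom ρ (Fin r)).comp (eA : A →ₐ[k] Matrix (Fin r) (Fin r) D)
  have hψ : ∀ a, ψ a = Rr ρ (eA a) := fun a => rfl
  have hfr : Module.finrank k A = Fintype.card (Fin r × Fin d) ^ 2 := by
    rw [eA.toLinearEquiv.finrank_eq, Module.finrank_matrix, hd]
    simp only [Fintype.card_fin, Fintype.card_prod]
    ring
  have hdet : ∀ a, (Rr ρ (eA a)).det = algebraMap k K (N a) := fun a => by
    rw [← hψ]; exact IsRedNorm.det_eq hN hfr ψ a
  constructor
  · rintro ⟨a, ha, rfl⟩
    obtain ⟨x, hx⟩ := exists_det_eq ρ hdpos r (eA a)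
    refine ⟨x, ?_, ?_⟩
    · rintro rfl
      have hu : IsUnit (ψ a) := ha.map ψ
      have hu' : IsUnit (ψ a).det := (Matrix.isUnit_iff_isUnit_det _).1 hu
      rw [hψ, hx, map_zero, Matrix.det_zero] at hu'
      exact not_isUnit_zero hu'
    · rw [← hx, hdet]
  · rintro ⟨x, hx0, hx⟩
    have h1r : 1 + (r - 1) = r := by omega
    let e : Fin 1 ⊕ Fin (r - 1) ≃ Fin r := finSumFinEquiv.trans (finCongr h1r)
    let h : Matrix (Fin 1 ⊕ Fin (r - 1)) (Fin 1 ⊕ Fin (r - 1)) D :=
      Matrix.fromBlocks (one1 x) 0 0 1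
    let h' : Matrix (Fin 1 ⊕ Fin (r - 1)) (Fin 1 ⊕ Fin (r - 1)) D :=
      Matrix.fromBlocks (one1 x⁻¹) 0 0 1
    have hh1 : h * h' = 1 := by
      show Matrix.fromBlocks (one1 x) 0 0 1 * Matrix.fromBlocks (one1 x⁻¹) 0 0 1 = 1
      rw [Matrix.fromBlocks_multiply]
      simp [one1_mul, mul_inv_cancel₀ hx0, one1_one, Matrix.fromBlocks_one]
    have hh2 : h' * h = 1 := by
      show Matrix.fromBlocks (one1 x⁻¹) 0 0 1 * Matrix.fromBlocks (one1 x) 0 0 1 = 1
      rw [Matrix.fromBlocks_multiply]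
      simp [one1_mul, inv_mul_cancel₀ hx0, one1_one, Matrix.fromBlocks_one]
    have hhu : IsUnit h := ⟨⟨h, h', hh1, hh2⟩, rfl⟩
    let g : Matrix (Fin r) (Fin r) D := Matrix.reindexAlgEquiv k D e h
    have hgu : IsUnit g := hhu.map (Matrix.reindexAlgEquiv k D e)
    refine ⟨eA.symm g, hgu.map eA.symm, ?_⟩
    apply (algebraMap k K).injective
    rw [← hdet, AlgEquiv.apply_symm_apply, ← hx]
    show (Rr ρ (Matrix.reindex e e h)).det = _
    rw [det_Rr_reindex]
    show (Rr ρ (Matrix.fromBlocks (one1 x) 0 0 1)).det = _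
    rw [det_Rr_fromBlocks_zero₂₁, Rr_one, Matrix.det_one, mul_one, det_Rr_fin_one]
    simp [one1]

end normgroup

section brauer

open Groth.Agent.Lib.helper1.PerInd Groth.Agent.Lib.helper1.CSA

/-- Brauer-equivalent central simple algebras have the same reduced norms of units. -/
theorem exists_unit_redNorm_iff_of_matrix_algEquiv (k : Type u) [Field k]
    (A : Type v) [Ring A] [Algebra k A] [Algebra.IsCentral k A] [IsSimpleRing A]
    [FiniteDimensional k A]
    (B : Type w) [Ring B] [Algebra k B] [Algebra.IsCentral k B] [IsSimpleRing B]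
    [FiniteDimensional k B]
    (n m : ℕ) (hn : n ≠ 0) (hm : m ≠ 0)
    (e : Matrix (Fin n) (Fin n) A ≃ₐ[k] Matrix (Fin m) (Fin m) B)
    (NA : A →* k) (hNA : CSAGal.IsRedNorm k A NA) (NB : B →* k) (hNB : CSAGal.IsRedNorm k B NB)
    (c : k) : (∃ a : A, IsUnit a ∧ NA a = c) ↔ ∃ b : B, IsUnit b ∧ NB b = c := by
  obtain ⟨D, _, _, _, _, d, hd, hBD, s, hs, ⟨eB⟩⟩ := exists_division k B
  obtain ⟨DA, _, _, _, _, dA, hdA, hADA, r, hr, ⟨eA'⟩⟩ := exists_division k A
  let iso : Matrix (Fin (n * r)) (Fin (n * r)) DA ≃ₐ[k] Matrix (Fin (m * s)) (Fin (m * s)) D :=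
    (Matrix.reindexAlgEquiv k DA finProdFinEquiv).symm.trans <|
      (Matrix.compAlgEquiv (Fin n) (Fin r) DA k).symm.trans <|
      (eA'.symm.mapMatrix (m := Fin n)).trans <| e.trans <|
      (eB.mapMatrix (m := Fin m)).trans <|
      (Matrix.compAlgEquiv (Fin m) (Fin s) D k).trans (Matrix.reindexAlgEquiv k D finProdFinEquiv)
  obtain ⟨θ⟩ := nonempty_algEquiv_of_matrix k DA D (n * r) (m * s) (Nat.mul_ne_zero hn hr)
    (Nat.mul_ne_zero hm hs) iso
  let eA : A ≃ₐ[k] Matrix (Fin r) (Fin r) D := eA'.trans θ.mapMatrix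
  obtain ⟨L, hfin, hgal, d', hd', ⟨φ⟩⟩ := exists_finite_galois_splitting k D
  have hdd : d' = d := size_eq_of_finrank φ d hd
  subst hdd
  let ρ : D →ₐ[k] Matrix (Fin d') (Fin d') L :=
    ((φ.restrictScalars k : L ⊗[k] D ≃ₐ[k] _) : L ⊗[k] D →ₐ[k] _).comp
      (Algebra.TensorProduct.includeRight : D →ₐ[k] L ⊗[k] D)
  rw [exists_unit_redNorm_iff ρ hd hr eA hNA c, exists_unit_redNorm_iff ρ hd hs eB hNB c]

end brauer

end Groth.Agent.Lib.helper1.RedNorm
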