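import Mathlib

/-! e * f ≤ n for an extension of valuation rings. -/

namespace EF

open IsLocalRing

variable {A B K L : Type*} [CommRing A] [IsDomain A] [ValuationRing A] [CommRing B] [IsDomain B]
    [ValuationRing B] [Field K] [Field L]
    [Algebra A K] [IsFractionRing A K] [Algebra B L] [IsFractionRing B L] [Algebra A B] [Algebra K L]
    [Algebra A L] [IsScalarTower A K L] [IsScalarTower A B L] [IsLocalHom (algebraMap A B)]

local notation "vB" => ValuationRing.valuation B L

omit [IsDomain A] [ValuationRing A] [Field K] [Algebra A K] [IsFractionRing A K] [Algebra A B]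
  [Algebra K L] [Algebra A L] [IsScalarTower A K L] [IsScalarTower A B L]
  [IsLocalHom (algebraMap A B)] in
lemma val_unit (u : Bˣ) : vB (algebraMap B L u) = 1 := by
  have h1 : vB (algebraMap B L u) ≤ 1 := (ValuationRing.mem_integer_iff B L _).2 ⟨_, rfl⟩
  have h2 : vB (algebraMap B L (↑u⁻¹ : B)) ≤ 1 := (ValuationRing.mem_integer_iff B L _).2 ⟨_, rfl⟩
  have h3 : vB (algebraMap B L u) * vB (algebraMap B L (↑u⁻¹ : B)) = 1 := by
    rw [← map_mul, ← map_mul, Units.mul_inv, map_one, map_one]
  by_contra hne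
  have h4 : vB (algebraMap B L u) < 1 := lt_of_le_of_ne h1 hne
  have h5 : vB (algebraMap B L u) * vB (algebraMap B L (↑u⁻¹ : B)) ≤ vB (algebraMap B L u) * 1 :=
    mul_le_mul' le_rfl h2
  rw [h3, mul_one] at h5
  exact absurd h4 (not_lt.2 h5)

omit [IsDomain A] [ValuationRing A] [Field K] [Algebra A K] [IsFractionRing A K] [Algebra A B]
  [Algebra K L] [Algebra A L] [IsScalarTower A K L] [IsScalarTower A B L]
  [IsLocalHom (algebraMap A B)] in
lemma exists_unit_of_val_eq_one (w : L) (hw : vB w = 1) : ∃ u : Bˣ, algebraMap B L u = w := by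
  have hw0 : w ≠ 0 := by
    rintro rfl; rw [map_zero] at hw; exact zero_ne_one hw
  obtain ⟨β, hβ⟩ := (ValuationRing.mem_integer_iff B L w).1 (by
    show vB w ≤ 1
    rw [hw])
  obtain ⟨β', hβ'⟩ := (ValuationRing.mem_integer_iff B L w⁻¹).1 (by
    show vB w⁻¹ ≤ 1
    rw [map_inv₀, hw, inv_one])
  have h1 : β * β' = 1 := by
    apply IsFractionRing.injective B L
    rw [map_mul, hβ, hβ', mul_inv_cancel₀ hw0, map_one]
  exact ⟨⟨β, β', h1, by rw [mul_comm]; exact h1⟩, hβ⟩

omit [IsDomain B] [ValuationRing B] [IsFractionRing B L] in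
lemma mem_A_of_val_le_one [IsDomain B] [ValuationRing B] [IsFractionRing B L] (a : K)
    (h : vB (algebraMap K L a) ≤ 1) : ∃ a' : A, algebraMap A K a' = a := by
  rcases ValuationRing.isInteger_or_isInteger A a with ⟨a', ha'⟩ | ⟨a', ha'⟩
  · exact ⟨a', ha'⟩
  · by_cases ha0 : a = 0
    · exact ⟨0, by simp [ha0]⟩
    obtain ⟨b, hb⟩ := (ValuationRing.mem_integer_iff B L _).1 h
    have h1 : algebraMap B L (b * algebraMap A B a') = 1 := by
      rw [map_mul, hb, ← IsScalarTower.algebraMap_apply A B L, IsScalarTower.algebraMap_apply A K L]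
      erw [ha']
      rw [← map_mul, mul_inv_cancel₀ ha0, map_one]
    have h2 : b * algebraMap A B a' = 1 := (IsFractionRing.injective B L) (by rw [h1, map_one])
    have h3 : IsUnit (algebraMap A B a') := IsUnit.of_mul_eq_one b (by rw [mul_comm]; exact h2)
    have h4 : IsUnit a' := isUnit_of_map_unit (algebraMap A B) a' h3
    obtain ⟨u, rfl⟩ := h4
    refine ⟨↑u⁻¹, ?_⟩
    have h5 : algebraMap A K (↑u⁻¹ : A) * algebraMap A K (u : A) = 1 := by
      rw [← map_mul, Units.inv_mul, map_one]
    have h6 : algebraMap A K (u : A) = a⁻¹ := ha'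
    rw [h6] at h5
    field_simp at h5
    exact h5

theorem LI {ι κ' : Type*} [Fintype ι] [Fintype κ'] (b : ι → B)
    (hb : LinearIndependent (ResidueField A) (fun i => residue B (b i)))
    (y : κ' → L) (hy0 : ∀ j, y j ≠ 0)
    (hy : ∀ j j', j ≠ j' → ∀ a : K, a ≠ 0 → vB (algebraMap K L a * y j) ≠ vB (y j')) :
    LinearIndependent K (fun p : ι × κ' => algebraMap B L (b p.1) * y p.2) := by
  classical
  rw [Fintype.linearIndependent_iff]
  intro c hc
  set s : κ' → L := fun j => ∑ i, algebraMap K L (c (i, j)) * algebraMap B L (b i) with hs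
  have hsum : ∑ j, s j * y j = 0 := by
    rw [← hc, Fintype.sum_prod_type_right]
    refine Finset.sum_congr rfl fun j _ => ?_
    rw [hs]; simp only
    rw [Finset.sum_mul]
    refine Finset.sum_congr rfl fun i _ => ?_
    rw [Algebra.smul_def]; ring
  have step1 : ∀ j, (∃ i, c (i, j) ≠ 0) →
      ∃ i₀, c (i₀, j) ≠ 0 ∧ vB (s j) = vB (algebraMap K L (c (i₀, j))) := by
    rintro j ⟨i₁, hi₁⟩
    obtain ⟨i₀, -, hmax⟩ := Finset.exists_max_image Finset.univ
      (fun i => vB (algebraMap K L (c (i, j)))) ⟨i₁, Finset.mem_univ _⟩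
    have hi₀ : c (i₀, j) ≠ 0 := by
      intro h0
      have h1 := hmax i₁ (Finset.mem_univ _)
      simp only [h0, map_zero] at h1
      have h2 : vB (algebraMap K L (c (i₁, j))) ≠ 0 := by
        rw [Valuation.ne_zero_iff]
        exact fun h => hi₁ ((algebraMap K L).injective (by rw [h, map_zero]))
      exact h2 (le_antisymm h1 zero_le)
    have hi₀L : algebraMap K L (c (i₀, j)) ≠ 0 := fun h =>
      hi₀ ((algebraMap K L).injective (by rw [h, map_zero]))
    refine ⟨i₀, hi₀, ?_⟩
    have hd : ∀ i, ∃ a : A, algebraMap A K a = c (i, j) / c (i₀, j) := by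
      intro i
      apply mem_A_of_val_le_one (B := B) (L := L)
      rw [map_div₀, map_div₀]
      have h3 : vB (algebraMap K L (c (i₀, j))) ≠ 0 := by rwa [Valuation.ne_zero_iff]
      rw [div_le_one₀ (zero_lt_iff.2 h3)]
      exact hmax i (Finset.mem_univ _)
    choose a ha using hd
    set β : B := ∑ i, algebraMap A B (a i) * b i with hβ
    have hsβ : s j = algebraMap K L (c (i₀, j)) * algebraMap B L β := by
      rw [hs]; simp only
      rw [hβ, map_sum, Finset.mul_sum]
      refine Finset.sum_congr rfl fun i _ => ?_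
      rw [map_mul, ← IsScalarTower.algebraMap_apply A B L, IsScalarTower.algebraMap_apply A K L,
        ha, map_div₀]
      field_simp
    have hβu : IsUnit β := by
      by_contra hnu
      have h1 : residue B β = 0 := (residue_eq_zero_iff β).2 ((mem_maximalIdeal β).2 hnu)
      rw [hβ, map_sum] at h1
      have h2 : ∑ i, residue A (a i) • residue B (b i) = 0 := by
        rw [← h1]
        refine Finset.sum_congr rfl fun i _ => ?_
        rw [map_mul, Algebra.smul_def, ResidueField.algebraMap_residue]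
      have h3 := (Fintype.linearIndependent_iff.1 hb) (fun i => residue A (a i)) h2 i₀
      have h4 : a i₀ = 1 := by
        apply IsFractionRing.injective A K
        rw [ha, div_self hi₀, map_one]
      rw [h4, map_one] at h3
      exact one_ne_zero h3
    obtain ⟨u, hu⟩ := hβu
    rw [hsβ, map_mul, ← hu, val_unit, mul_one]
  by_contra hne
  push Not at hne
  obtain ⟨⟨i₁, j₁⟩, hij⟩ := hne
  let J : Finset κ' := Finset.univ.filter (fun j => ∃ i, c (i, j) ≠ 0)
  have hJ : ∀ j, j ∈ J ↔ ∃ i, c (i, j) ≠ 0 := fun j => by simp [J]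
  have hJne : J.Nonempty := ⟨j₁, (hJ j₁).2 ⟨i₁, hij⟩⟩
  have hs0 : ∀ j, j ∉ J → s j = 0 := by
    intro j hj
    rw [hJ] at hj
    push Not at hj
    rw [hs]; simp only
    refine Finset.sum_eq_zero fun i _ => ?_
    rw [hj i, map_zero, zero_mul]
  have hval : ∀ j ∈ J, ∃ a : K, a ≠ 0 ∧ vB (s j * y j) = vB (algebraMap K L a * y j) := by
    intro j hj
    obtain ⟨i₀, hi₀, hv⟩ := step1 j ((hJ j).1 hj)
    exact ⟨c (i₀, j), hi₀, by rw [map_mul, hv, ← map_mul]⟩
  have hvne : ∀ j ∈ J, vB (s j * y j) ≠ 0 := by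
    intro j hj
    obtain ⟨a, ha, hv⟩ := hval j hj
    rw [hv, Valuation.ne_zero_iff]
    exact mul_ne_zero (fun h => ha ((algebraMap K L).injective (by rw [h, map_zero]))) (hy0 j)
  obtain ⟨j₀, hj₀J, hj₀max⟩ := Finset.exists_max_image J (fun j => vB (s j * y j)) hJne
  have hlt : ∀ j ∈ Finset.univ \ {j₀}, vB (s j * y j) < vB (s j₀ * y j₀) := by
    intro j hj
    have hjne : j ≠ j₀ := by
      intro h; simp [h] at hj
    by_cases hjJ : j ∈ J
    · refine lt_of_le_of_ne (hj₀max j hjJ) ?_
      intro heq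
      obtain ⟨a, ha, hv⟩ := hval j hjJ
      obtain ⟨a₀, ha₀, hv₀⟩ := hval j₀ hj₀J
      rw [hv, hv₀] at heq
      refine hy j j₀ hjne (a / a₀) (div_ne_zero ha ha₀) ?_
      have ha₀L : vB (algebraMap K L a₀) ≠ 0 := by
        rw [Valuation.ne_zero_iff]
        exact fun h => ha₀ ((algebraMap K L).injective (by rw [h, map_zero]))
      rw [map_mul, map_mul] at heq
      rw [map_mul, map_div₀, map_div₀, div_mul_eq_mul_div, heq, mul_div_assoc, mul_comm,
        div_mul_cancel₀ _ ha₀L]
    · rw [hs0 j hjJ, zero_mul, map_zero]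
      exact zero_lt_iff.2 (hvne j₀ hj₀J)
  have h1 := Valuation.map_sum_eq_of_lt vB (Finset.mem_univ j₀) hlt
  rw [hsum, map_zero] at h1
  exact hvne j₀ hj₀J h1.symm

end EF
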