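import Mathlib
import Groth.Agent.Lib.helper1.EF1

namespace EF

open IsLocalRing

variable {A B K L : Type*} [CommRing A] [IsDomain A] [ValuationRing A] [CommRing B] [IsDomain B]
    [ValuationRing B] [Field K] [Field L]
    [Algebra A K] [IsFractionRing A K] [Algebra B L] [IsFractionRing B L] [Algebra A B] [Algebra K L]
    [Algebra A L] [IsScalarTower A K L] [IsScalarTower A B L] [IsLocalHom (algebraMap A B)]

local notation "vB" => ValuationRing.valuation B L

variable (A B K L) in
/-- units of B inside Lˣ -/
def UB : Subgroup Lˣ := (Units.map (algebraMap B L).toMonoidHom).range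

variable (A B K L) in
/-- the value group of A inside that of B -/
def ΓA : Subgroup (Lˣ ⧸ UB B L) :=
  ((QuotientGroup.mk' (UB B L)).comp (Units.map (algebraMap K L).toMonoidHom)).range

theorem card_mul_card_le [FiniteDimensional K L] {ι κ' : Type*} [Fintype ι] [Fintype κ']
    (b : ι → B) (hb : LinearIndependent (ResidueField A) (fun i => residue B (b i)))
    (t : κ' → (Lˣ ⧸ UB B L) ⧸ ΓA B K L) (ht : Function.Injective t) :
    Fintype.card ι * Fintype.card κ' ≤ Module.finrank K L := by
  have hsurj : ∀ j, ∃ y : Lˣ, (QuotientGroup.mk (QuotientGroup.mk y : Lˣ ⧸ UB B L) :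
      (Lˣ ⧸ UB B L) ⧸ ΓA B K L) = t j := by
    intro j
    obtain ⟨z, hz⟩ := QuotientGroup.mk_surjective (t j)
    obtain ⟨y, hy⟩ := QuotientGroup.mk_surjective z
    exact ⟨y, by rw [hy, hz]⟩
  choose y hy using hsurj
  have hLI := LI (A := A) (K := K) b hb (fun j => ((y j : Lˣ) : L)) (fun j => (y j).ne_zero) (by
    intro j j' hjj' a ha heq
    apply hjj'
    apply ht
    rw [← hy j, ← hy j', QuotientGroup.eq, ← QuotientGroup.mk_inv, ← QuotientGroup.mk_mul]
    have haL : algebraMap K L a ≠ 0 := fun h =>
      ha ((algebraMap K L).injective (by rw [h, map_zero]))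
    -- w = (a y_j)⁻¹ y_j' is a unit of B
    have hw : vB ((algebraMap K L a * (y j : L))⁻¹ * (y j' : L)) = 1 := by
      rw [map_mul, map_inv₀, heq, inv_mul_cancel₀]
      rw [Valuation.ne_zero_iff]; exact (y j').ne_zero
    obtain ⟨u, hu⟩ := exists_unit_of_val_eq_one _ hw
    refine ⟨Units.mk0 a ha, ?_⟩
    rw [MonoidHom.comp_apply, QuotientGroup.mk'_apply, QuotientGroup.eq]
    refine ⟨u, ?_⟩
    apply Units.ext
    simp only [Units.coe_map, RingHom.toMonoidHom_eq_coe, MonoidHom.coe_coe, Units.val_mul,
      Units.val_inv_eq_inv_val, Units.val_mk0]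
    rw [hu]
    have hyj : (y j : L) ≠ 0 := (y j).ne_zero
    have hyj' : (y j' : L) ≠ 0 := (y j').ne_zero
    field_simp)
  have := hLI.fintype_card_le_finrank
  simpa [Fintype.card_prod] using this

theorem main [FiniteDimensional K L] :
    Module.Finite (ResidueField A) (ResidueField B) ∧ (ΓA B K L).index ≠ 0 ∧
      (ΓA B K L).index * Module.finrank (ResidueField A) (ResidueField B) ≤
        Module.finrank K L := by
  classical
  have h1 : Module.Finite (ResidueField A) (ResidueField B) := by
    rw [← Module.rank_lt_aleph0_iff]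
    refine lt_of_le_of_lt (rank_le (n := Module.finrank K L) ?_) Cardinal.natCast_lt_aleph0
    intro s hs
    have hsurj : ∀ i : s, ∃ b : B, residue B b = i := fun i => residue_surjective _
    choose b hb using hsurj
    have hb' : LinearIndependent (ResidueField A) (fun i => residue B (b i)) := by
      have : (fun i => residue B (b i)) = fun i : s => (i : ResidueField B) := funext hb
      rw [this]; exact hs
    have := card_mul_card_le (A := A) (K := K) (L := L) b hb'
      (fun _ : Unit => (QuotientGroup.mk (QuotientGroup.mk (1 : Lˣ) : Lˣ ⧸ UB B L) :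
        (Lˣ ⧸ UB B L) ⧸ ΓA B K L))
      (fun _ _ _ => Subsingleton.elim _ _)
    simpa using this
  have h2 : (ΓA B K L).index ≠ 0 := by
    intro h0
    rw [Subgroup.index_eq_zero_iff_infinite] at h0
    obtain ⟨T, hT⟩ := Infinite.exists_subset_card_eq ((Lˣ ⧸ UB B L) ⧸ ΓA B K L)
      (Module.finrank K L + 1)
    have hb' : LinearIndependent (ResidueField A) (fun _ : Unit => residue B (1 : B)) := by
      rw [linearIndependent_unique_iff]
      simp
    have := card_mul_card_le (A := A) (K := K) (L := L) (fun _ : Unit => (1 : B)) hb'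
      (fun t : T => (t : (Lˣ ⧸ UB B L) ⧸ ΓA B K L)) Subtype.val_injective
    simp only [Fintype.card_unit, one_mul, Fintype.card_coe, hT] at this
    omega
  refine ⟨h1, h2, ?_⟩
  haveI := h1
  haveI : Finite ((Lˣ ⧸ UB B L) ⧸ ΓA B K L) := by
    by_contra hinf
    rw [not_finite_iff_infinite, ← Subgroup.index_eq_zero_iff_infinite] at hinf
    exact h2 hinf
  haveI : Fintype ((Lˣ ⧸ UB B L) ⧸ ΓA B K L) := Fintype.ofFinite _
  let bs := Module.finBasis (ResidueField A) (ResidueField B)
  have hsurj : ∀ i, ∃ b : B, residue B b = bs i := fun i => residue_surjective _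
  choose b hb using hsurj
  have hb' : LinearIndependent (ResidueField A) (fun i => residue B (b i)) := by
    have : (fun i => residue B (b i)) = fun i => bs i := funext hb
    rw [this]; exact bs.linearIndependent
  have := card_mul_card_le (A := A) (K := K) (L := L) b hb'
    (fun t : (Lˣ ⧸ UB B L) ⧸ ΓA B K L => t) (fun _ _ h => h)
  rw [Fintype.card_fin, mul_comm] at this
  rw [Subgroup.index, Nat.card_eq_fintype_card]
  exact this

end EF
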