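import Mathlib
import Groth.Prelude.Def_LieS
import Groth.Agent.Lib.helper1.EP1

/-! The coordinate-multiplying map `I_T ×_T I'_T ⟶ I_T` is an epimorphism of schemes. -/

open AlgebraicGeometry CategoryTheory

universe u

namespace Groth.Agent.Lib.helper1.EP

variable (B : Type u) [CommRing B]

lemma mulHom_injective : Function.Injective (LieS.mulHom B) := by
  intro x y hxy
  have h1 := congrArg (fun t => t.fst.fst) hxy
  have h2 := congrArg (fun t => t.snd.snd) hxy
  simp [LieS.mulHom, LieS.dualHom, TrivSqZeroExt.algebraMap_eq_inl'] at h1 h2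
  exact TrivSqZeroExt.ext h1 h2

/-- the augmentation of the iterated dual numbers -/
noncomputable def aug2 : LieS.D2 B →+* B :=
  (TrivSqZeroExt.fstHom B B B).toRingHom.comp
    (TrivSqZeroExt.fstHom (DualNumber B) (DualNumber B) (DualNumber B)).toRingHom

lemma aug2_comp_mulHom :
    (aug2 B).comp (LieS.mulHom B) = (TrivSqZeroExt.fstHom B B B).toRingHom := by
  ext x <;> simp [aug2, LieS.mulHom, LieS.dualHom, TrivSqZeroExt.algebraMap_eq_inl']

lemma comap_mulHom_surjective :
    Function.Surjective (PrimeSpectrum.comap (CommRingCat.ofHom (R := DualNumber B) (S := LieS.D2 B) (LieS.mulHom B)).hom) := by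
  intro x
  let x₀ : PrimeSpectrum B := PrimeSpectrum.comap (algebraMap B (DualNumber B)) x
  refine ⟨PrimeSpectrum.comap (CommRingCat.ofHom (R := LieS.D2 B) (S := B) (aug2 B)).hom x₀, ?_⟩
  rw [← PrimeSpectrum.comap_comp_apply]
  have hc : (CommRingCat.ofHom (R := LieS.D2 B) (S := B) (aug2 B)).hom.comp (CommRingCat.ofHom (R := DualNumber B) (S := LieS.D2 B) (LieS.mulHom B)).hom =
      (CommRingCat.ofHom (R := DualNumber B) (S := B) (TrivSqZeroExt.fstHom B B B).toRingHom).hom := aug2_comp_mulHom B
  rw [hc]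
  ext a
  change algebraMap B (DualNumber B) (TrivSqZeroExt.fst a) ∈ x.asIdeal ↔ a ∈ x.asIdeal
  have hnil : (a - algebraMap B (DualNumber B) (TrivSqZeroExt.fst a)) ∈ x.asIdeal := by
    apply x.2.mem_of_pow_mem 2
    have : (a - algebraMap B (DualNumber B) (TrivSqZeroExt.fst a)) ^ 2 = 0 := by
      ext <;> simp [pow_two, TrivSqZeroExt.algebraMap_eq_inl']
    rw [this]; exact Ideal.zero_mem _
  constructor
  · intro h
    have := Ideal.add_mem _ hnil h
    simpa using this
  · intro h
    have := Ideal.sub_mem _ h hnil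
    simpa using this

end Groth.Agent.Lib.helper1.EP
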