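import Mathlib
import Groth.Prelude
import Groth.Agent.Lib.helper1.Equalizer

set_option autoImplicit false
universe u

namespace Groth.Agent.Lib.helper1.EqLib

open AlgebraicGeometry CategoryTheory Limits

/-- Criterion for faithfulness of restriction of finite étale covers. -/
theorem faithful_of {X Y : Scheme.{u}} (f : X ⟶ Y)
    (H : ∀ (A : FEt.Cat Y) (E : Scheme.{u}) (ι : E ⟶ A.left), IsOpenImmersion ι →
      IsClosedImmersion ι → Set.range (pullback.fst A.hom f) ⊆ Set.range ι →
      Function.Surjective ι) : (FEt.restrict f).Faithful := by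
  constructor
  intro A B a b hab
  have hB1 : IsFinite B.hom := B.prop.1
  have hB2 : Etale B.hom := B.prop.2
  have hw : a.left ≫ B.hom = b.left ≫ B.hom := by
    rw [MorphismProperty.Over.w a, MorphismProperty.Over.w b]
  obtain ⟨E, ι, hopen, hι, hclosed, huniv⟩ := exists_equalizer B.hom a.left b.left hw
  have hcl : IsClosedImmersion ι := hclosed inferInstance
  have hfst : pullback.fst A.hom f ≫ a.left = pullback.fst A.hom f ≫ b.left := by
    have h1 := congrArg (fun φ => φ.left ≫ pullback.fst B.hom f) hab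
    simp only [FEt.restrict, MorphismProperty.Over.pullback_map_left] at h1
    exact (pullback.lift_fst _ _ _).symm.trans (h1.trans (pullback.lift_fst _ _ _))
  obtain ⟨t, ht⟩ := huniv _ _ hfst
  have hrange : Set.range (pullback.fst A.hom f) ⊆ Set.range ι := by
    rintro _ ⟨z, rfl⟩
    exact ⟨t z, by rw [← Scheme.Hom.comp_apply, ht]⟩
  have hsurj : Surjective ι := ⟨H A E ι hopen hcl hrange⟩
  have : IsIso ι := (isIso_iff_isOpenImmersion_and_surjective ι).mpr ⟨hopen, hsurj⟩
  have hleft : a.left = b.left := (cancel_epi ι).mp hι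
  exact MorphismProperty.Over.Hom.ext hleft

theorem faithful_of_denseRange {X Y : Scheme.{u}} (f : X ⟶ Y) (h : DenseRange f) :
    (FEt.restrict f).Faithful := by
  apply faithful_of
  intro A E ι hopen hcl hrange
  have hA2 : Etale A.hom := A.prop.2
  have hdense : Dense (A.hom ⁻¹' Set.range f) :=
    Dense.preimage h A.hom.isOpenMap
  rw [← Scheme.Pullback.range_fst] at hdense
  have : Dense (Set.range ι) := hdense.mono hrange
  have hclosed : IsClosed (Set.range ι) := ι.isClosedEmbedding.isClosed_range
  rw [← Set.range_eq_univ, ← hclosed.closure_eq, this.closure_eq]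

theorem faithful_of_meets_components {X Y : Scheme.{u}} (i : Y ⟶ X)
    (h : ∀ x : X, (connectedComponent x ∩ Set.range i).Nonempty) :
    (FEt.restrict i).Faithful := by
  apply faithful_of
  intro A E ι hopen hcl hrange
  have hA1 : IsFinite A.hom := A.prop.1
  have hA2 : Etale A.hom := A.prop.2
  by_contra hns
  have hclopen : IsClopen (Set.range ι)ᶜ :=
    (IsClopen.compl ⟨ι.isClosedEmbedding.isClosed_range, ι.isOpenEmbedding.isOpen_range⟩)
  have hne : (Set.range ι)ᶜ.Nonempty := by
    rw [Set.nonempty_compl]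
    intro h'
    exact hns (Set.range_eq_univ.mp h')
  have himg : IsClopen (A.hom '' (Set.range ι)ᶜ) :=
    ⟨A.hom.isClosedMap _ hclopen.1, A.hom.isOpenMap _ hclopen.2⟩
  obtain ⟨w, hw⟩ := hne
  have hsub : connectedComponent (A.hom w) ⊆ A.hom '' (Set.range ι)ᶜ :=
    himg.connectedComponent_subset ⟨w, hw, rfl⟩
  obtain ⟨x, hx1, hx2⟩ := h (A.hom w)
  obtain ⟨w', hw', rfl⟩ := hsub hx1
  have : w' ∈ Set.range (pullback.fst A.hom i) := by
    rw [Scheme.Pullback.range_fst]
    exact hx2
  exact hw' (hrange this)

end Groth.Agent.Lib.helper1.EqLib
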