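import Mathlib

set_option autoImplicit false
open TensorProduct

namespace Groth.Agent.Lib.helper1.FL

variable {R : Type*} [CommRing R]

theorem map_mem_smul_top {M N : Type*} [AddCommGroup M] [Module R M] [AddCommGroup N] [Module R N]
    (I : Ideal R) (q : M →ₗ[R] N) {x : M} (hx : x ∈ I • (⊤ : Submodule R M)) :
    q x ∈ I • (⊤ : Submodule R N) := by
  have : q x ∈ Submodule.map q (I • ⊤) := Submodule.mem_map_of_mem hx
  rw [Submodule.map_smul''] at this
  exact Submodule.smul_mono le_rfl le_top this

theorem map_mem_smul_of_range_le {M N : Type*} [AddCommGroup M] [Module R M] [AddCommGroup N]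
    [Module R N] (I : Ideal R) (q : M →ₗ[R] N) (P : Submodule R N) (hq : ∀ x, q x ∈ P)
    {x : M} (hx : x ∈ I • (⊤ : Submodule R M)) :
    q x ∈ I • P := by
  have : q x ∈ Submodule.map q (I • ⊤) := Submodule.mem_map_of_mem hx
  rw [Submodule.map_smul''] at this
  refine Submodule.smul_mono le_rfl ?_ this
  rintro _ ⟨y, -, rfl⟩
  exact hq y

theorem ker_mk_one (I : Ideal R) (M : Type*) [AddCommGroup M] [Module R M] :
    LinearMap.ker (TensorProduct.mk R (R ⧸ I) M 1) = I • (⊤ : Submodule R M) := by
  ext x
  rw [LinearMap.mem_ker, TensorProduct.mk_apply,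
    ← (TensorProduct.quotTensorEquivQuotSMul M I).map_eq_zero_iff,
    TensorProduct.quotTensorEquivQuotSMul_mk_one_tmul, Submodule.Quotient.mk_eq_zero]

theorem restrictScalars_baseChange (I : Ideal R) {M : Type*} [AddCommGroup M] [Module R M]
    (p : Submodule R M) :
    (p.baseChange (R ⧸ I)).restrictScalars R = p.map (TensorProduct.mk R (R ⧸ I) M 1) := by
  rw [Submodule.baseChange_eq_span,
    Submodule.restrictScalars_span _ _ Ideal.Quotient.mk_surjective, Submodule.span_eq]

theorem baseChange_eq_iff (I : Ideal R) {M : Type*} [AddCommGroup M] [Module R M]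
    (p p' : Submodule R M) :
    p.baseChange (R ⧸ I) = p'.baseChange (R ⧸ I) ↔ p ⊔ I • ⊤ = p' ⊔ I • ⊤ := by
  rw [← ker_mk_one I M, ← Submodule.comap_map_eq, ← Submodule.comap_map_eq,
    ← restrictScalars_baseChange, ← restrictScalars_baseChange]
  constructor
  · intro h
    rw [h]
  · intro h
    have h2 := congrArg (Submodule.map (TensorProduct.mk R (R ⧸ I) M 1)) h
    have hs : Function.Surjective (TensorProduct.mk R (R ⧸ I) M 1) := by
      intro z
      induction z using TensorProduct.induction_on with
      | zero => exact ⟨0, map_zero _⟩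
      | tmul a m =>
        obtain ⟨r, rfl⟩ := Ideal.Quotient.mk_surjective a
        refine ⟨r • m, ?_⟩
        rw [TensorProduct.mk_apply, TensorProduct.tmul_smul, TensorProduct.smul_tmul']
        congr 1
        rw [Algebra.smul_def, mul_one]; rfl
      | add a b ha hb =>
        obtain ⟨x, rfl⟩ := ha
        obtain ⟨y, rfl⟩ := hb
        exact ⟨x + y, map_add _ _ _⟩
    rw [Submodule.map_comap_eq_of_surjective hs, Submodule.map_comap_eq_of_surjective hs] at h2
    exact Submodule.restrictScalars_injective R _ _ h2

end Groth.Agent.Lib.helper1.FL
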