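import Mathlib
import Groth.Agent.Lib.helper1.FL1

set_option autoImplicit false
open TensorProduct

namespace Groth.Agent.Lib.helper1.FL

variable {R : Type*} [CommRing R]

theorem exists_proj {M : Type*} [AddCommGroup M] [Module R M] (P : Submodule R M)
    [Module.Projective R (M ⧸ P)] :
    ∃ p : M →ₗ[R] M, (∀ x, p x ∈ P) ∧ ∀ x ∈ P, p x = x := by
  obtain ⟨τ, hτ⟩ := Module.projective_lifting_property P.mkQ LinearMap.id
    (Submodule.mkQ_surjective P)
  refine ⟨LinearMap.id - τ ∘ₗ P.mkQ, fun x => ?_, fun x hx => ?_⟩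
  · rw [← Submodule.Quotient.mk_eq_zero]
    have := LinearMap.congr_fun hτ (P.mkQ x)
    simp only [LinearMap.comp_apply, LinearMap.id_apply, Submodule.mkQ_apply] at this
    simp only [LinearMap.sub_apply, LinearMap.id_apply, LinearMap.comp_apply,
      Submodule.mkQ_apply, Submodule.Quotient.mk_sub, this, sub_self]
  · have h0 : P.mkQ x = 0 := by
      rw [Submodule.mkQ_apply, Submodule.Quotient.mk_eq_zero]; exact hx
    simp only [LinearMap.sub_apply, LinearMap.id_apply, LinearMap.comp_apply, h0, map_zero,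
      sub_zero]

theorem mem_smul_of_mem_of_mem_smul_top {M : Type*} [AddCommGroup M] [Module R M]
    (P : Submodule R M) [Module.Projective R (M ⧸ P)] (I : Ideal R) {x : M} (hx : x ∈ P)
    (hx' : x ∈ I • (⊤ : Submodule R M)) : x ∈ I • P := by
  obtain ⟨p, hp1, hp2⟩ := exists_proj P
  rw [← hp2 x hx]
  exact map_mem_smul_of_range_le I p P hp1 hx'

theorem projective_of_quotient {M : Type*} [AddCommGroup M] [Module R M] [Module.Projective R M]
    (P : Submodule R M) [Module.Projective R (M ⧸ P)] : Module.Projective R P := by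
  obtain ⟨p, hp1, hp2⟩ := exists_proj P
  refine Module.Projective.of_split P.subtype (p.codRestrict P hp1) ?_
  ext x
  simp [hp2 x.1 x.2]

end Groth.Agent.Lib.helper1.FL
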