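import Mathlib
import Groth.Agent.Lib.helper1.FL2

set_option autoImplicit false
open TensorProduct

namespace Groth.Agent.Lib.helper1.FL

variable {R : Type*} [CommRing R]
variable {H₁ H H₂ : Type*} [AddCommGroup H₁] [Module R H₁] [AddCommGroup H] [Module R H]
  [AddCommGroup H₂] [Module R H₂]

/-- the shear map `x ↦ x + f (u (g x))`. -/
def phi (f : H₁ →ₗ[R] H) (g : H →ₗ[R] H₂) (u : H₂ →ₗ[R] H₁) : H →ₗ[R] H :=
  LinearMap.id + f ∘ₗ u ∘ₗ g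

theorem phi_apply (f : H₁ →ₗ[R] H) (g : H →ₗ[R] H₂) (u : H₂ →ₗ[R] H₁) (x : H) :
    phi f g u x = x + f (u (g x)) := rfl

theorem g_phi (f : H₁ →ₗ[R] H) (g : H →ₗ[R] H₂) (hgf : ∀ a, g (f a) = 0) (u : H₂ →ₗ[R] H₁)
    (x : H) : g (phi f g u x) = g x := by
  rw [phi_apply, map_add, hgf, add_zero]

theorem phi_neg_phi (f : H₁ →ₗ[R] H) (g : H →ₗ[R] H₂) (hgf : ∀ a, g (f a) = 0)
    (u : H₂ →ₗ[R] H₁) (x : H) : phi f g (-u) (phi f g u x) = x := by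
  rw [phi_apply, g_phi f g hgf, phi_apply]
  simp

theorem phi_phi_neg (f : H₁ →ₗ[R] H) (g : H →ₗ[R] H₂) (hgf : ∀ a, g (f a) = 0)
    (u : H₂ →ₗ[R] H₁) (x : H) : phi f g u (phi f g (-u) x) = x := by
  have := phi_neg_phi f g hgf (-u) x
  rwa [neg_neg] at this

/-- `phi` as a linear equivalence. -/
def phiEquiv (f : H₁ →ₗ[R] H) (g : H →ₗ[R] H₂) (hgf : ∀ a, g (f a) = 0) (u : H₂ →ₗ[R] H₁) :
    H ≃ₗ[R] H :=
  LinearEquiv.ofLinearMap (phi f g u) (phi f g (-u))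
    (LinearMap.ext (phi_phi_neg f g hgf u)) (LinearMap.ext (phi_neg_phi f g hgf u))

theorem exists_retraction [Module.Projective R H₂] (f : H₁ →ₗ[R] H) (g : H →ₗ[R] H₂)
    (hf : Function.Injective f) (hg : Function.Surjective g) (hfg : Function.Exact f g) :
    ∃ r : H →ₗ[R] H₁, ∀ a, r (f a) = a := by
  obtain ⟨σ, hσ⟩ := Module.projective_lifting_property g LinearMap.id hg
  obtain ⟨-, r, hr⟩ := ((hfg.split_tfae').out 0 1 rfl rfl).1 ⟨hf, σ, hσ⟩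
  exact ⟨r, fun a => LinearMap.congr_fun hr a⟩

end Groth.Agent.Lib.helper1.FL
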