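import Mathlib
import Groth.Agent.Lib.helper1.FL3

set_option autoImplicit false
open TensorProduct

namespace Groth.Agent.Lib.helper1.FL

variable {R : Type*} [CommRing R]
variable {H₁ H H₂ : Type*} [AddCommGroup H₁] [Module R H₁] [AddCommGroup H] [Module R H]
  [AddCommGroup H₂] [Module R H₂]

/-- a linear section of `g` over `F₂` with values in `F`. -/
theorem exists_section (g : H →ₗ[R] H₂) (F : Submodule R H) (F₂ : Submodule R H₂)
    [Module.Projective R F₂] (hgF : Submodule.map g F = F₂) :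
    ∃ s : F₂ →ₗ[R] H, (∀ y, s y ∈ F) ∧ ∀ y, g (s y) = y := by
  have hmem : ∀ x : F, g x.1 ∈ F₂ := fun x => hgF ▸ Submodule.mem_map_of_mem x.2
  let gF : F →ₗ[R] F₂ := (g ∘ₗ F.subtype).codRestrict F₂ hmem
  have hsurj : Function.Surjective gF := by
    rintro ⟨y, hy⟩
    rw [← hgF] at hy
    obtain ⟨x, hx, rfl⟩ := hy
    exact ⟨⟨x, hx⟩, Subtype.ext rfl⟩
  obtain ⟨t, ht⟩ := Module.projective_lifting_property gF LinearMap.id hsurj
  refine ⟨F.subtype ∘ₗ t, fun y => (t y).2, fun y => ?_⟩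
  have := LinearMap.congr_fun ht y
  exact congrArg Subtype.val this

theorem exists_section' (g : H →ₗ[R] H₂) (𝔫 : Ideal R) (F F' : Submodule R H)
    (F₂ : Submodule R H₂) [Module.Projective R F₂] [Module.Projective R (H₂ ⧸ F₂)]
    (hgF' : Submodule.map g F' = F₂)
    (hFF' : F ⊔ 𝔫 • ⊤ = F' ⊔ 𝔫 • ⊤)
    (s : F₂ →ₗ[R] H) (hs1 : ∀ y, s y ∈ F) (hs2 : ∀ y, g (s y) = y) :
    ∃ s' : F₂ →ₗ[R] H, (∀ y, s' y ∈ F') ∧ (∀ y, g (s' y) = y) ∧
      ∀ y, s' y - s y ∈ 𝔫 • (⊤ : Submodule R H) := by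
  let P : Submodule R (F₂ × H) :=
    Submodule.comap (LinearMap.snd R F₂ H) F' ⊓
      LinearMap.ker (g ∘ₗ LinearMap.snd R F₂ H - F₂.subtype ∘ₗ LinearMap.fst R F₂ H) ⊓
      Submodule.comap (LinearMap.snd R F₂ H - s ∘ₗ LinearMap.fst R F₂ H) (𝔫 • ⊤)
  have hP : ∀ z : F₂ × H, z ∈ P ↔ z.2 ∈ F' ∧ g z.2 = z.1 ∧ z.2 - s z.1 ∈ 𝔫 • (⊤ : Submodule R H) := by
    intro z
    simp only [P, Submodule.mem_inf, Submodule.mem_comap, LinearMap.mem_ker, LinearMap.snd_apply,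
      LinearMap.sub_apply, LinearMap.comp_apply, LinearMap.fst_apply, Submodule.subtype_apply,
      sub_eq_zero, and_assoc]
  let π : P →ₗ[R] F₂ := LinearMap.fst R F₂ H ∘ₗ P.subtype
  have hπ : Function.Surjective π := by
    intro y
    have h1 : s y ∈ F' ⊔ 𝔫 • ⊤ := hFF' ▸ (le_sup_left (a := F) (hs1 y))
    obtain ⟨x', hx', n, hn, hxn⟩ := Submodule.mem_sup.1 h1
    have hgn : g n ∈ F₂ := by
      have h2 : g n = y - g x' := by
        rw [← hs2 y, ← hxn, map_add]; abel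
      rw [h2]
      exact sub_mem y.2 (hgF' ▸ Submodule.mem_map_of_mem hx')
    have hgn' : g n ∈ 𝔫 • F₂ :=
      mem_smul_of_mem_of_mem_smul_top F₂ 𝔫 hgn (map_mem_smul_top 𝔫 g hn)
    rw [← hgF', ← Submodule.map_smul''] at hgn'
    obtain ⟨x'', hx'', hgx''⟩ := hgn'
    have hx''F : x'' ∈ F' := Submodule.smul_le_right hx''
    have hx''n : x'' ∈ 𝔫 • (⊤ : Submodule R H) := Submodule.smul_mono le_rfl le_top hx''
    refine ⟨⟨(y, x' + x''), (hP _).2 ⟨add_mem hx' hx''F, ?_, ?_⟩⟩, rfl⟩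
    · show g (x' + x'') = y
      rw [map_add, hgx'', ← map_add, hxn, hs2]
    · show x' + x'' - s y ∈ 𝔫 • (⊤ : Submodule R H)
      have : x' + x'' - s y = x'' - n := by rw [← hxn]; abel
      rw [this]
      exact sub_mem hx''n hn
  obtain ⟨t, ht⟩ := Module.projective_lifting_property π LinearMap.id hπ
  have ht' : ∀ y, (t y).1.1 = y := fun y => LinearMap.congr_fun ht y
  refine ⟨LinearMap.snd R F₂ H ∘ₗ P.subtype ∘ₗ t, fun y => ?_, fun y => ?_, fun y => ?_⟩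
  · exact ((hP _).1 (t y).2).1
  · have := ((hP _).1 (t y).2).2.1
    rw [ht'] at this
    exact this
  · have := ((hP _).1 (t y).2).2.2
    rw [ht'] at this
    exact this

end Groth.Agent.Lib.helper1.FL
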