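import Mathlib
import Groth.Agent.Lib.helper1.FL4

set_option autoImplicit false
open TensorProduct

namespace Groth.Agent.Lib.helper1.FL

variable {R : Type*} [CommRing R]
variable {H₁ H H₂ : Type*} [AddCommGroup H₁] [Module R H₁] [AddCommGroup H] [Module R H]
  [AddCommGroup H₂] [Module R H₂]

theorem exists_u [Module.Projective R H₂] (f : H₁ →ₗ[R] H) (g : H →ₗ[R] H₂)
    (hf : Function.Injective f) (hg : Function.Surjective g) (hfg : Function.Exact f g)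
    (F₁ : Submodule R H₁) (F₂ : Submodule R H₂) [Module.Projective R (H₂ ⧸ F₂)]
    (𝔫 : Ideal R) (F F' : Submodule R H)
    (hF1 : F ⊓ LinearMap.range f = Submodule.map f F₁)
    (hF1' : F' ⊓ LinearMap.range f = Submodule.map f F₁)
    (hgF : Submodule.map g F = F₂) (hgF' : Submodule.map g F' = F₂)
    (hFF' : F ⊔ 𝔫 • ⊤ = F' ⊔ 𝔫 • ⊤) :
    ∃ u : H₂ →ₗ[R] H₁, (∀ y, u y ∈ 𝔫 • (⊤ : Submodule R H₁)) ∧
      (∀ x ∈ F, phi f g u x ∈ F') ∧ (∀ x ∈ F', phi f g (-u) x ∈ F) := by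
  haveI : Module.Projective R F₂ := projective_of_quotient F₂
  obtain ⟨s, hs1, hs2⟩ := exists_section g F F₂ hgF
  obtain ⟨s', hs'1, hs'2, hs'3⟩ := exists_section' g 𝔫 F F' F₂ hgF' hFF' s hs1 hs2
  obtain ⟨r, hr⟩ := exists_retraction f g hf hg hfg
  obtain ⟨p₂, hp1, hp2⟩ := exists_proj F₂
  have hgf : ∀ a, g (f a) = 0 := fun a => (hfg (f a)).2 ⟨a, rfl⟩
  let v : F₂ →ₗ[R] H₁ := r ∘ₗ (s' - s)
  have hv1 : ∀ y, v y ∈ 𝔫 • (⊤ : Submodule R H₁) := fun y => map_mem_smul_top 𝔫 r (hs'3 y)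
  have hv2 : ∀ y, f (v y) = s' y - s y := by
    intro y
    have h0 : g (s' y - s y) = 0 := by rw [map_sub, hs'2, hs2, sub_self]
    obtain ⟨a, ha⟩ := (hfg _).1 h0
    show f (r ((s' - s) y)) = _
    rw [LinearMap.sub_apply, ← ha, hr]
  let u : H₂ →ₗ[R] H₁ := v ∘ₗ p₂.codRestrict F₂ hp1
  have hu : ∀ y (hy : y ∈ F₂), u y = v ⟨y, hy⟩ := by
    intro y hy
    show v _ = v _
    congr 1
    exact Subtype.ext (hp2 y hy)
  refine ⟨u, fun y => hv1 _, fun x hx => ?_, fun x hx => ?_⟩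
  · have hgx : g x ∈ F₂ := hgF ▸ Submodule.mem_map_of_mem hx
    rw [phi_apply, hu _ hgx, hv2]
    have h1 : x - s ⟨g x, hgx⟩ ∈ F ⊓ LinearMap.range f := by
      refine ⟨sub_mem hx (hs1 _), (hfg _).1 ?_⟩
      rw [map_sub, hs2, sub_self]
    rw [hF1, ← hF1'] at h1
    have : x + (s' ⟨g x, hgx⟩ - s ⟨g x, hgx⟩) = (x - s ⟨g x, hgx⟩) + s' ⟨g x, hgx⟩ := by abel
    rw [this]
    exact add_mem h1.1 (hs'1 _)
  · have hgx : g x ∈ F₂ := hgF' ▸ Submodule.mem_map_of_mem hx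
    rw [phi_apply, LinearMap.neg_apply, hu _ hgx, map_neg, hv2]
    have h1 : x - s' ⟨g x, hgx⟩ ∈ F' ⊓ LinearMap.range f := by
      refine ⟨sub_mem hx (hs'1 _), (hfg _).1 ?_⟩
      rw [map_sub, hs'2, sub_self]
    rw [hF1', ← hF1] at h1
    have : x + -(s' ⟨g x, hgx⟩ - s ⟨g x, hgx⟩) = (x - s' ⟨g x, hgx⟩) + s ⟨g x, hgx⟩ := by abel
    rw [this]
    exact add_mem h1.1 (hs1 _)

end Groth.Agent.Lib.helper1.FL
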