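import Mathlib.AlgebraicGeometry.Morphisms.FlatDescent
import Mathlib.AlgebraicGeometry.Morphisms.LocalFlatDescent
import Mathlib.AlgebraicGeometry.Morphisms.Proper
import Mathlib.AlgebraicGeometry.Morphisms.Immersion
import Mathlib.AlgebraicGeometry.ZariskisMainTheorem
import Mathlib.AlgebraicGeometry.Morphisms.QuasiFinite
import Mathlib.RingTheory.RingHom.QuasiFinite
import Mathlib.RingTheory.RingHom.FaithfullyFlat
import Mathlib.RingTheory.Finiteness.Descent
import Mathlib.RingTheory.Flat.FaithfullyFlat.Algebra

/-!
# fpqc descent of some global properties of morphisms of schemes (helper1)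
-/

universe u

open CategoryTheory CategoryTheory.Limits AlgebraicGeometry MorphismProperty

namespace Groth.Agent.Lib.helper1

/-- `@IsLocalIso ⊓ @Surjective ≤ @Surjective ⊓ @Flat`. -/
theorem isLocalIso_inf_surjective_le :
    (@IsLocalIso ⊓ @Surjective : MorphismProperty Scheme.{u}) ≤
      (@Surjective ⊓ @Flat : MorphismProperty Scheme.{u}) := by
  rw [inf_comm]
  exact inf_le_inf le_rfl (IsLocalIso.le_of_isZariskiLocalAtSource _)

/-- Quasi-compactness satisfies fpqc descent. -/
theorem quasiCompact_descendsAlong :
    MorphismProperty.DescendsAlong @QuasiCompact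
      (@Surjective ⊓ @Flat ⊓ @QuasiCompact : MorphismProperty Scheme.{u}) := by
  refine IsZariskiLocalAtTarget.descendsAlong_inf_quasiCompact _ _ isLocalIso_inf_surjective_le ?_
  intro R S Y φ g ⟨hsurj, _⟩ (hfst : QuasiCompact (pullback.fst (Spec.map φ) g))
  have hsurj : Surjective (Spec.map φ) := hsurj
  have : CompactSpace ↥(pullback (Spec.map φ) g) :=
    (quasiCompact_iff_compactSpace (pullback.fst (Spec.map φ) g)).mp hfst
  have hs : Surjective (pullback.snd (Spec.map φ) g) := inferInstance
  have : CompactSpace Y := by
    constructor
    rw [← Set.range_eq_univ.mpr (pullback.snd (Spec.map φ) g).surjective]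
    exact isCompact_range (pullback.snd (Spec.map φ) g).continuous
  exact (quasiCompact_iff_compactSpace g).mpr inferInstance

/-- Quasi-separatedness satisfies fpqc descent. -/
theorem quasiSeparated_descendsAlong :
    MorphismProperty.DescendsAlong @QuasiSeparated
      (@Surjective ⊓ @Flat ⊓ @QuasiCompact : MorphismProperty Scheme.{u}) := by
  rw [quasiSeparated_eq_diagonal_is_quasiCompact]
  have := quasiCompact_descendsAlong.{u}
  infer_instance

/-- Separatedness satisfies fpqc descent. -/
theorem isSeparated_descendsAlong :
    MorphismProperty.DescendsAlong @IsSeparated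
      (@Surjective ⊓ @Flat ⊓ @QuasiCompact : MorphismProperty Scheme.{u}) := by
  have h : MorphismProperty.DescendsAlong (MorphismProperty.diagonal @UniversallyClosed)
      (@Surjective ⊓ @Flat ⊓ @QuasiCompact : MorphismProperty Scheme.{u}) := inferInstance
  constructor
  intro A X Y Z fst snd f g hpb hf hfst
  have hfst : IsSeparated fst := hfst
  have h1 : MorphismProperty.diagonal @UniversallyClosed fst :=
    inferInstanceAs (UniversallyClosed (pullback.diagonal fst))
  have h2 : UniversallyClosed (pullback.diagonal g) := h.of_isPullback hpb hf h1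
  refine ⟨IsClosedImmersion.of_isPreimmersion _ ?_⟩
  exact (pullback.diagonal g).isClosedMap.isClosed_range

/-- Properness satisfies fpqc descent. -/
theorem isProper_descendsAlong :
    MorphismProperty.DescendsAlong @IsProper
      (@Surjective ⊓ @Flat ⊓ @QuasiCompact : MorphismProperty Scheme.{u}) := by
  have h1 := isSeparated_descendsAlong.{u}
  constructor
  intro A X Y Z fst snd f g hpb hf hfst
  have hfst : IsProper fst := hfst
  have : IsSeparated g := h1.of_isPullback hpb hf inferInstance
  have : UniversallyClosed g :=
    MorphismProperty.of_isPullback_of_descendsAlong (P := @UniversallyClosed) hpb hf inferInstance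
  have : LocallyOfFiniteType g :=
    MorphismProperty.of_isPullback_of_descendsAlong (P := @LocallyOfFiniteType) hpb hf
      inferInstance
  exact {}

/-- Monomorphisms satisfy fpqc descent. -/
theorem mono_descendsAlong :
    MorphismProperty.DescendsAlong (MorphismProperty.monomorphisms Scheme.{u})
      (@Surjective ⊓ @Flat ⊓ @QuasiCompact : MorphismProperty Scheme.{u}) := by
  have h : MorphismProperty.DescendsAlong
      (MorphismProperty.diagonal (MorphismProperty.isomorphisms Scheme.{u}))
      (@Surjective ⊓ @Flat ⊓ @QuasiCompact : MorphismProperty Scheme.{u}) := inferInstance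
  constructor
  intro A X Y Z fst snd f g hpb hf hfst
  have hfst : Mono fst := hfst
  have h1 : MorphismProperty.diagonal (MorphismProperty.isomorphisms Scheme.{u}) fst :=
    inferInstanceAs (IsIso (pullback.diagonal fst))
  have h2 : IsIso (pullback.diagonal g) := h.of_isPullback hpb hf h1
  exact (pullback.isIso_diagonal_iff g).mp h2

/-- Closed immersions satisfy fpqc descent. -/
theorem isClosedImmersion_descendsAlong :
    MorphismProperty.DescendsAlong @IsClosedImmersion
      (@Surjective ⊓ @Flat ⊓ @QuasiCompact : MorphismProperty Scheme.{u}) := by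
  rw [IsClosedImmersion.eq_proper_inf_monomorphisms]
  have := isProper_descendsAlong.{u}
  have := mono_descendsAlong.{u}
  infer_instance

open TensorProduct in
/-- Quasi-finiteness of algebras descends along faithfully flat base change. -/
lemma quasiFinite_of_faithfullyFlat_baseChange {R S T : Type*} [CommRing R] [CommRing S]
    [CommRing T] [Algebra R S] [Algebra R T] [Module.FaithfullyFlat R S]
    [Algebra.QuasiFinite S (S ⊗[R] T)] :
    Algebra.QuasiFinite R T := by
  refine ⟨fun p hp ↦ ?_⟩
  obtain ⟨P, hP, hPp⟩ := Ideal.exists_isPrime_liesOver_of_faithfullyFlat (B := S) p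
  have hpu : p = P.under R := hPp.over
  subst hpu
  let := Localization.AtPrime.algebraOfLiesOver (P.under R) P
  let e : P.Fiber (S ⊗[R] T) ≃ₐ[P.ResidueField]
      P.ResidueField ⊗[(P.under R).ResidueField] ((P.under R).Fiber T) :=
    (Algebra.TensorProduct.cancelBaseChange _ _ _ _ _).trans
      (Algebra.TensorProduct.cancelBaseChange _ _ _ _ _).symm
  have : Module.Finite P.ResidueField
      (P.ResidueField ⊗[(P.under R).ResidueField] ((P.under R).Fiber T)) :=
    .of_surjective e.toLinearMap e.surjective
  exact Module.Finite.of_finite_tensorProduct_of_faithfullyFlat P.ResidueField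

lemma quasiFinite_codescendsAlong_faithfullyFlat :
    RingHom.CodescendsAlong RingHom.QuasiFinite RingHom.FaithfullyFlat := by
  refine .mk _ RingHom.QuasiFinite.respectsIso fun R S T _ _ _ _ _ h h' ↦ ?_
  rw [RingHom.quasiFinite_algebraMap] at h' ⊢
  rw [RingHom.faithfullyFlat_algebraMap_iff] at h
  exact quasiFinite_of_faithfullyFlat_baseChange (S := S)

/-- Locally quasi-finite satisfies fpqc descent. -/
theorem locallyQuasiFinite_descendsAlong :
    MorphismProperty.DescendsAlong @LocallyQuasiFinite
      (@Surjective ⊓ @Flat ⊓ @QuasiCompact : MorphismProperty Scheme.{u}) :=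
  HasRingHomProperty.descendsAlong_flat quasiFinite_codescendsAlong_faithfullyFlat

/-- Locally quasi-finite and locally of finite type satisfies fpqc descent. -/
theorem locallyQuasiFinite_inf_locallyOfFiniteType_descendsAlong :
    MorphismProperty.DescendsAlong
      (@LocallyQuasiFinite ⊓ @LocallyOfFiniteType : MorphismProperty Scheme.{u})
      (@Surjective ⊓ @Flat ⊓ @QuasiCompact : MorphismProperty Scheme.{u}) := by
  have := locallyQuasiFinite_descendsAlong.{u}
  infer_instance

/-- Finite morphisms satisfy fpqc descent. -/
theorem isFinite_descendsAlong :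
    MorphismProperty.DescendsAlong @IsFinite
      (@Surjective ⊓ @Flat ⊓ @QuasiCompact : MorphismProperty Scheme.{u}) := by
  rw [IsFinite.eq_proper_inf_locallyQuasiFinite]
  have := isProper_descendsAlong.{u}
  have := locallyQuasiFinite_descendsAlong.{u}
  infer_instance

end Groth.Agent.Lib.helper1
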