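import Groth.Agent.Lib.helper1.LS1

set_option autoImplicit false
universe u
open CategoryTheory CategoryTheory.Limits AlgebraicGeometry TopologicalSpace Opposite

namespace Groth.Agent.Lib.helper1.GA1

open GL2 LS1

variable {X : Scheme.{u}}

theorem app_one_res' {L : X.Modules} (t : Coh.structureModule X ⟶ L) {V W : X.Opens} (h : V ≤ W) :
    t.app V (ofO X V 1) = L.presheaf.map (homOfLE h).op (t.app W (ofO X W 1)) := by
  rw [← GL1.hom_app_map]
  congr 1
  exact (map_one (X.presheaf.map (homOfLE h).op).hom).symm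

theorem isIso_restrict_of_bijective {M N : X.Modules} (φ : M ⟶ N) (W : X.Opens)
    (h : ∀ V : X.Opens, V ≤ W → Function.Bijective (φ.app V)) :
    IsIso ((Scheme.Modules.restrictFunctor W.ι).map φ) := by
  rw [Scheme.Modules.Hom.isIso_iff_isIso_app]
  intro V₀
  rw [ConcreteCategory.isIso_iff_bijective]
  exact h (W.ι ''ᵁ V₀) (W.ι_image_le V₀)

theorem app_formula {L : X.Modules} (s : Coh.structureModule X ⟶ L) (U : X.Opens) (σ : Γ(L, U))
    (a : Γ(X, U)) (ha : s.app U (ofO X U 1) = a • σ) (V : X.Opens) (h : V ≤ U)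
    (r : Γ(Coh.structureModule X, V)) :
    s.app V r = (toO X V r * X.presheaf.map (homOfLE h).op a) •
      L.presheaf.map (homOfLE h).op σ := by
  have h2 : r = toO X V r • ofO X V 1 := by
    rw [unit_smul]
    exact (mul_one (toO X V r)).symm
  conv_lhs => rw [h2]
  rw [Scheme.Modules.Hom.app_smul, app_one_res' s h, ha, Scheme.Modules.map_smul, mul_smul]

theorem isUnit_res_of_le {U V : X.Opens} (a : Γ(X, U)) (h : V ≤ U) (hV : V ≤ X.basicOpen a) :
    IsUnit (X.presheaf.map (homOfLE h).op a) := by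
  have h1 : IsUnit (X.presheaf.map (homOfLE (X.basicOpen_le a)).op a) :=
    RingedSpace.isUnit_res_basicOpen X.toRingedSpace a
  have h2 := h1.map (X.presheaf.map (homOfLE hV).op).hom
  rw [← CommRingCat.comp_apply, ← Functor.map_comp] at h2
  exact h2

theorem genLocus_inf {L : X.Modules} (s : Coh.structureModule X ⟶ L) (U : X.Opens) (σ : Γ(L, U))
    (hσ : ∀ (V : X.Opens) (h : V ≤ U),
      Function.Bijective (fun r : Γ(X, V) => r • L.presheaf.map (homOfLE h).op σ))
    (a : Γ(X, U)) (ha : s.app U (ofO X U 1) = a • σ) :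
    CohB1.genLocus L s ⊓ U = X.basicOpen a := by
  apply le_antisymm
  · rintro x ⟨hx, hxU⟩
    obtain ⟨W0, hW, hxW⟩ := Opens.mem_sSup.mp hx
    obtain ⟨W, rfl⟩ : ∃ W : X.Opens, W = W0 := ⟨W0, rfl⟩
    have hW' : IsIso ((Scheme.Modules.restrictFunctor W.ι).map s) := hW
    have hb := app_bijective_of_isIso_restrict s W hW' (W ⊓ U) inf_le_left
    obtain ⟨w, hw⟩ := hb.2 (L.presheaf.map (homOfLE (inf_le_right : W ⊓ U ≤ U)).op σ)
    rw [app_formula s U σ a ha (W ⊓ U) inf_le_right w] at hw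
    have h3 : toO X _ w * X.presheaf.map (homOfLE (inf_le_right : W ⊓ U ≤ U)).op a = 1 :=
      (hσ (W ⊓ U) inf_le_right).1 (hw.trans (one_smul _ _).symm)
    have h4 : IsUnit (X.presheaf.map (homOfLE (inf_le_right : W ⊓ U ≤ U)).op a) :=
      IsUnit.of_mul_eq_one _ (by rw [mul_comm]; exact h3)
    have h5 := X.basicOpen_of_isUnit h4
    rw [Scheme.basicOpen_res] at h5
    have h6 : x ∈ (W ⊓ U) ⊓ X.basicOpen a := by
      rw [h5]
      exact ⟨hxW, hxU⟩
    exact h6.2
  · apply le_inf _ (X.basicOpen_le a)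
    apply le_sSup
    change IsIso ((Scheme.Modules.restrictFunctor (X.basicOpen a).ι).map s)
    apply isIso_restrict_of_bijective
    intro V hV
    have hVU : V ≤ U := hV.trans (X.basicOpen_le a)
    have hu := isUnit_res_of_le a hVU hV
    have hfun : ⇑(ConcreteCategory.hom (s.app V)) =
        (fun r : Γ(X, V) => r • L.presheaf.map (homOfLE hVU).op σ) ∘
          (fun r : Γ(X, V) => r * X.presheaf.map (homOfLE hVU).op a) := by
      funext r
      exact app_formula s U σ a ha V hVU r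
    rw [hfun]
    exact (hσ V hVU).comp hu.unit.mulRight_bijective

theorem main (X : Scheme.{u}) (L : X.Modules) (hL : PicF.IsInvertible L)
    (s : Coh.structureModule X ⟶ L) : IsAffineHom (CohB1.genLocus L s).ι := by
  apply isAffineHom_of_forall_exists_isAffineOpen
  intro x
  obtain ⟨U, hxU, ⟨e⟩⟩ := hL x
  obtain ⟨σ, hσ⟩ := MR4.gen_conv L U e
  have hx' : x ∈ U.ι ''ᵁ ⊤ := by simpa using hxU
  obtain ⟨U₁, hU₁aff, hxU₁, hU₁U⟩ :
      ∃ U₁ : X.Opens, IsAffineOpen U₁ ∧ x ∈ U₁ ∧ U₁ ≤ U.ι ''ᵁ ⊤ := by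
    obtain ⟨W, hW, hxW, hWU⟩ :=
      (X.isBasis_affineOpens).exists_subset_of_mem_open hx' (U.ι ''ᵁ ⊤).2
    obtain ⟨W', hW', rfl⟩ := hW
    exact ⟨W', hW', hxW, hWU⟩
  have hσ₁ : ∀ (V : X.Opens) (h : V ≤ U₁), Function.Bijective (fun r : Γ(X, V) =>
      r • L.presheaf.map (homOfLE h).op (L.presheaf.map (homOfLE hU₁U).op σ)) := by
    intro V h
    have := hσ V (h.trans hU₁U)
    simpa only [GL1.map_map] using this
  obtain ⟨a, ha⟩ := (hσ₁ U₁ le_rfl).2 (s.app U₁ (ofO X U₁ 1))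
  have ha' : s.app U₁ (ofO X U₁ 1) = a • L.presheaf.map (homOfLE hU₁U).op σ := by
    rw [← ha]
    simp only [GL1.map_self]
  have hG := genLocus_inf s U₁ _ hσ₁ a ha'
  refine ⟨U₁, hxU₁, hU₁aff, ?_⟩
  rw [← (CohB1.genLocus L s).ι.isAffineOpen_iff_of_isOpenImmersion,
    Scheme.Hom.image_preimage_eq_opensRange_inf, Scheme.Opens.opensRange_ι, hG]
  exact hU₁aff.basicOpen a

end Groth.Agent.Lib.helper1.GA1
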