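import Groth.Agent.Lib.helper1.GA1

set_option autoImplicit false
universe u
open CategoryTheory CategoryTheory.Limits AlgebraicGeometry TopologicalSpace Opposite

namespace Groth.Agent.Lib.helper1.GA2

variable {X : Scheme.{u}}

theorem affine_box (U V : X.Opens) (hU : IsAffineOpen U) (hV : IsAffineOpen V) :
    IsAffineOpen (pullback.fst (terminal.from X) (terminal.from X) ⁻¹ᵁ U ⊓
      pullback.snd (terminal.from X) (terminal.from X) ⁻¹ᵁ V) := by
  have : IsAffine U.toScheme := hU
  have : IsAffine V.toScheme := hV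
  let p : pullback (U.ι ≫ terminal.from X) (V.ι ≫ terminal.from X) ⟶
      pullback (terminal.from X) (terminal.from X) :=
    pullback.map _ _ _ _ U.ι V.ι (𝟙 _) (by simp) (by simp)
  have h1 : IsAffineOpen p.opensRange := isAffineOpen_opensRange p
  convert h1
  apply Opens.ext
  simp [p, Scheme.Pullback.range_map]

theorem main (X : Scheme.{u})
    (h : ∀ x : X, ∃ (L : X.Modules) (s : Coh.structureModule X ⟶ L), PicF.IsInvertible L ∧
      x ∈ CohB1.genLocus L s ∧ IsAffineOpen (CohB1.genLocus L s)) :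
    IsAffineHom (Limits.pullback.diagonal (Limits.terminal.from X)) := by
  choose L s hL hx haff using h
  apply isAffineHom_of_forall_exists_isAffineOpen
  intro z
  let x₁ := pullback.fst (terminal.from X) (terminal.from X) z
  let x₂ := pullback.snd (terminal.from X) (terminal.from X) z
  have hz : z ∈ pullback.fst (terminal.from X) (terminal.from X) ⁻¹ᵁ
      (CohB1.genLocus (L x₁) (s x₁)) ⊓
      pullback.snd (terminal.from X) (terminal.from X) ⁻¹ᵁ (CohB1.genLocus (L x₂) (s x₂)) :=
    ⟨hx x₁, hx x₂⟩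
  refine ⟨pullback.fst (terminal.from X) (terminal.from X) ⁻¹ᵁ (CohB1.genLocus (L x₁) (s x₁)) ⊓
    pullback.snd (terminal.from X) (terminal.from X) ⁻¹ᵁ (CohB1.genLocus (L x₂) (s x₂)), hz,
    affine_box _ _ (haff x₁) (haff x₂), ?_⟩
  rw [Scheme.Hom.preimage_inf, ← Scheme.Hom.comp_preimage, ← Scheme.Hom.comp_preimage,
    pullback.diagonal_fst, pullback.diagonal_snd]
  simp only [Scheme.Hom.id_preimage]
  have := GA1.main X (L x₁) (hL x₁) (s x₁)
  have h2 : IsAffineOpen ((CohB1.genLocus (L x₁) (s x₁)).ι ⁻¹ᵁ (CohB1.genLocus (L x₂) (s x₂))) :=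
    (haff x₂).preimage _
  rw [← (CohB1.genLocus (L x₁) (s x₁)).ι.isAffineOpen_iff_of_isOpenImmersion,
    Scheme.Hom.image_preimage_eq_opensRange_inf, Scheme.Opens.opensRange_ι] at h2
  exact h2

end Groth.Agent.Lib.helper1.GA2
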