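import Groth.Agent.Lib.helper1.PP2

set_option autoImplicit false
universe u
open CategoryTheory CategoryTheory.Limits AlgebraicGeometry TopologicalSpace Opposite

namespace Groth.Agent.Lib.helper1.GL1

variable {X : Scheme.{u}}

theorem hom_app_map {L L' : X.Modules} (φ : L ⟶ L') {V W : X.Opens} (i : V ⟶ W) (t : Γ(L, W)) :
    φ.app V (L.presheaf.map i.op t) = L'.presheaf.map i.op (φ.app W t) :=
  congr($(φ.mapPresheaf.naturality i.op) t)

theorem map_map (M : X.Modules) {V W Z : X.Opens} (h1 : V ≤ W) (h2 : W ≤ Z) (t : Γ(M, Z)) :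
    M.presheaf.map (homOfLE h1).op (M.presheaf.map (homOfLE h2).op t) =
      M.presheaf.map (homOfLE (h1.trans h2)).op t := by
  rw [← ConcreteCategory.comp_apply, ← Functor.map_comp]
  rfl

theorem map_map' {V W Z : X.Opens} (h1 : V ≤ W) (h2 : W ≤ Z) (a : Γ(X, Z)) :
    X.presheaf.map (homOfLE h1).op (X.presheaf.map (homOfLE h2).op a) =
      X.presheaf.map (homOfLE (h1.trans h2)).op a := by
  rw [← ConcreteCategory.comp_apply, ← Functor.map_comp]
  rfl

theorem map_self (M : X.Modules) {V : X.Opens} (h : V ≤ V) (t : Γ(M, V)) :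
    M.presheaf.map (homOfLE h).op t = t := by
  have : (homOfLE h) = 𝟙 V := rfl
  rw [this]
  simp

theorem forward {ι : Type u} (U : ι → X.Opens) (L L' : X.Modules)
    (s : ∀ i : ι, Γ(L, U i)) (s' : ∀ i : ι, Γ(L', U i))
    (hs : ∀ (i : ι) (V : X.Opens) (h : V ≤ U i),
        Function.Bijective (fun r : Γ(X, V) => r • L.presheaf.map (homOfLE h).op (s i)))
    (hs' : ∀ (i : ι) (V : X.Opens) (h : V ≤ U i),
        Function.Bijective (fun r : Γ(X, V) => r • L'.presheaf.map (homOfLE h).op (s' i)))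
    (η η' : ∀ i j : ι, Γ(X, U i ⊓ U j))
    (hη : ∀ i j : ι, L.presheaf.map (homOfLE (inf_le_left : U i ⊓ U j ≤ U i)).op (s i) =
        η i j • L.presheaf.map (homOfLE (inf_le_right : U i ⊓ U j ≤ U j)).op (s j))
    (hη' : ∀ i j : ι, L'.presheaf.map (homOfLE (inf_le_left : U i ⊓ U j ≤ U i)).op (s' i) =
        η' i j • L'.presheaf.map (homOfLE (inf_le_right : U i ⊓ U j ≤ U j)).op (s' j))
    (e : L ≅ L') :
    ∃ u : ∀ i : ι, (Γ(X, U i))ˣ, ∀ i j : ι,
      η' i j * X.presheaf.map (homOfLE (inf_le_left : U i ⊓ U j ≤ U i)).op (u i : Γ(X, U i)) =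
        X.presheaf.map (homOfLE (inf_le_right : U i ⊓ U j ≤ U j)).op (u j : Γ(X, U j)) * η i j := by
  have h1 : ∀ i, ∃ a : Γ(X, U i), a • s' i = e.hom.app (U i) (s i) := by
    intro i
    obtain ⟨a, ha⟩ := (hs' i (U i) le_rfl).2 (e.hom.app (U i) (s i))
    refine ⟨a, ?_⟩
    simpa [map_self] using ha
  have h2 : ∀ i, ∃ b : Γ(X, U i), b • s i = e.inv.app (U i) (s' i) := by
    intro i
    obtain ⟨a, ha⟩ := (hs i (U i) le_rfl).2 (e.inv.app (U i) (s' i))
    refine ⟨a, ?_⟩
    simpa [map_self] using ha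
  choose a ha using h1
  choose b hb using h2
  have hab : ∀ i, a i * b i = 1 := by
    intro i
    apply (hs i (U i) le_rfl).1
    simp only [map_self]
    rw [mul_smul, hb, ← Scheme.Modules.Hom.app_smul, ha, one_smul]
    have := congr(($(e.hom_inv_id)).app (U i) (s i))
    exact this
  refine ⟨fun i => ⟨a i, b i, hab i, by rw [mul_comm]; exact hab i⟩, ?_⟩
  intro i j
  apply (hs' j (U i ⊓ U j) inf_le_right).1
  simp only [Units.val_mk]
  rw [mul_smul, mul_smul, smul_comm (η' i j), ← hη', ← Scheme.Modules.map_smul, ha, ← hom_app_map, hη,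
    Scheme.Modules.Hom.app_smul, hom_app_map, ← ha, Scheme.Modules.map_smul, smul_comm]


section Backward

variable {ι : Type u} (U : ι → X.Opens)

theorem res_s (M : X.Modules) (t : ∀ i, Γ(M, U i)) (ζ : ∀ i j, Γ(X, U i ⊓ U j))
    (hζ : ∀ i j : ι, M.presheaf.map (homOfLE (inf_le_left : U i ⊓ U j ≤ U i)).op (t i) =
        ζ i j • M.presheaf.map (homOfLE (inf_le_right : U i ⊓ U j ≤ U j)).op (t j))
    {V : X.Opens} {i j : ι} (hi : V ≤ U i) (hj : V ≤ U j) :
    M.presheaf.map (homOfLE hi).op (t i) =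
      X.presheaf.map (homOfLE (le_inf hi hj)).op (ζ i j) • M.presheaf.map (homOfLE hj).op (t j) := by
  rw [← map_map M (le_inf hi hj) inf_le_left, hζ, Scheme.Modules.map_smul, map_map]

variable (L L' : X.Modules)
    (s : ∀ i : ι, Γ(L, U i)) (s' : ∀ i : ι, Γ(L', U i))
    (hs : ∀ (i : ι) (V : X.Opens) (h : V ≤ U i),
        Function.Bijective (fun r : Γ(X, V) => r • L.presheaf.map (homOfLE h).op (s i)))
    (hs' : ∀ (i : ι) (V : X.Opens) (h : V ≤ U i),
        Function.Bijective (fun r : Γ(X, V) => r • L'.presheaf.map (homOfLE h).op (s' i)))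
    (η η' : ∀ i j : ι, Γ(X, U i ⊓ U j))
    (hη : ∀ i j : ι, L.presheaf.map (homOfLE (inf_le_left : U i ⊓ U j ≤ U i)).op (s i) =
        η i j • L.presheaf.map (homOfLE (inf_le_right : U i ⊓ U j ≤ U j)).op (s j))
    (hη' : ∀ i j : ι, L'.presheaf.map (homOfLE (inf_le_left : U i ⊓ U j ≤ U i)).op (s' i) =
        η' i j • L'.presheaf.map (homOfLE (inf_le_right : U i ⊓ U j ≤ U j)).op (s' j))
    (u : ∀ i : ι, (Γ(X, U i))ˣ)
    (hu : ∀ i j : ι,
      η' i j * X.presheaf.map (homOfLE (inf_le_left : U i ⊓ U j ≤ U i)).op (u i : Γ(X, U i)) =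
        X.presheaf.map (homOfLE (inf_le_right : U i ⊓ U j ≤ U j)).op (u j : Γ(X, U j)) * η i j)

include hs hη hη' hu in
theorem key {V : X.Opens} {i j : ι} (hi : V ≤ U i) (hj : V ≤ U j) (r r' : Γ(X, V))
    (h : r • L.presheaf.map (homOfLE hi).op (s i) = r' • L.presheaf.map (homOfLE hj).op (s j)) :
    (r * X.presheaf.map (homOfLE hi).op (u i : Γ(X, U i))) • L'.presheaf.map (homOfLE hi).op (s' i) =
    (r' * X.presheaf.map (homOfLE hj).op (u j : Γ(X, U j))) •
      L'.presheaf.map (homOfLE hj).op (s' j) := by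
  have e1 := res_s U L s η hη hi hj
  have e2 := res_s U L' s' η' hη' hi hj
  have e3 : X.presheaf.map (homOfLE (le_inf hi hj)).op (η' i j) *
      X.presheaf.map (homOfLE hi).op (u i : Γ(X, U i)) =
      X.presheaf.map (homOfLE hj).op (u j : Γ(X, U j)) *
        X.presheaf.map (homOfLE (le_inf hi hj)).op (η i j) := by
    have := congr(X.presheaf.map (homOfLE (le_inf hi hj)).op $(hu i j))
    simpa only [map_mul, map_map'] using this
  rw [e1, ← mul_smul] at h
  have e4 := (hs j V hj).1 h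
  rw [e2, ← mul_smul, ← e4]
  congr 1
  rw [mul_assoc, mul_comm _ (X.presheaf.map (homOfLE (le_inf hi hj)).op (η' i j)), e3]
  ring

/-- The basis of opens contained in a member of the cover. -/
def J : Type u := {V : X.Opens // ∃ i, V ≤ U i}

/-- The inclusion. -/
def B : J U → X.Opens := Subtype.val

theorem isBasis (hU : iSup U = ⊤) : Opens.IsBasis (Set.range (B U)) := by
  rw [Opens.isBasis_iff_nbhd]
  intro W x hx
  have : x ∈ iSup U := by rw [hU]; trivial
  obtain ⟨i, hi⟩ := Opens.mem_iSup.mp this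
  exact ⟨W ⊓ U i, ⟨⟨W ⊓ U i, i, inf_le_right⟩, rfl⟩, ⟨hx, hi⟩, inf_le_left⟩

/-- The coefficient. -/
noncomputable def coef (V : X.Opens) (hV : ∃ i, V ≤ U i) (t : Γ(L, V)) : Γ(X, V) :=
  (Equiv.ofBijective _ (hs hV.choose V hV.choose_spec)).symm t

theorem coef_spec (V : X.Opens) (hV : ∃ i, V ≤ U i) (t : Γ(L, V)) :
    coef U L s hs V hV t • L.presheaf.map (homOfLE hV.choose_spec).op (s hV.choose) = t :=
  (Equiv.ofBijective _ (hs hV.choose V hV.choose_spec)).apply_symm_apply t

/-- The local map. -/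
noncomputable def αfun (V : X.Opens) (hV : ∃ i, V ≤ U i) (t : Γ(L, V)) : Γ(L', V) :=
  (coef U L s hs V hV t * X.presheaf.map (homOfLE hV.choose_spec).op (u hV.choose : Γ(X, U hV.choose))) •
    L'.presheaf.map (homOfLE hV.choose_spec).op (s' hV.choose)

include hη hη' hu in
theorem αfun_eq (V : X.Opens) (hV : ∃ i, V ≤ U i) {j : ι} (hj : V ≤ U j) (r' : Γ(X, V))
    (t : Γ(L, V)) (h : r' • L.presheaf.map (homOfLE hj).op (s j) = t) :
    αfun U L L' s s' hs u V hV t =
      (r' * X.presheaf.map (homOfLE hj).op (u j : Γ(X, U j))) •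
        L'.presheaf.map (homOfLE hj).op (s' j) :=
  key U L L' s s' hs η η' hη hη' u hu hV.choose_spec hj _ _ ((coef_spec U L s hs V hV t).trans h.symm)

include hη hη' hu in
theorem αfun_add (V : X.Opens) (hV : ∃ i, V ≤ U i) (t t' : Γ(L, V)) :
    αfun U L L' s s' hs u V hV (t + t') =
      αfun U L L' s s' hs u V hV t + αfun U L L' s s' hs u V hV t' := by
  rw [αfun_eq U L L' s s' hs η η' hη hη' u hu V hV hV.choose_spec
    (coef U L s hs V hV t + coef U L s hs V hV t') (t + t')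
    (by rw [add_smul, coef_spec, coef_spec])]
  rw [add_mul, add_smul]
  rfl

include hη hη' hu in
theorem αfun_smul (V : X.Opens) (hV : ∃ i, V ≤ U i) (a : Γ(X, V)) (t : Γ(L, V)) :
    αfun U L L' s s' hs u V hV (a • t) = a • αfun U L L' s s' hs u V hV t := by
  rw [αfun_eq U L L' s s' hs η η' hη hη' u hu V hV hV.choose_spec
    (a * coef U L s hs V hV t) (a • t)
    (by rw [mul_smul, coef_spec])]
  rw [mul_assoc, mul_smul]
  rfl

include hη hη' hu in
theorem αfun_map (V W : X.Opens) (hV : ∃ i, V ≤ U i) (hW : ∃ i, W ≤ U i) (h : W ≤ V) (t : Γ(L, V)) :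
    αfun U L L' s s' hs u W hW (L.presheaf.map (homOfLE h).op t) =
      L'.presheaf.map (homOfLE h).op (αfun U L L' s s' hs u V hV t) := by
  rw [αfun_eq U L L' s s' hs η η' hη hη' u hu W hW (h.trans hV.choose_spec)
    (X.presheaf.map (homOfLE h).op (coef U L s hs V hV t)) _
    (by
      conv_rhs => rw [← coef_spec U L s hs V hV t]
      rw [Scheme.Modules.map_smul, map_map])]
  unfold αfun
  rw [Scheme.Modules.map_smul, map_mul, map_map, map_map']

include hs' hη hη' hu in
theorem αfun_bijective (V : X.Opens) (hV : ∃ i, V ≤ U i) :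
    Function.Bijective (αfun U L L' s s' hs u V hV) := by
  have hunit : IsUnit (X.presheaf.map (homOfLE hV.choose_spec).op (u hV.choose : Γ(X, U hV.choose))) :=
    (u hV.choose).isUnit.map _
  constructor
  · intro t t' h
    unfold αfun at h
    have h2 := (hs' _ V hV.choose_spec).1 h
    have h3 := hunit.mul_left_injective h2
    rw [← coef_spec U L s hs V hV t, ← coef_spec U L s hs V hV t', h3]
  · intro t'
    obtain ⟨r', hr'⟩ := (hs' _ V hV.choose_spec).2 t'
    obtain ⟨w, hw⟩ := hunit.exists_right_inv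
    refine ⟨(r' * w) • L.presheaf.map (homOfLE hV.choose_spec).op (s hV.choose), ?_⟩
    rw [αfun_eq U L L' s s' hs η η' hη hη' u hu V hV hV.choose_spec (r' * w) _ rfl, ← hr']
    simp only
    congr 1
    rw [mul_assoc, mul_comm w, hw, mul_one]


include hη hη' hu in
/-- The natural transformation on the basis. -/
noncomputable def α :
    (inducedFunctor (B U)).op ⋙ L.presheaf ⟶ (inducedFunctor (B U)).op ⋙ L'.presheaf where
  app V := AddCommGrpCat.ofHom (AddMonoidHom.mk' (αfun U L L' s s' hs u V.unop.1 V.unop.2)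
    (αfun_add U L L' s s' hs η η' hη hη' u hu V.unop.1 V.unop.2))
  naturality V W f := by
    ext t
    exact αfun_map U L L' s s' hs η η' hη hη' u hu V.unop.1 W.unop.1 V.unop.2 W.unop.2
      ((inducedFunctor (B U)).map f.unop).le t

/-- The extended morphism of presheaves. -/
noncomputable def v (hU : iSup U = ⊤) : L.presheaf ⟶ L'.presheaf :=
  TopCat.Sheaf.restrictHomEquivHom L.presheaf ⟨L'.presheaf, L'.isSheaf⟩ (isBasis U hU)
    (α U L L' s s' hs η η' hη hη' u hu)

theorem v_app (hU : iSup U = ⊤) (V : X.Opens) (hV : ∃ i, V ≤ U i) (t : Γ(L, V)) :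
    (v U L L' s s' hs η η' hη hη' u hu hU).app (op V) t = αfun U L L' s s' hs u V hV t := by
  have := TopCat.Sheaf.extend_hom_app L.presheaf ⟨L'.presheaf, L'.isSheaf⟩ (isBasis U hU)
    (α U L L' s s' hs η η' hη hη' u hu) ⟨V, hV⟩
  exact congr($this t)

theorem v_smul (hU : iSup U = ⊤) (W : X.Opens) (a : Γ(X, W)) (t : Γ(L, W)) :
    (v U L L' s s' hs η η' hη hη' u hu hU).app (op W) (a • t) =
      a • (v U L L' s s' hs η η' hη hη' u hu hU).app (op W) t := by
  refine TopCat.Sheaf.eq_of_locally_eq' (⟨L'.presheaf, L'.isSheaf⟩ : TopCat.Sheaf Ab X)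
    (fun i => W ⊓ U i) W (fun i => homOfLE inf_le_left) ?_ _ _ ?_
  · intro x hx
    have : x ∈ iSup U := by rw [hU]; trivial
    obtain ⟨i, hi⟩ := Opens.mem_iSup.mp this
    exact Opens.mem_iSup.mpr ⟨i, hx, hi⟩
  · intro i
    have hV : ∃ j, W ⊓ U i ≤ U j := ⟨i, inf_le_right⟩
    change L'.presheaf.map _ _ = L'.presheaf.map _ _
    rw [← NatTrans.naturality_apply, Scheme.Modules.map_smul, v_app _ _ _ _ _ _ _ _ _ _ _ _ _ _ hV,
      αfun_smul U L L' s s' hs η η' hη hη' u hu, Scheme.Modules.map_smul, ← NatTrans.naturality_apply,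
      v_app _ _ _ _ _ _ _ _ _ _ _ _ _ _ hV]

/-- The glued morphism. -/
noncomputable def φ (hU : iSup U = ⊤) : L ⟶ L' :=
  PP.homOfLinear (v U L L' s s' hs η η' hη hη' u hu hU) (v_smul U L L' s s' hs η η' hη hη' u hu hU)

include hs' in
theorem isIso_φ (hU : iSup U = ⊤) : IsIso (φ U L L' s s' hs η η' hη hη' u hu hU) := by
  have h1 : IsIso (v U L L' s s' hs η η' hη hη' u hu hU) := by
    let F : TopCat.Sheaf Ab X := ⟨L.presheaf, L.isSheaf⟩
    let G : TopCat.Sheaf Ab X := ⟨L'.presheaf, L'.isSheaf⟩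
    let ψ : F ⟶ G := ⟨v U L L' s s' hs η η' hη hη' u hu hU⟩
    have : IsIso ψ := by
      apply TopCat.Sheaf.isIso_iff_isIso_basis (isBasis U hU)
      intro V
      rw [ConcreteCategory.isIso_iff_bijective]
      have hb := αfun_bijective U L L' s s' hs hs' η η' hη hη' u hu V.1 V.2
      have he : ⇑(ConcreteCategory.hom (ψ.hom.app (op (B U V)))) =
          αfun U L L' s s' hs u V.1 V.2 := by
        ext t
        exact v_app U L L' s s' hs η η' hη hη' u hu hU V.1 V.2 t
      rw [he]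
      exact hb
    exact (inferInstance : IsIso ((TopCat.Sheaf.forget Ab X).map ψ))
  have h2 : IsIso ((Scheme.Modules.toPresheaf X).map (φ U L L' s s' hs η η' hη hη' u hu hU)) := h1
  exact isIso_of_reflects_iso _ (Scheme.Modules.toPresheaf X)

end Backward

end Groth.Agent.Lib.helper1.GL1
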