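import Groth.Agent.Lib.helper1.GL1

set_option autoImplicit false
universe u
open CategoryTheory CategoryTheory.Limits AlgebraicGeometry TopologicalSpace Opposite

namespace Groth.Agent.Lib.helper1.GL2

variable {X : Scheme.{u}}

/-- cast -/
abbrev toL (L : X.Modules) (U : X.Opens) (V : (U : Scheme.{u}).Opens)
    (t : Γ(L.restrict U.ι, V)) : Γ(L, U.ι ''ᵁ V) := t

/-- cast -/
abbrev ofL (L : X.Modules) (U : X.Opens) (V : (U : Scheme.{u}).Opens)
    (t : Γ(L, U.ι ''ᵁ V)) : Γ(L.restrict U.ι, V) := t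

/-- cast -/
abbrev toX (U : X.Opens) (V : (U : Scheme.{u}).Opens)
    (a : Γ((U : Scheme.{u}), V)) : Γ(X, U.ι ''ᵁ V) := a

/-- cast -/
abbrev toO (Y : Scheme.{u}) (V : Y.Opens) (r : Γ(Coh.structureModule Y, V)) : Γ(Y, V) := r

/-- cast -/
abbrev ofO (Y : Scheme.{u}) (V : Y.Opens) (r : Γ(Y, V)) : Γ(Coh.structureModule Y, V) := r

theorem restrict_smul (L : X.Modules) (U : X.Opens) (V : (U : Scheme.{u}).Opens)
    (a : Γ((U : Scheme.{u}), V)) (t : Γ(L.restrict U.ι, V)) :
    a • t = ofL L U V (toX U V a • toL L U V t) := by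
  have h1 : a • t = ofL L U V ((U.ι.appIso V).inv a • toL L U V t) := rfl
  rw [h1, Scheme.Opens.ι_appIso]
  rfl

theorem unit_smul (Y : Scheme.{u}) (V : Y.Opens) (a : Γ(Y, V)) (r : Γ(Coh.structureModule Y, V)) :
    a • r = ofO Y V (a * toO Y V r) := rfl

/-- the map `r ↦ r • s` -/
noncomputable def fGen (L : X.Modules) (U : X.Opens) (s : Γ(L, U)) (V : (U : Scheme.{u}).Opens)
    (r : Γ(Coh.structureModule (U : Scheme.{u}), V)) : Γ(L, U.ι ''ᵁ V) :=
  toX U V (toO _ V r) • L.presheaf.map (homOfLE (U.ι_image_le V)).op s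

theorem fGen_add (L : X.Modules) (U : X.Opens) (s : Γ(L, U)) (V : (U : Scheme.{u}).Opens)
    (r r' : Γ(Coh.structureModule (U : Scheme.{u}), V)) :
    fGen L U s V (r + r') = fGen L U s V r + fGen L U s V r' :=
  add_smul (toX U V (toO _ V r)) (toX U V (toO _ V r')) _

/-- the presheaf map `r ↦ r • s` -/
noncomputable def vGen (L : X.Modules) (U : X.Opens) (s : Γ(L, U)) :
    (Coh.structureModule (U : Scheme.{u})).presheaf ⟶ (L.restrict U.ι).presheaf where
  app V := AddCommGrpCat.ofHom (AddMonoidHom.mk'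
    (fun r => ofL L U V.unop (fGen L U s V.unop r))
    (fun r r' => fGen_add L U s V.unop r r'))
  naturality V W i := by
    ext r
    change fGen L U s W.unop _ =
      L.presheaf.map (homOfLE (U.ι.image_mono i.unop.le)).op (fGen L U s V.unop r)
    unfold fGen
    rw [Scheme.Modules.map_smul, GL1.map_map]
    rfl

theorem vGen_smul (L : X.Modules) (U : X.Opens) (s : Γ(L, U)) (V : (U : Scheme.{u}).Opens)
    (a : Γ((U : Scheme.{u}), V)) (r : Γ(Coh.structureModule (U : Scheme.{u}), V)) :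
    (vGen L U s).app (op V) (a • r) = a • (vGen L U s).app (op V) r := by
  rw [restrict_smul, unit_smul]
  change (toX U V a * toX U V (toO _ V r)) • L.presheaf.map (homOfLE (U.ι_image_le V)).op s = _
  rw [mul_smul]
  rfl

theorem gen (L : X.Modules) (U : X.Opens) (s : Γ(L, U))
    (hs : ∀ (V : X.Opens) (h : V ≤ U),
      Function.Bijective (fun r : Γ(X, V) => r • L.presheaf.map (homOfLE h).op s)) :
    Nonempty (L.restrict U.ι ≅ Coh.structureModule (U : Scheme.{u})) := by
  let φ : Coh.structureModule (U : Scheme.{u}) ⟶ L.restrict U.ι :=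
    PP.homOfLinear (vGen L U s) (vGen_smul L U s)
  have : IsIso φ := by
    rw [Scheme.Modules.Hom.isIso_iff_isIso_app]
    intro V
    rw [ConcreteCategory.isIso_iff_bijective]
    exact hs (U.ι ''ᵁ V) (U.ι_image_le V)
  exact ⟨(asIso φ).symm⟩

theorem glue_germs (W : X.Opens) (σ : ∀ x : W, X.presheaf.stalk x.1)
    (hloc : ∀ x : W, ∃ (N : X.Opens) (_ : x.1 ∈ N) (hNW : N ≤ W) (a : Γ(X, N)),
      ∀ y (hy : y ∈ N), σ ⟨y, hNW hy⟩ = X.presheaf.germ N y hy a) :
    ∃ r : Γ(X, W), ∀ x : W, X.presheaf.germ W x.1 x.2 r = σ x := by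
  choose N hxN hNW a ha using hloc
  have hcompat : TopCat.Presheaf.IsCompatible X.sheaf.1 N a := by
    intro x x'
    apply TopCat.Presheaf.section_ext X.sheaf
    intro y hy
    have h1 := TopCat.Presheaf.germ_res_apply X.presheaf (TopologicalSpace.Opens.infLELeft (N x) (N x')) y hy (a x)
    have h2 := TopCat.Presheaf.germ_res_apply X.presheaf (TopologicalSpace.Opens.infLERight (N x) (N x')) y hy (a x')
    refine h1.trans (Eq.trans ?_ h2.symm)
    rw [← ha x y hy.1, ← ha x' y hy.2]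
  obtain ⟨r, hr, -⟩ := X.sheaf.existsUnique_gluing' N W (fun x => homOfLE (hNW x))
    (fun y hy => Opens.mem_iSup.mpr ⟨⟨y, hy⟩, hxN ⟨y, hy⟩⟩) a hcompat
  refine ⟨r, fun x => ?_⟩
  have h3 := hr x
  have h4 := TopCat.Presheaf.germ_res_apply X.presheaf (homOfLE (hNW x)) x.1 (hxN x) r
  rw [← h4]
  refine Eq.trans (congrArg _ h3) ?_
  exact (ha x x.1 (hxN x)).symm

end Groth.Agent.Lib.helper1.GL2
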