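import Groth.Agent.Lib.helper1.GL2
import Groth.Prelude.Def_MeroSh

set_option autoImplicit false
universe u
open CategoryTheory CategoryTheory.Limits AlgebraicGeometry TopologicalSpace Opposite

namespace Groth.Agent.Lib.helper1.GL3

variable {X : Scheme.{u}} {ι : Type u} (U : ι → X.Opens) (η : ∀ i j : ι, (Γ(X, U i ⊓ U j))ˣ)

/-- fibre type -/
abbrev T (x : X) : Type u := ∀ _ : {i : ι // x ∈ U i}, X.presheaf.stalk x

/-- germ of `η i j` at `x` -/
noncomputable def ηg (x : X) (i j : {i : ι // x ∈ U i}) : X.presheaf.stalk x :=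
  X.presheaf.germ (U i.1 ⊓ U j.1) x ⟨i.2, j.2⟩ (η i.1 j.1 : Γ(X, U i.1 ⊓ U j.1))

/-- compatibility -/
def predA {V : X.Opens} (f : ∀ x : V, T U x.1) : Prop :=
  ∀ (x : V) (i j : {i : ι // x.1 ∈ U i}), f x j = ηg U η x.1 i j * f x i

/-- local germ condition -/
def predB {V : X.Opens} (f : ∀ x : V, T U x.1) : Prop :=
  ∀ (x : V) (i : {i : ι // x.1 ∈ U i}), ∃ (N : X.Opens) (_ : x.1 ∈ N) (hNV : N ≤ V)
    (hNU : N ≤ U i.1) (a : Γ(X, N)),
    ∀ y (hy : y ∈ N), f ⟨y, hNV hy⟩ ⟨i.1, hNU hy⟩ = X.presheaf.germ N y hy a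

/-- the local predicate -/
def P : TopCat.LocalPredicate (fun x : X => T U x) where
  pred {V} f := predA U η f ∧ predB U f
  res {V' V} i f h := by
    refine ⟨fun x k j => h.1 (i x) k j, fun x k => ?_⟩
    obtain ⟨N, hxN, hNV, hNU, a, ha⟩ := h.2 (i x) k
    refine ⟨N ⊓ V', ⟨hxN, x.2⟩, inf_le_right, inf_le_left.trans hNU,
      X.presheaf.map (homOfLE inf_le_left).op a, fun y hy => ?_⟩
    rw [TopCat.Presheaf.germ_res_apply]
    exact ha y hy.1
  locality {V} f h := by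
    refine ⟨fun x k j => ?_, fun x k => ?_⟩
    · obtain ⟨V', hx, i, hA, hB⟩ := h x
      exact hA ⟨x.1, hx⟩ k j
    · obtain ⟨V', hx, i, hA, hB⟩ := h x
      obtain ⟨N, hxN, hNV, hNU, a, ha⟩ := hB ⟨x.1, hx⟩ k
      exact ⟨N, hxN, hNV.trans i.le, hNU, a, ha⟩

instance : Mero.IsModPred (P U η) where
  zero V := by
    refine ⟨fun x k j => ?_, fun x k => ?_⟩
    · change (0 : X.presheaf.stalk x.1) = _ * 0
      rw [mul_zero]
    · refine ⟨V ⊓ U k.1, ⟨x.2, k.2⟩, inf_le_left, inf_le_right, 0, fun y hy => ?_⟩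
      rw [map_zero]
      rfl
  add V f g hf hg := by
    refine ⟨fun x k j => ?_, fun x k => ?_⟩
    · change f x j + g x j = _ * (f x k + g x k)
      rw [hf.1 x k j, hg.1 x k j, mul_add]
    · obtain ⟨N, hxN, hNV, hNU, a, ha⟩ := hf.2 x k
      obtain ⟨N', hxN', hNV', hNU', a', ha'⟩ := hg.2 x k
      refine ⟨N ⊓ N', ⟨hxN, hxN'⟩, inf_le_left.trans hNV, inf_le_left.trans hNU,
        X.presheaf.map (homOfLE inf_le_left).op a + X.presheaf.map (homOfLE inf_le_right).op a',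
        fun y hy => ?_⟩
      rw [map_add, TopCat.Presheaf.germ_res_apply, TopCat.Presheaf.germ_res_apply]
      change f _ _ + g _ _ = _
      rw [← ha y hy.1, ← ha' y hy.2]
  smul V r f hf := by
    refine ⟨fun x k j => ?_, fun x k => ?_⟩
    · change X.presheaf.germ V x.1 x.2 r * f x j = _ * (X.presheaf.germ V x.1 x.2 r * f x k)
      rw [hf.1 x k j, mul_left_comm]
    · obtain ⟨N, hxN, hNV, hNU, a, ha⟩ := hf.2 x k
      refine ⟨N, hxN, hNV, hNU, X.presheaf.map (homOfLE hNV).op r * a, fun y hy => ?_⟩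
      rw [map_mul, TopCat.Presheaf.germ_res_apply]
      change X.presheaf.germ V y (hNV hy) r * f _ _ = _
      rw [← ha y hy]

/-- the glued module -/
noncomputable def L : X.Modules := Mero.modOf (P U η)

theorem isUnit_ηg (x : X) (i j : {i : ι // x ∈ U i}) : IsUnit (ηg U η x i j) :=
  (η i.1 j.1).isUnit.map _

variable (hη : ∀ i j k : ι,
      X.presheaf.map (homOfLE (inf_le_inf_right (U k) inf_le_left : U i ⊓ U j ⊓ U k ≤ U i ⊓ U k)).op
          (η i k : Γ(X, U i ⊓ U k)) =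
        X.presheaf.map (homOfLE (inf_le_left : U i ⊓ U j ⊓ U k ≤ U i ⊓ U j)).op
          (η i j : Γ(X, U i ⊓ U j)) *
          X.presheaf.map (homOfLE (inf_le_inf_right (U k) inf_le_right :
            U i ⊓ U j ⊓ U k ≤ U j ⊓ U k)).op (η j k : Γ(X, U j ⊓ U k)))

include hη in
theorem ηg_cocycle (x : X) (i j k : {i : ι // x ∈ U i}) :
    ηg U η x i k = ηg U η x i j * ηg U η x j k := by
  have hx : x ∈ U i.1 ⊓ U j.1 ⊓ U k.1 := ⟨⟨i.2, j.2⟩, k.2⟩
  have := congr(X.presheaf.germ _ x hx $(hη i.1 j.1 k.1))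
  rw [map_mul, TopCat.Presheaf.germ_res_apply, TopCat.Presheaf.germ_res_apply,
    TopCat.Presheaf.germ_res_apply] at this
  exact this

/-- the generating sections -/
noncomputable def s (m : ι) : Γ(L U η, U m) :=
  ⟨fun x k => ηg U η x.1 ⟨m, x.2⟩ k,
    ⟨fun x k j => by
      change ηg U η x.1 ⟨m, x.2⟩ j = ηg U η x.1 k j * ηg U η x.1 ⟨m, x.2⟩ k
      rw [ηg_cocycle U η hη x.1 ⟨m, x.2⟩ k j, mul_comm],
    fun x k => ⟨U m ⊓ U k.1, ⟨x.2, k.2⟩, inf_le_left, inf_le_right,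
      (η m k.1 : Γ(X, U m ⊓ U k.1)), fun y hy => rfl⟩⟩⟩

theorem s_apply (m : ι) (x : U m) (k : {i : ι // x.1 ∈ U i}) :
    (s U η hη m).1 x k = ηg U η x.1 ⟨m, x.2⟩ k := rfl

theorem s_cocycle (i j : ι) :
    (L U η).presheaf.map (homOfLE (inf_le_left : U i ⊓ U j ≤ U i)).op (s U η hη i) =
      (η i j : Γ(X, U i ⊓ U j)) •
        (L U η).presheaf.map (homOfLE (inf_le_right : U i ⊓ U j ≤ U j)).op (s U η hη j) := by
  apply Subtype.ext
  funext x
  funext k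
  change ηg U η x.1 ⟨i, x.2.1⟩ k = ηg U η x.1 ⟨i, x.2.1⟩ ⟨j, x.2.2⟩ * ηg U η x.1 ⟨j, x.2.2⟩ k
  exact ηg_cocycle U η hη x.1 _ _ _

theorem s_bijective (m : ι) (V : X.Opens) (h : V ≤ U m) :
    Function.Bijective
      (fun r : Γ(X, V) => r • (L U η).presheaf.map (homOfLE h).op (s U η hη m)) := by
  constructor
  · intro r r' hrr
    apply TopCat.Presheaf.section_ext X.sheaf
    intro x hx
    have h1 := congr(($hrr).1 ⟨x, hx⟩ ⟨m, h hx⟩)
    change X.presheaf.germ V x hx r * ηg U η x ⟨m, h hx⟩ ⟨m, h hx⟩ =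
      X.presheaf.germ V x hx r' * ηg U η x ⟨m, h hx⟩ ⟨m, h hx⟩ at h1
    exact (isUnit_ηg U η x _ _).mul_left_injective h1
  · intro σ
    obtain ⟨r, hr⟩ := GL2.glue_germs V (fun x => σ.1 x ⟨m, h x.2⟩) (fun x => by
      obtain ⟨N, hxN, hNV, hNU, a, ha⟩ := σ.2.2 x ⟨m, h x.2⟩
      exact ⟨N, hxN, hNV, a, ha⟩)
    refine ⟨r, ?_⟩
    apply Subtype.ext
    funext x
    funext k
    change X.presheaf.germ V x.1 x.2 r * ηg U η x.1 ⟨m, h x.2⟩ k = σ.1 x k
    rw [hr x, σ.2.1 x ⟨m, h x.2⟩ k, mul_comm]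

include hη in
theorem main (hU : iSup U = ⊤) :
    ∃ (L : X.Modules) (s : ∀ i : ι, Γ(L, U i)),
      PicF.IsInvertible L ∧
      (∀ (i : ι) (V : X.Opens) (h : V ≤ U i),
        Function.Bijective (fun r : Γ(X, V) => r • L.presheaf.map (homOfLE h).op (s i))) ∧
      ∀ i j : ι, L.presheaf.map (homOfLE (inf_le_left : U i ⊓ U j ≤ U i)).op (s i) =
        (η i j : Γ(X, U i ⊓ U j)) •
          L.presheaf.map (homOfLE (inf_le_right : U i ⊓ U j ≤ U j)).op (s j) := by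
  refine ⟨L U η, s U η hη, ?_, s_bijective U η hη, s_cocycle U η hη⟩
  intro y
  have : y ∈ iSup U := by rw [hU]; trivial
  obtain ⟨m, hm⟩ := Opens.mem_iSup.mp this
  exact ⟨U m, hm, GL2.gen (L U η) (U m) (s U η hη m) (s_bijective U η hη m)⟩

end Groth.Agent.Lib.helper1.GL3
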