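import Mathlib
import Groth.Prelude.Def_W4c2azumayainvolQEt

/-!
# Rings with involution whose fixed ring is local: units and the Jacobson radical
-/

set_option linter.unusedSectionVars false

namespace Groth.Agent.Lib.helper1.HM

universe u v

variable {B : Type u} {A : Type v} [CommRing B] [CommRing A] [Algebra B A] {lam : A ≃+* A}

section basic

variable (hlam : Function.Involutive lam) (hB : RInv.IsFixedRing B A lam)
include hlam hB

lemma lam_map (b : B) : lam (algebraMap B A b) = algebraMap B A b := (hB.2 _).mpr ⟨b, rfl⟩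

lemma exists_norm (a : A) : ∃ b : B, algebraMap B A b = a * lam a := by
  have : lam (a * lam a) = a * lam a := by rw [map_mul, hlam a, mul_comm]
  exact (hB.2 _).mp this

lemma exists_trace (a : A) : ∃ b : B, algebraMap B A b = a + lam a := by
  have : lam (a + lam a) = a + lam a := by rw [map_add, hlam a, add_comm]
  exact (hB.2 _).mp this

lemma isUnit_of_isUnit_map {b : B} (h : IsUnit (algebraMap B A b)) : IsUnit b := by
  obtain ⟨c, hc⟩ := h.exists_right_inv
  have hfix : lam c = c := by
    have h1 : algebraMap B A b * lam c = 1 := by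
      rw [← lam_map hlam hB b, ← map_mul, hc, map_one]
    calc lam c = (algebraMap B A b * c) * lam c := by rw [hc, one_mul]
      _ = c * (algebraMap B A b * lam c) := by ring
      _ = c := by rw [h1, mul_one]
  obtain ⟨b', hb'⟩ := (hB.2 c).mp hfix
  refine IsUnit.of_mul_eq_one b' (hB.1 ?_)
  rw [map_mul, hb', hc, map_one]

lemma isUnit_iff_norm (a : A) (b : B) (hb : algebraMap B A b = a * lam a) :
    IsUnit a ↔ IsUnit b := by
  constructor
  · intro ha
    apply isUnit_of_isUnit_map hlam hB
    rw [hb]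
    exact ha.mul (ha.map lam)
  · intro hu
    have : IsUnit (a * lam a) := by rw [← hb]; exact hu.map _
    exact isUnit_of_mul_isUnit_left this

lemma lam_mem_jacobson {x : A} (hx : x ∈ Ring.jacobson A) : lam x ∈ Ring.jacobson A := by
  rw [← Ideal.jacobson_bot, Ideal.mem_jacobson_bot] at hx ⊢
  intro y
  have := (hx (lam y)).map lam
  rwa [map_add, map_mul, hlam y, map_one] at this

variable [IsLocalRing B]

omit hlam hB in
lemma isUnit_one_add {x : B} (hx : ¬ IsUnit x) : IsUnit (1 + x) := by
  by_contra h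
  have h1 : (1 + x) ∈ IsLocalRing.maximalIdeal B := (IsLocalRing.mem_maximalIdeal _).mpr h
  have h2 : x ∈ IsLocalRing.maximalIdeal B := (IsLocalRing.mem_maximalIdeal _).mpr hx
  have h3 : (1 : B) ∈ IsLocalRing.maximalIdeal B := by
    have := Ideal.sub_mem _ h1 h2
    rwa [add_sub_cancel_right] at this
  exact (IsLocalRing.maximalIdeal.isMaximal B).ne_top ((Ideal.eq_top_iff_one _).mpr h3)

omit hlam hB in
lemma not_isUnit_mul_add {b : B} (hb : ¬ IsUnit b) (t n : B) : ¬ IsUnit (b * t + b ^ 2 * n) := by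
  have h2 : b ∈ IsLocalRing.maximalIdeal B := (IsLocalRing.mem_maximalIdeal _).mpr hb
  have : b * t + b ^ 2 * n ∈ IsLocalRing.maximalIdeal B := by
    refine Ideal.add_mem _ (Ideal.mul_mem_right _ _ h2) (Ideal.mul_mem_right _ _ ?_)
    exact Ideal.pow_mem_of_mem _ h2 2 (by norm_num)
  exact (IsLocalRing.mem_maximalIdeal _).mp this

lemma map_mem_jacobson {b : B} (hb : ¬ IsUnit b) : algebraMap B A b ∈ Ring.jacobson A := by
  rw [← Ideal.jacobson_bot, Ideal.mem_jacobson_bot]
  intro y
  obtain ⟨t, ht⟩ := exists_trace hlam hB y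
  obtain ⟨n, hn⟩ := exists_norm hlam hB y
  have hN : algebraMap B A (1 + (b * t + b ^ 2 * n)) =
      (algebraMap B A b * y + 1) * lam (algebraMap B A b * y + 1) := by
    simp only [map_add, map_mul, map_one, map_pow, ht, hn, lam_map hlam hB b]; ring
  exact (isUnit_iff_norm hlam hB _ _ hN).mpr (isUnit_one_add (not_isUnit_mul_add hb t n))

lemma mul_lam_mem_jacobson {c : A} (hc : ¬ IsUnit c) : c * lam c ∈ Ring.jacobson A := by
  obtain ⟨b, hb⟩ := exists_norm hlam hB c
  rw [← hb]
  exact map_mem_jacobson hlam hB (fun h => hc ((isUnit_iff_norm hlam hB c b hb).mpr h))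

/-- An `ε`-hermitian element outside the Jacobson radical is a unit. -/
lemma isUnit_of_herm {ε c : A} (hε : ε = 1 ∨ ε = -1) (hc : c = ε * lam c)
    (hcJ : c ∉ Ring.jacobson A) : IsUnit c := by
  by_contra hnu
  apply hcJ
  have h1 := mul_lam_mem_jacobson hlam hB hnu
  have hεε : ε * ε = 1 := by rcases hε with rfl | rfl <;> ring
  have h2 : c ^ 2 = ε * (c * lam c) := by
    calc c ^ 2 = c * c := sq c
      _ = c * (ε * lam c) := by rw [← hc]
      _ = ε * (c * lam c) := by ring
  have h3 : c ^ 2 ∈ Ring.jacobson A := by rw [h2]; exact Ideal.mul_mem_left _ _ h1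
  rw [← Ideal.jacobson_bot] at h3 ⊢
  exact (Ideal.isRadical_jacobson _) ⟨2, h3⟩

/-- If `lam` is the identity modulo the Jacobson radical, the ring is local: nonunits lie in the
Jacobson radical. -/
lemma mem_jacobson_of_not_isUnit (hid : ∀ a : A, lam a - a ∈ Ring.jacobson A) {c : A}
    (hc : ¬ IsUnit c) : c ∈ Ring.jacobson A := by
  have h1 := mul_lam_mem_jacobson hlam hB hc
  have h2 : c ^ 2 = c * lam c - c * (lam c - c) := by ring
  have h3 : c ^ 2 ∈ Ring.jacobson A := by
    rw [h2]; exact Ideal.sub_mem _ h1 (Ideal.mul_mem_left _ _ (hid c))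
  rw [← Ideal.jacobson_bot] at h3 ⊢
  exact (Ideal.isRadical_jacobson _) ⟨2, h3⟩

end basic

end Groth.Agent.Lib.helper1.HM
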