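import Groth.Agent.Lib.helper1.HM1

/-!
# Hermitian matrices over a ring with involution: congruence
-/

open Matrix

set_option linter.unusedSectionVars false
set_option linter.unusedSimpArgs false

namespace Groth.Agent.Lib.helper1.HM

universe v

variable {A : Type v} [CommRing A] (lam : A ≃+* A)

/-- conjugate transpose with respect to `lam` -/
def ct {m n : Type*} (v : Matrix m n A) : Matrix n m A := (v.map lam)ᵀ

/-- congruence transform -/
def cg {ι : Type*} [Fintype ι] (v h : Matrix ι ι A) : Matrix ι ι A := ct lam v * h * v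

def Herm (ε : A) {ι : Type*} (h : Matrix ι ι A) : Prop := ε • ct lam h = h

def Diag {ι : Type*} [Fintype ι] [DecidableEq ι] (h : Matrix ι ι A) : Prop :=
  ∃ v : Matrix ι ι A, IsUnit v ∧ ∃ d : ι → A, cg lam v h = diagonal d

@[simp] lemma ct_apply {m n : Type*} (v : Matrix m n A) (i : n) (j : m) :
    ct lam v i j = lam (v j i) := rfl

lemma ct_mul {l m n : Type*} [Fintype m] (a : Matrix l m A) (b : Matrix m n A) :
    ct lam (a * b) = ct lam b * ct lam a := by
  ext i j
  simp only [ct_apply, Matrix.mul_apply, map_sum, map_mul]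
  exact Finset.sum_congr rfl fun k _ => mul_comm _ _

lemma ct_one {n : Type*} [DecidableEq n] : ct lam (1 : Matrix n n A) = 1 := by
  ext i j
  simp only [ct_apply, Matrix.one_apply]
  split_ifs with h1 h2 h2
  · exact map_one _
  · exact absurd h1.symm h2
  · exact absurd h2.symm h1
  · exact map_zero _

lemma ct_zero {m n : Type*} : ct lam (0 : Matrix m n A) = 0 := by
  ext i j; simp

lemma ct_add {m n : Type*} (a b : Matrix m n A) : ct lam (a + b) = ct lam a + ct lam b := by
  ext i j; simp

lemma ct_neg {m n : Type*} (a : Matrix m n A) : ct lam (-a) = -ct lam a := by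
  ext i j; simp

lemma ct_smul {m n : Type*} (c : A) (a : Matrix m n A) : ct lam (c • a) = lam c • ct lam a := by
  ext i j; simp

lemma ct_submatrix {m n m' n' : Type*} (a : Matrix m n A) (f : m' → m) (g : n' → n) :
    ct lam (a.submatrix f g) = (ct lam a).submatrix g f := by
  ext i j; simp

lemma ct_fromBlocks {m n m' n' : Type*} (a : Matrix m n A) (b : Matrix m n' A)
    (c : Matrix m' n A) (d : Matrix m' n' A) :
    ct lam (fromBlocks a b c d) = fromBlocks (ct lam a) (ct lam c) (ct lam b) (ct lam d) := by
  ext i j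
  rcases i with i | i <;> rcases j with j | j <;> simp

section invol

variable {lam} (hlam : Function.Involutive lam)
include hlam

lemma ct_ct {m n : Type*} (a : Matrix m n A) : ct lam (ct lam a) = a := by
  ext i j; simp [hlam (a i j)]

end invol

lemma isUnit_ct {n : Type*} [Fintype n] [DecidableEq n] {v : Matrix n n A} (hv : IsUnit v) :
    IsUnit (ct lam v) := by
  obtain ⟨w, hw⟩ := hv.exists_right_inv
  have h1 : ct lam w * ct lam v = 1 := by rw [← ct_mul, hw, ct_one]
  exact IsUnit.of_mul_eq_one (ct lam w) (mul_eq_one_comm.mp h1)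

lemma isUnit_cg {n : Type*} [Fintype n] [DecidableEq n] {v h : Matrix n n A} (hv : IsUnit v)
    (hh : IsUnit h) : IsUnit (cg lam v h) :=
  ((isUnit_ct lam hv).mul hh).mul hv

lemma cg_mul {n : Type*} [Fintype n] (v w h : Matrix n n A) :
    cg lam v (cg lam w h) = cg lam (w * v) h := by
  simp only [cg, ct_mul, Matrix.mul_assoc]

lemma Diag.of_cg {n : Type*} [Fintype n] [DecidableEq n] {w h : Matrix n n A} (hw : IsUnit w)
    (hd : Diag lam (cg lam w h)) : Diag lam h := by
  obtain ⟨v, hv, d, hvd⟩ := hd
  exact ⟨w * v, hw.mul hv, d, by rw [← cg_mul, hvd]⟩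

lemma Diag.of_submatrix {n k : Type*} [Fintype n] [DecidableEq n] [Fintype k] [DecidableEq k]
    (e : n ≃ k) {h : Matrix n n A} (hd : Diag lam (h.submatrix e.symm e.symm)) : Diag lam h := by
  obtain ⟨v, hv, d, hvd⟩ := hd
  refine ⟨v.submatrix e e, ?_, d ∘ e, ?_⟩
  · obtain ⟨w, hw⟩ := hv.exists_right_inv
    refine IsUnit.of_mul_eq_one (w.submatrix e e) ?_
    rw [Matrix.submatrix_mul_equiv, hw, Matrix.submatrix_one_equiv]
  · have := congrArg (fun M => M.submatrix e e) hvd
    simp only [cg, ← Matrix.submatrix_mul_equiv _ _ e e e, ct_submatrix,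
      Matrix.submatrix_submatrix, Equiv.symm_comp_self, Matrix.submatrix_id_id,
      Matrix.submatrix_diagonal_equiv] at this
    simpa [cg, ct_submatrix] using this

section herm

variable {lam} (hlam : Function.Involutive lam) {ε : A} (hε : ε = 1 ∨ ε = -1)
include hlam hε

omit hlam in
lemma lam_eps : lam ε = ε := by rcases hε with rfl | rfl <;> simp

omit hlam in
lemma eps_mul_eps : ε * ε = 1 := by rcases hε with rfl | rfl <;> ring

lemma Herm.cg {n : Type*} [Fintype n] {h : Matrix n n A} (hh : Herm lam ε h) (v : Matrix n n A) :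
    Herm lam ε (cg lam v h) := by
  unfold Herm at hh ⊢
  unfold HM.cg
  rw [ct_mul, ct_mul, ct_ct hlam, Matrix.mul_assoc, ← Matrix.mul_smul, ← Matrix.smul_mul, hh]

omit hlam hε in
lemma Herm.submatrix {n k : Type*} {h : Matrix n n A} (hh : Herm lam ε h) (f : k → n) :
    Herm lam ε (h.submatrix f f) := by
  unfold Herm at hh ⊢
  ext i j
  have := congrFun (congrFun hh (f i)) (f j)
  simpa using this

omit hlam hε in
lemma Herm.apply {n : Type*} {h : Matrix n n A} (hh : Herm lam ε h) (i j : n) :
    h i j = ε * lam (h j i) := by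
  have := congrFun (congrFun hh i) j
  simpa using this.symm

end herm

end Groth.Agent.Lib.helper1.HM
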