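import Groth.Agent.Lib.helper1.HM2

/-!
# Hermitian matrices: block operations (Schur complement with a 1×1 pivot)
-/

open Matrix

set_option linter.unusedSectionVars false
set_option linter.unusedSimpArgs false

namespace Groth.Agent.Lib.helper1.HM

universe v

variable {A : Type v} [CommRing A] (lam : A ≃+* A)
variable {κ : Type*} [Fintype κ] [DecidableEq κ]

lemma unit_block (a : Matrix Unit Unit A) : a = diagonal (fun _ => a () ()) := by
  ext i j; simp

lemma unit_mul (a : Matrix Unit Unit A) (b : Matrix Unit κ A) : a * b = a () () • b := by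
  ext i j; simp [Matrix.mul_apply]

lemma Diag.fromBlocks {a : Matrix Unit Unit A} {d : Matrix κ κ A} (hd : Diag lam d) :
    Diag lam (fromBlocks a 0 0 d) := by
  obtain ⟨v, hv, dd, hvd⟩ := hd
  refine ⟨Matrix.fromBlocks 1 0 0 v, ?_, Sum.elim (fun _ => a () ()) dd, ?_⟩
  · obtain ⟨w, hw⟩ := hv.exists_right_inv
    refine IsUnit.of_mul_eq_one (Matrix.fromBlocks 1 0 0 w) ?_
    rw [fromBlocks_multiply]; simp [hw, fromBlocks_one]
  · unfold cg at hvd ⊢
    rw [ct_fromBlocks, fromBlocks_multiply, fromBlocks_multiply]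
    simp only [ct_one, ct_zero, Matrix.one_mul, Matrix.zero_mul, Matrix.mul_one, Matrix.mul_zero, add_zero, zero_add]
    rw [hvd, ← fromBlocks_diagonal, ← unit_block a]

section schur

variable {lam} (hlam : Function.Involutive lam) {ε : A} (hε : ε = 1 ∨ ε = -1)
include hlam hε

lemma schur {a : Matrix Unit Unit A} {b : Matrix Unit κ A} {c : Matrix κ Unit A}
    {d : Matrix κ κ A} (hh : Herm lam ε (Matrix.fromBlocks a b c d)) (uinv : A)
    (hu : a () () * uinv = 1) :
    ∃ E : Matrix (Unit ⊕ κ) (Unit ⊕ κ) A, IsUnit E ∧ ∃ Y : Matrix κ κ A,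
      cg lam E (Matrix.fromBlocks a b c d) = Matrix.fromBlocks a 0 0 Y ∧
      ∀ k l, Y k l = d k l - lam uinv * lam (b () k) * b () l := by
  set E := Matrix.fromBlocks (1 : Matrix Unit Unit A) (-(uinv • b)) 0 (1 : Matrix κ κ A) with hEdef
  have hE : IsUnit E := IsUnit.of_mul_eq_one (Matrix.fromBlocks 1 (uinv • b) 0 1) (by
    rw [hEdef, fromBlocks_multiply]; simp [fromBlocks_one])
  have hg : Herm lam ε (cg lam E (Matrix.fromBlocks a b c d)) := hh.cg hlam hε E
  set m := ct lam (-(uinv • b)) with hm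
  set X := m * a + c with hX
  have hcomp : cg lam E (Matrix.fromBlocks a b c d) =
      Matrix.fromBlocks a 0 X (X * (-(uinv • b)) + (m * b + d)) := by
    unfold cg
    rw [hEdef, ct_fromBlocks, fromBlocks_multiply, fromBlocks_multiply]
    simp only [ct_one, ct_zero, Matrix.one_mul, Matrix.zero_mul, Matrix.mul_one, Matrix.mul_zero, add_zero, zero_add]
    congr 1
    rw [Matrix.mul_neg, Matrix.mul_smul, unit_mul, smul_smul, mul_comm, hu, one_smul,
      neg_add_cancel]
  have hX0 : X = 0 := by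
    rw [hcomp] at hg
    unfold Herm at hg
    rw [ct_fromBlocks, fromBlocks_smul, fromBlocks_inj] at hg
    rw [← hg.2.2.1, ct_zero, smul_zero]
  refine ⟨E, hE, m * b + d, ?_, ?_⟩
  · rw [hcomp, hX0, Matrix.zero_mul, zero_add]
  · intro k l
    simp only [Matrix.add_apply, Matrix.mul_apply, Finset.univ_unique, Finset.sum_singleton, hm,
      ct_apply, Matrix.neg_apply, Matrix.smul_apply, smul_eq_mul, map_neg, map_mul]
    ring

end schur

lemma fixup (a : Matrix Unit Unit A) (d : Matrix κ κ A) (k₀ : κ) :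
    ∃ V : Matrix (Unit ⊕ κ) (Unit ⊕ κ) A, IsUnit V ∧ ∃ (a₂ : Matrix Unit Unit A)
      (b₂ : Matrix Unit κ A) (c₂ : Matrix κ Unit A),
      cg lam V (Matrix.fromBlocks a 0 0 d) = Matrix.fromBlocks a₂ b₂ c₂ d ∧
      a₂ () () = a () () + d k₀ k₀ ∧ ∀ l, b₂ () l = d k₀ l := by
  set c₀ : Matrix κ Unit A := Matrix.of (fun k _ => if k = k₀ then 1 else 0) with hc₀
  set V := Matrix.fromBlocks (1 : Matrix Unit Unit A) 0 c₀ (1 : Matrix κ κ A) with hV
  have hVu : IsUnit V := IsUnit.of_mul_eq_one (Matrix.fromBlocks 1 0 (-c₀) 1) (by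
    rw [hV, fromBlocks_multiply]; simp [fromBlocks_one])
  refine ⟨V, hVu, a + ct lam c₀ * d * c₀, ct lam c₀ * d, d * c₀, ?_, ?_, ?_⟩
  · unfold cg
    rw [hV, ct_fromBlocks, fromBlocks_multiply, fromBlocks_multiply]
    simp only [ct_one, ct_zero, Matrix.one_mul, Matrix.zero_mul, Matrix.mul_one, Matrix.mul_zero, add_zero, zero_add]
  · simp [Matrix.mul_apply, hc₀]
  · intro l
    simp [Matrix.mul_apply, hc₀]

end Groth.Agent.Lib.helper1.HM
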