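import Groth.Agent.Lib.helper1.HM3

/-!
# Diagonalisation of hermitian matrices over a ring with involution whose fixed ring is local
-/

open Matrix

set_option linter.unusedSectionVars false
set_option linter.unusedSimpArgs false

namespace Groth.Agent.Lib.helper1.HM

universe u v

variable {B : Type u} {A : Type v} [CommRing B] [CommRing A] [Algebra B A] (lam : A ≃+* A)

lemma cg_transvection_apply {ι : Type*} [Fintype ι] [DecidableEq ι] (h : Matrix ι ι A) (i j : ι)
    (hij : i ≠ j) (a : A) :
    (cg lam (Matrix.transvection j i a) h) i i =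
      h i i + lam a * h j i + h i j * a + lam a * h j j * a := by
  have hct : ct lam (Matrix.transvection j i a) = 1 + Matrix.single i j (lam a) := by
    ext k l
    simp only [ct_apply, Matrix.transvection, Matrix.add_apply, Matrix.one_apply,
      Matrix.single_apply]
    by_cases h1 : l = k
    · subst h1
      by_cases h2 : j = l
      · subst h2; simp [hij, hij.symm]
      · simp [h2]
    · by_cases h2 : j = l <;> by_cases h3 : i = k <;> simp [h1, h2, h3, Ne.symm h1, eq_comm]
  unfold cg
  rw [hct, Matrix.transvection]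
  simp only [Matrix.add_mul, Matrix.mul_add, Matrix.one_mul, Matrix.mul_one, Matrix.add_apply]
  simp [Matrix.mul_apply, Matrix.single_apply, hij, hij.symm]
  ring

/-- "Alternating modulo the Jacobson radical", tested on the special vectors `e_i` and
`e_i + a e_j` only. -/
def SAlt {ι : Type*} [Fintype ι] [DecidableEq ι] (h : Matrix ι ι A) : Prop :=
  (∀ i, h i i ∈ Ring.jacobson A) ∧
    ∀ i j (a : A), i ≠ j → (cg lam (Matrix.transvection j i a) h) i i ∈ Ring.jacobson A

lemma one_not_mem_jacobson [Nontrivial A] : (1 : A) ∉ Ring.jacobson A := by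
  intro h
  have h1 : Ring.jacobson A = ⊤ := (Ideal.eq_top_iff_one _).mpr h
  rw [← Ideal.jacobson_bot, Ideal.jacobson_eq_top_iff] at h1
  exact bot_ne_top h1

lemma not_mem_jacobson_of_isUnit [Nontrivial A] {x : A} (hx : IsUnit x) :
    x ∉ Ring.jacobson A := by
  intro h
  obtain ⟨y, hy⟩ := hx.exists_right_inv
  apply one_not_mem_jacobson (A := A)
  rw [← hy]
  exact Ideal.mul_mem_right _ _ h

lemma isUnit_add_of_mem_jacobson {x y : A} (hx : IsUnit x) (hy : y ∈ Ring.jacobson A) :
    IsUnit (x + y) := by
  obtain ⟨x', hx'⟩ := hx.exists_right_inv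
  rw [← Ideal.jacobson_bot, Ideal.mem_jacobson_bot] at hy
  have h1 : x + y = x * (y * x' + 1) := by
    calc x + y = x + y * (x * x') := by rw [hx', mul_one]
      _ = x * (y * x' + 1) := by ring
  rw [h1]
  exact hx.mul (hy x')

section glob

variable {lam} (hlam : Function.Involutive lam) (hB : RInv.IsFixedRing B A lam) [IsLocalRing B]
  {ε : A} (hε : ε = 1 ∨ ε = -1)
include hlam hB hε

lemma glob_of_SAlt {ι : Type*} [Fintype ι] [DecidableEq ι] [Nonempty ι] {h : Matrix ι ι A}
    (hh : IsUnit h) (herm : Herm lam ε h) (hS : SAlt lam h) :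
    (∀ a : A, lam a - a ∈ Ring.jacobson A) ∧ ε + 1 ∈ Ring.jacobson A := by
  have step1 : ∀ i j a, h i j * a + ε * lam (h i j * a) ∈ Ring.jacobson A := by
    intro i j a
    by_cases hij : i = j
    · subst hij
      have h1 : h i i * a ∈ Ring.jacobson A := Ideal.mul_mem_right _ _ (hS.1 i)
      exact Ideal.add_mem _ h1 (Ideal.mul_mem_left _ _ (lam_mem_jacobson hlam hB h1))
    · have h1 := hS.2 i j a hij
      rw [cg_transvection_apply lam h i j hij a, herm.apply j i] at h1
      have h2 : h i j * a + ε * lam (h i j * a) =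
          (h i i + lam a * (ε * lam (h i j)) + h i j * a + lam a * h j j * a) - h i i
            - (lam a * a) * h j j := by
        rw [map_mul]; ring
      rw [h2]
      exact Ideal.sub_mem _ (Ideal.sub_mem _ h1 (hS.1 i)) (Ideal.mul_mem_left _ _ (hS.1 j))
  obtain ⟨i₀⟩ := ‹Nonempty ι›
  obtain ⟨w, hw⟩ := hh.exists_right_inv
  have hrow : ∑ j, h i₀ j * w j i₀ = 1 := by
    have := congrFun (congrFun hw i₀) i₀
    simpa [Matrix.mul_apply] using this
  have step2 : ∀ a : A, a + ε * lam a ∈ Ring.jacobson A := by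
    intro a
    have h1 : a + ε * lam a = ∑ j, (h i₀ j * (w j i₀ * a) + ε * lam (h i₀ j * (w j i₀ * a))) := by
      rw [Finset.sum_add_distrib, ← Finset.mul_sum, ← map_sum]
      have : ∑ j, h i₀ j * (w j i₀ * a) = a := by
        simp_rw [← mul_assoc]
        rw [← Finset.sum_mul, hrow, one_mul]
      rw [this]
    rw [h1]
    exact Ideal.sum_mem _ fun j _ => step1 i₀ j _
  have h3 : ε + 1 ∈ Ring.jacobson A := by
    have := step2 1
    rwa [map_one, mul_one, add_comm] at this
  refine ⟨fun a => ?_, h3⟩
  have h4 : lam a - a = (ε + 1) * lam a - (a + ε * lam a) := by ring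
  rw [h4]
  exact Ideal.sub_mem _ (Ideal.mul_mem_right _ _ h3) (step2 a)

lemma exists_isUnit_entry {ι : Type*} [Fintype ι] [DecidableEq ι] {h : Matrix ι ι A}
    (hid : ∀ a : A, lam a - a ∈ Ring.jacobson A) (hh : IsUnit h) (i₀ : ι) :
    ∃ j, IsUnit (h i₀ j) := by
  have : Nontrivial A := hB.1.nontrivial
  by_contra hcon
  push Not at hcon
  obtain ⟨w, hw⟩ := hh.exists_right_inv
  have hrow : ∑ j, h i₀ j * w j i₀ = 1 := by
    have := congrFun (congrFun hw i₀) i₀
    simpa [Matrix.mul_apply] using this
  apply one_not_mem_jacobson (A := A)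
  rw [← hrow]
  exact Ideal.sum_mem _ fun j _ =>
    Ideal.mul_mem_right _ _ (mem_jacobson_of_not_isUnit hlam hB hid (hcon j))

end glob

end Groth.Agent.Lib.helper1.HM
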