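import Groth.Agent.Lib.helper1.HM4

/-!
# Diagonalisation of hermitian matrices: the induction
-/

open Matrix

set_option linter.unusedSectionVars false
set_option linter.unusedSimpArgs false

namespace Groth.Agent.Lib.helper1.HM

universe u v

variable {B : Type u} {A : Type v} [CommRing B] [CommRing A] [Algebra B A] (lam : A ≃+* A)

/-- split off one index -/
def splitEquiv {ι : Type*} [DecidableEq ι] (i₀ : ι) : ι ≃ Unit ⊕ {k : ι // k ≠ i₀} where
  toFun k := if h : k = i₀ then Sum.inl () else Sum.inr ⟨k, h⟩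
  invFun := Sum.elim (fun _ => i₀) Subtype.val
  left_inv k := by by_cases h : k = i₀ <;> simp [h]
  right_inv x := by
    rcases x with _ | ⟨k, hk⟩
    · simp
    · simp [hk]

lemma isUnit_submatrix_equiv {n k : Type*} [Fintype n] [DecidableEq n] [Fintype k]
    [DecidableEq k] (e : k ≃ n) {h : Matrix n n A} (hh : IsUnit h) :
    IsUnit (h.submatrix e e) := by
  obtain ⟨w, hw⟩ := hh.exists_right_inv
  refine IsUnit.of_mul_eq_one (w.submatrix e e) ?_
  rw [Matrix.submatrix_mul_equiv, hw, Matrix.submatrix_one_equiv]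

lemma isUnit_of_fromBlocks {κ : Type*} [Fintype κ] [DecidableEq κ] {a : Matrix Unit Unit A}
    {Y : Matrix κ κ A} (h : IsUnit (Matrix.fromBlocks a 0 0 Y)) : IsUnit Y := by
  rw [Matrix.isUnit_iff_isUnit_det, Matrix.det_fromBlocks_zero₂₁] at h
  rw [Matrix.isUnit_iff_isUnit_det]
  exact isUnit_of_mul_isUnit_right h

lemma herm_of_fromBlocks {κ : Type*} {ε : A} {a : Matrix Unit Unit A} {b : Matrix Unit κ A}
    {c : Matrix κ Unit A} {Y : Matrix κ κ A} (h : Herm lam ε (Matrix.fromBlocks a b c Y)) :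
    Herm lam ε Y := by
  unfold Herm at h ⊢
  rw [ct_fromBlocks, fromBlocks_smul, fromBlocks_inj] at h
  exact h.2.2.2

section main

variable {lam} (hlam : Function.Involutive lam) (hB : RInv.IsFixedRing B A lam) [IsLocalRing B]
  {ε : A} (hε : ε = 1 ∨ ε = -1)
include hlam hB hε

theorem diag_main : ∀ (N : ℕ) (ι : Type) [Fintype ι] [DecidableEq ι], Fintype.card ι = N →
    ∀ h : Matrix ι ι A, IsUnit h → Herm lam ε h → (IsEmpty ι ∨ ¬ SAlt lam h) → Diag lam h := by
  have hnt : Nontrivial A := hB.1.nontrivial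
  intro N
  induction N with
  | zero =>
    intro ι _ _ hcard h _ _ _
    have : IsEmpty ι := Fintype.card_eq_zero_iff.mp hcard
    exact ⟨1, isUnit_one, fun _ => 0, Subsingleton.elim _ _⟩
  | succ N ih =>
    intro ι _ _ hcard h hh herm hS
    have hne : Nonempty ι := Fintype.card_pos_iff.mp (by omega)
    have hS' : ¬ SAlt lam h := by
      rcases hS with hS | hS
      · exact absurd hne (not_nonempty_iff.mpr hS)
      · exact hS
    -- Step 1
    obtain ⟨i₀, W, hW, hu⟩ : ∃ (i₀ : ι) (W : Matrix ι ι A), IsUnit W ∧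
        (cg lam W h) i₀ i₀ ∉ Ring.jacobson A := by
      unfold SAlt at hS'
      rw [not_and_or] at hS'
      rcases hS' with h1 | h1
      · push Not at h1
        obtain ⟨i, hi⟩ := h1
        refine ⟨i, 1, isUnit_one, ?_⟩
        simpa [cg, ct_one] using hi
      · push Not at h1
        obtain ⟨i, j, a, hij, hv⟩ := h1
        refine ⟨i, Matrix.transvection j i a, ?_, hv⟩
        rw [Matrix.isUnit_iff_isUnit_det, Matrix.det_transvection_of_ne _ _ hij.symm]
        exact isUnit_one
    set h₁ := cg lam W h with hh₁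
    have herm₁ : Herm lam ε h₁ := herm.cg hlam hε W
    have hunit₁ : IsUnit h₁ := isUnit_cg lam hW hh
    have huu : IsUnit (h₁ i₀ i₀) := isUnit_of_herm hlam hB hε (herm₁.apply i₀ i₀) hu
    refine Diag.of_cg lam hW ?_
    -- Step 2
    set e := splitEquiv i₀ with he
    refine Diag.of_submatrix lam e ?_
    set h₂ := h₁.submatrix e.symm e.symm with hh₂
    have herm₂ : Herm lam ε h₂ := herm₁.submatrix _
    have hunit₂ : IsUnit h₂ := isUnit_submatrix_equiv e.symm hunit₁
    have h₂00 : h₂ (Sum.inl ()) (Sum.inl ()) = h₁ i₀ i₀ := rfl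
    obtain ⟨uinv, huinv⟩ := huu.exists_right_inv
    have hblocks := Matrix.fromBlocks_toBlocks h₂
    set a := h₂.toBlocks₁₁ with ha
    set b := h₂.toBlocks₁₂ with hb
    set c := h₂.toBlocks₂₁ with hc
    set d := h₂.toBlocks₂₂ with hd
    have ha00 : a () () = h₁ i₀ i₀ := rfl
    rw [← hblocks] at herm₂ hunit₂ ⊢
    -- Step 3
    obtain ⟨E, hE, Y, hEY, hYapp⟩ := schur hlam hε herm₂ uinv (by rw [ha00]; exact huinv)
    have hgherm : Herm lam ε (Matrix.fromBlocks a 0 0 Y) := by
      rw [← hEY]; exact herm₂.cg hlam hε E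
    have hgunit : IsUnit (Matrix.fromBlocks a 0 0 Y) := by
      rw [← hEY]; exact isUnit_cg lam hE hunit₂
    have hYherm : Herm lam ε Y := herm_of_fromBlocks lam hgherm
    have hYunit : IsUnit Y := isUnit_of_fromBlocks hgunit
    refine Diag.of_cg lam hE ?_
    rw [hEY]
    have hcard' : Fintype.card {k : ι // k ≠ i₀} = N := by
      have := Fintype.card_congr e
      rw [Fintype.card_sum, Fintype.card_unit, hcard] at this
      omega
    by_cases hY : IsEmpty {k : ι // k ≠ i₀} ∨ ¬ SAlt lam Y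
    · exact Diag.fromBlocks lam (ih _ hcard' Y hYunit hYherm hY)
    · -- Step 5
      push Not at hY
      obtain ⟨hne', hYS⟩ := hY
      have hne'' : Nonempty {k : ι // k ≠ i₀} := hne'
      obtain ⟨hid, -⟩ := glob_of_SAlt hlam hB hε hYunit hYherm hYS
      obtain ⟨k₀⟩ := hne''
      obtain ⟨j, hj⟩ := exists_isUnit_entry hlam hB hε hid hYunit k₀
      obtain ⟨V, hV, a₂, b₂, c₂, hVeq, ha₂, hb₂⟩ := fixup lam a Y k₀
      refine Diag.of_cg lam hV ?_
      rw [hVeq]
      have hg₂herm : Herm lam ε (Matrix.fromBlocks a₂ b₂ c₂ Y) := by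
        rw [← hVeq]; exact hgherm.cg hlam hε V
      have hg₂unit : IsUnit (Matrix.fromBlocks a₂ b₂ c₂ Y) := by
        rw [← hVeq]; exact isUnit_cg lam hV hgunit
      have hu' : IsUnit (a₂ () ()) := by
        rw [ha₂, ha00]
        exact isUnit_add_of_mem_jacobson huu (hYS.1 k₀)
      obtain ⟨uinv', huinv'⟩ := hu'.exists_right_inv
      obtain ⟨E₂, hE₂, Y₂, hEY₂, hY₂app⟩ := schur hlam hε hg₂herm uinv' huinv'
      have hg₃herm : Herm lam ε (Matrix.fromBlocks a₂ 0 0 Y₂) := by
        rw [← hEY₂]; exact hg₂herm.cg hlam hε E₂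
      have hg₃unit : IsUnit (Matrix.fromBlocks a₂ 0 0 Y₂) := by
        rw [← hEY₂]; exact isUnit_cg lam hE₂ hg₂unit
      have hY₂herm : Herm lam ε Y₂ := herm_of_fromBlocks lam hg₃herm
      have hY₂unit : IsUnit Y₂ := isUnit_of_fromBlocks hg₃unit
      refine Diag.of_cg lam hE₂ ?_
      rw [hEY₂]
      refine Diag.fromBlocks lam (ih _ hcard' Y₂ hY₂unit hY₂herm (Or.inr ?_))
      intro hS₂
      have h1 := hS₂.1 j
      rw [hY₂app j j, hb₂ j] at h1
      have h2 : lam uinv' * lam (Y k₀ j) * Y k₀ j ∈ Ring.jacobson A := by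
        have := Ideal.sub_mem _ (hYS.1 j) h1
        rwa [sub_sub_cancel] at this
      have h3 : IsUnit (lam uinv' * lam (Y k₀ j) * Y k₀ j) := by
        have hui : IsUnit uinv' := IsUnit.of_mul_eq_one (a₂ () ()) (by rw [mul_comm]; exact huinv')
        exact ((hui.map lam).mul (hj.map lam)).mul hj
      exact not_mem_jacobson_of_isUnit h3 h2

end main

end Groth.Agent.Lib.helper1.HM
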