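import Groth.Agent.Lib.helper1.HM5

/-!
# Alternating matrices of odd size are singular; the diagonalisation theorem
-/

open Matrix

set_option linter.unusedSectionVars false
set_option linter.unusedSimpArgs false

namespace Groth.Agent.Lib.helper1.HM

universe u v

/-- generic alternating matrix -/
noncomputable def genAlt (n : ℕ) : Matrix (Fin n) (Fin n) (MvPolynomial (Fin n × Fin n) ℤ) :=
  Matrix.of fun i j => if i < j then MvPolynomial.X (i, j) else
    if j < i then -MvPolynomial.X (j, i) else 0

lemma genAlt_transpose (n : ℕ) : (genAlt n)ᵀ = -genAlt n := by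
  ext i j
  simp only [genAlt, Matrix.transpose_apply, Matrix.of_apply, Matrix.neg_apply]
  rcases lt_trichotomy i j with h | h | h
  · simp [h, not_lt.mpr h.le]
  · subst h; simp
  · simp [h, not_lt.mpr h.le]

lemma det_genAlt {n : ℕ} (hn : Odd n) : (genAlt n).det = 0 := by
  have h1 : (genAlt n).det = -(genAlt n).det := by
    conv_lhs => rw [← Matrix.det_transpose, genAlt_transpose, Matrix.det_neg, Fintype.card_fin,
      hn.neg_one_pow, neg_one_mul]
  have h2 : (2 : MvPolynomial (Fin n × Fin n) ℤ) * (genAlt n).det = 0 := by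
    rw [two_mul]; nth_rewrite 1 [h1]; exact neg_add_cancel _
  rcases mul_eq_zero.mp h2 with h3 | h3
  · exfalso
    have : (MvPolynomial.C (2 : ℤ) : MvPolynomial (Fin n × Fin n) ℤ) = MvPolynomial.C 0 := by
      rw [map_zero, ← h3]; simp
    have := MvPolynomial.C_injective _ _ this
    norm_num at this
  · exact h3

lemma det_eq_zero_of_alt {S : Type*} [CommRing S] {n : ℕ} (hn : Odd n)
    (M : Matrix (Fin n) (Fin n) S) (hd : ∀ i, M i i = 0) (hs : ∀ i j, M j i = -M i j) :
    M.det = 0 := by
  let φ : MvPolynomial (Fin n × Fin n) ℤ →+* S :=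
    MvPolynomial.eval₂Hom (Int.castRingHom S) (fun p => M p.1 p.2)
  have hM : φ.mapMatrix (genAlt n) = M := by
    ext i j
    simp only [RingHom.mapMatrix_apply, Matrix.map_apply, genAlt, Matrix.of_apply]
    rcases lt_trichotomy i j with h | h | h
    · simp [h, φ]
    · subst h; simp [hd]
    · simp [h, not_lt.mpr h.le, φ, hs j i]
  rw [← hM, ← RingHom.map_det, det_genAlt hn, map_zero]


theorem diag_result {B : Type u} {A : Type v} [CommRing B] [CommRing A] [Algebra B A]
    (lam : A ≃+* A) (hlam : Function.Involutive lam) (hB : RInv.IsFixedRing B A lam)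
    [IsLocalRing B] (n : ℕ) (ε : A) (hε : ε = 1 ∨ ε = -1) (h : Matrix (Fin n) (Fin n) A)
    (hh : IsUnit h) (herm : ε • (h.map lam).transpose = h)
    (hcase : (∃ a : A, lam a - a ∉ Ring.jacobson A) ∨ ε + 1 ∉ Ring.jacobson A ∨ Odd n) :
    ∃ v : Matrix (Fin n) (Fin n) A, IsUnit v ∧
      ∃ d : Fin n → A, (v.map lam).transpose * h * v = Matrix.diagonal d := by
  have hnt : Nontrivial A := hB.1.nontrivial
  have herm' : Herm lam ε h := herm
  apply diag_main hlam hB hε n (Fin n) (Fintype.card_fin n) h hh herm'
  by_cases hn : n = 0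
  · left; subst hn; infer_instance
  right
  intro hS
  have : Nonempty (Fin n) := ⟨⟨0, Nat.pos_of_ne_zero hn⟩⟩
  obtain ⟨hid, hε1⟩ := glob_of_SAlt hlam hB hε hh herm' hS
  rcases hcase with ⟨a, ha⟩ | h2 | h3
  · exact ha (hid a)
  · exact h2 hε1
  · set J := Ring.jacobson A with hJ
    let π := Ideal.Quotient.mk J
    set M := π.mapMatrix h with hM
    have hd : ∀ i, M i i = 0 := fun i => by
      simp only [hM, RingHom.mapMatrix_apply, Matrix.map_apply]
      exact Ideal.Quotient.eq_zero_iff_mem.mpr (hS.1 i)
    have hs : ∀ i j, M j i = -M i j := by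
      intro i j
      simp only [hM, RingHom.mapMatrix_apply, Matrix.map_apply]
      rw [herm'.apply j i]
      have e1 : π ε = -1 := by
        have := Ideal.Quotient.eq_zero_iff_mem.mpr hε1
        rw [map_add, map_one] at this
        exact eq_neg_of_add_eq_zero_left this
      have e2 : π (lam (h i j)) = π (h i j) := by
        have := Ideal.Quotient.eq_zero_iff_mem.mpr (hid (h i j))
        rw [map_sub] at this
        exact sub_eq_zero.mp this
      rw [map_mul, e1, e2]; ring
    have hdet := det_eq_zero_of_alt h3 M hd hs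
    have hMu : IsUnit M := hh.map π.mapMatrix
    rw [Matrix.isUnit_iff_isUnit_det, hdet, isUnit_zero_iff] at hMu
    have h1 : (1 : A) ∈ J := by
      rw [← Ideal.Quotient.eq_zero_iff_mem, map_one]
      exact hMu.symm
    exact one_not_mem_jacobson h1

end Groth.Agent.Lib.helper1.HM
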