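import Groth.Agent.Lib.helper1.HM6

/-!
# Symplectic normal form modulo the Jacobson radical
-/

open Matrix

set_option linter.unusedSectionVars false
set_option linter.unusedSimpArgs false

namespace Groth.Agent.Lib.helper1.HM

universe u v

variable {B : Type u} {A : Type v} [CommRing B] [CommRing A] [Algebra B A] (lam : A ≃+* A)

section schur2

variable {lam} (hlam : Function.Involutive lam) {ε : A} (hε : ε = 1 ∨ ε = -1)
include hlam hε

lemma schur2 {τ κ : Type*} [Fintype τ] [DecidableEq τ] [Fintype κ] [DecidableEq κ]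
    {a : Matrix τ τ A} {b : Matrix τ κ A} {c : Matrix κ τ A}
    {d : Matrix κ κ A} (hh : Herm lam ε (Matrix.fromBlocks a b c d)) (ainv : Matrix τ τ A)
    (hu : a * ainv = 1) :
    ∃ E : Matrix (τ ⊕ κ) (τ ⊕ κ) A, IsUnit E ∧ ∃ Y : Matrix κ κ A,
      cg lam E (Matrix.fromBlocks a b c d) = Matrix.fromBlocks a 0 0 Y := by
  set E := Matrix.fromBlocks (1 : Matrix τ τ A) (-(ainv * b)) 0 (1 : Matrix κ κ A) with hEdef
  have hE : IsUnit E := IsUnit.of_mul_eq_one (Matrix.fromBlocks 1 (ainv * b) 0 1) (by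
    rw [hEdef, fromBlocks_multiply]; simp [fromBlocks_one])
  have hg : Herm lam ε (cg lam E (Matrix.fromBlocks a b c d)) := hh.cg hlam hε E
  set m := ct lam (-(ainv * b)) with hm
  set X := m * a + c with hX
  have hcomp : cg lam E (Matrix.fromBlocks a b c d) =
      Matrix.fromBlocks a 0 X (X * (-(ainv * b)) + (m * b + d)) := by
    unfold cg
    rw [hEdef, ct_fromBlocks, fromBlocks_multiply, fromBlocks_multiply]
    simp only [ct_one, ct_zero, Matrix.one_mul, Matrix.zero_mul, Matrix.mul_one, Matrix.mul_zero,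
      add_zero, zero_add]
    congr 1
    rw [Matrix.mul_neg, ← Matrix.mul_assoc, hu, Matrix.one_mul, neg_add_cancel]
  have hX0 : X = 0 := by
    rw [hcomp] at hg
    unfold Herm at hg
    rw [ct_fromBlocks, fromBlocks_smul, fromBlocks_inj] at hg
    rw [← hg.2.2.1, ct_zero, smul_zero]
  refine ⟨E, hE, m * b + d, ?_⟩
  rw [hcomp, hX0, Matrix.zero_mul, zero_add]

end schur2

lemma isUnit_of_fromBlocks' {τ κ : Type*} [Fintype τ] [DecidableEq τ] [Fintype κ]
    [DecidableEq κ] {a : Matrix τ τ A}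
    {Y : Matrix κ κ A} (h : IsUnit (Matrix.fromBlocks a 0 0 Y)) : IsUnit Y := by
  rw [Matrix.isUnit_iff_isUnit_det, Matrix.det_fromBlocks_zero₂₁] at h
  rw [Matrix.isUnit_iff_isUnit_det]
  exact isUnit_of_mul_isUnit_right h

lemma herm_of_fromBlocks' {τ κ : Type*} {ε : A} {a : Matrix τ τ A} {b : Matrix τ κ A}
    {c : Matrix κ τ A} {Y : Matrix κ κ A} (h : Herm lam ε (Matrix.fromBlocks a b c Y)) :
    Herm lam ε Y := by
  unfold Herm at h ⊢
  rw [ct_fromBlocks, fromBlocks_smul, fromBlocks_inj] at h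
  exact h.2.2.2

/-- symplectic normal form modulo the radical, relative to a pairing of the indices -/
def SympForm {ι : Type*} (m : ℕ) (e : ι ≃ Fin m × Fin 2) (G : Matrix ι ι A) : Prop :=
  ∀ i j, ((e i).1 ≠ (e j).1 → G i j = 0) ∧
    ((e i).1 = (e j).1 → (e i).2 = (e j).2 → G i j ∈ Ring.jacobson A) ∧
    ((e i).1 = (e j).1 → (e i).2 = 0 → (e j).2 = 1 → G i j - 1 ∈ Ring.jacobson A) ∧
    ((e i).1 = (e j).1 → (e i).2 = 1 → (e j).2 = 0 → G i j + 1 ∈ Ring.jacobson A)

def Symp {ι : Type*} [Fintype ι] [DecidableEq ι] (h : Matrix ι ι A) : Prop :=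
  ∃ (m : ℕ) (e : ι ≃ Fin m × Fin 2) (v : Matrix ι ι A), IsUnit v ∧ SympForm m e (cg lam v h)

lemma Symp.of_cg {n : Type*} [Fintype n] [DecidableEq n] {w h : Matrix n n A} (hw : IsUnit w)
    (hd : Symp lam (cg lam w h)) : Symp lam h := by
  obtain ⟨m, e, v, hv, hvd⟩ := hd
  exact ⟨m, e, w * v, hw.mul hv, by rwa [← cg_mul]⟩

lemma Symp.of_submatrix {n k : Type*} [Fintype n] [DecidableEq n] [Fintype k] [DecidableEq k]
    (e' : n ≃ k) {h : Matrix n n A} (hd : Symp lam (h.submatrix e'.symm e'.symm)) :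
    Symp lam h := by
  obtain ⟨m, e, v, hv, hvd⟩ := hd
  refine ⟨m, e'.trans e, v.submatrix e' e', ?_, ?_⟩
  · obtain ⟨w, hw⟩ := hv.exists_right_inv
    refine IsUnit.of_mul_eq_one (w.submatrix e' e') ?_
    rw [Matrix.submatrix_mul_equiv, hw, Matrix.submatrix_one_equiv]
  · have hcg : cg lam (v.submatrix e' e') h =
        (cg lam v (h.submatrix e'.symm e'.symm)).submatrix e' e' := by
      simp only [cg, ← Matrix.submatrix_mul_equiv _ _ e' e' e', ct_submatrix,
        Matrix.submatrix_submatrix, Equiv.symm_comp_self, Matrix.submatrix_id_id]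
    rw [hcg]
    intro i j
    exact hvd (e' i) (e' j)

/-- add a new pair of indices in front -/
def consEquiv {κ : Type*} {m : ℕ} (e : κ ≃ Fin m × Fin 2) : Fin 2 ⊕ κ ≃ Fin (m + 1) × Fin 2 where
  toFun := Sum.elim (fun t => (0, t)) (fun k => ((e k).1.succ, (e k).2))
  invFun p := Fin.cases (motive := fun _ => Fin 2 ⊕ κ) (Sum.inl p.2)
    (fun q => Sum.inr (e.symm (q, p.2))) p.1
  left_inv x := by
    rcases x with t | k
    · simp
    · simp
  right_inv p := by
    obtain ⟨q, t⟩ := p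
    refine Fin.cases ?_ (fun q' => ?_) q
    · simp
    · simp

lemma Symp.fromBlocks {κ : Type*} [Fintype κ] [DecidableEq κ] {a : Matrix (Fin 2) (Fin 2) A}
    {Y : Matrix κ κ A} (h00 : a 0 0 ∈ Ring.jacobson A) (h11 : a 1 1 ∈ Ring.jacobson A)
    (h01 : a 0 1 - 1 ∈ Ring.jacobson A) (h10 : a 1 0 + 1 ∈ Ring.jacobson A)
    (hY : Symp lam Y) : Symp lam (Matrix.fromBlocks a 0 0 Y) := by
  obtain ⟨m, e, v, hv, hvd⟩ := hY
  refine ⟨m + 1, consEquiv e, Matrix.fromBlocks 1 0 0 v, ?_, ?_⟩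
  · obtain ⟨w, hw⟩ := hv.exists_right_inv
    refine IsUnit.of_mul_eq_one (Matrix.fromBlocks 1 0 0 w) ?_
    rw [fromBlocks_multiply]; simp [hw, fromBlocks_one]
  · have hcg : cg lam (Matrix.fromBlocks 1 0 0 v) (Matrix.fromBlocks a 0 0 Y) =
        Matrix.fromBlocks a 0 0 (cg lam v Y) := by
      unfold cg
      rw [ct_fromBlocks, fromBlocks_multiply, fromBlocks_multiply]
      simp only [ct_one, ct_zero, Matrix.one_mul, Matrix.zero_mul, Matrix.mul_one, Matrix.mul_zero,
        add_zero, zero_add]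
    rw [hcg]
    intro i j
    rcases i with t | k <;> rcases j with t' | k'
    · simp only [consEquiv, Equiv.coe_fn_mk, Sum.elim_inl, fromBlocks_apply₁₁, ne_eq,
        not_true_eq_false, false_implies, true_and, forall_const]
      fin_cases t <;> fin_cases t' <;> simp [h00, h11, h01, h10]
    · simp [consEquiv, Fin.succ_ne_zero, (Fin.succ_ne_zero _).symm]
    · simp [consEquiv, Fin.succ_ne_zero, (Fin.succ_ne_zero _).symm]
    · have := hvd k k'
      simpa [consEquiv] using this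

end Groth.Agent.Lib.helper1.HM
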