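import Groth.Agent.Lib.helper1.HM7

/-!
# Symplectic normal form: the induction
-/

open Matrix

set_option linter.unusedSectionVars false
set_option linter.unusedSimpArgs false

namespace Groth.Agent.Lib.helper1.HM

universe u v

variable {B : Type u} {A : Type v} [CommRing B] [CommRing A] [Algebra B A] (lam : A ≃+* A)

/-- split off two indices -/
def splitEquiv2 {ι : Type*} [DecidableEq ι] (i₀ j₀ : ι) (hij : i₀ ≠ j₀) :
    ι ≃ Fin 2 ⊕ {k : ι // k ≠ i₀ ∧ k ≠ j₀} where
  toFun k := if h : k = i₀ then Sum.inl 0 else if h' : k = j₀ then Sum.inl 1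
    else Sum.inr ⟨k, h, h'⟩
  invFun := Sum.elim ![i₀, j₀] Subtype.val
  left_inv k := by
    by_cases h : k = i₀
    · simp [h]
    · by_cases h' : k = j₀
      · simp [h', hij.symm]
      · simp [h, h']
  right_inv x := by
    rcases x with t | ⟨k, hk1, hk2⟩
    · fin_cases t
      · simp
      · simp [hij.symm]
    · simp [hk1, hk2]

lemma ct_diagonal {n : Type*} [DecidableEq n] (t : n → A) :
    ct lam (Matrix.diagonal t) = Matrix.diagonal (fun i => lam (t i)) := by
  ext i j
  simp only [ct_apply, Matrix.diagonal_apply]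
  split_ifs with h1 h2 h2
  · rw [h1]
  · exact absurd h1.symm h2
  · exact absurd h2.symm h1
  · exact map_zero _

lemma cg_diagonal_apply {n : Type*} [Fintype n] [DecidableEq n] (t : n → A) (a : Matrix n n A)
    (i j : n) : cg lam (Matrix.diagonal t) a i j = lam (t i) * a i j * t j := by
  unfold cg
  rw [ct_diagonal, Matrix.mul_diagonal, Matrix.diagonal_mul]

section main

variable {lam} (hlam : Function.Involutive lam) (hB : RInv.IsFixedRing B A lam) [IsLocalRing B]
include hlam hB

theorem symp_main (hid : ∀ a : A, lam a - a ∈ Ring.jacobson A) (h2 : IsUnit (2 : A)) :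
    ∀ (N : ℕ) (ι : Type) [Fintype ι] [DecidableEq ι], Fintype.card ι = N →
    ∀ h : Matrix ι ι A, IsUnit h → Herm lam (-1) h → Symp lam h := by
  have hnt : Nontrivial A := hB.1.nontrivial
  have hε : (-1 : A) = 1 ∨ (-1 : A) = -1 := Or.inr rfl
  intro N
  induction N using Nat.strong_induction_on with
  | _ N ih =>
    intro ι _ _ hcard h hh herm
    by_cases hN : N = 0
    · have : IsEmpty ι := Fintype.card_eq_zero_iff.mp (hcard.trans hN)
      exact ⟨0, Equiv.equivOfIsEmpty _ _, 1, isUnit_one, fun i => isEmptyElim i⟩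
    have hne : Nonempty ι := Fintype.card_pos_iff.mp (by omega)
    obtain ⟨i₀⟩ := hne
    have hdiag : ∀ i, h i i ∈ Ring.jacobson A := by
      intro i
      have h1 := herm.apply i i
      have h3 : (2 : A) * h i i = -(lam (h i i) - h i i) := by
        have : h i i + lam (h i i) = 0 := by linear_combination h1
        linear_combination this
      have h4 : (2 : A) * h i i ∈ Ring.jacobson A := by
        rw [h3]; exact Ideal.neg_mem_iff _ |>.mpr (hid _)
      obtain ⟨t, ht⟩ := h2.exists_left_inv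
      have : h i i = t * ((2 : A) * h i i) := by rw [← mul_assoc, ht, one_mul]
      rw [this]; exact Ideal.mul_mem_left _ _ h4
    obtain ⟨j₀, hj₀⟩ := exists_isUnit_entry hlam hB hε hid hh i₀
    have hij : i₀ ≠ j₀ := by
      intro h'
      rw [← h'] at hj₀
      exact not_mem_jacobson_of_isUnit hj₀ (hdiag i₀)
    set e := splitEquiv2 i₀ j₀ hij with he
    refine Symp.of_submatrix lam e ?_
    set h₂ := h.submatrix e.symm e.symm with hh₂
    have herm₂ : Herm lam (-1) h₂ := herm.submatrix _
    have hunit₂ : IsUnit h₂ := isUnit_submatrix_equiv e.symm hh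
    have hblocks := Matrix.fromBlocks_toBlocks h₂
    set a := h₂.toBlocks₁₁ with ha
    set b := h₂.toBlocks₁₂ with hb
    set c := h₂.toBlocks₂₁ with hc
    set d := h₂.toBlocks₂₂ with hd
    have ha00 : a 0 0 = h i₀ i₀ := rfl
    have ha01 : a 0 1 = h i₀ j₀ := rfl
    have ha10 : a 1 0 = h j₀ i₀ := rfl
    have ha11 : a 1 1 = h j₀ j₀ := rfl
    have ha10' : a 1 0 = -lam (a 0 1) := by
      rw [ha10, ha01, herm.apply j₀ i₀]; ring
    rw [← hblocks] at herm₂ hunit₂ ⊢
    have hdet : IsUnit a.det := by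
      rw [Matrix.det_fin_two, ha10']
      have : a 0 0 * a 1 1 - a 0 1 * -lam (a 0 1) = a 0 1 * lam (a 0 1) + a 0 0 * a 1 1 := by ring
      rw [this]
      refine isUnit_add_of_mem_jacobson ?_ (Ideal.mul_mem_right _ _ (ha00 ▸ hdiag i₀))
      rw [ha01]
      exact hj₀.mul (hj₀.map lam)
    have hainv : a * a⁻¹ = 1 := Matrix.mul_nonsing_inv a hdet
    obtain ⟨E, hE, Y, hEY⟩ := schur2 hlam hε herm₂ a⁻¹ hainv
    have hgherm : Herm lam (-1) (Matrix.fromBlocks a 0 0 Y) := by
      rw [← hEY]; exact herm₂.cg hlam hε E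
    have hgunit : IsUnit (Matrix.fromBlocks a 0 0 Y) := by
      rw [← hEY]; exact isUnit_cg lam hE hunit₂
    have hYherm : Herm lam (-1) Y := herm_of_fromBlocks' lam hgherm
    have hYunit : IsUnit Y := isUnit_of_fromBlocks' hgunit
    refine Symp.of_cg lam hE ?_
    rw [hEY]
    have hcard' : Fintype.card {k : ι // k ≠ i₀ ∧ k ≠ j₀} + 2 = N := by
      have := Fintype.card_congr e
      rw [Fintype.card_sum, Fintype.card_fin, hcard] at this
      omega
    have hYS : Symp lam Y := ih _ (by omega) _ rfl Y hYunit hYherm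
    -- normalise the 2×2 block
    obtain ⟨w, hw⟩ := hj₀.exists_right_inv
    set s : Matrix (Fin 2) (Fin 2) A := Matrix.diagonal ![1, w] with hs
    set S := Matrix.fromBlocks s 0 0 (1 : Matrix {k : ι // k ≠ i₀ ∧ k ≠ j₀} {k : ι // k ≠ i₀ ∧ k ≠ j₀} A) with hS
    have hsunit : IsUnit S := by
      refine IsUnit.of_mul_eq_one (Matrix.fromBlocks (Matrix.diagonal ![1, h i₀ j₀]) 0 0 1) ?_
      rw [hS, fromBlocks_multiply]
      simp only [Matrix.mul_zero, add_zero, Matrix.zero_mul, Matrix.mul_one, zero_add, hs,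
        Matrix.diagonal_mul_diagonal]
      rw [← fromBlocks_one]
      congr 1
      rw [← Matrix.diagonal_one]
      congr 1
      funext t
      fin_cases t
      · simp
      · simp; rw [mul_comm]; exact hw
    refine Symp.of_cg lam hsunit ?_
    have hcg : cg lam S (Matrix.fromBlocks a 0 0 Y) = Matrix.fromBlocks (cg lam s a) 0 0 Y := by
      unfold cg
      rw [hS, ct_fromBlocks, fromBlocks_multiply, fromBlocks_multiply]
      simp only [ct_one, ct_zero, Matrix.one_mul, Matrix.zero_mul, Matrix.mul_one, Matrix.mul_zero,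
        add_zero, zero_add]
    rw [hcg]
    refine Symp.fromBlocks lam ?_ ?_ ?_ ?_ hYS
    · rw [hs, cg_diagonal_apply]
      simp only [Matrix.cons_val_zero, map_one, one_mul, mul_one]
      exact ha00 ▸ hdiag i₀
    · rw [hs, cg_diagonal_apply]
      simp only [Matrix.cons_val_one, Matrix.cons_val_zero]
      exact Ideal.mul_mem_right _ _ (Ideal.mul_mem_left _ _ (ha11 ▸ hdiag j₀))
    · rw [hs, cg_diagonal_apply]
      simp only [Matrix.cons_val_zero, Matrix.cons_val_one, map_one, one_mul]
      rw [ha01, hw, sub_self]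
      exact Submodule.zero_mem _
    · rw [hs, cg_diagonal_apply]
      simp only [Matrix.cons_val_zero, Matrix.cons_val_one, mul_one]
      rw [ha10', ha01]
      have : lam w * -lam (h i₀ j₀) + 1 = 0 := by
        rw [mul_neg, ← map_mul, mul_comm, hw, map_one]; ring
      rw [this]
      exact Submodule.zero_mem _

end main


theorem symp_result {B : Type u} {A : Type v} [CommRing B] [CommRing A] [Algebra B A]
    (lam : A ≃+* A) (hlam : Function.Involutive lam) (hB : RInv.IsFixedRing B A lam)
    [IsLocalRing B] (n : ℕ) (hid : ∀ a : A, lam a - a ∈ Ring.jacobson A) (h2 : IsUnit (2 : A))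
    (h : Matrix (Fin n) (Fin n) A) (hh : IsUnit h) (herm : -(h.map lam).transpose = h) :
    Even n ∧ ∃ v : Matrix (Fin n) (Fin n) A, IsUnit v ∧
      ∀ i j : Fin n,
        (i.val / 2 ≠ j.val / 2 → ((v.map lam).transpose * h * v) i j = 0) ∧
        (i.val / 2 = j.val / 2 → (Even i.val ↔ Even j.val) →
          ((v.map lam).transpose * h * v) i j ∈ Ring.jacobson A) ∧
        (i.val / 2 = j.val / 2 → Even i.val → ¬ Even j.val →
          ((v.map lam).transpose * h * v) i j - 1 ∈ Ring.jacobson A) ∧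
        (i.val / 2 = j.val / 2 → ¬ Even i.val → Even j.val →
          ((v.map lam).transpose * h * v) i j + 1 ∈ Ring.jacobson A) := by
  have herm' : Herm lam (-1) h := by
    unfold Herm ct
    rw [neg_one_smul]; exact herm
  obtain ⟨m, e, v, hv, hS⟩ := symp_main hlam hB hid h2 n (Fin n) (Fintype.card_fin n) h hh herm'
  have hn : n = m * 2 := by
    have := Fintype.card_congr e
    simpa using this
  refine ⟨⟨m, by omega⟩, ?_⟩
  let ρ : Fin n ≃ Fin m × Fin 2 := (finCongr hn).trans finProdFinEquiv.symm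
  have hρ1 : ∀ i : Fin n, ((ρ i).1 : ℕ) = i.val / 2 := by
    intro i
    simp [ρ, finProdFinEquiv, Fin.divNat]
  have hρ2 : ∀ i : Fin n, ((ρ i).2 : ℕ) = i.val % 2 := by
    intro i
    simp [ρ, finProdFinEquiv, Fin.modNat]
  let σ : Fin n ≃ Fin n := ρ.trans e.symm
  have hσ : ∀ i, e (σ i) = ρ i := fun i => by simp [σ]
  obtain ⟨w, hw⟩ := hv.exists_right_inv
  refine ⟨v.submatrix id σ, ?_, ?_⟩
  · refine IsUnit.of_mul_eq_one (w.submatrix σ id) ?_
    rw [Matrix.submatrix_mul_equiv, hw, Matrix.submatrix_one id Function.injective_id]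
  · have hcg : ((v.submatrix id σ).map lam).transpose * h * (v.submatrix id σ) =
        (cg lam v h).submatrix σ σ := by
      ext i j
      simp [cg, ct, Matrix.mul_apply]
    rw [hcg]
    intro i j
    have key := hS (σ i) (σ j)
    rw [hσ, hσ] at key
    simp only [Matrix.submatrix_apply]
    have e1 : (ρ i).1 = (ρ j).1 ↔ i.val / 2 = j.val / 2 := by
      rw [Fin.ext_iff, hρ1, hρ1]
    have e2 : ∀ t : Fin n, (ρ t).2 = 0 ↔ Even t.val := by
      intro t
      rw [Fin.ext_iff, hρ2, Nat.even_iff]; rfl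
    have e3 : ∀ t : Fin n, (ρ t).2 = 1 ↔ ¬ Even t.val := by
      intro t
      rw [Fin.ext_iff, hρ2, Nat.even_iff]
      simp
    refine ⟨fun hne => key.1 (fun h' => hne (e1.mp h')), fun heq hpar => ?_, fun heq hi hj => ?_,
      fun heq hi hj => ?_⟩
    · refine key.2.1 (e1.mpr heq) ?_
      rw [Fin.ext_iff, hρ2, hρ2]
      rw [Nat.even_iff, Nat.even_iff] at hpar
      omega
    · exact key.2.2.1 (e1.mpr heq) ((e2 i).mpr hi) ((e3 j).mpr hj)
    · exact key.2.2.2 (e1.mpr heq) ((e3 i).mpr hi) ((e2 j).mpr hj)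

end Groth.Agent.Lib.helper1.HM
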