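import Mathlib
import Groth.Prelude.Def_QuadGrp

/-!
# The universal half-discriminant (helper library of seat helper1)

For odd `n`, every coefficient of the universal discriminant is even:
`2 * halfDiscUniv n = discUniv n`.
-/

set_option autoImplicit false
set_option linter.unusedSectionVars false
set_option linter.dupNamespace false
universe u v w w'

namespace Groth.Agent.Lib.helper1.HalfDisc

open Matrix MvPolynomial

section chartwo

/-- Over a commutative ring with `2 = 0`, a symmetric matrix of odd size with zero diagonal has zero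
determinant. -/
theorem det_eq_zero_of_symm_zero_diag {S : Type u} [CommRing S] (h2 : (2 : S) = 0) {n : ℕ}
    (hn : Odd n) (P : Matrix (Fin n) (Fin n) S) (hsymm : ∀ i j, P i j = P j i)
    (hdiag : ∀ i, P i i = 0) : P.det = 0 := by
  classical
  rw [Matrix.det_apply]
  have hneg : ∀ x : S, -x = x := by
    intro x
    have : x + x = 0 := by rw [← two_mul, h2, zero_mul]
    exact neg_eq_of_add_eq_zero_left this
  have hterm : ∀ σ : Equiv.Perm (Fin n), Equiv.Perm.sign σ • ∏ i, P (σ i) i = ∏ i, P (σ i) i := by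
    intro σ
    rcases Int.units_eq_one_or (Equiv.Perm.sign σ) with h | h
    · rw [h, one_smul]
    · rw [h, Units.neg_smul, one_smul, hneg]
  simp_rw [hterm]
  refine Finset.sum_involution (fun σ _ => σ⁻¹) ?_ ?_ (fun _ _ => Finset.mem_univ _)
    (fun σ _ => inv_inv σ)
  · intro σ _
    have : ∏ i, P (σ⁻¹ i) i = ∏ i, P (σ i) i := by
      rw [← Equiv.prod_comp σ (fun i => P (σ⁻¹ i) i)]
      refine Finset.prod_congr rfl fun i _ => ?_
      have h1 : σ⁻¹ (σ i) = i := by simp
      rw [h1, hsymm]
    rw [this, ← two_mul, h2, zero_mul]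
  · intro σ _ hne hinv
    apply hne
    have hσ : σ ^ 2 ^ 1 = 1 := by
      rw [pow_one, sq]
      conv_lhs => enter [1]; rw [← hinv]
      exact inv_mul_cancel σ
    haveI : Fact (Nat.Prime 2) := ⟨Nat.prime_two⟩
    obtain ⟨a, ha⟩ := Equiv.Perm.exists_fixed_point_of_prime (p := 2) (n := 1)
      (by rw [Fintype.card_fin]; exact fun h => (Nat.not_even_iff_odd.2 hn) (even_iff_two_dvd.2 h)) hσ
    refine Finset.prod_eq_zero (Finset.mem_univ a) ?_
    rw [ha, hdiag]

end chartwo

section universal

open QuadGrp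

theorem even_coeff_discUniv (m : ℕ) (s : Sym2 (Fin (2 * m + 1)) →₀ ℕ) :
    (2 : ℤ) ∣ coeff s (discUniv (2 * m + 1)) := by
  classical
  have h0 : MvPolynomial.map (Int.castRingHom (ZMod 2)) (discUniv (2 * m + 1)) = 0 := by
    unfold discUniv
    rw [RingHom.map_det]
    have h2 : (2 : MvPolynomial (Sym2 (Fin (2 * m + 1))) (ZMod 2)) = 0 := by
      have h : (2 : ZMod 2) = 0 := by decide
      calc (2 : MvPolynomial (Sym2 (Fin (2 * m + 1))) (ZMod 2)) = C (2 : ZMod 2) :=
            (map_ofNat C 2).symm
        _ = 0 := by rw [h, map_zero]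
    apply det_eq_zero_of_symm_zero_diag h2 ⟨m, rfl⟩
    · intro i j
      simp only [RingHom.mapMatrix_apply, Matrix.map_apply, univPolarMat, Matrix.of_apply]
      by_cases h : i = j
      · subst h; rfl
      · rw [if_neg h, if_neg (Ne.symm h), Sym2.eq_swap]
    · intro i
      simp only [RingHom.mapMatrix_apply, Matrix.map_apply, univPolarMat, Matrix.of_apply, if_true,
        map_mul]
      have : (MvPolynomial.map (Int.castRingHom (ZMod 2))) (2 : MvPolynomial (Sym2 (Fin (2 * m + 1))) ℤ)
          = 0 := by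
        rw [map_ofNat, h2]
      rw [this, zero_mul]
  have h1 := congrArg (coeff s) h0
  rw [coeff_map, coeff_zero] at h1
  exact (ZMod.intCast_zmod_eq_zero_iff_dvd _ 2).1 h1

theorem two_mul_halfDiscUniv (m : ℕ) :
    2 * halfDiscUniv (2 * m + 1) = discUniv (2 * m + 1) := by
  ext s
  rw [show (2 : MvPolynomial (Sym2 (Fin (2 * m + 1))) ℤ) = C (2 : ℤ) from (map_ofNat C 2).symm,
    coeff_C_mul, coeff_halfDiscUniv]
  exact Int.mul_ediv_cancel' (even_coeff_discUniv m s)

end universal

end Groth.Agent.Lib.helper1.HalfDisc
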