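import Mathlib
import Groth.Agent.Lib.helper1.HalfDisc1

/-!
# Transformation of the half-discriminant: matrix level (helper library of seat helper1)
-/

set_option autoImplicit false
set_option linter.unusedSectionVars false
set_option linter.dupNamespace false
universe u v w w'

namespace Groth.Agent.Lib.helper1.HalfDisc

open Matrix MvPolynomial QuadGrp

section defs

variable {S : Type u} [CommRing S] {S' : Type v} [CommRing S'] {n : ℕ}

/-- The polar matrix attached to a coefficient family. -/
def polarMat (c : Sym2 (Fin n) → S) : Matrix (Fin n) (Fin n) S :=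
  Matrix.of fun i j => if i = j then 2 * c (Sym2.mk i j) else c (Sym2.mk i j)

/-- The upper triangular matrix attached to a coefficient family. -/
def upperMat (c : Sym2 (Fin n) → S) : Matrix (Fin n) (Fin n) S :=
  Matrix.of fun i j => if i = j then c (Sym2.mk i j) else if i < j then c (Sym2.mk i j) else 0

/-- The coefficient family of the quadratic form `x ↦ xᵀ W x`. -/
def symCoeffs (W : Matrix (Fin n) (Fin n) S) : Sym2 (Fin n) → S :=
  Sym2.lift ⟨fun i j => if i = j then W i i else W i j + W j i, fun i j => by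
    by_cases h : i = j
    · subst h; rfl
    · simp only [if_neg h, if_neg (Ne.symm h)]; rw [add_comm]⟩

theorem symCoeffs_mk (W : Matrix (Fin n) (Fin n) S) (i j : Fin n) :
    symCoeffs W (Sym2.mk i j) = if i = j then W i i else W i j + W j i := rfl

theorem polarMat_eq (c : Sym2 (Fin n) → S) : polarMat c = upperMat c + (upperMat c)ᵀ := by
  ext i j
  simp only [polarMat, upperMat, Matrix.of_apply, Matrix.add_apply, Matrix.transpose_apply]
  by_cases h : i = j
  · subst h; simp [two_mul]
  · rw [if_neg h, if_neg h, if_neg (Ne.symm h)]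
    rcases lt_or_gt_of_ne h with h1 | h1
    · rw [if_pos h1, if_neg (not_lt.2 h1.le), add_zero]
    · rw [if_neg (not_lt.2 h1.le), if_pos h1, zero_add, Sym2.eq_swap]

theorem polarMat_symCoeffs (W : Matrix (Fin n) (Fin n) S) : polarMat (symCoeffs W) = W + Wᵀ := by
  ext i j
  simp only [polarMat, symCoeffs_mk, Matrix.of_apply, Matrix.add_apply, Matrix.transpose_apply]
  by_cases h : i = j
  · subst h; simp [two_mul]
  · rw [if_neg h, if_neg h]

theorem eval₂_discUniv (c : Sym2 (Fin n) → S) :
    eval₂ (Int.castRingHom S) c (discUniv n) = (polarMat c).det := by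
  unfold discUniv
  have := RingHom.map_det (eval₂Hom (Int.castRingHom S) c) (univPolarMat n)
  rw [coe_eval₂Hom] at this
  rw [this]
  congr 1
  ext i j
  simp only [RingHom.mapMatrix_apply, Matrix.map_apply, univPolarMat, polarMat, Matrix.of_apply]
  by_cases h : i = j
  · rw [if_pos h, if_pos h]; simp
  · rw [if_neg h, if_neg h]; simp

theorem map_upperMat (φ : S →+* S') (c : Sym2 (Fin n) → S) :
    (upperMat c).map φ = upperMat (fun s => φ (c s)) := by
  ext i j
  simp only [upperMat, Matrix.map_apply, Matrix.of_apply]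
  split_ifs <;> simp

theorem map_symCoeffs (φ : S →+* S') (W : Matrix (Fin n) (Fin n) S) (s : Sym2 (Fin n)) :
    φ (symCoeffs W s) = symCoeffs (W.map φ) s := by
  induction s using Sym2.ind with
  | _ i j =>
    simp only [symCoeffs_mk, Matrix.map_apply]
    split_ifs <;> simp

end defs

section regular

variable {S : Type u} [CommRing S]

/-- The transformation formula when `2` is not a zero divisor. -/
theorem halfDisc_transform_of_regular (h2 : ∀ x y : S, 2 * x = 2 * y → x = y) (m : ℕ)
    (c : Sym2 (Fin (2 * m + 1)) → S) (G : Matrix (Fin (2 * m + 1)) (Fin (2 * m + 1)) S) :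
    eval₂ (Int.castRingHom S) (symCoeffs (Gᵀ * upperMat c * G)) (halfDiscUniv (2 * m + 1)) =
      G.det ^ 2 * eval₂ (Int.castRingHom S) c (halfDiscUniv (2 * m + 1)) := by
  apply h2
  have key : ∀ c' : Sym2 (Fin (2 * m + 1)) → S,
      2 * eval₂ (Int.castRingHom S) c' (halfDiscUniv (2 * m + 1)) = (polarMat c').det := by
    intro c'
    rw [← eval₂_discUniv, ← two_mul_halfDiscUniv, eval₂_mul]
    congr 1
    rw [show (2 : MvPolynomial (Sym2 (Fin (2 * m + 1))) ℤ) = C (2 : ℤ) from (map_ofNat C 2).symm,
      eval₂_C]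
    simp
  rw [key, mul_left_comm, key, polarMat_symCoeffs, polarMat_eq]
  have : Gᵀ * upperMat c * G + (Gᵀ * upperMat c * G)ᵀ = Gᵀ * (upperMat c + (upperMat c)ᵀ) * G := by
    rw [Matrix.transpose_mul, Matrix.transpose_mul, Matrix.transpose_transpose, Matrix.mul_add,
      Matrix.add_mul, Matrix.mul_assoc Gᵀ (upperMat c)ᵀ G]
  rw [this, Matrix.det_mul, Matrix.det_mul, Matrix.det_transpose]
  ring

end regular

section general

variable {R : Type u} [CommRing R]

/-- The transformation formula of the half-discriminant over any commutative ring. -/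
theorem halfDisc_transform (m : ℕ) (c : Sym2 (Fin (2 * m + 1)) → R)
    (G : Matrix (Fin (2 * m + 1)) (Fin (2 * m + 1)) R) :
    eval₂ (Int.castRingHom R) (symCoeffs (Gᵀ * upperMat c * G)) (halfDiscUniv (2 * m + 1)) =
      G.det ^ 2 * eval₂ (Int.castRingHom R) c (halfDiscUniv (2 * m + 1)) := by
  classical
  let n := 2 * m + 1
  let S := MvPolynomial (Sym2 (Fin n) ⊕ Fin n × Fin n) ℤ
  let A : Sym2 (Fin n) → S := fun s => X (Sum.inl s)
  let 𝔾 : Matrix (Fin n) (Fin n) S := Matrix.of fun k l => X (Sum.inr (k, l))
  let φ : S →+* R := eval₂Hom (Int.castRingHom R)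
    (Sum.elim c (fun kl : Fin n × Fin n => G kl.1 kl.2))
  have h2 : ∀ x y : S, 2 * x = 2 * y → x = y := by
    intro x y h
    exact mul_left_cancel₀ (two_ne_zero) h
  have huniv := halfDisc_transform_of_regular h2 m A 𝔾
  have hφA : ∀ s, φ (A s) = c s := by
    intro s; exact eval₂_X _ _ _
  have hφG : 𝔾.map φ = G := by
    ext k l; exact eval₂_X _ _ _
  have hcomp : φ.comp (Int.castRingHom S) = Int.castRingHom R := RingHom.ext_int _ _
  have h1 := congrArg φ huniv
  rw [eval₂_comp_left φ, hcomp, map_mul, map_pow, eval₂_comp_left φ, hcomp] at h1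
  have e1 : (φ ∘ symCoeffs (𝔾ᵀ * upperMat A * 𝔾)) = symCoeffs (Gᵀ * upperMat c * G) := by
    funext s
    rw [Function.comp_apply, map_symCoeffs]
    congr 1
    rw [Matrix.map_mul, Matrix.map_mul, Matrix.transpose_map, hφG, map_upperMat]
    congr 3
    funext s
    exact hφA s
  have e2 : (φ ∘ A) = c := funext hφA
  have e3 : φ 𝔾.det = G.det := by
    rw [RingHom.map_det, RingHom.mapMatrix_apply, hφG]
  rw [e1, e2, e3] at h1
  exact h1

end general

end Groth.Agent.Lib.helper1.HalfDisc
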