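import Mathlib
import Groth.Agent.Lib.helper1.HalfDisc2

/-!
# Transformation of the half-discriminant: module level (helper library of seat helper1)
-/

set_option autoImplicit false
set_option linter.unusedSectionVars false
set_option linter.dupNamespace false
universe u v w w'

namespace Groth.Agent.Lib.helper1.HalfDisc

open Matrix MvPolynomial QuadGrp

variable {R : Type u} [CommRing R] {M : Type v} [AddCommGroup M] [Module R M] {n : ℕ}

theorem upperMat_coeffs (b : Module.Basis (Fin n) R M) (Q : QuadraticForm R M) :
    upperMat (coeffs b (LinearEquiv.refl R R) Q) = LinearMap.BilinForm.toMatrix b (Q.toBilin b) := by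
  ext i j
  rw [LinearMap.BilinForm.toMatrix_apply, QuadraticMap.toBilin_apply]
  simp only [upperMat, Matrix.of_apply, coeffs_mk, LinearEquiv.refl_apply]
  split_ifs <;> rfl

theorem coeffs_comp (b : Module.Basis (Fin n) R M) (Q : QuadraticForm R M) (g : M →ₗ[R] M) :
    coeffs b (LinearEquiv.refl R R) (Q.comp g) =
      symCoeffs ((LinearMap.toMatrix b b g)ᵀ * upperMat (coeffs b (LinearEquiv.refl R R) Q) *
        LinearMap.toMatrix b b g) := by
  set T := Q.toBilin b with hTdef
  have hT : ∀ x, Q x = T x x := by
    intro x
    have := congrArg (fun q => q x) (QuadraticMap.toQuadraticMap_toBilin Q b)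
    simp only [LinearMap.BilinMap.toQuadraticMap_apply] at this
    exact this.symm
  have hW : (LinearMap.toMatrix b b g)ᵀ * upperMat (coeffs b (LinearEquiv.refl R R) Q) *
      LinearMap.toMatrix b b g = LinearMap.BilinForm.toMatrix b (LinearMap.BilinForm.comp T g g) := by
    rw [upperMat_coeffs, LinearMap.BilinForm.toMatrix_comp b b]
  rw [hW]
  funext s
  induction s using Sym2.ind with
  | _ i j =>
    rw [coeffs_mk, symCoeffs_mk]
    simp only [LinearMap.BilinForm.toMatrix_apply, LinearMap.BilinForm.comp_apply,
      LinearEquiv.refl_apply, QuadraticMap.comp_apply]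
    by_cases h : i = j
    · rw [if_pos h, if_pos h, hT]
    · rw [if_neg h, if_neg h]
      unfold QuadraticMap.polar
      simp only [QuadraticMap.comp_apply, map_add, hT, LinearMap.add_apply]
      ring

theorem halfDisc_comp (m : ℕ) (b : Module.Basis (Fin (2 * m + 1)) R M) (Q : QuadraticForm R M)
    (g : M →ₗ[R] M) :
    halfDisc b (LinearEquiv.refl R R) (Q.comp g) =
      LinearMap.det g ^ 2 * halfDisc b (LinearEquiv.refl R R) Q := by
  unfold halfDisc
  rw [coeffs_comp, halfDisc_transform, LinearMap.det_toMatrix]

end Groth.Agent.Lib.helper1.HalfDisc
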