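import Mathlib

set_option autoImplicit false

namespace Groth.Agent.Lib.helper1.Inr

open Polynomial

universe u v

variable {B : Type u} [CommRing B] {Γ : Type v} [Group Γ] [Finite Γ] [MulSemiringAction Γ B]
variable (P : Ideal B) [P.IsMaximal]

attribute [local instance] Ideal.Quotient.field

/-- For a subring `S` containing the invariants, `π(S)` is a field inside `B/P`. -/
theorem isField_map (S : Subring B) (hS : FixedPoints.subring B Γ ≤ S) :
    IsField ↥(S.map (Ideal.Quotient.mk P)) := by
  classical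
  haveI : Fintype Γ := Fintype.ofFinite Γ
  set π := Ideal.Quotient.mk P with hπ
  let A := FixedPoints.subring B Γ
  haveI : Algebra.IsInvariant A B Γ := ⟨fun b hb => ⟨⟨b, hb⟩, rfl⟩⟩
  have hint : Algebra.IsIntegral A B := Algebra.IsInvariant.isIntegral A B Γ
  let φ : A →+* ↥(S.map π) :=
    { toFun := fun a => ⟨π a, ⟨a, hS a.2, rfl⟩⟩
      map_one' := Subtype.ext (map_one π)
      map_mul' := fun a b => Subtype.ext (map_mul π (a : B) (b : B))
      map_zero' := Subtype.ext (map_zero π)
      map_add' := fun a b => Subtype.ext (map_add π (a : B) (b : B)) }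
  haveI : Algebra.IsIntegral ↥(S.map π) (B ⧸ P) := by
    constructor
    intro c
    obtain ⟨b, rfl⟩ := Ideal.Quotient.mk_surjective c
    obtain ⟨p, hp, hpb⟩ := hint.isIntegral b
    refine ⟨p.map φ, hp.map φ, ?_⟩
    rw [eval₂_map]
    have : (algebraMap ↥(S.map π) (B ⧸ P)).comp φ = π.comp (algebraMap A B) := by
      ext a; rfl
    rw [this, ← hom_eval₂, hpb, map_zero]
  exact isField_of_isIntegral_of_isField (R := ↥(S.map π)) (S := B ⧸ P)
    Subtype.val_injective (Field.toIsField _)

/-- Inverses modulo `P` can be found inside any subring containing the invariants. -/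
theorem exists_inv_mem (S : Subring B) (hS : FixedPoints.subring B Γ ≤ S) (s : B) (hs : s ∈ S)
    (hsP : s ∉ P) : ∃ s' ∈ S, s * s' - 1 ∈ P := by
  have hf := isField_map (Γ := Γ) P S hS
  set π := Ideal.Quotient.mk P with hπ
  have hne : (⟨π s, ⟨s, hs, rfl⟩⟩ : ↥(S.map π)) ≠ 0 := by
    intro h
    apply hsP
    have := congrArg Subtype.val h
    exact Ideal.Quotient.eq_zero_iff_mem.1 this
  obtain ⟨⟨c, s', hs', rfl⟩, hc⟩ := hf.mul_inv_cancel hne
  refine ⟨s', hs', ?_⟩
  have := congrArg Subtype.val hc
  rw [← Ideal.Quotient.eq_zero_iff_mem, map_sub, map_mul, map_one, sub_eq_zero]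
  exact this

end Groth.Agent.Lib.helper1.Inr
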