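import Mathlib
import Groth.Agent.Lib.helper1.IN1

set_option autoImplicit false

namespace Groth.Agent.Lib.helper1.Inr

open Polynomial

universe u v

variable {B : Type u} [CommRing B] {Γ : Type v} [Group Γ] [Finite Γ] [MulSemiringAction Γ B]
variable (P : Ideal B) [P.IsMaximal]

attribute [local instance] Ideal.Quotient.field

theorem mem_inertia_iff (γ : Γ) : γ ∈ P.inertia Γ ↔ ∀ b : B, γ • b - b ∈ P := Iff.rfl

variable (Γ) in
/-- The ring of inertia invariants. -/
def BT : Subring B where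
  carrier := {y | ∀ γ : Γ, γ ∈ P.inertia Γ → γ • y = y}
  mul_mem' := fun {a b} ha hb γ hγ => by rw [smul_mul', ha γ hγ, hb γ hγ]
  one_mem' := fun γ _ => smul_one γ
  add_mem' := fun {a b} ha hb γ hγ => by rw [smul_add, ha γ hγ, hb γ hγ]
  zero_mem' := fun γ _ => smul_zero γ
  neg_mem' := fun {a} ha γ hγ => by rw [smul_neg, ha γ hγ]

theorem mem_BT (y : B) : y ∈ BT Γ P ↔ ∀ γ : Γ, γ ∈ P.inertia Γ → γ • y = y := Iff.rfl

theorem fixed_le_BT : FixedPoints.subring B Γ ≤ BT Γ P := fun a ha γ _ => ha γ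

variable (Γ) in
/-- The decomposition group. -/
def DD : Subgroup Γ where
  carrier := {γ | ∀ b : B, γ • b ∈ P ↔ b ∈ P}
  mul_mem' := fun {a b} ha hb c => by rw [mul_smul, ha, hb]
  one_mem' := fun c => by rw [one_smul]
  inv_mem' := fun {a} ha c => by
    rw [← ha (a⁻¹ • c), smul_inv_smul]

theorem mem_DD (γ : Γ) : γ ∈ DD Γ P ↔ ∀ b : B, γ • b ∈ P ↔ b ∈ P := Iff.rfl

theorem inertia_le_DD : P.inertia Γ ≤ DD Γ P := by
  intro γ hγ b
  have h := (mem_inertia_iff P γ).1 hγ b
  constructor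
  · intro hb
    have := P.sub_mem hb h
    simpa using this
  · intro hb
    have := P.add_mem h hb
    simpa using this

theorem smul_mem_BT {σ : Γ} (hσ : σ ∈ DD Γ P) {y : B} (hy : y ∈ BT Γ P) : σ • y ∈ BT Γ P := by
  intro t ht
  have hconj : σ⁻¹ * t * σ ∈ P.inertia Γ := by
    rw [mem_inertia_iff]
    intro b
    have h1 := (mem_inertia_iff P t).1 ht (σ • b)
    have h2 : σ⁻¹ • (t • σ • b - σ • b) ∈ P := ((DD Γ P).inv_mem hσ _).2 h1
    rw [smul_sub, inv_smul_smul] at h2
    rw [mul_smul, mul_smul]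
    exact h2
  have := hy _ hconj
  rw [mul_smul, mul_smul] at this
  have h3 := congrArg (fun z => σ • z) this
  simp only [smul_inv_smul] at h3
  exact h3

/-- The automorphism of `B/P` induced by an element of the decomposition group. -/
noncomputable def bar (σ : DD Γ P) : B ⧸ P →+* B ⧸ P :=
  Ideal.Quotient.lift P ((Ideal.Quotient.mk P).comp (MulSemiringAction.toRingHom Γ B σ))
    (fun b hb => by
      rw [RingHom.comp_apply, Ideal.Quotient.eq_zero_iff_mem]
      exact (σ.2 b).2 hb)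

@[simp] theorem bar_mk (σ : DD Γ P) (b : B) :
    bar P σ (Ideal.Quotient.mk P b) = Ideal.Quotient.mk P ((σ : Γ) • b) := by
  unfold bar
  rw [Ideal.Quotient.lift_mk]
  rfl

theorem mk_smul_of_mem_inertia {t : Γ} (ht : t ∈ P.inertia Γ) (b : B) :
    Ideal.Quotient.mk P (t • b) = Ideal.Quotient.mk P b := by
  rw [← sub_eq_zero, ← map_sub, Ideal.Quotient.eq_zero_iff_mem]
  exact (mem_inertia_iff P t).1 ht b

variable (Γ) in
/-- The residue field of the inertia ring, as a subfield of `B/P`. -/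
noncomputable def KT : Subfield (B ⧸ P) where
  toSubring := (BT Γ P).map (Ideal.Quotient.mk P)
  inv_mem' := by
    rintro _ ⟨s, hs, rfl⟩
    by_cases h0 : Ideal.Quotient.mk P s = 0
    · rw [h0, inv_zero]; exact Subring.zero_mem _
    · have hsP : s ∉ P := fun h => h0 (Ideal.Quotient.eq_zero_iff_mem.2 h)
      obtain ⟨s', hs', hss'⟩ := exists_inv_mem (Γ := Γ) P (BT Γ P) (fixed_le_BT P) s hs hsP
      refine ⟨s', hs', ?_⟩
      rw [← Ideal.Quotient.eq_zero_iff_mem, map_sub, map_mul, map_one, sub_eq_zero] at hss'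
      exact (eq_inv_of_mul_eq_one_right hss')

theorem mem_KT (c : B ⧸ P) : c ∈ KT Γ P ↔ ∃ s ∈ BT Γ P, Ideal.Quotient.mk P s = c := Iff.rfl

end Groth.Agent.Lib.helper1.Inr
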