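import Mathlib
import Groth.Agent.Lib.helper1.IN2

set_option autoImplicit false

namespace Groth.Agent.Lib.helper1.Inr

open Polynomial

universe u v

variable {B : Type u} [CommRing B] {Γ : Type v} [Group Γ] [Finite Γ] [MulSemiringAction Γ B]
variable (P : Ideal B) [P.IsMaximal]

attribute [local instance] Ideal.Quotient.field

variable (Γ) in
/-- The inertia charpoly of `b`, seen over the residue field of the inertia ring: it becomes a
power of `X - b̄`. -/
theorem exists_hK (b : B) : ∃ (N : ℕ) (hK : (KT Γ P)[X]), 0 < N ∧ hK.Monic ∧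
    hK.map (KT Γ P).subtype = (X - C (Ideal.Quotient.mk P b)) ^ N := by
  classical
  haveI : Fintype Γ := Fintype.ofFinite Γ
  set T := P.inertia Γ with hT
  haveI : Fintype T := Fintype.ofFinite T
  set π := Ideal.Quotient.mk P with hπ
  set hB : B[X] := MulSemiringAction.charpoly T b with hhB
  have hcoef : (↑hB.coeffs : Set B) ⊆ ↑(BT Γ P) := by
    intro c hc
    obtain ⟨n, -, rfl⟩ := Polynomial.mem_coeffs_iff.1 hc
    intro γ hγ
    exact MulSemiringAction.smul_coeff_charpoly b n (⟨γ, hγ⟩ : T)
  let ψ : ↥(BT Γ P) →+* ↥(KT Γ P) :=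
    { toFun := fun s => ⟨π s, ⟨s, s.2, rfl⟩⟩
      map_one' := Subtype.ext (map_one π)
      map_mul' := fun a b => Subtype.ext (map_mul π (a : B) (b : B))
      map_zero' := Subtype.ext (map_zero π)
      map_add' := fun a b => Subtype.ext (map_add π (a : B) (b : B)) }
  have hcomp : (KT Γ P).subtype.comp ψ = π.comp (BT Γ P).subtype := by
    ext s; rfl
  refine ⟨Fintype.card T, (hB.toSubring (BT Γ P) hcoef).map ψ, Fintype.card_pos, ?_, ?_⟩
  · apply Polynomial.Monic.map
    rw [Polynomial.monic_toSubring]
    exact MulSemiringAction.monic_charpoly T b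
  · rw [Polynomial.map_map, hcomp, ← Polynomial.map_map, Polynomial.map_toSubring, hhB,
      MulSemiringAction.charpoly_eq, Polynomial.map_prod]
    have : ∀ t : T, ((X : B[X]) - C (t • b)).map π = X - C (π b) := by
      intro t
      rw [Polynomial.map_sub, Polynomial.map_X, Polynomial.map_C]
      congr 2
      exact mk_smul_of_mem_inertia P t.2 b
    simp only [this, Finset.prod_const, Finset.card_univ]

/-- A residue class which is separable over the residue field of the inertia ring lies in it. -/
theorem mem_KT_of_separable (x : B) (q : (KT Γ P)[X]) (hq : q.Separable)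
    (hroot : eval₂ (KT Γ P).subtype (Ideal.Quotient.mk P x) q = 0) :
    Ideal.Quotient.mk P x ∈ KT Γ P := by
  classical
  set π := Ideal.Quotient.mk P with hπ
  obtain ⟨N, hK, hN, hKmonic, hKmap⟩ := exists_hK Γ P x
  have halg : algebraMap (KT Γ P) (B ⧸ P) = (KT Γ P).subtype := rfl
  have hKroot : Polynomial.aeval (π x) hK = 0 := by
    rw [Polynomial.aeval_def, halg, ← Polynomial.eval_map, hKmap, Polynomial.eval_pow,
      Polynomial.eval_sub, Polynomial.eval_X, Polynomial.eval_C, sub_self, zero_pow (by omega)]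
  have hint : IsIntegral (KT Γ P) (π x) := ⟨hK, hKmonic, by rwa [Polynomial.aeval_def] at hKroot⟩
  set μ := minpoly (KT Γ P) (π x) with hμ
  have hμK : μ ∣ hK := minpoly.dvd _ _ hKroot
  have hμq : μ ∣ q := minpoly.dvd _ _ (by rw [Polynomial.aeval_def, halg]; exact hroot)
  have hμmonic : μ.Monic := minpoly.monic hint
  set μl := μ.map (KT Γ P).subtype with hμl
  have hμlmonic : μl.Monic := hμmonic.map _
  have h1 : μl ∣ (X - C (π x)) ^ N := by
    rw [← hKmap]; exact Polynomial.map_dvd _ hμK
  have hsep : μl.Separable := by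
    have : (q.map (KT Γ P).subtype).Separable := (Polynomial.separable_map _).2 hq
    exact this.of_dvd (Polynomial.map_dvd _ hμq)
  obtain ⟨i, -, hi⟩ := (dvd_prime_pow (Polynomial.prime_X_sub_C (π x)) N).1 h1
  have heq : μl = (X - C (π x)) ^ i :=
    Polynomial.eq_of_monic_of_associated hμlmonic ((Polynomial.monic_X_sub_C _).pow i) hi
  have hi1 : i = 1 := by
    rcases Nat.lt_or_ge i 1 with h | h
    · have hi0 : i = 0 := by omega
      rw [hi0, pow_zero] at heq
      have hdeg : μl.natDegree = 0 := by rw [heq]; simp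
      rw [hμl, Polynomial.natDegree_map] at hdeg
      have hpos : 0 < μ.natDegree := minpoly.natDegree_pos hint
      omega
    · rcases Nat.lt_or_ge 1 i with h2 | h2
      · exfalso
        have hsq := hsep.squarefree
        have hdvd : (X - C (π x)) * (X - C (π x)) ∣ μl := by
          rw [heq, ← pow_two]
          exact pow_dvd_pow _ h2
        have := hsq _ hdvd
        exact Polynomial.not_isUnit_X_sub_C _ this
      · omega
  have hdeg : μ.natDegree = 1 := by
    have : μl.natDegree = 1 := by rw [heq, hi1, pow_one]; simp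
    rwa [hμl, Polynomial.natDegree_map] at this
  have := minpoly.natDegree_eq_one_iff.1 hdeg
  obtain ⟨c, hc⟩ := this
  rw [← hc]
  exact c.2

/-- An element of the decomposition group acting trivially on the residue field of the inertia
ring lies in the inertia group. -/
theorem mem_inertia_of_fix (σ : Γ) (hσ : σ ∈ DD Γ P)
    (hfix : ∀ z ∈ BT Γ P, σ • z - z ∈ P) : σ ∈ P.inertia Γ := by
  classical
  rw [mem_inertia_iff]
  intro b
  set π := Ideal.Quotient.mk P with hπ
  obtain ⟨N, hK, hN, -, hKmap⟩ := exists_hK Γ P b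
  have hbarfix : (bar P ⟨σ, hσ⟩).comp (KT Γ P).subtype = (KT Γ P).subtype := by
    ext ⟨c, s, hs, rfl⟩
    show bar P ⟨σ, hσ⟩ (π s) = π s
    rw [bar_mk]
    have := hfix s hs
    rw [← Ideal.Quotient.eq_zero_iff_mem, map_sub, sub_eq_zero] at this
    exact this
  have h1 : ((X - C (π b)) ^ N).map (bar P ⟨σ, hσ⟩) = (X - C (π b)) ^ N := by
    rw [← hKmap, Polynomial.map_map, hbarfix]
  rw [Polynomial.map_pow, Polynomial.map_sub, Polynomial.map_X, Polynomial.map_C, bar_mk] at h1
  have h2 := congrArg (Polynomial.eval (π b)) h1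
  simp only [Polynomial.eval_pow, Polynomial.eval_sub, Polynomial.eval_X, Polynomial.eval_C,
    sub_self] at h2
  rw [zero_pow (by omega)] at h2
  have h3 := pow_eq_zero_iff (by omega : N ≠ 0) |>.1 h2
  rw [← Ideal.Quotient.eq_zero_iff_mem, map_sub, ← neg_eq_zero, neg_sub]
  exact h3

end Groth.Agent.Lib.helper1.Inr
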