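import Mathlib
import Groth.Agent.Lib.helper1.IN3

set_option autoImplicit false

namespace Groth.Agent.Lib.helper1.Inr

open Polynomial

universe u v

variable {B : Type u} [CommRing B] {Γ : Type v} [Group Γ] [Finite Γ] [MulSemiringAction Γ B]
variable (P : Ideal B) [P.IsMaximal]

attribute [local instance] Ideal.Quotient.field

theorem out_smul_eq {z : B} (hz : z ∈ BT Γ P) (γ : Γ) :
    (Quotient.out (γ : Γ ⧸ P.inertia Γ)) • z = γ • z := by
  obtain ⟨t, ht⟩ := QuotientGroup.mk_out_eq_mul (P.inertia Γ) γ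
  rw [ht, mul_smul, hz t t.2]

theorem csum_invariant [Fintype (Γ ⧸ P.inertia Γ)] {z : B} (hz : z ∈ BT Γ P) (δ : Γ) :
    δ • (∑ q : Γ ⧸ P.inertia Γ, (Quotient.out q) • z) =
      ∑ q : Γ ⧸ P.inertia Γ, (Quotient.out q) • z := by
  rw [Finset.smul_sum]
  have : ∀ q : Γ ⧸ P.inertia Γ, δ • (Quotient.out q) • z = (Quotient.out (δ • q)) • z := by
    intro q
    have hq : δ • q = ((δ * Quotient.out q : Γ) : Γ ⧸ P.inertia Γ) := by
      conv_lhs => rw [← QuotientGroup.out_eq' q]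
      rfl
    rw [hq, out_smul_eq P hz, mul_smul]
  simp only [this]
  exact Fintype.sum_equiv (MulAction.toPerm δ) _ _ (fun q => rfl)

/-- For `γ` outside the decomposition group there is an element of `γ⁻¹P` outside `P`. -/
theorem exists_sep_elt (γ : Γ) (hγ : γ ∉ DD Γ P) : ∃ u : B, γ • u ∈ P ∧ u ∉ P := by
  by_contra hcon
  push Not at hcon
  apply hγ
  set Q : Ideal B := P.comap (MulSemiringAction.toRingHom Γ B γ) with hQ
  have hQmax : Q.IsMaximal := by
    apply Ideal.comap_isMaximal_of_surjective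
    exact (MulSemiringAction.toRingEquiv Γ B γ).surjective
  have hle : Q ≤ P := fun u hu => hcon u hu
  have hQP : Q = P := hQmax.eq_of_le (Ideal.IsMaximal.ne_top inferInstance) hle
  intro b
  have : b ∈ Q ↔ γ • b ∈ P := Iff.rfl
  rw [← this, hQP]

/-- An inertia-invariant element which is `1` at `P` and `0` at the other conjugates of `P`. -/
theorem exists_e : ∃ e ∈ BT Γ P, (∀ σ ∈ DD Γ P, Ideal.Quotient.mk P (σ • e) = 1) ∧
    (∀ γ : Γ, γ ∉ DD Γ P → γ • e ∈ P) := by
  classical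
  haveI : Fintype Γ := Fintype.ofFinite Γ
  set T := P.inertia Γ with hT
  haveI : Fintype T := Fintype.ofFinite T
  set π := Ideal.Quotient.mk P with hπ
  -- choose separating elements
  have hu : ∀ γ : Γ, ∃ u : B, (γ ∉ DD Γ P → γ • u ∈ P) ∧ u ∉ P := by
    intro γ
    by_cases hγ : γ ∈ DD Γ P
    · exact ⟨1, fun h => (h hγ).elim, fun h => (Ideal.IsMaximal.ne_top inferInstance)
        ((Ideal.eq_top_iff_one P).2 h)⟩
    · obtain ⟨u, h1, h2⟩ := exists_sep_elt P γ hγ
      exact ⟨u, fun _ => h1, h2⟩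
  choose u hu1 hu2 using hu
  set v : B := ∏ γ : Γ, u γ with hv
  have hvP : v ∉ P := by
    rw [hv, Ideal.IsPrime.prod_mem_iff]
    rintro ⟨γ, -, h⟩
    exact hu2 γ h
  have hvγ : ∀ γ : Γ, γ ∉ DD Γ P → γ • v ∈ P := by
    intro γ hγ
    rw [hv, Finset.smul_prod']
    exact (Ideal.IsPrime.prod_mem_iff).2 ⟨γ, Finset.mem_univ _, hu1 γ hγ⟩
  obtain ⟨v', i, hi, hvi⟩ := Ideal.IsMaximal.exists_inv (inferInstance : P.IsMaximal) hvP
  set e₀ : B := v' * v with he₀
  have he₀1 : π e₀ = 1 := by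
    have : π (v' * v + i) = 1 := by rw [hvi, map_one]
    rw [map_add, Ideal.Quotient.eq_zero_iff_mem.2 hi, add_zero] at this
    exact this
  have he₀γ : ∀ γ : Γ, γ ∉ DD Γ P → γ • e₀ ∈ P := by
    intro γ hγ
    rw [he₀, smul_mul']
    exact P.mul_mem_left _ (hvγ γ hγ)
  set e : B := ∏ t : T, (t : Γ) • e₀ with he
  refine ⟨e, ?_, ?_, ?_⟩
  · intro t' ht'
    rw [he, Finset.smul_prod']
    simp only [smul_smul]
    exact Fintype.prod_equiv (Equiv.mulLeft (⟨t', ht'⟩ : T)) _ _ (fun t => rfl)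
  · have heP : π e = 1 := by
      rw [he, map_prod]
      apply Finset.prod_eq_one
      intro t _
      rw [mk_smul_of_mem_inertia P t.2, he₀1]
    intro σ hσ
    have := bar_mk P ⟨σ, hσ⟩ e
    rw [← this, heP, map_one]
  · intro γ hγ
    rw [he, Finset.smul_prod']
    apply (Ideal.IsPrime.prod_mem_iff).2
    refine ⟨1, Finset.mem_univ _, ?_⟩
    simp only [OneMemClass.coe_one, one_smul]
    exact he₀γ γ hγ

/-- The trace over the decomposition cosets of an inertia invariant has residue in the image of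
the invariants. -/
theorem exists_trace [Fintype (Γ ⧸ P.inertia Γ)] [DecidablePred fun q : Γ ⧸ P.inertia Γ =>
    Quotient.out q ∈ DD Γ P] {z : B} (hz : z ∈ BT Γ P) :
    ∃ a ∈ FixedPoints.subring B Γ, Ideal.Quotient.mk P a =
      ∑ q ∈ Finset.univ.filter (fun q : Γ ⧸ P.inertia Γ => Quotient.out q ∈ DD Γ P),
        Ideal.Quotient.mk P ((Quotient.out q) • z) := by
  obtain ⟨e, heT, he1, he0⟩ := exists_e (Γ := Γ) P
  have hze : z * e ∈ BT Γ P := (BT Γ P).mul_mem hz heT
  refine ⟨∑ q : Γ ⧸ P.inertia Γ, (Quotient.out q) • (z * e), fun δ => csum_invariant P hze δ, ?_⟩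
  rw [map_sum, Finset.sum_filter]
  apply Finset.sum_congr rfl
  intro q _
  rw [smul_mul', map_mul]
  split_ifs with h
  · rw [he1 _ h, mul_one]
  · rw [Ideal.Quotient.eq_zero_iff_mem.2 (he0 _ h), mul_zero]

end Groth.Agent.Lib.helper1.Inr
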