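import Mathlib
import Groth.Agent.Lib.helper1.IN4

set_option autoImplicit false

namespace Groth.Agent.Lib.helper1.Inr

open Polynomial

universe u v

variable {B : Type u} [CommRing B] {Γ : Type v} [Group Γ] [Finite Γ] [MulSemiringAction Γ B]
variable (P : Ideal B) [P.IsMaximal]

attribute [local instance] Ideal.Quotient.field

variable (Γ) in
/-- The reduction map from the inertia ring to its residue field. -/
noncomputable def toKT : ↥(BT Γ P) →+* ↥(KT Γ P) where
  toFun := fun s => ⟨Ideal.Quotient.mk P s, ⟨s, s.2, rfl⟩⟩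
  map_one' := Subtype.ext (map_one (Ideal.Quotient.mk P))
  map_mul' := fun a b => Subtype.ext (map_mul (Ideal.Quotient.mk P) (a : B) (b : B))
  map_zero' := Subtype.ext (map_zero (Ideal.Quotient.mk P))
  map_add' := fun a b => Subtype.ext (map_add (Ideal.Quotient.mk P) (a : B) (b : B))

theorem subtype_comp_toKT :
    (KT Γ P).subtype.comp (toKT Γ P) = (Ideal.Quotient.mk P).comp (BT Γ P).subtype := by
  ext s; rfl

theorem exists_trace_ne_zero [Fintype (Γ ⧸ P.inertia Γ)] [DecidablePred fun q : Γ ⧸ P.inertia Γ =>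
    Quotient.out q ∈ DD Γ P] :
    ∃ z₀ ∈ BT Γ P,
      ∑ q ∈ Finset.univ.filter (fun q : Γ ⧸ P.inertia Γ => Quotient.out q ∈ DD Γ P),
        Ideal.Quotient.mk P ((Quotient.out q) • z₀) ≠ 0 := by
  classical
  set π := Ideal.Quotient.mk P with hπ
  set QD := Finset.univ.filter (fun q : Γ ⧸ P.inertia Γ => Quotient.out q ∈ DD Γ P) with hQD
  have hmemQD : ∀ q : ↥QD, Quotient.out (q : Γ ⧸ P.inertia Γ) ∈ DD Γ P :=
    fun q => (Finset.mem_filter.1 q.2).2
  let χ : ↥QD → (↥(BT Γ P) →* B ⧸ P) := fun q =>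
    (((bar P ⟨Quotient.out (q : Γ ⧸ P.inertia Γ), hmemQD q⟩).comp
      (π.comp (BT Γ P).subtype) : ↥(BT Γ P) →+* B ⧸ P) : ↥(BT Γ P) →* B ⧸ P)
  have hχ : ∀ (q : ↥QD) (z : ↥(BT Γ P)),
      χ q z = π ((Quotient.out (q : Γ ⧸ P.inertia Γ)) • (z : B)) := by
    intro q z
    show bar P _ (π (z : B)) = _
    rw [bar_mk]
  have hinj : Function.Injective χ := by
    intro q q' hqq'
    apply Subtype.ext
    rw [← QuotientGroup.out_eq' (q : Γ ⧸ P.inertia Γ), ← QuotientGroup.out_eq' (q' : Γ ⧸ P.inertia Γ),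
      QuotientGroup.eq]
    set a := Quotient.out (q : Γ ⧸ P.inertia Γ) with ha
    set b := Quotient.out (q' : Γ ⧸ P.inertia Γ) with hb
    have haD : a ∈ DD Γ P := hmemQD q
    have hbD : b ∈ DD Γ P := hmemQD q'
    apply mem_inertia_of_fix P _ ((DD Γ P).mul_mem ((DD Γ P).inv_mem haD) hbD)
    intro z hz
    have h1 : π (a • z) = π (b • z) := by
      have := congrArg (fun f : ↥(BT Γ P) →* B ⧸ P => f ⟨z, hz⟩) hqq'
      simp only [hχ] at this
      exact this
    have h2 : a • z - b • z ∈ P := by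
      rw [← Ideal.Quotient.eq_zero_iff_mem, map_sub, h1, sub_self]
    have h3 : a⁻¹ • (a • z - b • z) ∈ P := ((DD Γ P).inv_mem haD _).2 h2
    rw [smul_sub, inv_smul_smul] at h3
    rw [mul_smul]
    have := P.neg_mem h3
    rwa [neg_sub] at this
  have hli : LinearIndependent (B ⧸ P) (fun q : ↥QD => (χ q : ↥(BT Γ P) → B ⧸ P)) :=
    (linearIndependent_monoidHom ↥(BT Γ P) (B ⧸ P)).comp χ hinj
  by_contra hcon
  push Not at hcon
  have hsum : ∑ q : ↥QD, (1 : B ⧸ P) • (χ q : ↥(BT Γ P) → B ⧸ P) = 0 := by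
    funext z
    simp only [Finset.sum_apply, Pi.smul_apply, smul_eq_mul, one_mul, Pi.zero_apply, hχ]
    rw [Finset.sum_coe_sort QD (fun q => π ((Quotient.out q) • (z : B)))]
    exact hcon z z.2
  have hall := Fintype.linearIndependent_iff.1 hli (fun _ => 1) hsum
  have h1D : Quotient.out ((1 : Γ) : Γ ⧸ P.inertia Γ) ∈ DD Γ P := by
    obtain ⟨t, ht⟩ := QuotientGroup.mk_out_eq_mul (P.inertia Γ) (1 : Γ)
    rw [ht, one_mul]
    exact inertia_le_DD P t.2
  have hq1 : ((1 : Γ) : Γ ⧸ P.inertia Γ) ∈ QD := Finset.mem_filter.2 ⟨Finset.mem_univ _, h1D⟩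
  exact one_ne_zero (hall ⟨_, hq1⟩)

/-- An element of the residue field of the inertia ring which is invariant under the
decomposition group comes from an invariant. -/
theorem mem_image_of_invariant (w : B ⧸ P) (hw : w ∈ KT Γ P)
    (hinv : ∀ σ : DD Γ P, bar P σ w = w) :
    ∃ a ∈ FixedPoints.subring B Γ, Ideal.Quotient.mk P a = w := by
  classical
  haveI : Fintype (Γ ⧸ P.inertia Γ) := Fintype.ofFinite _
  set π := Ideal.Quotient.mk P with hπ
  obtain ⟨z₀, hz₀, hne⟩ := exists_trace_ne_zero (Γ := Γ) P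
  obtain ⟨zw, hzw, rfl⟩ := hw
  obtain ⟨a₀, ha₀, ha₀eq⟩ := exists_trace P hz₀
  obtain ⟨a₁, ha₁, ha₁eq⟩ := exists_trace P ((BT Γ P).mul_mem hzw hz₀)
  have ha₀P : a₀ ∉ P := by
    intro h
    apply hne
    rw [← ha₀eq]
    exact Ideal.Quotient.eq_zero_iff_mem.2 h
  obtain ⟨a', ha', haa'⟩ := exists_inv_mem (Γ := Γ) P (FixedPoints.subring B Γ) le_rfl a₀ ha₀ ha₀P
  rw [← Ideal.Quotient.eq_zero_iff_mem, map_sub, map_mul, map_one, sub_eq_zero] at haa'
  have hkey : π a₁ = π zw * π a₀ := by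
    rw [ha₁eq, ha₀eq, Finset.mul_sum]
    apply Finset.sum_congr rfl
    intro q hq
    have hqD := (Finset.mem_filter.1 hq).2
    rw [smul_mul', map_mul]
    congr 1
    have := hinv ⟨Quotient.out q, hqD⟩
    rw [bar_mk] at this
    exact this
  refine ⟨a₁ * a', (FixedPoints.subring B Γ).mul_mem ha₁ ha', ?_⟩
  rw [map_mul, hkey, mul_assoc, haa', mul_one]

end Groth.Agent.Lib.helper1.Inr
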