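import Mathlib
import Groth.Agent.Lib.helper1.IN5

set_option autoImplicit false

namespace Groth.Agent.Lib.helper1.Inr

open Polynomial

universe u v

variable {B : Type u} [CommRing B] {Γ : Type v} [Group Γ] [Finite Γ] [MulSemiringAction Γ B]
variable (P : Ideal B) [P.IsMaximal]

attribute [local instance] Ideal.Quotient.field

theorem bar_injective (σ : DD Γ P) : Function.Injective (bar P σ) := (bar P σ).injective

/-- The residue class of an inertia invariant is a root of a separable polynomial with
invariant coefficients. -/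
theorem exists_separable_poly (y : B) (hy : y ∈ BT Γ P) :
    ∃ g : Polynomial B, (∀ (i : ℕ) (γ : Γ), γ • g.coeff i = g.coeff i) ∧
      (g.map (Ideal.Quotient.mk P)).Separable ∧
      Polynomial.eval (Ideal.Quotient.mk P y) (g.map (Ideal.Quotient.mk P)) = 0 := by
  classical
  haveI : Fintype Γ := Fintype.ofFinite Γ
  set π := Ideal.Quotient.mk P with hπ
  set O : Finset (B ⧸ P) := Finset.univ.image (fun σ : DD Γ P => π ((σ : Γ) • y)) with hO
  set m : (B ⧸ P)[X] := ∏ c ∈ O, (X - C c) with hm
  have hOK : ∀ c ∈ O, c ∈ KT Γ P := by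
    intro c hc
    obtain ⟨σ, -, rfl⟩ := Finset.mem_image.1 hc
    exact ⟨_, smul_mem_BT P σ.2 hy, rfl⟩
  -- separable
  have hsep : m.Separable := by
    rw [hm]
    exact (Polynomial.separable_prod_X_sub_C_iff' (f := fun c : B ⧸ P => c)).2
      (fun _ _ _ _ h => h)
  -- root
  have hroot : Polynomial.eval (π y) m = 0 := by
    have hmem : π y ∈ O := by
      refine Finset.mem_image.2 ⟨1, Finset.mem_univ _, ?_⟩
      simp
    rw [hm, Polynomial.eval_prod]
    exact Finset.prod_eq_zero hmem (by simp)
  -- coefficients in KT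
  have hcoefK : ∀ i, m.coeff i ∈ KT Γ P := by
    intro i
    have : m = (∏ c ∈ O.attach, (X - C (⟨c.1, hOK c.1 c.2⟩ : KT Γ P))).map (KT Γ P).subtype := by
      rw [Polynomial.map_prod, hm, ← Finset.prod_attach]
      apply Finset.prod_congr rfl
      intro c _
      rw [Polynomial.map_sub, Polynomial.map_X, Polynomial.map_C]
      rfl
    rw [this, Polynomial.coeff_map]
    exact Subtype.property _
  -- invariance
  have hinv : ∀ (σ : DD Γ P) (i : ℕ), bar P σ (m.coeff i) = m.coeff i := by
    intro σ i
    have himage : O.image (bar P σ) = O := by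
      apply Finset.eq_of_subset_of_card_le
      · intro c hc
        obtain ⟨c', hc', rfl⟩ := Finset.mem_image.1 hc
        obtain ⟨σ', -, rfl⟩ := Finset.mem_image.1 hc'
        refine Finset.mem_image.2 ⟨σ * σ', Finset.mem_univ _, ?_⟩
        rw [bar_mk]
        show π (((σ : Γ) * (σ' : Γ)) • y) = _
        rw [mul_smul]
      · rw [Finset.card_image_of_injective _ (bar_injective P σ)]
    have hmap : m.map (bar P σ) = m := by
      conv_rhs => rw [hm, ← himage]
      rw [Finset.prod_image (fun a _ b _ h => bar_injective P σ h), hm, Polynomial.map_prod]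
      apply Finset.prod_congr rfl
      intro c _
      rw [Polynomial.map_sub, Polynomial.map_X, Polynomial.map_C]
    have := congrArg (fun p : (B ⧸ P)[X] => p.coeff i) hmap
    simp only [Polynomial.coeff_map] at this
    exact this
  -- lift the coefficients
  have hlift : ∀ i, ∃ a ∈ FixedPoints.subring B Γ, π a = m.coeff i :=
    fun i => mem_image_of_invariant P _ (hcoefK i) (fun σ => hinv σ i)
  have hmem : m ∈ Polynomial.lifts (π.comp (FixedPoints.subring B Γ).subtype) := by
    rw [Polynomial.lifts_iff_coeff_lifts]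
    intro i
    obtain ⟨a, ha, hai⟩ := hlift i
    exact ⟨⟨a, ha⟩, hai⟩
  obtain ⟨gA, hgA⟩ := (Polynomial.mem_lifts _).1 hmem
  refine ⟨gA.map (FixedPoints.subring B Γ).subtype, ?_, ?_, ?_⟩
  · intro i γ
    rw [Polynomial.coeff_map]
    exact (gA.coeff i).2 γ
  · rw [Polynomial.map_map, hgA]
    exact hsep
  · rw [Polynomial.map_map, hgA]
    exact hroot

/-- The main theorem: the residue field of the inertia ring is the separable closure. -/
theorem main (x : B) :
    (∃ y : B, (∀ γ : Γ, γ ∈ P.inertia Γ → γ • y = y) ∧ x - y ∈ P) ↔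
      ∃ g : Polynomial B, (∀ (i : ℕ) (γ : Γ), γ • g.coeff i = g.coeff i) ∧
        (g.map (Ideal.Quotient.mk P)).Separable ∧ Polynomial.aeval x g ∈ P := by
  classical
  set π := Ideal.Quotient.mk P with hπ
  constructor
  · rintro ⟨y, hy, hxy⟩
    obtain ⟨g, hg1, hg2, hg3⟩ := exists_separable_poly P y hy
    refine ⟨g, hg1, hg2, ?_⟩
    have hπxy : π x = π y := by
      rw [← sub_eq_zero, ← map_sub]
      exact Ideal.Quotient.eq_zero_iff_mem.2 hxy
    rw [← Ideal.Quotient.eq_zero_iff_mem, Polynomial.coe_aeval_eq_eval]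
    rw [← hπxy, Polynomial.eval_map, Polynomial.eval₂_at_apply] at hg3
    exact hg3
  · rintro ⟨g, hg1, hg2, hg3⟩
    have hcoef : (↑g.coeffs : Set B) ⊆ ↑(BT Γ P) := by
      intro c hc
      obtain ⟨n, -, rfl⟩ := Polynomial.mem_coeffs_iff.1 hc
      exact fixed_le_BT P (fun γ => hg1 n γ)
    set q : (KT Γ P)[X] := (g.toSubring (BT Γ P) hcoef).map (toKT Γ P) with hq
    have hqmap : q.map (KT Γ P).subtype = g.map π := by
      rw [hq, Polynomial.map_map, subtype_comp_toKT, ← Polynomial.map_map,
        Polynomial.map_toSubring]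
    have hqsep : q.Separable := by
      rw [← Polynomial.separable_map (KT Γ P).subtype, hqmap]
      exact hg2
    have hroot : eval₂ (KT Γ P).subtype (π x) q = 0 := by
      rw [← Polynomial.eval_map, hqmap, Polynomial.eval_map, Polynomial.eval₂_at_apply]
      rw [Polynomial.coe_aeval_eq_eval] at hg3
      exact Ideal.Quotient.eq_zero_iff_mem.2 hg3
    obtain ⟨y, hy, hyx⟩ := mem_KT_of_separable P x q hqsep hroot
    refine ⟨y, hy, ?_⟩
    rw [← Ideal.Quotient.eq_zero_iff_mem, map_sub, hyx, sub_self]

end Groth.Agent.Lib.helper1.Inr
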