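import Mathlib

namespace Groth.Agent.Lib.helper1.IV

open Polynomial TensorProduct

section L

variable {R G : Type*} [CommRing R] [Group G] [Fintype G] [MulSemiringAction G R]
variable {ι : Type*} [Fintype ι]

/-- the linear form `∑ j, X_j * σ(y_j)` -/
noncomputable def lin (y : ι → R) (σ : G) : MvPolynomial ι R :=
  ∑ j, MvPolynomial.X j * MvPolynomial.C (σ • y j)

/-- `∏_σ (T - ∑ j, X_j σ(y_j))` -/
noncomputable def Pol (G : Type*) [Group G] [Fintype G] [MulSemiringAction G R] (y : ι → R) :
    Polynomial (MvPolynomial ι R) :=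
  ∏ σ : G, (X - C (lin y σ))

lemma Pol_monic (y : ι → R) : (Pol G y).Monic :=
  monic_prod_of_monic _ _ (fun _ _ => monic_X_sub_C _)

/-- coefficientwise action of τ -/
noncomputable def act (τ : G) : MvPolynomial ι R →+* MvPolynomial ι R :=
  MvPolynomial.map (MulSemiringAction.toRingHom G R τ)

lemma act_lin (y : ι → R) (σ τ : G) : act τ (lin y σ) = lin y (τ * σ) := by
  simp [act, lin, mul_smul]

lemma act_Pol (y : ι → R) (τ : G) : (Pol G y).map (act τ) = Pol G y := by
  unfold Pol
  rw [Polynomial.map_prod]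
  simp only [Polynomial.map_sub, Polynomial.map_X, Polynomial.map_C, act_lin]
  exact Fintype.prod_equiv (Equiv.mulLeft τ) _ _ (fun σ => rfl)

lemma coeff_coeff_mem (y : ι → R) (n : ℕ) (d : ι →₀ ℕ) :
    MvPolynomial.coeff d ((Pol G y).coeff n) ∈ FixedPoints.subring R G := by
  intro τ
  have := congrArg (fun p => MvPolynomial.coeff d (p.coeff n)) (act_Pol y τ)
  simpa [act, Polynomial.coeff_map, MvPolynomial.coeff_map] using this

lemma Pol_mem_lifts (y : ι → R) :
    Pol G y ∈ Polynomial.lifts (MvPolynomial.map (σ := ι) (FixedPoints.subring R G).subtype) := by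
  rw [Polynomial.lifts_iff_coeff_lifts]
  intro n
  rw [MvPolynomial.mem_range_map_iff_coeffs_subset]
  intro c hc
  rw [Finset.mem_coe, MvPolynomial.mem_coeffs_iff] at hc
  obtain ⟨d, -, rfl⟩ := hc
  exact ⟨⟨_, coeff_coeff_mem y n d⟩, rfl⟩

lemma exists_Q (y : ι → R) :
    ∃ Q : Polynomial (MvPolynomial ι (FixedPoints.subring R G)), Q.Monic ∧
      Q.map (MvPolynomial.map (FixedPoints.subring R G).subtype) = Pol G y := by
  obtain ⟨Q, h1, -, h3⟩ := Polynomial.lifts_and_natDegree_eq_and_monic (Pol_mem_lifts (G := G) y) (Pol_monic y)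
  exact ⟨Q, h3, h1⟩

end L

section one

variable {R G A : Type*} [CommRing R] [Group G] [Fintype G] [MulSemiringAction G R]
  [CommRing A] [Algebra (FixedPoints.subring R G) A]

local notation "S" => FixedPoints.subring R G

variable {ι : Type*} [Fintype ι]

/-- `Ψ : R[x_j] → A ⊗ R`, `x_j ↦ a_j ⊗ 1`, `r ↦ 1 ⊗ r`. -/
noncomputable def Psi (a : ι → A) : MvPolynomial ι R →+* A ⊗[S] R :=
  MvPolynomial.eval₂Hom
    ((Algebra.TensorProduct.includeRight : R →ₐ[S] A ⊗[S] R) : R →+* A ⊗[S] R) (fun j => a j ⊗ₜ 1)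

lemma Psi_comp (a : ι → A) :
    (algebraMap A (A ⊗[S] R)).comp ((MvPolynomial.aeval a : MvPolynomial ι S →ₐ[S] A) : MvPolynomial ι S →+* A)
      = (Psi a).comp (MvPolynomial.map (S).subtype) := by
  apply MvPolynomial.ringHom_ext
  · intro s
    simp only [Psi, RingHom.comp_apply, RingHom.coe_coe, MvPolynomial.aeval_C,
      Algebra.TensorProduct.algebraMap_apply, MvPolynomial.map_C, MvPolynomial.coe_eval₂Hom,
      MvPolynomial.eval₂_C, Algebra.TensorProduct.includeRight_apply]
    have h1 : algebraMap S A s = s • (1 : A) := Algebra.algebraMap_eq_smul_one s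
    have h2 : (S).subtype s = s • (1 : R) := by simp [Subring.smul_def]
    rw [h1, h2, Algebra.algebraMap_self, RingHom.id_apply, TensorProduct.smul_tmul]
  · intro j
    simp [Psi]

lemma Psi_lin (a : ι → A) (y : ι → R) (σ : G) :
    Psi a (lin y σ) = Algebra.TensorProduct.map (AlgHom.id S A)
      (MulSemiringAction.toAlgHom S R σ) (∑ j, a j ⊗ₜ y j) := by
  simp [Psi, lin, map_sum]

theorem part1 (b : A ⊗[S] R)
    (hb : ∀ σ : G, Algebra.TensorProduct.map (AlgHom.id S A)
      (MulSemiringAction.toAlgHom S R σ) b = b) :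
    ∃ P : Polynomial A, P.Monic ∧
      P.map (algebraMap A (A ⊗[S] R)) = (X - C b) ^ Fintype.card G := by
  obtain ⟨T, hT⟩ := TensorProduct.exists_finset b
  let a : T → A := fun i => i.1.1
  let y : T → R := fun i => i.1.2
  have hb' : b = ∑ j, a j ⊗ₜ y j := by
    rw [hT, ← Finset.sum_coe_sort]
  obtain ⟨Q, hQm, hQ⟩ := exists_Q (G := G) y
  refine ⟨Q.map ((MvPolynomial.aeval a : MvPolynomial T S →ₐ[S] A) : MvPolynomial T S →+* A),
    hQm.map _, ?_⟩
  rw [Polynomial.map_map, Psi_comp, ← Polynomial.map_map, hQ, Pol, Polynomial.map_prod]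
  simp only [Polynomial.map_sub, Polynomial.map_X, Polynomial.map_C, Psi_lin, ← hb', hb]
  simp

end one

section two

variable {R G A : Type*} [CommRing R] [Group G] [Fintype G] [MulSemiringAction G R]
  [CommRing A] [Algebra (FixedPoints.subring R G) A]

local notation "S" => FixedPoints.subring R G

variable {ι κ : Type*} [Fintype ι]

/-- R-version of substitution. -/
noncomputable def thetaR (v : ι → MvPolynomial κ S) : MvPolynomial ι R →+* MvPolynomial κ R :=
  MvPolynomial.eval₂Hom MvPolynomial.C (fun j => MvPolynomial.map (S).subtype (v j))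

lemma thetaR_comp (v : ι → MvPolynomial κ S) :
    (MvPolynomial.map (S).subtype).comp
      ((MvPolynomial.aeval v : MvPolynomial ι S →ₐ[S] MvPolynomial κ S) :
        MvPolynomial ι S →+* MvPolynomial κ S)
      = (thetaR v).comp (MvPolynomial.map (S).subtype) := by
  apply MvPolynomial.ringHom_ext
  · intro s; simp [thetaR]
  · intro j; simp [thetaR]

lemma map_Q (v : ι → MvPolynomial κ S) (y : ι → R) (Q : Polynomial (MvPolynomial ι S))
    (hQ : Q.map (MvPolynomial.map (S).subtype) = Pol G y) :
    (Q.map ((MvPolynomial.aeval v : MvPolynomial ι S →ₐ[S] MvPolynomial κ S) :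
        MvPolynomial ι S →+* MvPolynomial κ S)).map (MvPolynomial.map (S).subtype)
      = ∏ σ : G, (X - C (∑ j, MvPolynomial.map (S).subtype (v j) *
          MvPolynomial.C (σ • y j))) := by
  rw [Polynomial.map_map, thetaR_comp, ← Polynomial.map_map, hQ, Pol, Polynomial.map_prod]
  refine Finset.prod_congr rfl (fun σ _ => ?_)
  rw [Polynomial.map_sub, Polynomial.map_X, Polynomial.map_C]
  congr 2
  simp only [thetaR, lin, map_sum, map_mul, MvPolynomial.coe_eval₂Hom, MvPolynomial.eval₂_X,
    MvPolynomial.eval₂_C]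

theorem part2 (a : A) (ha : algebraMap A (A ⊗[S] R) a = 0) :
    (X - C a : Polynomial A) ^ Fintype.card G = X ^ Fintype.card G := by
  classical
  -- Step A
  let N : Submodule S A := Submodule.span S {a}
  have hN : N.FG := Submodule.fg_span_singleton a
  have haN : a ∈ N := Submodule.mem_span_singleton_self a
  have h0 : N.subtype.rTensor R ((⟨a, haN⟩ : N) ⊗ₜ[S] (1 : R)) = N.subtype.rTensor R 0 := by
    rw [map_zero, LinearMap.rTensor_tmul]
    simpa [Algebra.TensorProduct.algebraMap_apply] using ha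
  obtain ⟨N', hN', hle, h1⟩ := hN.exists_rTensor_fg_inclusion_eq h0
  rw [map_zero, LinearMap.rTensor_tmul] at h1
  -- Step B
  haveI : Module.Finite S N' := Module.Finite.iff_fg.mpr hN'
  obtain ⟨n, s, hs⟩ := Module.Finite.exists_fin (R := S) (M := N')
  let a0 : N' := Submodule.inclusion hle ⟨a, haN⟩
  let m : Fin (n+1) → N' := Fin.cons a0 s
  let nn : Fin (n+1) → R := Fin.cons 1 (fun _ => 0)
  have hm : Submodule.span S (Set.range m) = ⊤ := by
    rw [eq_top_iff, ← hs]
    apply Submodule.span_mono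
    rintro _ ⟨i, rfl⟩
    exact ⟨i.succ, by simp [m]⟩
  have hmn : ∑ i, m i ⊗ₜ[S] nn i = 0 := by
    rw [Fin.sum_univ_succ]
    simp [m, nn, a0, h1]
  obtain ⟨k, c, y, hny, hcm⟩ := TensorProduct.vanishesTrivially_of_sum_tmul_eq_zero S hm hmn
  obtain ⟨Q, hQm, hQ⟩ := exists_Q (G := G) y
  -- Step C
  let v : Fin k → MvPolynomial (Fin (n+1)) S :=
    fun j => ∑ i, MvPolynomial.C (c i j) * MvPolynomial.X i
  have hC : Q.map ((MvPolynomial.aeval v :
      MvPolynomial (Fin k) S →ₐ[S] MvPolynomial (Fin (n+1)) S) :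
        MvPolynomial (Fin k) S →+* MvPolynomial (Fin (n+1)) S)
        = (X - C (MvPolynomial.X 0)) ^ Fintype.card G := by
    apply Polynomial.map_injective _ (MvPolynomial.map_injective _ (Subring.subtype_injective _))
    rw [map_Q v y Q hQ]
    have : ∀ σ : G, ∑ j, MvPolynomial.map (S).subtype (v j) * MvPolynomial.C (σ • y j)
        = MvPolynomial.X 0 := by
      intro σ
      have h2 : ∀ i, σ • nn i = ∑ j, ((c i j : S) : R) * σ • y j := by
        intro i
        rw [hny i, Finset.smul_sum]
        refine Finset.sum_congr rfl (fun j _ => ?_)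
        rw [smul_comm, Subring.smul_def, smul_eq_mul]
      calc _ = ∑ i, MvPolynomial.X i * MvPolynomial.C (σ • nn i) := by
            simp only [v, h2, map_sum, map_mul, MvPolynomial.map_C, MvPolynomial.map_X,
              Finset.sum_mul, Finset.mul_sum]
            rw [Finset.sum_comm]
            refine Finset.sum_congr rfl (fun i _ => Finset.sum_congr rfl (fun j _ => ?_))
            simp only [Subring.coe_subtype]
            ring
        _ = MvPolynomial.X 0 := by
            rw [Fin.sum_univ_succ]; simp [nn]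
    simp [this, Finset.prod_const]
  have hE : Q.map ((MvPolynomial.aeval (fun _ => 0 : Fin k → MvPolynomial (Fin (n+1)) S) :
      MvPolynomial (Fin k) S →ₐ[S] MvPolynomial (Fin (n+1)) S) :
        MvPolynomial (Fin k) S →+* MvPolynomial (Fin (n+1)) S)
        = X ^ Fintype.card G := by
    apply Polynomial.map_injective _ (MvPolynomial.map_injective _ (Subring.subtype_injective _))
    rw [map_Q _ y Q hQ]
    simp [Finset.prod_const]
  -- Step D
  let ev : MvPolynomial (Fin (n+1)) S →ₐ[S] A := MvPolynomial.aeval (fun i => (m i : A))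
  have hev : ev.comp (MvPolynomial.aeval v) =
      ev.comp (MvPolynomial.aeval (fun _ => 0 : Fin k → MvPolynomial (Fin (n+1)) S)) := by
    apply MvPolynomial.algHom_ext
    intro j
    have := congrArg (Subtype.val) (hcm j)
    simp only [AlgHom.comp_apply, MvPolynomial.aeval_X, map_zero, ev, v, map_sum, map_mul,
      MvPolynomial.aeval_C]
    simpa [Algebra.smul_def] using this
  have h3 := congrArg (Polynomial.map (ev : MvPolynomial (Fin (n+1)) S →+* A)) hC
  have h4 := congrArg (Polynomial.map (ev : MvPolynomial (Fin (n+1)) S →+* A)) hE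
  rw [Polynomial.map_map] at h3 h4
  have h5 : (ev : MvPolynomial (Fin (n+1)) S →+* A).comp ((MvPolynomial.aeval v :
      MvPolynomial (Fin k) S →ₐ[S] MvPolynomial (Fin (n+1)) S) :
        MvPolynomial (Fin k) S →+* MvPolynomial (Fin (n+1)) S) =
      (ev : MvPolynomial (Fin (n+1)) S →+* A).comp
      ((MvPolynomial.aeval (fun _ => 0 : Fin k → MvPolynomial (Fin (n+1)) S) :
      MvPolynomial (Fin k) S →ₐ[S] MvPolynomial (Fin (n+1)) S) :
        MvPolynomial (Fin k) S →+* MvPolynomial (Fin (n+1)) S) := by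
    exact RingHom.ext fun p => DFunLike.congr_fun hev p
  rw [h5, h4] at h3
  simp only [Polynomial.map_pow, Polynomial.map_sub, Polynomial.map_X, Polynomial.map_C] at h3
  rw [h3]
  simp [ev, m, a0]

end two

end Groth.Agent.Lib.helper1.IV
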