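import Mathlib
import Groth.Prelude

/-! Helper lemmas on essential extensions and injective hulls (helper1). -/

set_option autoImplicit false
universe u

namespace Groth.Agent.Lib.helper1.InjHullLib

open InjHull

variable {R : Type u} [CommRing R] {M : Type u} [AddCommGroup M] [Module R M]
  {E : Type u} [AddCommGroup E] [Module R E]

/-- A map out of an essential extension which is injective on the base is injective. -/
theorem injective_of_essential {F : Type u} [AddCommGroup F] [Module R F]
    {f : M →ₗ[R] E} (hf : IsEssentialInj f) (α : E →ₗ[R] F)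
    (h : Function.Injective (α ∘ₗ f)) : Function.Injective α := by
  rw [← LinearMap.ker_eq_bot]
  by_contra hne
  apply hf.essential _ hne
  rw [eq_bot_iff]
  rintro x ⟨hx, ⟨m, rfl⟩⟩
  have : (α ∘ₗ f) m = (α ∘ₗ f) 0 := by simpa using hx
  have hm : m = 0 := h this
  simp [hm]

/-- An injective map from an injective module has a retraction. -/
theorem exists_retraction {F : Type u} [AddCommGroup F] [Module R F]
    (hE : Module.Injective R E) (α : E →ₗ[R] F) (hα : Function.Injective α) :
    ∃ r : F →ₗ[R] E, r ∘ₗ α = LinearMap.id := by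
  obtain ⟨r, hr⟩ := hE.out α hα LinearMap.id
  exact ⟨r, LinearMap.ext hr⟩

/-- The range of a split injection has a complement. -/
theorem isCompl_range_ker {F : Type u} [AddCommGroup F] [Module R F]
    (α : E →ₗ[R] F) (r : F →ₗ[R] E) (h : r ∘ₗ α = LinearMap.id) :
    IsCompl (LinearMap.range α) (LinearMap.ker r) := by
  have h' : ∀ x, r (α x) = x := fun x => by
    have := LinearMap.congr_fun h x
    simpa using this
  constructor
  · rw [Submodule.disjoint_def]
    rintro x ⟨y, rfl⟩ hx
    have : r (α y) = 0 := hx
    rw [h'] at this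
    simp [this]
  · rw [codisjoint_iff, eq_top_iff]
    intro x _
    have : x = α (r x) + (x - α (r x)) := by abel
    rw [this]
    apply Submodule.add_mem_sup
    · exact ⟨_, rfl⟩
    · simp [LinearMap.mem_ker, h']

theorem splits_off {I : Type u} [AddCommGroup I] [Module R I]
    (f : M →ₗ[R] E) (hf : IsInjectiveHull f) (i : M →ₗ[R] I) (hi : Function.Injective i)
    (hI : Module.Injective R I) :
    ∃ α : E →ₗ[R] I, Function.Injective α ∧ α ∘ₗ f = i ∧
      ∃ I' : Submodule R I, IsCompl (LinearMap.range α) I' := by
  obtain ⟨α, hα⟩ := hI.out f hf.injective i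
  have hαf : α ∘ₗ f = i := LinearMap.ext hα
  have hinj : Function.Injective α :=
    injective_of_essential hf.toIsEssentialInj α (by rw [hαf]; exact hi)
  obtain ⟨r, hr⟩ := exists_retraction hf.isInjective α hinj
  exact ⟨α, hinj, hαf, _, isCompl_range_ker α r hr⟩

theorem unique {E' : Type u} [AddCommGroup E'] [Module R E']
    (f : M →ₗ[R] E) (hf : IsInjectiveHull f) (g : M →ₗ[R] E') (hg : IsInjectiveHull g) :
    ∃ e : E ≃ₗ[R] E', e.toLinearMap ∘ₗ f = g := by
  obtain ⟨α, hinj, hαf, C, hC⟩ := splits_off f hf g hg.injective hg.isInjective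
  have hCbot : C = ⊥ := by
    by_contra hne
    apply hg.essential C hne
    rw [eq_bot_iff]
    rintro x ⟨hxC, ⟨m, rfl⟩⟩
    have : g m ∈ LinearMap.range α := ⟨f m, by rw [← hαf]; rfl⟩
    have := hC.disjoint.le_bot ⟨this, hxC⟩
    simpa using this
  have hsurj : Function.Surjective α := by
    rw [← LinearMap.range_eq_top]
    have := hC.sup_eq_top
    rwa [hCbot, sup_bot_eq] at this
  exact ⟨LinearEquiv.ofBijective α ⟨hinj, hsurj⟩, by ext x; simp [← hαf]⟩

end Groth.Agent.Lib.helper1.InjHullLib
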