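import Mathlib
import Groth.Prelude
import Groth.Agent.Lib.helper1.InjHull

set_option autoImplicit false
universe u

namespace Groth.Agent.Lib.helper1.InjHullLib

open InjHull

variable {R : Type u} [CommRing R] {I : Type u} [AddCommGroup I] [Module R I]

/-- element-wise essentiality of a submodule `N` inside a submodule `H` of an ambient module. -/
def Ess (N H : Submodule R I) : Prop :=
  N ≤ H ∧ ∀ x ∈ H, x ≠ 0 → ∃ r : R, r • x ≠ 0 ∧ r • x ∈ N

theorem exists_maximal_ess (N : Submodule R I) : ∃ H, Maximal (Ess N) H := by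
  apply zorn_le₀ {H | Ess N H}
  intro c hc hchain
  by_cases hne : c.Nonempty
  · refine ⟨sSup c, ⟨?_, ?_⟩, fun z hz => le_sSup hz⟩
    · obtain ⟨H0, hH0⟩ := hne; exact (hc hH0).1.trans (le_sSup hH0)
    · intro x hx hx0
      rw [Submodule.mem_sSup_of_directed hne hchain.directedOn] at hx
      obtain ⟨H, hHc, hxH⟩ := hx
      exact (hc hHc).2 x hxH hx0
  · refine ⟨N, ⟨le_rfl, fun x hx hx0 => ⟨1, by simpa, by simpa⟩⟩,
      fun z hz => (hne ⟨z, hz⟩).elim⟩

theorem exists_maximal_disjoint (H : Submodule R I) :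
    ∃ C, Maximal (fun C : Submodule R I => Disjoint C H) C := by
  apply zorn_le₀ {C : Submodule R I | Disjoint C H}
  intro c hc hchain
  by_cases hne : c.Nonempty
  · refine ⟨sSup c, ?_, fun z hz => le_sSup hz⟩
    show Disjoint (sSup c) H
    rw [Submodule.disjoint_def]
    intro x hx hxH
    rw [Submodule.mem_sSup_of_directed hne hchain.directedOn] at hx
    obtain ⟨C, hCc, hxC⟩ := hx
    exact (Submodule.disjoint_def.mp (hc hCc)) x hxC hxH
  · exact ⟨⊥, disjoint_bot_left, fun z hz => (hne ⟨z, hz⟩).elim⟩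

theorem injective_of_isCompl (hI : Module.Injective R I) (H C : Submodule R I)
    (h : IsCompl H C) : Module.Injective R H := by
  constructor
  intro X Y _ _ _ _ f hf g
  obtain ⟨k, hk⟩ := hI.out f hf (H.subtype ∘ₗ g)
  refine ⟨(Submodule.projectionOnto H C h) ∘ₗ k, fun x => ?_⟩
  simp only [LinearMap.comp_apply, hk, Submodule.subtype_apply]
  exact Submodule.projectionOnto_apply_left h (g x)

theorem exists_hull_in (hI : Module.Injective R I) (N : Submodule R I) :
    ∃ H : Submodule R I, Ess N H ∧ ∃ C : Submodule R I, IsCompl H C := by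
  obtain ⟨H, hH⟩ := exists_maximal_ess N
  obtain ⟨C, hC⟩ := exists_maximal_disjoint H
  refine ⟨H, hH.prop, C, ?_⟩
  let j : H →ₗ[R] (I ⧸ C) := C.mkQ ∘ₗ H.subtype
  have hj0 : ∀ h : H, j h = 0 → h = 0 := by
    intro ⟨h, hh⟩ hk
    have h1 : h ∈ C := by simpa [j] using hk
    have := Submodule.disjoint_def.mp hC.prop h h1 hh
    simpa using this
  have hj : Function.Injective j := by
    rw [← LinearMap.ker_eq_bot, eq_bot_iff]
    intro h hk
    simpa using hj0 h hk
  have hess : ∀ y : I ⧸ C, y ≠ 0 → ∃ (r : R) (h : H), (h : I) ≠ 0 ∧ r • y = j h := by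
    intro y hy
    obtain ⟨x, rfl⟩ := C.mkQ_surjective y
    have hxC : x ∉ C := by simpa using hy
    have hnd : ¬ Disjoint (C ⊔ Submodule.span R {x}) H := fun hd => by
      have := hC.le_of_ge hd le_sup_left
      exact hxC (this (Submodule.mem_sup_right (Submodule.mem_span_singleton_self x)))
    rw [Submodule.disjoint_def] at hnd
    push Not at hnd
    obtain ⟨h, hmem, hhH, hh0⟩ := hnd
    obtain ⟨c, hc, z, hz, rfl⟩ := Submodule.mem_sup.mp hmem
    obtain ⟨r, rfl⟩ := Submodule.mem_span_singleton.mp hz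
    refine ⟨r, ⟨c + r • x, hhH⟩, hh0, ?_⟩
    simp [j, hc]
  obtain ⟨φ, hφ⟩ := hI.out j hj H.subtype
  have hφ0 : ∀ y, φ y = 0 → y = 0 := by
    intro y hy
    by_contra hy0
    obtain ⟨r, h, hh0, hr⟩ := hess y hy0
    apply hh0
    have := hφ h
    rw [← hr, map_smul, hy, smul_zero] at this
    simpa using this.symm
  have hφinj : Function.Injective φ := by
    rw [← LinearMap.ker_eq_bot, eq_bot_iff]
    intro y hy
    simpa using hφ0 y hy
  have hHle : H ≤ LinearMap.range φ := fun h hh => ⟨j ⟨h, hh⟩, hφ ⟨h, hh⟩⟩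
  have hEss' : Ess N (LinearMap.range φ) := by
    refine ⟨hH.prop.1.trans hHle, ?_⟩
    rintro z ⟨y, rfl⟩ hz0
    have hy0 : y ≠ 0 := fun h => hz0 (by simp [h])
    obtain ⟨r, h, hh0, hr⟩ := hess y hy0
    obtain ⟨s, hs0, hsN⟩ := hH.prop.2 h h.2 hh0
    have hrz : r • φ y = h := by rw [← map_smul, hr, hφ]; rfl
    refine ⟨s * r, ?_, ?_⟩ <;> rw [mul_smul, hrz]
    · exact hs0
    · exact hsN
  have hrange : LinearMap.range φ ≤ H := hH.le_of_ge hEss' hHle
  refine ⟨hC.prop.symm, codisjoint_iff.mpr (eq_top_iff.mpr fun x _ => ?_)⟩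
  have hh : φ (C.mkQ x) ∈ H := hrange ⟨_, rfl⟩
  have h2 : j ⟨φ (C.mkQ x), hh⟩ = C.mkQ x := hφinj (by rw [hφ]; rfl)
  have h3 : φ (C.mkQ x) - x ∈ C := by
    have : C.mkQ (φ (C.mkQ x) - x) = 0 := by
      rw [map_sub]
      have : C.mkQ (φ (C.mkQ x)) = C.mkQ x := h2
      rw [this, sub_self]
    exact (Submodule.Quotient.mk_eq_zero C).mp this
  have : x = φ (C.mkQ x) + -(φ (C.mkQ x) - x) := by abel
  rw [this]
  exact Submodule.add_mem_sup hh (C.neg_mem h3)


/-- Relating `Ess` to the Prelude's `IsEssentialInj`. -/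
theorem isEssentialInj_of_ess {M : Type u} [AddCommGroup M] [Module R M] {E : Type u} [AddCommGroup E]
    [Module R E] (f : M →ₗ[R] E) (hf : Function.Injective f)
    (h : ∀ x : E, x ≠ 0 → ∃ r : R, r • x ≠ 0 ∧ r • x ∈ LinearMap.range f) : IsEssentialInj f := by
  refine ⟨hf, fun N hN hbot => ?_⟩
  obtain ⟨x, hxN, hx0⟩ := (Submodule.ne_bot_iff N).mp hN
  obtain ⟨r, hr0, hr⟩ := h x hx0
  apply hr0
  have : r • x ∈ N ⊓ LinearMap.range f := ⟨N.smul_mem r hxN, hr⟩
  rw [hbot] at this
  simpa using this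

theorem ess_of_isEssentialInj {M : Type u} [AddCommGroup M] [Module R M] {E : Type u} [AddCommGroup E]
    [Module R E] {f : M →ₗ[R] E} (hf : IsEssentialInj f) (x : E) (hx : x ≠ 0) :
    ∃ r : R, r • x ≠ 0 ∧ r • x ∈ LinearMap.range f := by
  have h1 : Submodule.span R {x} ≠ ⊥ := by
    rw [Ne, Submodule.span_singleton_eq_bot]; exact hx
  have h2 := hf.essential _ h1
  obtain ⟨y, hy, hy0⟩ := (Submodule.ne_bot_iff _).mp h2
  obtain ⟨r, rfl⟩ := Submodule.mem_span_singleton.mp hy.1
  exact ⟨r, hy0, hy.2⟩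

/-- Existence of injective hulls. -/
theorem exists_injective_hull (M : Type u) [AddCommGroup M] [Module R M] :
    ∃ (E : Type u) (_ : AddCommGroup E) (_ : Module R E) (f : M →ₗ[R] E), IsInjectiveHull f := by
  open CategoryTheory in
  let J := Injective.under (ModuleCat.of R M)
  let ι : ModuleCat.of R M ⟶ J := Injective.ι _
  have hι : Function.Injective ι.hom := (ModuleCat.mono_iff_injective ι).mp inferInstance
  have hJ0 : Injective J := inferInstance
  have hJ : Module.Injective R J := Module.injective_module_of_injective_object R J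
  obtain ⟨H, ⟨hNH, hess⟩, C, hHC⟩ := exists_hull_in hJ (LinearMap.range ι.hom)
  let f : M →ₗ[R] H := LinearMap.codRestrict H ι.hom (fun m => hNH ⟨m, rfl⟩)
  refine ⟨H, inferInstance, inferInstance, f, ?_, injective_of_isCompl hJ H C hHC⟩
  apply isEssentialInj_of_ess
  · intro a b hab
    apply hι
    exact congrArg Subtype.val hab
  · intro x hx
    have hx' : (x : J) ≠ 0 := fun h => hx (Subtype.ext h)
    obtain ⟨r, hr0, m, hm⟩ := hess x x.2 hx'
    refine ⟨r, fun h => hr0 ?_, m, Subtype.ext ?_⟩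
    · exact congrArg Subtype.val h
    · exact hm

/-- In an indecomposable injective module any two nonzero submodules meet. -/
theorem inf_ne_bot_of_indecomposable {E : Type u} [AddCommGroup E] [Module R E]
    (hE : IsIndecomposable R E) (hinj : Module.Injective R E) (N N' : Submodule R E)
    (hN : N ≠ ⊥) (hN' : N' ≠ ⊥) : N ⊓ N' ≠ ⊥ := by
  obtain ⟨H, ⟨hNH, hess⟩, C, hHC⟩ := exists_hull_in hinj N
  have hHtop : H = ⊤ := by
    rcases hE.2 H C hHC with h | h
    · exact absurd (le_bot_iff.mp (h ▸ hNH)) hN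
    · have := hHC.sup_eq_top
      rwa [h, sup_bot_eq] at this
  obtain ⟨x, hxN', hx0⟩ := (Submodule.ne_bot_iff N').mp hN'
  obtain ⟨r, hr0, hr⟩ := hess x (hHtop ▸ Submodule.mem_top) hx0
  intro hbot
  apply hr0
  have : r • x ∈ N ⊓ N' := ⟨hr, N'.smul_mem r hxN'⟩
  rw [hbot] at this
  simpa using this


theorem zeroDivisors_prime {E : Type u} [AddCommGroup E] [Module R E]
    (hE : IsIndecomposable R E) (hinj : Module.Injective R E) :
    ∃ p : Ideal R, p.IsPrime ∧ (p : Set R) = {r : R | ∃ x : E, x ≠ 0 ∧ r • x = 0} := by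
  have hmeet := inf_ne_bot_of_indecomposable hE hinj
  have : Nontrivial E := hE.1
  let p : Ideal R :=
    { carrier := {r : R | ∃ x : E, x ≠ 0 ∧ r • x = 0}
      zero_mem' := by obtain ⟨x, hx⟩ := exists_ne (0 : E); exact ⟨x, hx, zero_smul _ _⟩
      add_mem' := by
        rintro r s ⟨x, hx0, hrx⟩ ⟨y, hy0, hsy⟩
        have h := hmeet (Submodule.span R {x}) (Submodule.span R {y})
          (by rwa [Ne, Submodule.span_singleton_eq_bot])
          (by rwa [Ne, Submodule.span_singleton_eq_bot])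
        obtain ⟨z, hz, hz0⟩ := (Submodule.ne_bot_iff _).mp h
        obtain ⟨a, rfl⟩ := Submodule.mem_span_singleton.mp hz.1
        obtain ⟨b, hb⟩ := Submodule.mem_span_singleton.mp hz.2
        refine ⟨a • x, hz0, ?_⟩
        rw [add_smul, smul_comm r a x, hrx, smul_zero, zero_add, ← hb, smul_comm s b y, hsy,
          smul_zero]
      smul_mem' := by
        rintro c r ⟨x, hx0, hrx⟩
        exact ⟨x, hx0, by rw [smul_eq_mul, mul_smul, hrx, smul_zero]⟩ }
  refine ⟨p, ⟨?_, ?_⟩, rfl⟩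
  · rw [Ideal.ne_top_iff_one]
    rintro ⟨x, hx0, h1⟩
    exact hx0 (by simpa using h1)
  · rintro r s ⟨x, hx0, hrs⟩
    by_cases hs : s • x = 0
    · exact Or.inr ⟨x, hx0, hs⟩
    · exact Or.inl ⟨s • x, hs, by rw [← mul_smul]; exact hrs⟩


theorem indecomposable_of_hull_quotient_prime (p : Ideal R) [hp : p.IsPrime] {E : Type u}
    [AddCommGroup E] [Module R E] (f : (R ⧸ p) →ₗ[R] E) (hf : IsInjectiveHull f) :
    IsIndecomposable R E := by
  refine ⟨?_, ?_⟩
  · have : Nontrivial (R ⧸ p) := Ideal.Quotient.nontrivial_iff.mpr hp.ne_top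
    exact hf.injective.nontrivial
  · intro A B hAB
    by_contra hne
    push Not at hne
    obtain ⟨hA, hB⟩ := hne
    obtain ⟨a, ⟨haA, ⟨a', rfl⟩⟩, ha0⟩ := (Submodule.ne_bot_iff _).mp (hf.essential A hA)
    obtain ⟨b, ⟨hbB, ⟨b', rfl⟩⟩, hb0⟩ := (Submodule.ne_bot_iff _).mp (hf.essential B hB)
    obtain ⟨a₀, rfl⟩ := Ideal.Quotient.mk_surjective a'
    obtain ⟨b₀, rfl⟩ := Ideal.Quotient.mk_surjective b'
    have h1 : f (Ideal.Quotient.mk p (a₀ * b₀)) ∈ A := by
      have : f (Ideal.Quotient.mk p (a₀ * b₀)) = b₀ • f (Ideal.Quotient.mk p a₀) := by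
        rw [← map_smul, mul_comm]; rfl
      rw [this]; exact A.smul_mem _ haA
    have h2 : f (Ideal.Quotient.mk p (a₀ * b₀)) ∈ B := by
      have : f (Ideal.Quotient.mk p (a₀ * b₀)) = a₀ • f (Ideal.Quotient.mk p b₀) := by
        rw [← map_smul]; rfl
      rw [this]; exact B.smul_mem _ hbB
    have h0 : f (Ideal.Quotient.mk p (a₀ * b₀)) = 0 := by
      have := hAB.disjoint.le_bot ⟨h1, h2⟩
      simpa using this
    have h3 : Ideal.Quotient.mk p (a₀ * b₀) = 0 := hf.injective (by rw [h0, map_zero])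
    rw [Ideal.Quotient.eq_zero_iff_mem] at h3
    rcases hp.mem_or_mem h3 with h | h
    · exact ha0 (by rw [Ideal.Quotient.eq_zero_iff_mem.mpr h, map_zero])
    · exact hb0 (by rw [Ideal.Quotient.eq_zero_iff_mem.mpr h, map_zero])

theorem exists_hull_residueField (p : Ideal R) [hp : p.IsPrime] {E : Type u}
    [AddCommGroup E] [Module R E] (f : (R ⧸ p) →ₗ[R] E) (hf : IsInjectiveHull f) :
    ∃ g : p.ResidueField →ₗ[R] E, IsInjectiveHull g := by
  let ι : (R ⧸ p) →ₗ[R] p.ResidueField :=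
    (IsScalarTower.toAlgHom R (R ⧸ p) p.ResidueField).toLinearMap
  have hι : Function.Injective ι := IsFractionRing.injective (R ⧸ p) p.ResidueField
  obtain ⟨g, hg⟩ := hf.isInjective.out ι hι f
  have hιess : IsEssentialInj ι := by
    refine isEssentialInj_of_ess ι hι (fun x hx => ?_)
    obtain ⟨a, b, hb, rfl⟩ := IsFractionRing.div_surjective (A := R ⧸ p) x
    obtain ⟨b₀, rfl⟩ := Ideal.Quotient.mk_surjective b
    have hb' : algebraMap (R ⧸ p) p.ResidueField (Ideal.Quotient.mk p b₀) ≠ 0 :=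
      IsFractionRing.to_map_ne_zero_of_mem_nonZeroDivisors hb
    have key : b₀ • (algebraMap (R ⧸ p) p.ResidueField a /
        algebraMap (R ⧸ p) p.ResidueField (Ideal.Quotient.mk p b₀)) =
        algebraMap (R ⧸ p) p.ResidueField a := by
      rw [Algebra.smul_def, IsScalarTower.algebraMap_apply R (R ⧸ p) p.ResidueField]
      exact mul_div_cancel₀ _ hb'
    refine ⟨b₀, ?_, a, ?_⟩
    · rw [key]
      intro h0
      apply hx
      rw [h0, zero_div]
    · rw [key]; rfl
  have hgf : g ∘ₗ ι = f := LinearMap.ext hg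
  refine ⟨g, ⟨⟨injective_of_essential hιess g (by rw [hgf]; exact hf.injective), fun N hN => ?_⟩,
    hf.isInjective⟩⟩
  have hle : LinearMap.range f ≤ LinearMap.range g := by
    rintro _ ⟨m, rfl⟩; exact ⟨ι m, hg m⟩
  intro hbot
  apply hf.essential N hN
  rw [eq_bot_iff, ← hbot]
  exact inf_le_inf_left N hle


theorem exists_hull_of_indecomposable [IsNoetherianRing R] {E : Type u} [AddCommGroup E]
    [Module R E] (hE : IsIndecomposable R E) (hinj : Module.Injective R E) :
    ∃ (p : Ideal R) (_ : p.IsPrime) (g : p.ResidueField →ₗ[R] E), IsInjectiveHull g := by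
  have : Nontrivial E := hE.1
  obtain ⟨p, hp⟩ := associatedPrimes.nonempty R E
  obtain ⟨hpp, x, hx⟩ := (isAssociatedPrime_iff).mp hp
  have hker : LinearMap.ker (LinearMap.toSpanSingleton R E x) = p := by
    ext r
    rw [hx, Submodule.mem_colon_singleton, LinearMap.mem_ker, LinearMap.toSpanSingleton_apply,
      Submodule.mem_bot]
  let φ : (R ⧸ p) →ₗ[R] E := Submodule.liftQ p (LinearMap.toSpanSingleton R E x) hker.ge
  have hφ : Function.Injective φ := by
    rw [← LinearMap.ker_eq_bot]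
    exact Submodule.ker_liftQ_eq_bot _ _ _ hker.le
  have : Nontrivial (R ⧸ p) := Ideal.Quotient.nontrivial_iff.mpr hpp.ne_top
  have hrange : LinearMap.range φ ≠ ⊥ := by
    intro h
    rw [LinearMap.range_eq_bot] at h
    obtain ⟨a, ha⟩ := exists_ne (0 : R ⧸ p)
    exact ha (hφ (by rw [h]; simp))
  have hhull : IsInjectiveHull φ :=
    ⟨⟨hφ, fun N hN => inf_ne_bot_of_indecomposable hE hinj N _ hN hrange⟩, hinj⟩
  obtain ⟨g, hg⟩ := exists_hull_residueField p φ hhull
  exact ⟨p, hpp, g, hg⟩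

end Groth.Agent.Lib.helper1.InjHullLib
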