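import Mathlib
import Groth.Prelude
import Groth.Agent.Lib.helper1.InjHull2

set_option autoImplicit false
universe u

namespace Groth.Agent.Lib.helper1.InjHullLib

open InjHull

variable {R : Type u} [CommRing R]

/-- Bass–Papp (easy direction): over a Noetherian ring direct sums of injectives are injective. -/
theorem injective_directSum [IsNoetherianRing R] {ι : Type u} (E : ι → Type u)
    [∀ i, AddCommGroup (E i)] [∀ i, Module R (E i)] (hE : ∀ i, Module.Injective R (E i)) :
    Module.Injective R (DirectSum ι E) := by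
  classical
  apply Module.Baer.injective
  intro I g
  obtain ⟨s, hs⟩ := (isNoetherianRing_iff_ideal_fg R).mp inferInstance I
  have hsI : ∀ a ∈ s, a ∈ I := fun a ha => hs ▸ Submodule.subset_span ha
  let S : Finset ι := s.attach.biUnion (fun a => DFinsupp.support (g ⟨a.1, hsI a.1 a.2⟩))
  have hB : ∀ i, ∃ g' : R →ₗ[R] E i, ∀ (x : R) (mem : x ∈ I),
      g' x = DirectSum.component R ι E i (g ⟨x, mem⟩) := fun i =>
    (Module.Baer.of_injective (hE i)) I (DirectSum.component R ι E i ∘ₗ g)
  choose g' hg' using hB
  let x : DirectSum ι E := DFinsupp.mk S (fun i => g' i.1 1)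
  refine ⟨LinearMap.toSpanSingleton R _ x, fun a ha => ?_⟩
  refine DFinsupp.ext fun i => ?_
  rw [LinearMap.toSpanSingleton_apply]
  change a • (x i) = _
  by_cases hi : i ∈ S
  · have : x i = g' i 1 := by simp [x, hi]
    rw [this, ← map_smul, smul_eq_mul, mul_one, hg' i a ha]
    rfl
  · have : x i = 0 := by simp [x, hi]
    rw [this, smul_zero]
    symm
    let h : I →ₗ[R] E i := DirectSum.component R ι E i ∘ₗ g
    have hle : I ≤ Submodule.map I.subtype (LinearMap.ker h) := by
      refine hs.symm.le.trans ?_
      rw [Ideal.span, Submodule.span_le]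
      intro b hb
      refine ⟨⟨b, hsI b hb⟩, ?_, rfl⟩
      show h ⟨b, hsI b hb⟩ = 0
      by_contra hne
      apply hi
      rw [Finset.mem_biUnion]
      exact ⟨⟨b, hb⟩, Finset.mem_attach _ _, by rw [DFinsupp.mem_support_toFun]; exact hne⟩
    obtain ⟨b, hb, hba⟩ := hle ha
    have : b = ⟨a, ha⟩ := Subtype.ext hba
    rw [← this]
    exact hb

end Groth.Agent.Lib.helper1.InjHullLib
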