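import Mathlib

/-!
# Jacobson's formula, part 1: ring-theoretic lemmas in characteristic `p`
-/

namespace Groth.Agent.Lib.helper1.JF

open Polynomial

section
variable {B : Type*} [Ring B]

/-- the commutator -/
def adf (F G : B) : B := F * G - G * F

theorem choose_pred_cast (p : ℕ) [hp : Fact p.Prime] (hB : (p : B) = 0) (j : ℕ) (hj : j ≤ p - 1) :
    ((p - 1).choose j : B) = (-1) ^ j := by
  induction j with
  | zero => simp
  | succ j ih =>
    have hpos := hp.out.pos
    have h1 : (p - 1).choose j + (p - 1).choose (j + 1) = p.choose (j + 1) := by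
      have : p = (p - 1) + 1 := by omega
      conv_rhs => rw [this]
      rw [Nat.choose_succ_succ]
    have h2 : (p.choose (j+1) : B) = 0 := by
      have : p ∣ p.choose (j+1) := hp.out.dvd_choose_self (by omega) (by omega)
      obtain ⟨c, hc⟩ := this
      rw [hc, Nat.cast_mul, hB, zero_mul]
    have h3 := congrArg (Nat.cast (R := B)) h1
    rw [Nat.cast_add, ih (by omega), h2] at h3
    have h4 : ((p - 1).choose (j + 1) : B) = -(-1) ^ j := by
      rw [eq_neg_iff_add_eq_zero, add_comm]; exact h3
    rw [h4, pow_succ]; simp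

theorem neg_one_pow_pred (p : ℕ) [hp : Fact p.Prime] (hB : (p : B) = 0) :
    (-1 : B) ^ (p - 1) = 1 := by
  rcases hp.out.eq_two_or_odd' with h2 | hodd
  · subst h2
    have : (2 : B) = 0 := by exact_mod_cast hB
    have h1 : (-1 : B) = 1 := by
      rw [neg_eq_iff_add_eq_zero]; rw [one_add_one_eq_two]; exact this
    simp [h1]
  · have : Even (p - 1) := by
      obtain ⟨k, hk⟩ := hodd
      exact ⟨k, by omega⟩
    exact this.neg_one_pow

theorem mulLeft_pow_apply (F x : B) (n : ℕ) :
    ((LinearMap.mulLeft ℤ F) ^ n) x = F ^ n * x := by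
  induction n generalizing x with
  | zero => simp
  | succ n ih =>
    rw [pow_succ, Module.End.mul_apply, ih, LinearMap.mulLeft_apply, pow_succ, mul_assoc]

theorem neg_mulRight_pow_apply (F x : B) (n : ℕ) :
    ((-(LinearMap.mulRight ℤ F)) ^ n) x = (-1 : B) ^ n * (x * F ^ n) := by
  induction n generalizing x with
  | zero => simp
  | succ n ih =>
    rw [pow_succ, Module.End.mul_apply, ih, LinearMap.neg_apply, LinearMap.mulRight_apply,
      pow_succ, pow_succ]
    have h1 : Commute ((-1 : B) ^ n) (x * F) := (Commute.neg_one_left _).pow_left n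
    have h2 : Commute ((-1 : B)) (x * F * F^n) := Commute.neg_one_left _
    simp only [neg_mul, mul_neg, mul_one, neg_neg, mul_assoc]
    rw [pow_mul_comm' F n]

theorem adf_iterate_eq_pow (F G : B) (n : ℕ) :
    (adf F)^[n] G = ((LinearMap.mulLeft ℤ F + -(LinearMap.mulRight ℤ F)) ^ n) G := by
  induction n generalizing G with
  | zero => simp
  | succ n ih =>
    rw [Function.iterate_succ_apply', ih, pow_succ', Module.End.mul_apply]
    simp [adf, sub_eq_add_neg]

theorem sum_pow_mul_pow (p : ℕ) [hp : Fact p.Prime] (hB : (p : B) = 0) (F G : B) :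
    ∑ j ∈ Finset.range p, F ^ j * G * F ^ (p - 1 - j) = (adf F)^[p - 1] G := by
  have hpos := hp.out.pos
  rw [adf_iterate_eq_pow]
  have hc : Commute (LinearMap.mulLeft ℤ F) (-(LinearMap.mulRight ℤ F)) :=
    (LinearMap.commute_mulLeft_right F F).neg_right
  rw [hc.add_pow, LinearMap.sum_apply]
  have hp1 : p - 1 + 1 = p := by omega
  rw [hp1]
  apply Finset.sum_congr rfl
  intro j hj
  have hj' : j ≤ p - 1 := by
    have := Finset.mem_range.mp hj; omega
  rw [Module.End.mul_apply, Module.End.mul_apply, mulLeft_pow_apply, neg_mulRight_pow_apply]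
  have h1 : ((((p - 1).choose j : ℕ) : Module.End ℤ B)) G = ((p - 1).choose j : B) * G := by
    rw [Module.End.natCast_apply, nsmul_eq_mul]
  rw [h1, choose_pred_cast p hB j hj']
  have h2 : (-1 : B) ^ (p - 1 - j) * ((-1 : B) ^ j * G * F ^ (p - 1 - j))
      = ((-1 : B) ^ (p - 1 - j) * (-1 : B) ^ j) * (G * F ^ (p - 1 - j)) := by
    simp only [mul_assoc]
  rw [h2, ← pow_add, Nat.sub_add_cancel hj', neg_one_pow_pred p hB, one_mul, mul_assoc]

end

section Deriv
variable {A : Type*} [Ring A]

theorem derivative_pow_noncomm (f : A[X]) (n : ℕ) :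
    derivative (f ^ n) = ∑ j ∈ Finset.range n, f ^ j * derivative f * f ^ (n - 1 - j) := by
  induction n with
  | zero => simp
  | succ n ih =>
    rw [pow_succ, derivative_mul, ih, Finset.sum_range_succ, Finset.sum_mul]
    congr 1
    · apply Finset.sum_congr rfl
      intro j hj
      have hj' := Finset.mem_range.mp hj
      rw [mul_assoc, ← pow_succ]
      congr 2
      omega
    · simp

end Deriv

end Groth.Agent.Lib.helper1.JF
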