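import Groth.Agent.Lib.helper1.JF1

/-!
# Jacobson's formula, part 2: expansion in `A[X]`
-/

namespace Groth.Agent.Lib.helper1.JF

open Polynomial

variable {A : Type*} [Ring A]

/-- commutator word -/
def cword (a : Bool → A) (a₁ : A) : List Bool → A
  | [] => a₁
  | t :: w => a t * cword a a₁ w - cword a a₁ w * a t

/-- the pair as a family -/
def pairA (x₀ x₁ : A) : Bool → A := fun b => if b then x₁ else x₀

/-- number of `true` values -/
def cntT {n : ℕ} (t : Fin n → Bool) : ℕ := (Finset.univ.filter (fun i => t i = true)).card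

theorem cntT_cons {n : ℕ} (b : Bool) (t : Fin n → Bool) :
    cntT (Fin.cons b t : Fin (n+1) → Bool) = cntT t + (if b = true then 1 else 0) := by
  unfold cntT
  rw [Fin.card_filter_univ_succ]
  simp only [Fin.cons_zero, Fin.cons_succ]
  split_ifs <;> rfl

theorem cntT_le {n : ℕ} (t : Fin n → Bool) : cntT t ≤ n := by
  unfold cntT
  calc _ ≤ (Finset.univ : Finset (Fin n)).card := Finset.card_filter_le _ _
    _ = n := by simp

/-- `x₁ X + x₀` -/
noncomputable def fpoly (x₀ x₁ : A) : A[X] := C x₁ * X + C x₀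

/-- the expansion -/
noncomputable def G (x₀ x₁ : A) (n : ℕ) : A[X] :=
  ∑ t : Fin n → Bool, C (cword (pairA x₀ x₁) x₁ (List.ofFn t)) * X ^ (cntT t)

theorem adf_fpoly (x₀ x₁ c : A) (k : ℕ) :
    adf (fpoly x₀ x₁) (C c * X ^ k)
      = C (x₁ * c - c * x₁) * X ^ (k + 1) + C (x₀ * c - c * x₀) * X ^ k := by
  unfold adf fpoly
  have h1 : (C x₁ * X + C x₀) * (C c * X ^ k) = C (x₁ * c) * X ^ (k+1) + C (x₀ * c) * X ^ k := by
    rw [add_mul, mul_assoc, ← mul_assoc X, X_mul_C, mul_assoc (C c), ← pow_succ', ← mul_assoc,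
      ← C_mul, ← mul_assoc, ← C_mul]
  have h2 : (C c * X ^ k) * (C x₁ * X + C x₀) = C (c * x₁) * X ^ (k+1) + C (c * x₀) * X ^ k := by
    rw [mul_add, mul_assoc, ← mul_assoc (X ^ k), X_pow_mul_C, mul_assoc (C x₁), ← pow_succ,
      ← mul_assoc, ← C_mul, mul_assoc, X_pow_mul_C, ← mul_assoc, ← C_mul]
  rw [h1, h2, C_sub, C_sub, sub_mul, sub_mul]
  abel

theorem adf_sum {B : Type*} [Ring B] {κ : Type*} (s : Finset κ) (F : B) (g : κ → B) :
    adf F (∑ i ∈ s, g i) = ∑ i ∈ s, adf F (g i) := by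
  unfold adf
  rw [Finset.mul_sum, Finset.sum_mul, Finset.sum_sub_distrib]

theorem G_succ (x₀ x₁ : A) (n : ℕ) :
    G x₀ x₁ (n + 1) = adf (fpoly x₀ x₁) (G x₀ x₁ n) := by
  unfold G
  rw [adf_sum]
  rw [← (Fin.consEquiv fun _ => Bool).sum_comp, Fintype.sum_prod_type, Fintype.sum_bool]
  rw [← Finset.sum_add_distrib]
  apply Finset.sum_congr rfl
  intro t _
  rw [adf_fpoly]
  have e1 : ∀ b : Bool, List.ofFn ((Fin.consEquiv fun _ => Bool) (b, t))
      = b :: List.ofFn t := by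
    intro b
    rw [List.ofFn_succ]
    simp [Fin.consEquiv]
  have e2 : ∀ b : Bool, cntT ((Fin.consEquiv fun _ => Bool) (b, t))
      = cntT t + (if b = true then 1 else 0) := by
    intro b
    exact cntT_cons b t
  rw [e1, e1, e2, e2]
  simp [cword, pairA]

theorem iterate_adf_fpoly (x₀ x₁ : A) (n : ℕ) :
    (adf (fpoly x₀ x₁))^[n] (C x₁) = G x₀ x₁ n := by
  induction n with
  | zero =>
    simp [G, cword, cntT]
  | succ n ih =>
    rw [Function.iterate_succ_apply', ih, G_succ]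

theorem coeff_G (x₀ x₁ : A) (n k : ℕ) :
    (G x₀ x₁ n).coeff k
      = ∑ t : Fin n → Bool, if cntT t = k then cword (pairA x₀ x₁) x₁ (List.ofFn t) else 0 := by
  unfold G
  rw [finsetSum_coeff]
  apply Finset.sum_congr rfl
  intro t _
  rw [coeff_C_mul_X_pow]
  by_cases h : k = cntT t
  · rw [if_pos h, if_pos h.symm]
  · rw [if_neg h, if_neg (fun h' => h h'.symm)]

theorem derivative_fpoly (x₀ x₁ : A) : derivative (fpoly x₀ x₁) = C x₁ := by
  unfold fpoly
  simp

theorem natCast_poly_eq_zero (p : ℕ) (hA : (p : A) = 0) : (p : A[X]) = 0 := by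
  rw [← C_eq_natCast, hA, C_0]

/-- coefficients of the derivative of `f^p` -/
theorem coeff_succ_fpoly_pow (p : ℕ) [hp : Fact p.Prime] (hA : (p : A) = 0) (x₀ x₁ : A) (k : ℕ) :
    ((fpoly x₀ x₁) ^ p).coeff (k + 1) * ((k : A) + 1)
      = ∑ t : Fin (p - 1) → Bool,
          if cntT t = k then cword (pairA x₀ x₁) x₁ (List.ofFn t) else 0 := by
  rw [← coeff_derivative, derivative_pow_noncomm, derivative_fpoly,
    sum_pow_mul_pow p (natCast_poly_eq_zero p hA), iterate_adf_fpoly, coeff_G]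

theorem natDegree_fpoly_le (x₀ x₁ : A) : (fpoly x₀ x₁).natDegree ≤ 1 := by
  unfold fpoly
  compute_degree

theorem coeff_zero_fpoly_pow (x₀ x₁ : A) (n : ℕ) : ((fpoly x₀ x₁) ^ n).coeff 0 = x₀ ^ n := by
  induction n with
  | zero => simp
  | succ n ih =>
    rw [pow_succ, mul_coeff_zero, ih, pow_succ]
    congr 1
    simp [fpoly]

theorem coeff_top_fpoly_pow (x₀ x₁ : A) (n : ℕ) : ((fpoly x₀ x₁) ^ n).coeff n = x₁ ^ n := by
  have := coeff_pow_of_natDegree_le (m := n) (natDegree_fpoly_le x₀ x₁)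
  rw [mul_one] at this
  rw [this]
  congr 1
  simp [fpoly]

theorem add_pow_eq_sum_coeff (x₀ x₁ : A) (n : ℕ) :
    (x₀ + x₁) ^ n = ∑ i ∈ Finset.range (n + 1), ((fpoly x₀ x₁) ^ n).coeff i := by
  have hdeg : ((fpoly x₀ x₁) ^ n).natDegree < n + 1 := by
    have := natDegree_pow_le_of_le n (natDegree_fpoly_le x₀ x₁)
    omega
  have h1 := eval₂_eq_sum_range' (RingHom.id A) hdeg (1 : A)
  simp only [RingHom.id_apply, one_pow, mul_one] at h1
  rw [← h1]
  have h2 : eval₂ (RingHom.id A) 1 ((fpoly x₀ x₁) ^ n)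
      = (eval₂RingHom' (RingHom.id A) 1 (fun a => Commute.one_right _)) ((fpoly x₀ x₁) ^ n) := rfl
  rw [h2, map_pow]
  congr 1
  simp [fpoly, eval₂RingHom', add_comm]

/-- the first form of Jacobson's formula -/
theorem add_pow_char_noncomm (p : ℕ) [hp : Fact p.Prime] (x₀ x₁ : A) :
    (x₀ + x₁) ^ p = x₀ ^ p + x₁ ^ p
      + ∑ i ∈ Finset.Ico 1 p, ((fpoly x₀ x₁) ^ p).coeff i := by
  have hpos := hp.out.pos
  rw [add_pow_eq_sum_coeff, Finset.sum_range_succ, coeff_top_fpoly_pow,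
    Finset.range_eq_Ico, Finset.sum_eq_sum_Ico_succ_bot hpos, coeff_zero_fpoly_pow]
  abel

end Groth.Agent.Lib.helper1.JF
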