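import Groth.Agent.Lib.helper1.JF2

/-!
# Jacobson's formula, part 3: the final form with coefficients in `ZMod p`
-/

namespace Groth.Agent.Lib.helper1.JF

open Polynomial

variable {R : Type*} [CommRing R] (p : ℕ) [hp : Fact p.Prime] [CharP R p]
variable {A : Type*} [Ring A] [Algebra R A]

/-- Jacobson's sum in an associative algebra -/
noncomputable def jac (x₀ x₁ : A) : A :=
  ∑ t : Fin (p - 1) → Bool,
    ((ZMod.castHom (dvd_refl p) R) ((Fintype.card {i // t i = false} : ZMod p)⁻¹)) •
      cword (pairA x₀ x₁) x₁ (List.ofFn t)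

theorem natCast_eq_zero_of_algebra (R' : Type*) [CommRing R'] (q : ℕ) [CharP R' q]
    {A' : Type*} [Ring A'] [Algebra R' A'] : ((q : ℕ) : A') = 0 := by
  have h1 : ((q : ℕ) : A') = algebraMap R' A' ((q : ℕ) : R') := (map_natCast _ _).symm
  rw [h1, CharP.cast_eq_zero R' q, map_zero]

theorem card_false {n : ℕ} (t : Fin n → Bool) :
    Fintype.card {i // t i = false} + cntT t = n := by
  unfold cntT
  rw [Fintype.card_subtype]
  have h := Finset.card_filter_add_card_filter_not (s := (Finset.univ : Finset (Fin n)))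
    (fun i => t i = true)
  simp only [Bool.not_eq_true, Finset.card_univ, Fintype.card_fin] at h
  omega

/-- the scalar `c_k` -/
noncomputable def cinv (k : ℕ) : R := (ZMod.castHom (dvd_refl p) R) (((k + 1 : ℕ) : ZMod p)⁻¹)

theorem cinv_mul (k : ℕ) (hk : k + 1 < p) : cinv (R := R) p k * ((k + 1 : ℕ) : R) = 1 := by
  unfold cinv
  have h1 : ((k + 1 : ℕ) : R) = (ZMod.castHom (dvd_refl p) R) (((k + 1 : ℕ) : ZMod p)) := by
    rw [map_natCast]
  rw [h1, ← map_mul]
  have h2 : (((k + 1 : ℕ) : ZMod p)) ≠ 0 := by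
    intro h
    rw [ZMod.natCast_eq_zero_iff] at h
    have := Nat.le_of_dvd (by omega) h
    omega
  rw [inv_mul_cancel₀ h2, map_one]

theorem coeff_succ_eq (x₀ x₁ : A) (k : ℕ) (hk : k + 1 < p) :
    ((fpoly x₀ x₁) ^ p).coeff (k + 1)
      = ∑ t : Fin (p - 1) → Bool,
          if cntT t = k then cinv (R := R) p k • cword (pairA x₀ x₁) x₁ (List.ofFn t) else 0 := by
  have h1 := coeff_succ_fpoly_pow p (natCast_eq_zero_of_algebra R p) x₀ x₁ k
  have h2 : cinv (R := R) p k • (((fpoly x₀ x₁) ^ p).coeff (k + 1) * ((k : A) + 1))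
      = ((fpoly x₀ x₁) ^ p).coeff (k + 1) := by
    rw [← mul_smul_comm]
    have h3 : cinv (R := R) p k • ((k : A) + 1) = 1 := by
      have : ((k : A) + 1) = algebraMap R A ((k + 1 : ℕ) : R) := by simp
      rw [this, Algebra.smul_def, ← map_mul, cinv_mul p k hk, map_one]
    rw [h3, mul_one]
  rw [← h2, h1, Finset.smul_sum]
  apply Finset.sum_congr rfl
  intro t _
  split_ifs
  · rfl
  · rw [smul_zero]

theorem card_false_cast {t : Fin (p - 1) → Bool} (ht : cntT t + 1 < p) :
    ((Fintype.card {i // t i = false} : ℕ) : ZMod p) = - (((cntT t + 1 : ℕ)) : ZMod p) := by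
  have h := card_false t
  have hpos := hp.out.pos
  rw [eq_neg_iff_add_eq_zero, ← Nat.cast_add]
  have : Fintype.card {i // t i = false} + (cntT t + 1) = p := by omega
  rw [this, ZMod.natCast_self]

/-- **Jacobson's formula** in an associative algebra of characteristic `p`. -/
theorem add_pow_eq (x₀ x₁ : A) :
    (x₀ + x₁) ^ p = x₀ ^ p + x₁ ^ p - jac (R := R) p x₀ x₁ := by
  have hpos := hp.out.pos
  rw [add_pow_char_noncomm p x₀ x₁, sub_eq_add_neg]
  congr 1
  rw [Finset.sum_Ico_eq_sum_range]
  have h1 : ∀ k ∈ Finset.range (p - 1), ((fpoly x₀ x₁) ^ p).coeff (1 + k)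
      = ∑ t : Fin (p - 1) → Bool,
          if cntT t = k then cinv (R := R) p k • cword (pairA x₀ x₁) x₁ (List.ofFn t) else 0 := by
    intro k hk
    have hk' := Finset.mem_range.mp hk
    rw [add_comm 1 k]
    exact coeff_succ_eq p x₀ x₁ k (by omega)
  rw [Finset.sum_congr rfl h1, Finset.sum_comm]
  unfold jac
  rw [← Finset.sum_neg_distrib]
  apply Finset.sum_congr rfl
  intro t _
  rw [Finset.sum_ite_eq]
  have hle := cntT_le t
  by_cases ht : cntT t ∈ Finset.range (p - 1)
  · rw [if_pos ht]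
    have ht' := Finset.mem_range.mp ht
    rw [card_false_cast p (by omega), inv_neg, map_neg, neg_smul, neg_neg]
    rfl
  · rw [if_neg ht]
    have ht' : cntT t = p - 1 := by
      have := Finset.mem_range.not.mp ht; omega
    have h0 : Fintype.card {i // t i = false} = 0 := by
      have := card_false t; omega
    rw [h0]
    simp

end Groth.Agent.Lib.helper1.JF
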