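import Mathlib
import Groth.Prelude.Def_AlgGrp

/-! Pointwise characterisation of kernels of homomorphisms of group objects. -/

open CategoryTheory CategoryTheory.Limits MonoidalCategory CartesianMonoidalCategory MonObj GrpObj
  AlgebraicGeometry

universe u

namespace Groth.Agent.Lib.helper1.KP

variable {S : Scheme.{u}}

/-- A kernel in the sense of `AlgGrp.IsKernel` is characterised on points. -/
theorem isKernel_iff {N G Q : Over S} [GrpObj Q] (i : N ⟶ G) (q : G ⟶ Q) :
    AlgGrp.IsKernel i q ↔ (i ≫ q = 1 ∧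
      ∀ (T : Over S) (x : T ⟶ G), x ≫ q = 1 → ∃! y : T ⟶ N, y ≫ i = x) := by
  constructor
  · intro hP
    have hP' : IsPullback i (toUnit N) q η[Q] := hP
    refine ⟨?_, fun T x hx => ?_⟩
    · rw [hP'.w]; rfl
    · have hx' : x ≫ q = toUnit T ≫ η[Q] := by rw [hx]; rfl
      refine ⟨hP'.lift x (toUnit T) hx', hP'.lift_fst _ _ _, fun y hy => ?_⟩
      apply hP'.hom_ext
      · rw [hy, hP'.lift_fst]
      · exact toUnit_unique _ _
  · rintro ⟨hw, hl⟩
    have hw' : i ≫ q = toUnit N ≫ η[Q] := by rw [hw]; rfl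
    refine IsPullback.mk ⟨hw'⟩ ⟨PullbackCone.IsLimit.mk hw' (fun s => ?_) (fun s => ?_) (fun s => ?_)
      (fun s m h1 h2 => ?_)⟩
    · have hs : s.fst ≫ q = 1 := by
        rw [s.condition, toUnit_unique s.snd (toUnit _)]; rfl
      exact (hl s.pt s.fst hs).choose
    · have hs : s.fst ≫ q = 1 := by
        rw [s.condition, toUnit_unique s.snd (toUnit _)]; rfl
      exact (hl s.pt s.fst hs).choose_spec.1
    · exact toUnit_unique _ _
    · have hs : s.fst ≫ q = 1 := by
        rw [s.condition, toUnit_unique s.snd (toUnit _)]; rfl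
      exact (hl s.pt s.fst hs).choose_spec.2 m h1

/-- A kernel is a monomorphism on points. -/
theorem IsKernel.eq_of_comp_eq {N G Q : Over S} [GrpObj Q] {i : N ⟶ G} {q : G ⟶ Q}
    (h : AlgGrp.IsKernel i q) {T : Over S} (y y' : T ⟶ N) (hy : y ≫ i = y' ≫ i) : y = y' := by
  obtain ⟨hw, hl⟩ := (isKernel_iff i q).1 h
  have hx : (y ≫ i) ≫ q = 1 := by
    rw [Category.assoc, hw, MonObj.comp_one]
  obtain ⟨z, -, hz⟩ := hl T (y ≫ i) hx
  rw [hz y rfl, hz y' hy.symm]

end Groth.Agent.Lib.helper1.KP
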