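import Mathlib

/-! Kaplansky's theorem on direct summands of direct sums of countably generated modules. -/

namespace Kap

variable {R : Type*} [CommRing R] {M : Type*} [AddCommGroup M] [Module R M]

/-- countably generated submodule -/
def CG (L : Submodule R M) : Prop := ∃ s : Set M, s.Countable ∧ Submodule.span R s = L

lemma CG.map {M' : Type*} [AddCommGroup M'] [Module R M'] (f : M →ₗ[R] M')
    {L : Submodule R M} (h : CG L) : CG (L.map f) := by
  obtain ⟨s, hs, rfl⟩ := h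
  exact ⟨f '' s, hs.image f, by rw [Submodule.map_span]⟩

lemma CG.biSup {ι : Type*} {S : Set ι} (hS : S.Countable) {N : ι → Submodule R M}
    (h : ∀ i ∈ S, CG (N i)) : CG (⨆ i ∈ S, N i) := by
  choose! s hs hspan using h
  refine ⟨⋃ i ∈ S, s i, hS.biUnion hs, ?_⟩
  rw [Submodule.span_iUnion₂]
  exact biSup_congr hspan

lemma CG.of_compl {A L D : Submodule R M} (hAL : Disjoint A L) (h1 : L ≤ A ⊔ D)
    (h2 : D ≤ A ⊔ L) (hD : CG D) : CG L := by
  obtain ⟨s, hs, rfl⟩ := hD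
  have : ∀ d ∈ s, ∃ l ∈ L, d - l ∈ A := by
    intro d hd
    have := h2 (Submodule.subset_span hd)
    obtain ⟨a, ha, l, hl, rfl⟩ := Submodule.mem_sup.1 this
    exact ⟨l, hl, by simpa using ha⟩
  choose! l hl hla using this
  have hle : Submodule.span R (l '' s) ≤ L := by
    rw [Submodule.span_le]; rintro _ ⟨d, hd, rfl⟩; exact hl d hd
  refine ⟨l '' s, hs.image l, le_antisymm hle ?_⟩
  intro x hx
  have key : ∀ d ∈ Submodule.span R s, ∃ l' ∈ Submodule.span R (l '' s), d - l' ∈ A := by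
    intro d hd
    induction hd using Submodule.span_induction with
    | mem d hd => exact ⟨l d, Submodule.subset_span ⟨d, hd, rfl⟩, hla d hd⟩
    | zero => exact ⟨0, zero_mem _, by simp⟩
    | add x y _ _ hx hy =>
      obtain ⟨lx, hlx, hx'⟩ := hx
      obtain ⟨ly, hly, hy'⟩ := hy
      refine ⟨lx + ly, add_mem hlx hly, ?_⟩
      have h5 : x + y - (lx + ly) = (x - lx) + (y - ly) := by abel
      rw [h5]; exact add_mem hx' hy'
    | smul r x _ hx =>
      obtain ⟨lx, hlx, hx'⟩ := hx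
      exact ⟨r • lx, Submodule.smul_mem _ r hlx, by rw [← smul_sub]; exact A.smul_mem r hx'⟩
  obtain ⟨a, ha, d, hd, rfl⟩ := Submodule.mem_sup.1 (h1 hx)
  obtain ⟨l', hl', hdl⟩ := key d hd
  have hl'L : l' ∈ L := hle hl'
  have h3 : a + d - l' ∈ A ⊓ L := ⟨by
    have h5 : a + d - l' = a + (d - l') := by abel
    rw [h5]; exact add_mem ha hdl, sub_mem hx hl'L⟩
  rw [hAL.eq_bot] at h3
  have h4 : a + d = l' := sub_eq_zero.1 ((Submodule.mem_bot R).1 h3)
  rw [h4]; exact hl'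

/-- transfer to a module mapping injectively onto the submodule -/
lemma CG.exists_of_injective {X : Type*} [AddCommGroup X] [Module R X] (g : X →ₗ[R] M)
    (hg : Function.Injective g) {l : Submodule R M} (hr : LinearMap.range g = l) (hl : CG l) :
    ∃ s : Set X, s.Countable ∧ Submodule.span R s = ⊤ := by
  obtain ⟨s₀, hs₀, hspan⟩ := hl
  refine ⟨g ⁻¹' s₀, hs₀.preimage_of_injOn hg.injOn, ?_⟩
  apply Submodule.map_injective_of_injective hg
  rw [Submodule.map_span, Submodule.map_top, hr, Set.image_preimage_eq_inter_range]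
  have : s₀ ⊆ Set.range g := by
    intro x hx
    have : x ∈ LinearMap.range g := by rw [hr, ← hspan]; exact Submodule.subset_span hx
    exact this
  rw [Set.inter_eq_left.2 this, hspan]

section main

variable {ι : Type*} (N : ι → Submodule R M)

/-- the partial sum -/
def MJ (J : Set ι) : Submodule R M := ⨆ i ∈ J, N i

lemma MJ_mono {J J' : Set ι} (h : J ⊆ J') : MJ N J ≤ MJ N J' := biSup_mono h

lemma MJ_iUnion {η : Sort*} (J : η → Set ι) : MJ N (⋃ a, J a) = ⨆ a, MJ N (J a) := by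
  unfold MJ; exact iSup_iUnion _ _

lemma MJ_union (J J' : Set ι) : MJ N (J ∪ J') = MJ N J ⊔ MJ N J' := iSup_union

lemma MJ_univ : MJ N Set.univ = ⨆ i, N i := by simp [MJ]

lemma le_MJ {J : Set ι} {i : ι} (hi : i ∈ J) : N i ≤ MJ N J := le_biSup N hi

variable (π : M →ₗ[R] M)

/-- stable under the projection -/
def Good (J : Set ι) : Prop := (MJ N J).map π ≤ MJ N J

lemma Good.iUnion {η : Sort*} {J : η → Set ι} (h : ∀ a, Good N π (J a)) :
    Good N π (⋃ a, J a) := by
  unfold Good; rw [MJ_iUnion, Submodule.map_iSup]; exact iSup_mono (fun a => h a)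

lemma Good.union {J J' : Set ι} (h : Good N π J) (h' : Good N π J') : Good N π (J ∪ J') := by
  unfold Good; rw [MJ_union, Submodule.map_sup]; exact sup_le_sup h h'

lemma exists_T (hN : ⨆ i, N i = ⊤) (hc : ∀ i, CG (N i)) (i : ι) :
    ∃ T : Set ι, T.Countable ∧ (N i).map π ≤ MJ N T := by
  obtain ⟨s, hs, hspan⟩ := hc i
  have : ∀ x ∈ s, ∃ F : Finset ι, π x ∈ ⨆ j ∈ F, N j := by
    intro x _
    have : π x ∈ ⨆ i, N i := hN ▸ Submodule.mem_top
    exact Submodule.mem_iSup_iff_exists_finset.1 this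
  choose! F hF using this
  refine ⟨⋃ x ∈ s, (F x : Set ι), hs.biUnion (fun x _ => (F x).countable_toSet), ?_⟩
  rw [← hspan, Submodule.map_span, Submodule.span_le]
  rintro _ ⟨x, hx, rfl⟩
  have h1 : π x ∈ MJ N (F x : Set ι) := hF x hx
  exact MJ_mono N (Set.subset_biUnion_of_mem hx) h1

lemma exists_countable_good (hN : ⨆ i, N i = ⊤) (hc : ∀ i, CG (N i)) (i₀ : ι) :
    ∃ S : Set ι, S.Countable ∧ i₀ ∈ S ∧ Good N π S := by
  choose T hT hTle using exists_T N π hN hc
  let step : Set ι → Set ι := fun A => A ∪ ⋃ j ∈ A, T j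
  let S : ℕ → Set ι := fun n => step^[n] {i₀}
  have hScount : ∀ n, (S n).Countable := by
    intro n
    induction n with
    | zero => simp [S]
    | succ n ih =>
      simp only [S, Function.iterate_succ_apply']
      exact ih.union (ih.biUnion fun j _ => hT j)
  have hSsucc : ∀ n, ∀ j ∈ S n, T j ⊆ S (n+1) := by
    intro n j hj
    simp only [S, Function.iterate_succ_apply']
    exact fun x hx => Or.inr (Set.mem_biUnion hj hx)
  refine ⟨⋃ n, S n, Set.countable_iUnion hScount, Set.mem_iUnion.2 ⟨0, rfl⟩, ?_⟩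
  unfold Good
  rw [Submodule.map_le_iff_le_comap]
  refine iSup₂_le fun j hj => ?_
  rw [← Submodule.map_le_iff_le_comap]
  obtain ⟨n, hn⟩ := Set.mem_iUnion.1 hj
  refine (hTle j).trans (MJ_mono N ?_)
  exact (hSsucc n j hn).trans (Set.subset_iUnion S (n+1))

variable (P Q : Submodule R M)

lemma map_eq_inf (hπP : ∀ x, π x ∈ P) (hπid : ∀ x ∈ P, π x = x) {J : Set ι}
    (hJ : Good N π J) : (MJ N J).map π = MJ N J ⊓ P := by
  apply le_antisymm
  · refine le_inf hJ ?_
    rintro _ ⟨x, _, rfl⟩; exact hπP x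
  · rintro x ⟨h1, h2⟩
    exact ⟨x, h1, hπid x h2⟩

lemma eq_sup_of_good (hπP : ∀ x, π x ∈ P) (hπQ : ∀ x, x - π x ∈ Q) {J : Set ι}
    (hJ : Good N π J) : MJ N J = (MJ N J ⊓ P) ⊔ (MJ N J ⊓ Q) := by
  apply le_antisymm
  · intro x hx
    have h1 : π x ∈ MJ N J := hJ ⟨x, hx, rfl⟩
    have : x = π x + (x - π x) := by abel
    rw [this]
    exact Submodule.add_mem_sup ⟨h1, hπP x⟩ ⟨sub_mem hx h1, hπQ x⟩
  · exact sup_le inf_le_left inf_le_left

lemma exists_compl_CG (hI : iSupIndep N) (hN : ⨆ i, N i = ⊤) (hc : ∀ i, CG (N i))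
    (hπP : ∀ x, π x ∈ P) (hπid : ∀ x ∈ P, π x = x) (hπQ : ∀ x, x - π x ∈ Q)
    (hPQ : Disjoint P Q) {J S : Set ι} (hJ : Good N π J) (hS : Good N π S) (hSc : S.Countable) :
    ∃ Lnew, Disjoint (MJ N J ⊓ P) Lnew ∧ (MJ N J ⊓ P) ⊔ Lnew = MJ N (J ∪ S) ⊓ P ∧ CG Lnew := by
  set A := MJ N J ⊓ P with hA
  set B' := (MJ N J ⊓ Q) ⊔ MJ N Jᶜ with hB'
  set C := MJ N (J ∪ S) ⊓ P with hC
  have hdisj : Disjoint (MJ N J) (MJ N Jᶜ) := by
    unfold MJ
    exact hI.disjoint_biSup_biSup disjoint_compl_right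
  have hAB : Disjoint A B' := by
    rw [Submodule.disjoint_def]
    intro x hxA hxB
    obtain ⟨q, hq, s, hs, rfl⟩ := Submodule.mem_sup.1 hxB
    have hs0 : s = 0 := by
      have : s ∈ MJ N J ⊓ MJ N Jᶜ := by
        refine ⟨?_, hs⟩
        have : s = (q + s) - q := by abel
        rw [this]; exact sub_mem hxA.1 hq.1
      rw [hdisj.eq_bot] at this
      exact (Submodule.mem_bot R).1 this
    subst hs0
    rw [add_zero] at hxA ⊢
    have : q ∈ P ⊓ Q := ⟨hxA.2, hq.2⟩
    rw [hPQ.eq_bot] at this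
    exact (Submodule.mem_bot R).1 this
  have hABtop : A ⊔ B' = ⊤ := by
    rw [hA, hB', ← sup_assoc, ← eq_sup_of_good N π P Q hπP hπQ hJ, ← MJ_union, Set.union_compl_self,
      MJ_univ, hN]
  have hAC : A ≤ C := inf_le_inf_right _ (MJ_mono N Set.subset_union_left)
  have hCmap : C = (MJ N J).map π ⊔ (MJ N S).map π := by
    rw [hC, ← map_eq_inf N π P hπP hπid (hJ.union N π hS), MJ_union, Submodule.map_sup]
  have hAmap : A = (MJ N J).map π := (map_eq_inf N π P hπP hπid hJ).symm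
  refine ⟨B' ⊓ C, hAB.mono_right inf_le_left, ?_, ?_⟩
  · rw [← sup_inf_assoc_of_le _ hAC, hABtop, top_inf_eq]
  · have hsum : A ⊔ B' ⊓ C = C := by rw [← sup_inf_assoc_of_le _ hAC, hABtop, top_inf_eq]
    refine CG.of_compl (A := A) (D := (MJ N S).map π) (hAB.mono_right inf_le_left) ?_ ?_ ?_
    · refine inf_le_right.trans ?_
      rw [hCmap, ← hAmap]
    · rw [hsum, hCmap]; exact le_sup_right
    · exact (CG.biSup hSc (fun i _ => hc i)).map π

lemma sSupIndep_insert {L : Set (Submodule R M)} (hL : sSupIndep L) {l : Submodule R M}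
    (hl : Disjoint l (sSup L)) : sSupIndep (insert l L) := by
  by_cases hlL : l ∈ L
  · rwa [Set.insert_eq_of_mem hlL]
  intro a ha
  rcases Set.mem_insert_iff.1 ha with rfl | haL
  · have : insert a L \ {a} ⊆ L := by
      rintro x ⟨hx, hxa⟩
      rcases Set.mem_insert_iff.1 hx with rfl | h
      · exact absurd rfl hxa
      · exact h
    exact hl.mono_right (sSup_le_sSup this)
  · have hne : a ≠ l := fun h => hlL (h ▸ haL)
    have h1 : insert l L \ {a} = insert l (L \ {a}) := by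
      ext x
      simp only [Set.mem_sdiff, Set.mem_insert_iff, Set.mem_singleton_iff]
      constructor
      · rintro ⟨h | h, hx⟩
        · exact Or.inl h
        · exact Or.inr ⟨h, hx⟩
      · rintro (h | ⟨h, hx⟩)
        · exact ⟨Or.inl h, h ▸ hne.symm⟩
        · exact ⟨Or.inr h, hx⟩
    rw [h1, sSup_insert, sup_comm]
    have h2 : Disjoint a (sSup (L \ {a})) := hL haL
    have h3 : a ⊔ sSup (L \ {a}) = sSup L := by
      rw [← sSup_insert, Set.insert_sdiff_singleton, Set.insert_eq_of_mem haL]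
    refine Disjoint.disjoint_sup_right_of_disjoint_sup_left h2 ?_
    rw [h3]; exact hl.symm

theorem exists_family (hI : iSupIndep N) (hN : ⨆ i, N i = ⊤) (hc : ∀ i, CG (N i))
    (hπP : ∀ x, π x ∈ P) (hπid : ∀ x ∈ P, π x = x) (hπQ : ∀ x, x - π x ∈ Q)
    (hPQ : Disjoint P Q) :
    ∃ L : Set (Submodule R M), sSupIndep L ∧ sSup L = P ∧ ∀ l ∈ L, CG l := by
  let S : Set (Set ι × Set (Submodule R M)) :=
    {p | Good N π p.1 ∧ sSupIndep p.2 ∧ sSup p.2 = MJ N p.1 ⊓ P ∧ ∀ l ∈ p.2, CG l}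
  have hchain : ∀ c ⊆ S, IsChain (· ≤ ·) c → ∃ ub ∈ S, ∀ z ∈ c, z ≤ ub := by
    intro c hcS hch
    have hdir : Directed (· ≤ ·) (fun p : c => (p : Set ι × Set (Submodule R M))) := by
      intro p q
      rcases hch.total p.2 q.2 with h | h
      · exact ⟨q, h, le_rfl⟩
      · exact ⟨p, le_rfl, h⟩
    refine ⟨(⋃ p : c, p.1.1, ⋃ p : c, p.1.2), ⟨?_, ?_, ?_, ?_⟩, ?_⟩
    · exact Good.iUnion N π (fun p => (hcS p.2).1)
    · refine sSupIndep_iUnion_of_directed ?_ (fun p => (hcS p.2).2.1)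
      intro p q
      obtain ⟨r, h1, h2⟩ := hdir p q
      exact ⟨r, h1.2, h2.2⟩
    · show sSup (⋃ p : c, p.1.2) = MJ N (⋃ p : c, p.1.1) ⊓ P
      rw [sSup_iUnion, MJ_iUnion, Directed.iSup_inf_eq]
      · exact iSup_congr (fun p => (hcS p.2).2.2.1)
      · intro p q
        obtain ⟨r, h1, h2⟩ := hdir p q
        exact ⟨r, MJ_mono N h1.1, MJ_mono N h2.1⟩
    · intro l hl
      obtain ⟨p, hp⟩ := Set.mem_iUnion.1 hl
      exact (hcS p.2).2.2.2 l hp
    · intro z hz
      exact ⟨Set.subset_iUnion (fun p : c => p.1.1) ⟨z, hz⟩,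
        Set.subset_iUnion (fun p : c => p.1.2) ⟨z, hz⟩⟩
  obtain ⟨⟨J, L⟩, hm⟩ := zorn_le₀ S hchain
  obtain ⟨hJ, hLind, hLsup, hLcg⟩ := hm.prop
  have hJuniv : J = Set.univ := by
    by_contra hne
    obtain ⟨i₀, hi₀⟩ := (Set.ne_univ_iff_exists_notMem J).1 hne
    obtain ⟨S₀, hS₀c, hi₀S, hS₀⟩ := exists_countable_good N π hN hc i₀
    obtain ⟨Lnew, hd, hs, hcg⟩ := exists_compl_CG N π P Q hI hN hc hπP hπid hπQ hPQ hJ hS₀ hS₀c
    have hmem : ((J ∪ S₀, insert Lnew L) : Set ι × Set (Submodule R M)) ∈ S := by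
      refine ⟨hJ.union N π hS₀, sSupIndep_insert hLind (by rw [hLsup]; exact hd.symm), ?_, ?_⟩
      · show sSup (insert Lnew L) = MJ N (J ∪ S₀) ⊓ P
        rw [sSup_insert, hLsup, sup_comm, hs]
      · intro l hl
        rcases Set.mem_insert_iff.1 hl with rfl | h
        · exact hcg
        · exact hLcg l h
    have hle : ((J, L) : Set ι × Set (Submodule R M)) ≤ (J ∪ S₀, insert Lnew L) :=
      ⟨Set.subset_union_left, Set.subset_insert _ _⟩
    have := hm.le_of_ge hmem hle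
    exact hi₀ (this.1 (Or.inr hi₀S))
  refine ⟨L, hLind, ?_, hLcg⟩
  rw [hLsup, hJuniv, MJ_univ, hN, top_inf_eq]

end main

end Kap
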