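import Mathlib

/-! Kaplansky: over a local ring every element of a projective module lies in a free direct summand. -/

namespace Kap

open Module

variable {R : Type*} [CommRing R] [IsLocalRing R]

theorem stepA {ι : Type*} [DecidableEq ι] {F₀ : Type*} [AddCommGroup F₀] [Module R F₀] (b₀ : Basis ι R F₀)
    (π : F₀ →ₗ[R] F₀) (x' : F₀) (hx : π x' = x') :
    ∃ (b : Basis ι R F₀) (σ : Finset ι), (x' = ∑ i ∈ σ, b.repr x' i • b i) ∧
      ∀ i ∈ σ, ∀ j ∈ σ, ¬ IsUnit (b.repr (π (b i)) j - if i = j then 1 else 0) := by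
  classical
  have hne : ∃ n, ∃ b : Basis ι R F₀, (b.repr x').support.card = n := ⟨_, b₀, rfl⟩
  obtain ⟨b, hb⟩ := Nat.find_spec hne
  have hmin : ∀ b' : Basis ι R F₀, (b.repr x').support.card ≤ (b'.repr x').support.card := by
    intro b'
    rw [hb]
    exact Nat.find_min' hne ⟨b', rfl⟩
  set σ := (b.repr x').support with hσ
  set a : ι → R := fun i => b.repr x' i with ha
  have hsum : x' = ∑ i ∈ σ, a i • b i := by
    conv_lhs => rw [← b.linearCombination_repr x']
    rw [Finsupp.linearCombination_apply, Finsupp.sum]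
  have claim1 : ∀ r : ι → R, ∑ i ∈ σ, r i * a i = 0 → ∀ j ∈ σ, ¬ IsUnit (r j) := by
    rintro r hr j hj ⟨u, hu⟩
    set c : ι → R := fun i => -(↑u⁻¹ * r i) with hc
    have haj : a j = ∑ i ∈ σ.erase j, a i * c i := by
      rw [← Finset.add_sum_erase σ _ hj, ← hu] at hr
      have h1 : a j = -(↑u⁻¹ * ∑ i ∈ σ.erase j, r i * a i) := by
        have h2 : (↑u⁻¹ : R) * (↑u * a j + ∑ i ∈ σ.erase j, r i * a i) = 0 := by rw [hr, mul_zero]
        rw [mul_add, ← mul_assoc, Units.inv_mul, one_mul] at h2
        exact eq_neg_of_add_eq_zero_left h2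
      rw [h1, Finset.mul_sum, ← Finset.sum_neg_distrib]
      refine Finset.sum_congr rfl fun i _ => ?_
      simp only [hc]; ring
    set N : F₀ →ₗ[R] F₀ := b.constr R (fun i => if i ∈ σ.erase j then c i • b j else 0) with hN
    have hNb : ∀ i, N (b i) = if i ∈ σ.erase j then c i • b j else 0 := fun i => by
      rw [hN, Basis.constr_basis]
    have hNj : N (b j) = 0 := by rw [hNb, if_neg (Finset.notMem_erase j σ)]
    have hNN : ∀ v, N (N v) = 0 := by
      intro v
      have : N ∘ₗ N = 0 := by
        apply b.ext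
        intro i
        rw [LinearMap.comp_apply, hNb]
        split_ifs
        · rw [map_smul, hNj, smul_zero, LinearMap.zero_apply]
        · rw [map_zero, LinearMap.zero_apply]
      exact LinearMap.congr_fun this v
    let T : F₀ ≃ₗ[R] F₀ := LinearEquiv.ofLinearMap (LinearMap.id + N) (LinearMap.id - N)
      (by ext v; simp [hNN]) (by ext v; simp [hNN])
    let b' : Basis ι R F₀ := b.map T
    have hb' : ∀ i, b' i = b i + N (b i) := fun i => by simp [b', T]
    have hx' : x' = ∑ i ∈ σ.erase j, a i • b' i := by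
      have h1 : ∑ i ∈ σ.erase j, a i • b' i
          = ∑ i ∈ σ.erase j, a i • b i + (∑ i ∈ σ.erase j, a i * c i) • b j := by
        rw [Finset.sum_smul, ← Finset.sum_add_distrib]
        refine Finset.sum_congr rfl fun i hi => ?_
        rw [hb', hNb, if_pos hi, smul_add, smul_smul]
      rw [h1, ← haj, hsum, add_comm, Finset.add_sum_erase σ (fun i => a i • b i) hj]
    have hsupp : (b'.repr x').support ⊆ σ.erase j := by
      intro l hl
      by_contra hl'
      rw [Finsupp.mem_support_iff] at hl
      apply hl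
      conv_lhs => rw [hx']
      rw [map_sum, Finsupp.finsetSum_apply]
      refine Finset.sum_eq_zero fun i hi => ?_
      rw [map_smul, Basis.repr_self, Finsupp.smul_apply, Finsupp.single_apply, if_neg, smul_zero]
      rintro rfl; exact hl' hi
    have := (hmin b').trans (Finset.card_le_card hsupp)
    have h2 := Finset.card_erase_lt_of_mem hj
    omega
  have claim2 : ∀ j, a j = ∑ i ∈ σ, a i * b.repr (π (b i)) j := by
    intro j
    have h1 : b.repr x' j = b.repr (π x') j := by rw [hx]
    conv_rhs at h1 => rw [hsum]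
    rw [map_sum, map_sum, Finsupp.finsetSum_apply] at h1
    rw [ha]; simp only; rw [h1]
    refine Finset.sum_congr rfl fun i _ => ?_
    rw [map_smul, map_smul, Finsupp.smul_apply, smul_eq_mul]
  refine ⟨b, σ, hsum, ?_⟩
  intro i₀ hi₀ j hj
  refine claim1 (fun i => b.repr (π (b i)) j - if i = j then 1 else 0) ?_ i₀ hi₀
  simp only [sub_mul, Finset.sum_sub_distrib]
  rw [sub_eq_zero]
  have h1 : ∑ i ∈ σ, (if i = j then (1 : R) else 0) * a i = a j := by
    simp only [ite_mul, one_mul, zero_mul]
    rw [Finset.sum_ite_eq' σ j, if_pos hj]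
  rw [h1, claim2 j]
  exact Finset.sum_congr rfl fun i _ => mul_comm _ _

omit [IsLocalRing R] in
lemma isCompl_of_inverse {A P : Type*} [AddCommGroup A] [Module R A] [AddCommGroup P] [Module R P]
    (Y : A →ₗ[R] P) (q : P →ₗ[R] A) (g' : A → A) (h1 : ∀ r, q (Y (g' r)) = r)
    (h2 : ∀ r, g' (q (Y r)) = r) :
    Function.Injective Y ∧ IsCompl (LinearMap.range Y) (LinearMap.ker q) := by
  have hinj : Function.Injective (fun r => q (Y r)) := fun r r' h => by
    have := congrArg g' h
    simpa [h2] using this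
  refine ⟨fun r r' h => hinj (by simp only [h]), ?_, ?_⟩
  · rw [Submodule.disjoint_def]
    rintro _ ⟨r, rfl⟩ hq
    have : r = 0 := hinj (by simpa using hq)
    rw [this, map_zero]
  · rw [codisjoint_iff, eq_top_iff]
    intro v _
    have : v = Y (g' (q v)) + (v - Y (g' (q v))) := by abel
    rw [this]
    refine Submodule.add_mem_sup ⟨_, rfl⟩ ?_
    rw [LinearMap.mem_ker, map_sub, h1, sub_self]

theorem exists_free_summand {P : Type*} [AddCommGroup P] [Module R P] [Module.Projective R P]
    (x : P) : ∃ F H : Submodule R P, IsCompl F H ∧ Module.Free R F ∧ x ∈ F := by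
  classical
  obtain ⟨s, hs⟩ := Module.projective_def'.1 (inferInstance : Module.Projective R P)
  set p : (P →₀ R) →ₗ[R] P := Finsupp.linearCombination R (id : P → P) with hp
  have hps : ∀ v, p (s v) = v := fun v => LinearMap.congr_fun hs v
  obtain ⟨b, σ, hsum, hC⟩ := stepA (Finsupp.basisSingleOne (R := R) (ι := P)) (s ∘ₗ p) (s x)
    (by simp [hps])
  let v : σ → P := fun i => p (b i)
  let Y : (σ → R) →ₗ[R] P := Fintype.linearCombination R v
  let q : P →ₗ[R] (σ → R) :=
    LinearMap.pi (fun j => Finsupp.lapply (j : P) ∘ₗ b.repr.toLinearMap ∘ₗ s)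
  let C : Matrix σ σ R := fun i j => b.repr (s (p (b i))) j
  have hqY : ∀ r, q (Y r) = Matrix.vecMul r C := by
    intro r
    ext j
    simp only [q, Y, v, C, LinearMap.pi_apply, LinearMap.comp_apply, Finsupp.lapply_apply,
      LinearEquiv.coe_coe, Fintype.linearCombination_apply, map_sum, map_smul,
      Finsupp.finsetSum_apply, Finsupp.smul_apply, smul_eq_mul, Matrix.vecMul, dotProduct]
  have hdet : IsUnit C.det := by
    have h1 : C.map (IsLocalRing.residue R) = 1 := by
      ext i j
      have := hC i.1 i.2 j.1 j.2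
      have h2 : b.repr (s (p (b i))) j - (if (i : P) = j then 1 else 0) ∈
          IsLocalRing.maximalIdeal R := (IsLocalRing.mem_maximalIdeal _).2 this
      rw [← Ideal.Quotient.eq_zero_iff_mem, map_sub, sub_eq_zero] at h2
      rw [Matrix.map_apply, Matrix.one_apply]
      show IsLocalRing.residue R (b.repr (s (p (b i))) j) = _
      erw [h2]
      by_cases hij : i = j
      · rw [if_pos hij, if_pos (congrArg Subtype.val hij), map_one]; rfl
      · rw [if_neg hij, if_neg (fun h => hij (Subtype.ext h)), map_zero]; rfl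
    have h2 : IsLocalRing.residue R C.det = 1 := by
      rw [RingHom.map_det, RingHom.mapMatrix_apply, h1, Matrix.det_one]
    exact isUnit_of_map_unit (IsLocalRing.residue R) _ (by rw [h2]; exact isUnit_one)
  obtain ⟨hinj, hcompl⟩ := isCompl_of_inverse Y q (fun r => Matrix.vecMul r C⁻¹)
    (fun r => by rw [hqY, Matrix.vecMul_vecMul, Matrix.nonsing_inv_mul _ hdet, Matrix.vecMul_one])
    (fun r => by
      simp only [hqY]
      rw [Matrix.vecMul_vecMul, Matrix.mul_nonsing_inv _ hdet, Matrix.vecMul_one])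
  refine ⟨LinearMap.range Y, LinearMap.ker q, hcompl,
    Module.Free.of_equiv (LinearEquiv.ofInjective Y hinj), ?_⟩
  refine ⟨fun i => b.repr (s x) i, ?_⟩
  have h1 : x = p (s x) := (hps x).symm
  conv_rhs => rw [h1, hsum]
  rw [map_sum, Fintype.linearCombination_apply, ← Finset.sum_coe_sort σ]
  refine Finset.sum_congr rfl fun i _ => ?_
  rw [map_smul]

end Kap
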