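import Mathlib
import Groth.Agent.Lib.helper1.Kap1
import Groth.Agent.Lib.helper1.Kap2

/-! Kaplansky: countably generated projective modules over a local ring are free. -/

namespace Kap

open Module

variable {R : Type*} [CommRing R] [IsLocalRing R] {P : Type*} [AddCommGroup P] [Module R P]

lemma step [Module.Projective R P] (G H : Submodule R P) (h : IsCompl G H) (x : P) :
    ∃ G' H' F : Submodule R P, IsCompl G' H' ∧ Module.Free R F ∧ Disjoint G F ∧ G ⊔ F = G' ∧
      x ∈ G' := by
  haveI : Module.Projective R H :=
    Module.Projective.of_split H.subtype (H.projectionOnto G h.symm)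
      (Submodule.projectionOnto_comp_subtype h.symm)
  obtain ⟨F', H'', hc, hfree, hy⟩ := exists_free_summand (R := R) (H.projectionOnto G h.symm x)
  have hinj : Function.Injective H.subtype := H.injective_subtype
  have hFH : F'.map H.subtype ≤ H := Submodule.map_subtype_le _ _
  have hsup : F'.map H.subtype ⊔ H''.map H.subtype = H := by
    rw [← Submodule.map_sup, hc.sup_eq_top, Submodule.map_top, Submodule.range_subtype]
  have hinf : Disjoint (F'.map H.subtype) (H''.map H.subtype) := by
    rw [disjoint_iff, ← Submodule.map_inf _ hinj, hc.inf_eq_bot, Submodule.map_bot]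
  refine ⟨G ⊔ F'.map H.subtype, H''.map H.subtype, F'.map H.subtype, ⟨?_, ?_⟩, ?_, ?_, rfl, ?_⟩
  · refine Disjoint.disjoint_sup_left_of_disjoint_sup_right hinf ?_
    rw [hsup]; exact h.disjoint
  · rw [codisjoint_iff, sup_assoc, hsup, h.sup_eq_top]
  · exact Module.Free.of_equiv (Submodule.equivMapOfInjective H.subtype hinj F')
  · exact h.disjoint.mono_right hFH
  · have h1 := Submodule.projection_add_projection_eq_self h x
    rw [← h1]
    refine Submodule.add_mem_sup (Submodule.projection_apply_mem h x) ?_
    exact ⟨_, hy, rfl⟩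

theorem free_of_countable [Module.Projective R P]
    (hc : ∃ s : Set P, s.Countable ∧ Submodule.span R s = ⊤) : Module.Free R P := by
  classical
  obtain ⟨s, hs, hspan⟩ := hc
  obtain ⟨x, hx⟩ := (hs.insert 0).exists_eq_range (Set.insert_nonempty 0 s)
  have hxspan : Submodule.span R (Set.range x) = ⊤ := by
    rw [← hx, eq_top_iff, ← hspan]
    exact Submodule.span_mono (Set.subset_insert _ _)
  let St := {p : Submodule R P × Submodule R P // IsCompl p.1 p.2}
  choose G' H' F' hcompl hfree hdisj hsup hmem using
    fun (st : St) (y : P) => step (R := R) st.1.1 st.1.2 st.2 y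
  let seq : ℕ → St := fun n => Nat.rec ⟨(⊥, ⊤), isCompl_bot_top⟩
    (fun n st => ⟨(G' st (x n), H' st (x n)), hcompl st (x n)⟩) n
  let G : ℕ → Submodule R P := fun n => (seq n).1.1
  let F : ℕ → Submodule R P := fun n => F' (seq n) (x n)
  have hG0 : G 0 = ⊥ := rfl
  have hGsucc : ∀ n, G (n+1) = G n ⊔ F n := fun n => (hsup (seq n) (x n)).symm
  have hGF : ∀ n, Disjoint (G n) (F n) := fun n => hdisj (seq n) (x n)
  have hxG : ∀ n, x n ∈ G (n+1) := fun n => hmem (seq n) (x n)
  haveI hFfree : ∀ n, Module.Free R (F n) := fun n => hfree (seq n) (x n)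
  have hGsup : ∀ n, (Finset.range n).sup F = G n := by
    intro n
    induction n with
    | zero => simp [hG0]
    | succ n ih => rw [Finset.range_add_one, Finset.sup_insert, ih, hGsucc, sup_comm]
  have hind : ∀ n, (Finset.range n).SupIndep F := by
    intro n
    induction n with
    | zero => simp
    | succ n ih =>
      rw [Finset.range_add_one]
      refine Finset.SupIndep.insert ih ?_
      rw [hGsup]; exact (hGF n).symm
  have hI : iSupIndep F := by
    rw [iSupIndep_iff_supIndep]
    intro t
    refine (hind (t.sup id + 1)).subset ?_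
    intro i hi
    rw [Finset.mem_range, Nat.lt_succ_iff]
    exact Finset.le_sup (f := id) hi
  have htop : ⨆ n, F n = ⊤ := by
    rw [eq_top_iff, ← hxspan, Submodule.span_le]
    rintro _ ⟨n, rfl⟩
    have h1 : G (n+1) ≤ ⨆ n, F n := by
      rw [← hGsup (n+1)]
      exact Finset.sup_le fun i _ => le_iSup F i
    exact h1 (hxG n)
  have hint : DirectSum.IsInternal F :=
    DirectSum.isInternal_submodule_of_iSupIndep_of_iSup_eq_top hI htop
  exact Module.Free.of_equiv (LinearEquiv.ofBijective (DirectSum.coeLinearMap F) hint)

end Kap
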