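import Mathlib
import Groth.Agent.Lib.helper1.Kap1

/-! Kaplansky dévissage ↔ direct sum of countably generated modules. -/

namespace Kap

universe u

variable {R : Type u} [CommRing R] {M : Type u} [AddCommGroup M] [Module R M]

/-- the quotient `B / A` (for `A ⊔ C = B`) is generated by the image of `C` -/
lemma exists_countable_span_quotient {A B C : Submodule R M} (h : A ⊔ C = B) (hC : CG C) :
    ∃ s : Set (↥B ⧸ Submodule.comap B.subtype A), s.Countable ∧ Submodule.span R s = ⊤ := by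
  classical
  obtain ⟨s₀, hs₀, hspan⟩ := hC
  have hCB : C ≤ B := h ▸ le_sup_right
  have hs₀B : ∀ x ∈ s₀, x ∈ B := fun x hx => hCB (hspan ▸ Submodule.subset_span hx)
  let g : M → ↥B ⧸ Submodule.comap B.subtype A := fun x =>
    if hx : x ∈ B then Submodule.Quotient.mk ⟨x, hx⟩ else 0
  refine ⟨g '' s₀, hs₀.image g, ?_⟩
  rw [eq_top_iff]
  rintro q -
  obtain ⟨⟨x, hxB⟩, rfl⟩ := Submodule.Quotient.mk_surjective _ q
  have hx : x ∈ A ⊔ C := h ▸ hxB
  obtain ⟨a, ha, c, hc, rfl⟩ := Submodule.mem_sup.1 hx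
  have hcB : c ∈ B := hCB hc
  have haB : a ∈ B := h ▸ (le_sup_left : A ≤ A ⊔ C) ha
  have h1 : (Submodule.Quotient.mk (⟨a + c, hxB⟩ : ↥B) : ↥B ⧸ Submodule.comap B.subtype A) =
      Submodule.Quotient.mk ⟨c, hcB⟩ := by
    rw [Submodule.Quotient.eq]
    show (⟨a + c, hxB⟩ - ⟨c, hcB⟩ : ↥B).1 ∈ A
    simpa using ha
  rw [h1]
  -- c ∈ span s₀
  have hc' : c ∈ Submodule.span R s₀ := hspan ▸ hc
  have key : ∀ c ∈ Submodule.span R s₀, ∀ hcB : c ∈ B,
      (Submodule.Quotient.mk (⟨c, hcB⟩ : ↥B) : ↥B ⧸ Submodule.comap B.subtype A) ∈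
        Submodule.span R (g '' s₀) := by
    intro c hc
    induction hc using Submodule.span_induction with
    | mem x hx =>
      intro hcB
      apply Submodule.subset_span
      refine ⟨x, hx, ?_⟩
      simp only [g, dif_pos hcB]
    | zero =>
      intro hcB
      have : (Submodule.Quotient.mk (⟨0, hcB⟩ : ↥B) : ↥B ⧸ Submodule.comap B.subtype A) = 0 := by
        rw [Submodule.Quotient.mk_eq_zero]; exact zero_mem _
      rw [this]; exact zero_mem _
    | add x y hx hy ihx ihy =>
      intro hcB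
      have hxB : x ∈ B := hCB (hspan ▸ hx)
      have hyB : y ∈ B := hCB (hspan ▸ hy)
      have : (Submodule.Quotient.mk (⟨x + y, hcB⟩ : ↥B) : ↥B ⧸ Submodule.comap B.subtype A) =
          Submodule.Quotient.mk ⟨x, hxB⟩ + Submodule.Quotient.mk ⟨y, hyB⟩ := rfl
      rw [this]; exact add_mem (ihx hxB) (ihy hyB)
    | smul r x hx ihx =>
      intro hcB
      have hxB : x ∈ B := hCB (hspan ▸ hx)
      have : (Submodule.Quotient.mk (⟨r • x, hcB⟩ : ↥B) : ↥B ⧸ Submodule.comap B.subtype A) =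
          r • Submodule.Quotient.mk ⟨x, hxB⟩ := rfl
      rw [this]; exact Submodule.smul_mem _ r (ihx hxB)
  exact key c hc' hcB

/-- a complement of `A` in `B` is countably generated if `B / A` is -/
lemma CG.of_quotient {A B C : Submodule R M} (hd : A ⊓ C = ⊥) (h : A ⊔ C = B)
    (hq : ∃ s : Set (↥B ⧸ Submodule.comap B.subtype A), s.Countable ∧ Submodule.span R s = ⊤) :
    CG C := by
  obtain ⟨s₀, hs₀, hspan⟩ := hq
  have hAB : A ≤ B := h ▸ le_sup_left
  have hlift : ∀ q : ↥B ⧸ Submodule.comap B.subtype A, ∃ m : ↥B, Submodule.Quotient.mk m = q :=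
    fun q => Submodule.Quotient.mk_surjective _ q
  choose m hm using hlift
  set D' : Submodule R ↥B := Submodule.span R (m '' s₀) with hD'
  have h1 : Submodule.comap B.subtype A ⊔ D' = ⊤ := by
    rw [← Submodule.map_mkQ_eq_top, hD', Submodule.map_span, ← Set.image_comp]
    have : (⇑(Submodule.comap B.subtype A).mkQ ∘ m) '' s₀ = s₀ := by
      ext q
      constructor
      · rintro ⟨q', hq', rfl⟩
        rw [Function.comp_apply, Submodule.mkQ_apply, hm]; exact hq'
      · intro hq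
        exact ⟨q, hq, by rw [Function.comp_apply, Submodule.mkQ_apply, hm]⟩
    rw [this, hspan]
  set D : Submodule R M := D'.map B.subtype with hD
  have hDcg : CG D := CG.map B.subtype (⟨m '' s₀, hs₀.image m, rfl⟩ : CG D')
  have h2 : B = A ⊔ D := by
    have := congrArg (Submodule.map B.subtype) h1
    rw [Submodule.map_sup, Submodule.map_top, Submodule.range_subtype, Submodule.map_comap_subtype,
      inf_eq_right.2 hAB] at this
    exact this.symm
  refine CG.of_compl (A := A) (L := C) (D := D) (disjoint_iff.2 hd) ?_ ?_ hDcg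
  · rw [← h2, ← h]; exact le_sup_right
  · rw [h, h2]; exact le_sup_right

theorem devissage_of_directSum {ι : Type u} (N : ι → Submodule R M) (hI : iSupIndep N)
    (hN : ⨆ i, N i = ⊤) (hc : ∀ i, CG (N i)) :
    ∃ (S : Type u) (_ : LinearOrder S) (_ : WellFoundedLT S) (Mf : S → Submodule R M),
      Monotone Mf ∧
      (∀ s : S, Order.IsSuccPrelimit s → Mf s = ⨆ t : {t : S // t < s}, Mf t.1) ∧
      (⨆ s, Mf s) = ⊤ ∧
      (∀ s t : S, s ⋖ t → ∃ C : Submodule R M, Mf s ⊓ C = ⊥ ∧ Mf s ⊔ C = Mf t ∧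
        ∃ s₀ : Set (↥(Mf t) ⧸ Submodule.comap (Mf t).subtype (Mf s)),
          s₀.Countable ∧ Submodule.span R s₀ = ⊤) := by
  obtain ⟨_, hwf⟩ := exists_wellFoundedLT (α := ι)
  let Mf : WithTop ι → Submodule R M := fun s => ⨆ i : ι, ⨆ (_ : (i : WithTop ι) < s), N i
  have hmono : Monotone Mf := by
    intro s t hst
    exact iSup_mono fun i => iSup_mono' fun hi => ⟨lt_of_lt_of_le hi hst, le_rfl⟩
  refine ⟨WithTop ι, inferInstance, inferInstance, Mf, hmono, ?_, ?_, ?_⟩
  · intro s hs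
    apply le_antisymm
    · refine iSup₂_le fun i hi => ?_
      have hnc : ¬ ((i : WithTop ι) ⋖ s) := hs _
      obtain ⟨t, hit, hts⟩ := (not_covBy_iff hi).1 hnc
      refine le_trans ?_ (le_iSup (fun t : {t : WithTop ι // t < s} => Mf t.1) ⟨t, hts⟩)
      exact le_iSup₂ (f := fun (i : ι) (_ : (i : WithTop ι) < t) => N i) i hit
    · exact iSup_le fun t => hmono t.2.le
  · rw [eq_top_iff, ← hN]
    refine iSup_le fun i => ?_
    refine le_trans ?_ (le_iSup Mf ⊤)
    exact le_iSup₂ (f := fun (i : ι) (_ : (i : WithTop ι) < ⊤) => N i) i (WithTop.coe_lt_top i)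
  · intro s t hst
    have hsne : s ≠ ⊤ := fun h => not_top_lt (h ▸ hst.lt)
    obtain ⟨i₀, rfl⟩ := WithTop.ne_top_iff_exists.1 hsne
    have hMt : Mf ((i₀ : ι) : WithTop ι) ⊔ N i₀ = Mf t := by
      apply le_antisymm
      · refine sup_le (hmono hst.le) ?_
        exact le_iSup₂ (f := fun (i : ι) (_ : (i : WithTop ι) < t) => N i) i₀ hst.lt
      · refine iSup₂_le fun j hj => ?_
        have hle : (j : WithTop ι) ≤ i₀ := hst.le_of_lt hj
        rcases lt_or_eq_of_le hle with h | h
        · refine le_trans ?_ le_sup_left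
          exact le_iSup₂ (f := fun (i : ι) (_ : (i : WithTop ι) < (i₀ : WithTop ι)) => N i) j h
        · rw [WithTop.coe_eq_coe.1 h]; exact le_sup_right
    have hdis : Mf ((i₀ : ι) : WithTop ι) ⊓ N i₀ = ⊥ := by
      have h1 := hI.disjoint_biSup (x := i₀) (y := {j : ι | (j : WithTop ι) < (i₀ : WithTop ι)})
        (by simp)
      rw [inf_comm]
      exact disjoint_iff.1 h1
    exact ⟨N i₀, hdis, hMt, exists_countable_span_quotient hMt (hc i₀)⟩

theorem directSum_of_devissage (S : Type u) [LinearOrder S] [WellFoundedLT S]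
    (Mf : S → Submodule R M) (hmono : Monotone Mf)
    (hlim : ∀ s : S, Order.IsSuccPrelimit s → Mf s = ⨆ t : {t : S // t < s}, Mf t.1)
    (htop : (⨆ s, Mf s) = ⊤)
    (hsucc : ∀ s t : S, s ⋖ t → ∃ C : Submodule R M, Mf s ⊓ C = ⊥ ∧ Mf s ⊔ C = Mf t ∧
        ∃ s₀ : Set (↥(Mf t) ⧸ Submodule.comap (Mf t).subtype (Mf s)),
          s₀.Countable ∧ Submodule.span R s₀ = ⊤) :
    ∃ C : S → Submodule R M, iSupIndep C ∧ ⨆ s, C s = ⊤ ∧ ∀ s, CG (C s) := by
  classical
  choose! Cc hCd hCs hCq using hsucc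
  let C : S → Submodule R M := fun s => if h : ∃ t, s ⋖ t then Cc s h.choose else ⊥
  have hCdef : ∀ s t, s ⋖ t → C s = Cc s t := by
    intro s t hst
    have h : ∃ t, s ⋖ t := ⟨t, hst⟩
    have : h.choose = t := h.choose_spec.unique_right hst
    simp only [C, dif_pos h, this]
  have hCbot : ∀ s, (¬ ∃ t, s ⋖ t) → C s = ⊥ := fun s h => by simp only [C, dif_neg h]
  -- C r ≤ Mf s for r < s
  have hCle : ∀ r s, r < s → C r ≤ Mf s := by
    intro r s hrs
    by_cases h : ∃ t, r ⋖ t
    · obtain ⟨t, hrt⟩ := h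
      rw [hCdef r t hrt]
      have hts : t ≤ s := by
        by_contra hlt
        exact hrt.2 hrs (not_le.1 hlt)
      exact le_trans (by rw [← hCs r t hrt]; exact le_sup_right) (hmono hts)
    · rw [hCbot r h]; exact bot_le
  have hCdisj : ∀ s, Disjoint (C s) (Mf s) := by
    intro s
    by_cases h : ∃ t, s ⋖ t
    · obtain ⟨t, hst⟩ := h
      rw [hCdef s t hst, disjoint_iff, inf_comm]
      exact hCd s t hst
    · rw [hCbot s h]; exact disjoint_bot_left
  have hMle : ∀ s, Mf s ≤ ⨆ r : {r : S // r < s}, C r.1 := by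
    intro s
    induction s using WellFoundedLT.induction with
    | _ s ih =>
      by_cases hs : Order.IsSuccPrelimit s
      · rw [hlim s hs]
        refine iSup_le fun t => le_trans (ih t.1 t.2) ?_
        exact iSup_le fun r => le_iSup (fun r : {r : S // r < s} => C r.1) ⟨r.1, r.2.trans t.2⟩
      · obtain ⟨r, hrs⟩ := Order.not_isSuccPrelimit_iff.1 hs
        rw [← hCs r s hrs, ← hCdef r s hrs]
        refine sup_le (le_trans (ih r hrs.lt) ?_) ?_
        · exact iSup_le fun q => le_iSup (fun r : {r : S // r < s} => C r.1) ⟨q.1, q.2.trans hrs.lt⟩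
        · exact le_iSup (fun r : {r : S // r < s} => C r.1) ⟨r, hrs.lt⟩
  refine ⟨C, ?_, ?_, ?_⟩
  · rw [iSupIndep_iff_supIndep]
    intro T
    induction T using Finset.induction_on_max with
    | empty => exact Finset.supIndep_empty _
    | insert a T hlt ih =>
      refine Finset.SupIndep.insert ih ?_
      refine (hCdisj a).mono_right ?_
      exact Finset.sup_le fun x hx => hCle x a (hlt x hx)
  · rw [eq_top_iff, ← htop]
    refine iSup_le fun s => le_trans (hMle s) ?_
    exact iSup_le fun r => le_iSup C r.1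
  · intro s
    by_cases h : ∃ t, s ⋖ t
    · obtain ⟨t, hst⟩ := h
      rw [hCdef s t hst]
      exact CG.of_quotient (hCd s t hst) (hCs s t hst) (hCq s t hst)
    · rw [hCbot s h]
      exact ⟨∅, Set.countable_empty, Submodule.span_empty⟩

end Kap
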