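import Mathlib

open Polynomial IsDedekindDomain

namespace Kum

universe u v w

lemma fi_pow_inj {A : Type u} {K : Type v} [CommRing A] [IsDedekindDomain A]
    [Field K] [Algebra A K] [IsFractionRing A K]
    {x y : FractionalIdeal (nonZeroDivisors A) K} (hx : x ≠ 0) (hy : y ≠ 0) {n : ℕ} (hn : n ≠ 0)
    (h : x ^ n = y ^ n) : x = y := by
  rw [← FractionalIdeal.finprod_heightOneSpectrum_factorization' K hx,
    ← FractionalIdeal.finprod_heightOneSpectrum_factorization' K hy]
  apply finprod_congr
  intro v
  congr 1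
  have := congrArg (FractionalIdeal.count K v) h
  rw [FractionalIdeal.count_pow, FractionalIdeal.count_pow] at this
  exact mul_left_cancel₀ (Nat.cast_ne_zero.2 hn) this

theorem main
    {A : Type u} {K : Type v} {L : Type w} [CommRing A] [IsDedekindDomain A]
    [Field K] [Algebra A K] [IsFractionRing A K]
    [Field L] [Algebra K L]
    (n : ℕ) (hn : IsUnit (n : A)) (ζ : K) (hζ : IsPrimitiveRoot ζ n) (f : K) (hf : f ≠ 0)
    (I : (FractionalIdeal (nonZeroDivisors A) K)ˣ)
    (hI : FractionalIdeal.spanSingleton (nonZeroDivisors A) f =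
      (I : FractionalIdeal (nonZeroDivisors A) K) ^ n)
    (hord : orderOf (ClassGroup.mk K I) = n)
    (α : L) (hα : α ^ n = algebraMap K L f) (hgen : IntermediateField.adjoin K {α} = ⊤) :
    IsGalois K L ∧ IsCyclic (L ≃ₐ[K] L) ∧ Module.finrank K L = n := by
  classical
  have hn0 : n ≠ 0 := by
    rintro rfl
    simp at hn
  have hnK : (n : K) ≠ 0 := by
    have := hn.map (algebraMap A K)
    simpa using this.ne_zero
  haveI : NeZero n := ⟨hn0⟩
  have hnpos : 0 < n := Nat.pos_of_ne_zero hn0
  have hα0 : α ≠ 0 := by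
    rintro rfl
    rw [zero_pow hn0] at hα
    exact hf ((algebraMap K L).injective (by rw [← hα, map_zero]))
  have hζL : IsPrimitiveRoot (algebraMap K L ζ) n :=
    hζ.map_of_injective (algebraMap K L).injective
  have hroot : aeval α (X ^ n - C f : K[X]) = 0 := by
    simp [hα]
  have hαint : IsIntegral K α := ⟨X ^ n - C f, monic_X_pow_sub_C f hn0, hroot⟩
  haveI : FiniteDimensional K L := by
    have h1 : FiniteDimensional K (⊤ : IntermediateField K L) :=
      hgen ▸ IntermediateField.adjoin.finiteDimensional hαint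
    exact LinearEquiv.finiteDimensional
      (IntermediateField.topEquiv (F := K) (E := L)).toLinearEquiv
  haveI hsplit : IsSplittingField K L (X ^ n - C f) := by
    constructor
    · rw [Polynomial.map_sub, Polynomial.map_pow, Polynomial.map_C, Polynomial.map_X]
      exact X_pow_sub_C_splits_of_isPrimitiveRoot hζL hα
    · rw [eq_top_iff, ← IntermediateField.top_toSubalgebra, ← hgen,
        IntermediateField.adjoin_simple_toSubalgebra_of_isAlgebraic hαint.isAlgebraic]
      apply Algebra.adjoin_mono
      rw [Set.singleton_subset_iff, mem_rootSet_of_ne (X_pow_sub_C_ne_zero hnpos f)]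
      exact hroot
  haveI hgal : IsGalois K L :=
    IsGalois.of_separable_splitting_field (p := X ^ n - C f) (separable_X_pow_sub_C f hnK hf)
  set d := Module.finrank K L with hd
  have hdpos : 0 < d := Module.finrank_pos
  -- every automorphism scales α by an element of K
  have hscale : ∀ σ : L ≃ₐ[K] L, ∃ c : K, σ α = algebraMap K L c * α := by
    intro σ
    have h1 : (σ α / α) ^ n = 1 := by
      rw [div_pow, ← map_pow, hα, AlgEquiv.commutes, div_self]
      rw [← hα]; exact pow_ne_zero _ hα0
    obtain ⟨i, -, hi⟩ := hζL.eq_pow_of_pow_eq_one h1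
    refine ⟨ζ ^ i, ?_⟩
    rw [map_pow, hi, div_mul_cancel₀ _ hα0]
  have hfix : ∀ σ : L ≃ₐ[K] L, σ (α ^ d) = α ^ d := by
    intro σ
    obtain ⟨c, hc⟩ := hscale σ
    have hpow : ∀ k : ℕ, (σ ^ k) α = algebraMap K L (c ^ k) * α := by
      intro k
      induction k with
      | zero => simp
      | succ k ih =>
        rw [pow_succ', AlgEquiv.mul_apply, ih, map_mul, AlgEquiv.commutes, hc, pow_succ, map_mul]
        ring
    have h1 : σ ^ d = 1 := by
      rw [hd, ← IsGalois.card_aut_eq_finrank]
      exact pow_card_eq_one'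
    have h2 := hpow d
    rw [h1, AlgEquiv.one_apply] at h2
    have h3 : algebraMap K L (c ^ d) = 1 := by
      have : (algebraMap K L (c ^ d) - 1) * α = 0 := by rw [sub_mul, ← h2, one_mul, sub_self]
      rcases mul_eq_zero.1 this with h | h
      · exact sub_eq_zero.1 h
      · exact absurd h hα0
    rw [map_pow, hc, mul_pow, ← map_pow, h3, one_mul]
  obtain ⟨g, hg⟩ := (IsGalois.mem_range_algebraMap_iff_fixed (F := K) (E := L) (α ^ d)).2 hfix
  have hgn : g ^ n = f ^ d := by
    apply (algebraMap K L).injective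
    rw [map_pow, map_pow, hg, ← hα, ← pow_mul, ← pow_mul, mul_comm]
  have hg0 : g ≠ 0 := by
    rintro rfl
    rw [zero_pow hn0] at hgn
    exact pow_ne_zero d hf hgn.symm
  -- fractional ideals
  have hI0 : (I : FractionalIdeal (nonZeroDivisors A) K) ≠ 0 := I.ne_zero
  have hspan : FractionalIdeal.spanSingleton (nonZeroDivisors A) g =
      (I : FractionalIdeal (nonZeroDivisors A) K) ^ d := by
    apply fi_pow_inj (n := n) _ (pow_ne_zero d hI0) hn0
    · rw [FractionalIdeal.spanSingleton_pow, hgn, ← FractionalIdeal.spanSingleton_pow, hI,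
        ← pow_mul, ← pow_mul, mul_comm]
    · rw [Ne, FractionalIdeal.spanSingleton_eq_zero_iff]; exact hg0
  have hcl : ClassGroup.mk K I ^ d = 1 := by
    rw [← map_pow, ClassGroup.mk_eq_one_iff]
    refine ⟨⟨g, ?_⟩⟩
    rw [Units.val_pow_eq_pow_val, ← hspan, FractionalIdeal.coe_spanSingleton]
  have hnd : n ∣ d := hord ▸ orderOf_dvd_of_pow_eq_one hcl
  have hdn : d ≤ n := by
    have h1 : Module.finrank K (IntermediateField.adjoin K {α}) = (minpoly K α).natDegree :=
      IntermediateField.adjoin.finrank hαint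
    rw [hgen, IntermediateField.finrank_top'] at h1
    rw [hd, h1]
    have h2 := natDegree_le_of_dvd (minpoly.dvd K α hroot) (X_pow_sub_C_ne_zero hnpos f)
    rwa [natDegree_X_pow_sub_C] at h2
  have hdeq : d = n := le_antisymm hdn (Nat.le_of_dvd hdpos hnd)
  have hirr : Irreducible (X ^ n - C f : K[X]) := by
    have := irreducible_X_pow_sub_C_of_root_adjoin_eq_top (K := K) (L := L) (a := f) (α := α)
      (by rw [← hd, hdeq]; exact hα) hgen
    rwa [← hd, hdeq] at this
  have hprim : (primitiveRoots n K).Nonempty := ⟨ζ, (mem_primitiveRoots hnpos).2 hζ⟩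
  exact ⟨hgal, isCyclic_of_isSplittingField_X_pow_sub_C hprim hirr L, hdeq⟩

end Kum
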