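import Mathlib
import Groth.Prelude.Def_W4c1bouilletffgsL3

/-! Lie3Mod: basic identities (Cramer), retraction onto D/L, elementary ideal relations. -/

namespace Lie3Mod

open MvPolynomial

variable (A : Type*) [CommRing A]

/-- Cramer identities: `detM * L_j ∈ I`. -/
theorem detM_mul_L1 :
    detM A * L1 A = (-(vh * vc) + vb * vi) * Q1 A + (vg * vc - vi ^ 2) * Q2 A
      + (-(vg * vb) + vi * vh) * Q3 A := by
  simp only [detM, L1, Q1, Q2, Q3]; ring

theorem detM_mul_L2 :
    detM A * L2 A = (ve * vc - vb * vf) * Q1 A + (vh * vc + vi * vf) * Q2 A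
      + (-(vh * vb + vi * ve)) * Q3 A := by
  simp only [detM, L2, Q1, Q2, Q3]; ring

theorem detM_mul_L3 :
    detM A * L3 A = (ve * vi - vh * vf) * Q1 A + (vh * vi + vg * vf) * Q2 A
      + (-(vh ^ 2) - vg * ve) * Q3 A := by
  simp only [detM, L3, Q1, Q2, Q3]; ring

theorem Q1_mem_idI : Q1 A ∈ idI A := Ideal.subset_span (by simp)
theorem Q2_mem_idI : Q2 A ∈ idI A := Ideal.subset_span (by simp)
theorem Q3_mem_idI : Q3 A ∈ idI A := Ideal.subset_span (by simp)
theorem L1_mem_idL : L1 A ∈ idL A := Ideal.subset_span (by simp)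
theorem L2_mem_idL : L2 A ∈ idL A := Ideal.subset_span (by simp)
theorem L3_mem_idL : L3 A ∈ idL A := Ideal.subset_span (by simp)
theorem detM_mem_idJ : detM A ∈ idJ A := Ideal.subset_span (by simp)

theorem idI_le_idJ : idI A ≤ idJ A := by
  apply Ideal.span_mono
  intro x hx
  simp only [Set.mem_insert_iff, Set.mem_singleton_iff] at hx ⊢
  tauto

/-- `Q = M ℓ`. -/
theorem Q1_eq : Q1 A = vh * L1 A + (-vg) * L2 A + vi * L3 A := by
  simp only [L1, L2, L3, Q1]; ring
theorem Q2_eq : Q2 A = (-ve) * L1 A + (-vh) * L2 A + vb * L3 A := by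
  simp only [L1, L2, L3, Q2]; ring
theorem Q3_eq : Q3 A = (-vf) * L1 A + (-vi) * L2 A + vc * L3 A := by
  simp only [L1, L2, L3, Q3]; ring

theorem idI_le_idL : idI A ≤ idL A := by
  rw [idI, Ideal.span_le]
  intro x hx
  simp only [Set.mem_insert_iff, Set.mem_singleton_iff] at hx
  have h1 := L1_mem_idL A
  have h2 := L2_mem_idL A
  have h3 := L3_mem_idL A
  rcases hx with rfl | rfl | rfl
  · rw [Q1_eq]
    exact add_mem (add_mem (Ideal.mul_mem_left _ _ h1) (Ideal.mul_mem_left _ _ h2))
      (Ideal.mul_mem_left _ _ h3)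
  · rw [Q2_eq]
    exact add_mem (add_mem (Ideal.mul_mem_left _ _ h1) (Ideal.mul_mem_left _ _ h2))
      (Ideal.mul_mem_left _ _ h3)
  · rw [Q3_eq]
    exact add_mem (add_mem (Ideal.mul_mem_left _ _ h1) (Ideal.mul_mem_left _ _ h2))
      (Ideal.mul_mem_left _ _ h3)

theorem detM_mul_mem_idI {l : D A} (hl : l ∈ idL A) : detM A * l ∈ idI A := by
  have h1 := Q1_mem_idI A
  have h2 := Q2_mem_idI A
  have h3 := Q3_mem_idI A
  have key : ∀ x ∈ ({L1 A, L2 A, L3 A} : Set (D A)), detM A * x ∈ idI A := by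
    intro x hx
    simp only [Set.mem_insert_iff, Set.mem_singleton_iff] at hx
    rcases hx with rfl | rfl | rfl
    · rw [detM_mul_L1]
      exact add_mem (add_mem (Ideal.mul_mem_left _ _ h1) (Ideal.mul_mem_left _ _ h2))
        (Ideal.mul_mem_left _ _ h3)
    · rw [detM_mul_L2]
      exact add_mem (add_mem (Ideal.mul_mem_left _ _ h1) (Ideal.mul_mem_left _ _ h2))
        (Ideal.mul_mem_left _ _ h3)
    · rw [detM_mul_L3]
      exact add_mem (add_mem (Ideal.mul_mem_left _ _ h1) (Ideal.mul_mem_left _ _ h2))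
        (Ideal.mul_mem_left _ _ h3)
  rw [idL] at hl
  refine Submodule.span_induction (p := fun x _ => detM A * x ∈ idI A) ?_ ?_ ?_ ?_ hl
  · intro x hx; exact key x hx
  · simp
  · intro x y _ _ hx hy; rw [mul_add]; exact add_mem hx hy
  · intro a x _ hx
    rw [smul_eq_mul, mul_left_comm]; exact Ideal.mul_mem_left _ _ hx

/-- Every element of `J` is an element of `I` plus a multiple of `detM`. -/
theorem mem_idJ_iff {p : D A} : p ∈ idJ A ↔ ∃ u ∈ idI A, ∃ v : D A, p = u + v * detM A := by
  constructor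
  · intro hp
    have : idJ A = idI A ⊔ Ideal.span {detM A} := by
      rw [idJ, idI, ← Ideal.span_union]
      congr 1
      ext x; simp only [Set.mem_insert_iff, Set.mem_singleton_iff, Set.union_singleton]
      tauto
    rw [this, Submodule.mem_sup] at hp
    obtain ⟨u, hu, w, hw, rfl⟩ := hp
    obtain ⟨v, rfl⟩ := Ideal.mem_span_singleton'.1 hw
    exact ⟨u, hu, v, rfl⟩
  · rintro ⟨u, hu, v, rfl⟩
    exact add_mem (idI_le_idJ A hu) (Ideal.mul_mem_left _ _ (detM_mem_idJ A))

theorem idJ_mul_mem_idI {p l : D A} (hp : p ∈ idJ A) (hl : l ∈ idL A) : p * l ∈ idI A := by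
  obtain ⟨u, hu, v, rfl⟩ := (mem_idJ_iff A).1 hp
  rw [add_mul, mul_assoc]
  exact add_mem (Ideal.mul_mem_right _ _ hu) (Ideal.mul_mem_left _ _ (detM_mul_mem_idI A hl))

/-! ### The retraction `ρ : D → D` with kernel `L` (`i ↦ a`, `f ↦ -b`, `d ↦ -h`). -/

/-- substitution `i ↦ a`, `f ↦ -b`, `d ↦ -h`. -/
noncomputable def rho : D A →ₐ[A] D A :=
  aeval (fun j : Fin 9 => if j = 8 then (X 0 : D A) else if j = 5 then -X 1 else
    if j = 3 then -X 7 else X j)

@[simp] theorem rho_X0 : rho A (X 0) = X 0 := by simp [rho]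
@[simp] theorem rho_X1 : rho A (X 1) = X 1 := by simp [rho]
@[simp] theorem rho_X2 : rho A (X 2) = X 2 := by simp [rho]
@[simp] theorem rho_X3 : rho A (X 3) = -X 7 := by simp [rho]
@[simp] theorem rho_X4 : rho A (X 4) = X 4 := by simp [rho]
@[simp] theorem rho_X5 : rho A (X 5) = -X 1 := by simp [rho]
@[simp] theorem rho_X6 : rho A (X 6) = X 6 := by simp [rho]
@[simp] theorem rho_X7 : rho A (X 7) = X 7 := by simp [rho]
@[simp] theorem rho_X8 : rho A (X 8) = X 0 := by simp [rho]

theorem sub_rho_mem (p : D A) : p - rho A p ∈ idL A := by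
  induction p using MvPolynomial.induction_on with
  | C a => simp
  | add p q hp hq =>
    rw [map_add, add_sub_add_comm]; exact add_mem hp hq
  | mul_X p j hp =>
    have hj : (X j : D A) - rho A (X j) ∈ idL A := by
      have h1 := L1_mem_idL A
      have h2 := L2_mem_idL A
      have h3 := L3_mem_idL A
      fin_cases j
      · simp
      · simp
      · simp
      · simpa [L3] using h3
      · simp
      · simpa [L2, add_comm] using h2
      · simp
      · simp
      · have : (X 8 : D A) - X 0 = -(L1 A) := by simp [L1]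
        simpa [this] using h1
    have : p * X j - rho A (p * X j) = (p - rho A p) * X j + rho A p * (X j - rho A (X j)) := by
      rw [map_mul]; ring
    rw [this]
    exact add_mem (Ideal.mul_mem_right _ _ hp) (Ideal.mul_mem_left _ _ hj)

theorem rho_L (l : D A) (hl : l ∈ idL A) : rho A l = 0 := by
  rw [idL] at hl
  refine Submodule.span_induction (p := fun x _ => rho A x = 0) ?_ ?_ ?_ ?_ hl
  · intro x hx
    simp only [Set.mem_insert_iff, Set.mem_singleton_iff] at hx
    rcases hx with rfl | rfl | rfl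
    · simp [L1]
    · simp [L2]
    · simp [L3]
  · simp
  · intro x y _ _ hx hy; rw [map_add, hx, hy, add_zero]
  · intro a x _ hx; rw [smul_eq_mul, map_mul, hx, mul_zero]

theorem mem_idL_iff {p : D A} : p ∈ idL A ↔ rho A p = 0 := by
  constructor
  · exact rho_L A p
  · intro h
    have := sub_rho_mem A p
    rwa [h, sub_zero] at this

theorem idL_eq_ker : idL A = RingHom.ker (rho A).toRingHom := by
  ext p; rw [mem_idL_iff]; rfl

theorem idL_isPrime [IsDomain A] : (idL A).IsPrime := by
  rw [idL_eq_ker]; exact RingHom.ker_isPrime _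

end Lie3Mod
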