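import Mathlib
import Groth.Agent.Lib.helper1.L3a

/-! Lie3Mod: detM is regular modulo L; I = J ∩ L; (I : J) = L; L minimal over I. -/

namespace Lie3Mod
open MvPolynomial

variable (A : Type*) [CommRing A]

theorem rho_detM : rho A (detM A) =
    X 4 * X 0 ^ 2 + 2 * X 7 * X 1 * X 0 + (-(X 2 * X 7 ^ 2) - X 6 * X 1 ^ 2 - X 6 * X 4 * X 2) := by
  simp only [detM, map_add, map_sub, map_neg, map_mul, map_pow, rho_X1, rho_X2, rho_X4,
    rho_X5, rho_X6, rho_X7, rho_X8]
  ring

theorem rho_detM_regular (q : D A) (h : rho A (detM A) * q = 0) : q = 0 := by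
  have h1 : finSuccEquiv A 8 (rho A (detM A)) ∈ nonZeroDivisors (Polynomial (MvPolynomial (Fin 8) A)) := by
    apply Polynomial.mem_nonzeroDivisors_of_coeff_mem 2
    rw [rho_detM]
    have e4 : (X 4 : MvPolynomial (Fin 9) A) = X (Fin.succ 3) := rfl
    have e7 : (X 7 : MvPolynomial (Fin 9) A) = X (Fin.succ 6) := rfl
    have e1 : (X 1 : MvPolynomial (Fin 9) A) = X (Fin.succ 0) := rfl
    have e2 : (X 2 : MvPolynomial (Fin 9) A) = X (Fin.succ 1) := rfl
    have e6 : (X 6 : MvPolynomial (Fin 9) A) = X (Fin.succ 5) := rfl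
    rw [e4, e7, e1, e2, e6]
    simp only [map_add, map_sub, map_neg, map_mul, map_pow, finSuccEquiv_X_zero,
      finSuccEquiv_X_succ, map_ofNat]
    have h2 : ((2 : Polynomial (MvPolynomial (Fin 8) A)) * Polynomial.C (X 6) * Polynomial.C (X 0)
        * Polynomial.X).coeff 2 = 0 := by
      have : (2 : Polynomial (MvPolynomial (Fin 8) A)) = Polynomial.C 2 :=
        (map_ofNat (Polynomial.C : _ →+* Polynomial (MvPolynomial (Fin 8) A)) 2).symm
      rw [this, ← map_mul, ← map_mul, Polynomial.coeff_C_mul_X]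
      simp
    simp only [← map_mul, ← map_pow, ← map_neg, ← map_sub, Polynomial.coeff_add, Polynomial.coeff_C_mul,
      Polynomial.coeff_X_pow, Polynomial.coeff_C] at h2 ⊢
    rw [h2]
    simp only [if_true, mul_one, OfNat.ofNat_ne_zero, if_false, add_zero]
    exact (isRegular_X (R := A) (n := (3 : Fin 8))).mem_nonZeroDivisors
  have h3 : finSuccEquiv A 8 (rho A (detM A)) * finSuccEquiv A 8 q = 0 := by
    rw [← map_mul, h, map_zero]
  have h4 := (mem_nonZeroDivisors_iff.1 h1).1 _ h3
  exact (finSuccEquiv A 8).injective (by rw [h4, map_zero])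

/-- `detM` is a non-zero-divisor modulo `L`. -/
theorem mem_idL_of_detM_mul_mem {v : D A} (h : v * detM A ∈ idL A) : v ∈ idL A := by
  rw [mem_idL_iff] at h ⊢
  rw [map_mul, mul_comm] at h
  exact rho_detM_regular A _ h

theorem idI_eq_inf : idI A = idJ A ⊓ idL A := by
  apply le_antisymm
  · exact le_inf (idI_le_idJ A) (idI_le_idL A)
  · rintro p ⟨hJ, hL⟩
    obtain ⟨u, hu, v, rfl⟩ := (mem_idJ_iff A).1 hJ
    have hv : v * detM A ∈ idL A := by
      have := sub_mem hL (idI_le_idL A hu)
      simpa using this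
    have hv' := mem_idL_of_detM_mul_mem A hv
    refine add_mem hu ?_
    rw [mul_comm]; exact detM_mul_mem_idI A hv'

theorem colon_idJ : (idI A).colon (idJ A : Set (D A)) = idL A := by
  ext p
  rw [Submodule.mem_colon]
  constructor
  · intro h
    have h1 := h (detM A) (detM_mem_idJ A)
    rw [smul_eq_mul] at h1
    exact mem_idL_of_detM_mul_mem A (idI_le_idL A h1)
  · intro hp q hq
    rw [smul_eq_mul, mul_comm]
    exact idJ_mul_mem_idI A hq hp

theorem idJ_le_colon_idL : idJ A ≤ (idI A).colon (idL A : Set (D A)) := by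
  intro p hp
  rw [Submodule.mem_colon]
  intro l hl
  rw [smul_eq_mul]
  exact idJ_mul_mem_idI A hp hl

theorem detM_not_mem_idL [Nontrivial A] : detM A ∉ idL A := by
  intro h
  have h1 : (1 : D A) * detM A ∈ idL A := by simpa using h
  have h2 := mem_idL_of_detM_mul_mem A h1
  rw [mem_idL_iff, map_one] at h2
  exact one_ne_zero h2

theorem idL_mem_minimalPrimes [IsDomain A] : idL A ∈ (idI A).minimalPrimes := by
  haveI := idL_isPrime A
  refine ⟨⟨idL_isPrime A, idI_le_idL A⟩, ?_⟩
  rintro P ⟨hP, hIP⟩ hPL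
  intro l hl
  have h1 : detM A * l ∈ P := hIP (detM_mul_mem_idI A hl)
  rcases hP.mem_or_mem h1 with h2 | h2
  · exact absurd (hPL h2) (detM_not_mem_idL A)
  · exact h2

end Lie3Mod
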