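import Mathlib

/-! Laurent-type monoid algebra `A[ℤ^6]`: support conditions w.r.t. one coordinate, regularity. -/

namespace Lie3Mod

open AddMonoidAlgebra

/-- exponent group -/
abbrev G6 := Fin 6 → ℤ

variable {A : Type*} [CommRing A]

/-- all exponents of `f` have `j`-th coordinate `≥ c`. -/
def Tge (j : Fin 6) (c : ℤ) (f : AddMonoidAlgebra A G6) : Prop := ∀ w ∈ f.coeff.support, c ≤ w j

/-- all exponents of `f` have `j`-th coordinate `= c`. -/
def Teq (j : Fin 6) (c : ℤ) (f : AddMonoidAlgebra A G6) : Prop := ∀ w ∈ f.coeff.support, w j = c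

theorem Teq.tge {j : Fin 6} {c : ℤ} {f : AddMonoidAlgebra A G6} (h : Teq j c f) : Tge j c f :=
  fun w hw => (h w hw).ge

theorem Tge.mono {j : Fin 6} {c c' : ℤ} {f : AddMonoidAlgebra A G6} (h : Tge j c' f) (hc : c ≤ c') :
    Tge j c f := fun w hw => hc.trans (h w hw)

theorem Tge_zero (j : Fin 6) (c : ℤ) : Tge j c (0 : AddMonoidAlgebra A G6) := by
  intro w hw; simp at hw

theorem Teq_zero (j : Fin 6) (c : ℤ) : Teq j c (0 : AddMonoidAlgebra A G6) := by
  intro w hw; simp at hw

theorem Tge_single {j : Fin 6} {c : ℤ} {p : G6} (r : A) (h : c ≤ p j) :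
    Tge j c (single p r : AddMonoidAlgebra A G6) := by
  intro w hw
  rw [coeff_single] at hw
  have := Finsupp.support_single_subset hw
  rw [Finset.mem_singleton] at this
  rw [this]; exact h

theorem Teq_single {j : Fin 6} {c : ℤ} {p : G6} (r : A) (h : p j = c) :
    Teq j c (single p r : AddMonoidAlgebra A G6) := by
  intro w hw
  rw [coeff_single] at hw
  have := Finsupp.support_single_subset hw
  rw [Finset.mem_singleton] at this
  rw [this]; exact h

theorem Tge_one (j : Fin 6) : Tge j 0 (1 : AddMonoidAlgebra A G6) := by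
  rw [one_def]; exact Tge_single _ (by simp)

theorem Teq_one (j : Fin 6) : Teq j 0 (1 : AddMonoidAlgebra A G6) := by
  rw [one_def]; exact Teq_single _ (by simp)

theorem Tge.add {j : Fin 6} {c : ℤ} {f g : AddMonoidAlgebra A G6} (hf : Tge j c f) (hg : Tge j c g) :
    Tge j c (f + g) := by
  intro w hw
  rw [coeff_add] at hw
  rcases Finset.mem_union.1 (Finsupp.support_add hw) with h | h
  · exact hf w h
  · exact hg w h

theorem Teq.add {j : Fin 6} {c : ℤ} {f g : AddMonoidAlgebra A G6} (hf : Teq j c f) (hg : Teq j c g) :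
    Teq j c (f + g) := by
  intro w hw
  rw [coeff_add] at hw
  rcases Finset.mem_union.1 (Finsupp.support_add hw) with h | h
  · exact hf w h
  · exact hg w h

theorem Tge.neg {j : Fin 6} {c : ℤ} {f : AddMonoidAlgebra A G6} (hf : Tge j c f) : Tge j c (-f) := by
  intro w hw
  rw [coeff_neg, Finsupp.support_neg] at hw
  exact hf w hw

theorem Teq.neg {j : Fin 6} {c : ℤ} {f : AddMonoidAlgebra A G6} (hf : Teq j c f) : Teq j c (-f) := by
  intro w hw
  rw [coeff_neg, Finsupp.support_neg] at hw
  exact hf w hw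

theorem Tge.sub {j : Fin 6} {c : ℤ} {f g : AddMonoidAlgebra A G6} (hf : Tge j c f) (hg : Tge j c g) :
    Tge j c (f - g) := by
  rw [sub_eq_add_neg]; exact hf.add hg.neg

theorem Tge.smul {j : Fin 6} {c : ℤ} {f : AddMonoidAlgebra A G6} (r : A) (hf : Tge j c f) :
    Tge j c (r • f) := by
  intro w hw
  rw [coeff_smul] at hw
  exact hf w (Finsupp.support_smul hw)

theorem Teq.smul {j : Fin 6} {c : ℤ} {f : AddMonoidAlgebra A G6} (r : A) (hf : Teq j c f) :
    Teq j c (r • f) := by
  intro w hw
  rw [coeff_smul] at hw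
  exact hf w (Finsupp.support_smul hw)

theorem Tge.mul {j : Fin 6} {c c' : ℤ} {f g : AddMonoidAlgebra A G6} (hf : Tge j c f)
    (hg : Tge j c' g) : Tge j (c + c') (f * g) := by
  classical
  intro w hw
  have := support_coeff_mul_subset f g hw
  rw [Finset.mem_add] at this
  obtain ⟨p, hp, q, hq, rfl⟩ := this
  have h1 := hf p hp
  have h2 := hg q hq
  simp only [Pi.add_apply]
  omega

theorem Teq.mul {j : Fin 6} {c c' : ℤ} {f g : AddMonoidAlgebra A G6} (hf : Teq j c f)
    (hg : Teq j c' g) : Teq j (c + c') (f * g) := by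
  classical
  intro w hw
  have := support_coeff_mul_subset f g hw
  rw [Finset.mem_add] at this
  obtain ⟨p, hp, q, hq, rfl⟩ := this
  have h1 := hf p hp
  have h2 := hg q hq
  simp only [Pi.add_apply]
  omega

theorem Tge.pow {j : Fin 6} {f : AddMonoidAlgebra A G6} (hf : Tge j 0 f) (n : ℕ) :
    Tge j 0 (f ^ n) := by
  induction n with
  | zero => rw [pow_zero]; exact Tge_one j
  | succ n ih => rw [pow_succ]; simpa using ih.mul hf

theorem Teq.pow {j : Fin 6} {f : AddMonoidAlgebra A G6} (hf : Teq j 0 f) (n : ℕ) :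
    Teq j 0 (f ^ n) := by
  induction n with
  | zero => rw [pow_zero]; exact Teq_one j
  | succ n ih => rw [pow_succ]; simpa using ih.mul hf

theorem Tge.sum {ι : Type*} {j : Fin 6} {c : ℤ} (s : Finset ι) (f : ι → AddMonoidAlgebra A G6)
    (hf : ∀ a ∈ s, Tge j c (f a)) : Tge j c (∑ a ∈ s, f a) := by
  classical
  induction s using Finset.induction_on with
  | empty => simpa using Tge_zero j c
  | insert a s ha ih =>
    rw [Finset.sum_insert ha]
    exact (hf a (Finset.mem_insert_self _ _)).add
      (ih fun b hb => hf b (Finset.mem_insert_of_mem hb))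

theorem Teq.sum {ι : Type*} {j : Fin 6} {c : ℤ} (s : Finset ι) (f : ι → AddMonoidAlgebra A G6)
    (hf : ∀ a ∈ s, Teq j c (f a)) : Teq j c (∑ a ∈ s, f a) := by
  classical
  induction s using Finset.induction_on with
  | empty => simpa using Teq_zero j c
  | insert a s ha ih =>
    rw [Finset.sum_insert ha]
    exact (hf a (Finset.mem_insert_self _ _)).add
      (ih fun b hb => hf b (Finset.mem_insert_of_mem hb))

/-- An element which is both concentrated in degree `c` and in degrees `> c` vanishes. -/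
theorem eq_zero_of_Teq_of_Tge {j : Fin 6} {c : ℤ} {f : AddMonoidAlgebra A G6} (h1 : Teq j c f)
    (h2 : Tge j (c + 1) f) : f = 0 := by
  rw [← coeff_inj]
  ext w
  by_contra hw
  have hw' : w ∈ f.coeff.support := Finsupp.mem_support_iff.2 hw
  have := h1 w hw'
  have := h2 w hw'
  omega

theorem eq_zero_of_add_eq_zero {j : Fin 6} {c : ℤ} {f g : AddMonoidAlgebra A G6} (h1 : Teq j c f)
    (h2 : Tge j (c + 1) g) (h : f + g = 0) : f = 0 := by
  have : f = -g := eq_neg_of_add_eq_zero_left h
  exact eq_zero_of_Teq_of_Tge h1 (this ▸ h2.neg)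

theorem single_isUnit (p : G6) (u : Aˣ) : IsUnit (single p (u : A) : AddMonoidAlgebra A G6) := by
  refine ⟨⟨single p u, single (-p) (↑u⁻¹ : A), ?_, ?_⟩, rfl⟩
  · rw [single_mul_single, add_neg_cancel, Units.mul_inv]; rfl
  · rw [single_mul_single, neg_add_cancel, Units.inv_mul]; rfl

/-- Decomposition of a nonzero element into its lowest part and the rest. -/
theorem exists_low_decomp (j : Fin 6) {F : AddMonoidAlgebra A G6} (hF : F ≠ 0) :
    ∃ (c : ℤ) (F₀ F₁ : AddMonoidAlgebra A G6), F = F₀ + F₁ ∧ F₀ ≠ 0 ∧ Teq j c F₀ ∧ Tge j (c + 1) F₁ := by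
  classical
  have hne : F.coeff.support.Nonempty := by
    rw [Finsupp.support_nonempty_iff]
    intro h; exact hF (coeff_injective (by simpa using h))
  obtain ⟨w₀, hw₀, hmin⟩ := Finset.exists_min_image F.coeff.support (fun w => w j) hne
  refine ⟨w₀ j, ofCoeff (F.coeff.filter fun w => w j = w₀ j),
    ofCoeff (F.coeff.filter fun w => ¬ w j = w₀ j), ?_, ?_, ?_, ?_⟩
  · rw [← ofCoeff_add, Finsupp.filter_add_filter_not]
  · intro h
    have h1 : (F.coeff.filter fun w => w j = w₀ j) w₀ = 0 := by
      have := congrArg (fun x => x.coeff w₀) h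
      simpa using this
    rw [Finsupp.filter_apply_pos (fun w : G6 => w j = w₀ j) _ rfl] at h1
    exact (Finsupp.mem_support_iff.1 hw₀) h1
  · intro w hw
    rw [coeff_ofCoeff, Finsupp.support_filter, Finset.mem_filter] at hw
    exact hw.2
  · intro w hw
    rw [coeff_ofCoeff, Finsupp.support_filter, Finset.mem_filter] at hw
    have := hmin w hw.1
    have h2 := hw.2
    omega

/-- An element whose lowest part (w.r.t. coordinate `j`) is a unit monomial is regular. -/
theorem regular_of_low {j : Fin 6} {c : ℤ} {U V : AddMonoidAlgebra A G6} (hU : IsUnit U)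
    (hU' : Teq j c U) (hV : Tge j (c + 1) V) (F : AddMonoidAlgebra A G6) (h : (U + V) * F = 0) :
    F = 0 := by
  by_contra hF
  obtain ⟨c', F₀, F₁, rfl, hF₀, h0, h1⟩ := exists_low_decomp j hF
  have e : (U + V) * (F₀ + F₁) = U * F₀ + (U * F₁ + V * (F₀ + F₁)) := by ring
  rw [e] at h
  have hA : Teq j (c + c') (U * F₀) := hU'.mul h0
  have hB : Tge j (c + c' + 1) (U * F₁ + V * (F₀ + F₁)) := by
    refine Tge.add ?_ ?_
    · have := hU'.tge.mul h1
      exact this.mono (by omega)
    · have := hV.mul (h0.tge.add (h1.mono (by omega)))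
      exact this.mono (by omega)
  have := eq_zero_of_add_eq_zero hA hB h
  exact hF₀ ((hU.mul_right_eq_zero).1 this)

theorem regular_pow {Y : AddMonoidAlgebra A G6} (hY : ∀ F, Y * F = 0 → F = 0) (n : ℕ)
    (F : AddMonoidAlgebra A G6) (h : Y ^ n * F = 0) : F = 0 := by
  induction n with
  | zero => simpa using h
  | succ n ih =>
    apply ih
    apply hY
    rw [← mul_assoc, ← pow_succ']; exact h

/-- Coefficient extraction for sums of distinct monomials. -/
theorem coeff_eq_zero_of_sum_single {ι : Type*} (s : Finset ι) (w : ι → G6) (l : ι → A)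
    (hw : Set.InjOn w s) (h : ∑ a ∈ s, single (w a) (l a) = (0 : AddMonoidAlgebra A G6)) :
    ∀ a ∈ s, l a = 0 := by
  classical
  intro a ha
  have h1 := congrArg (fun x => x.coeff (w a)) h
  simp only [coeff_sum, Finsupp.finsetSum_apply, coeff_single] at h1
  rw [Finset.sum_eq_single a] at h1
  · simpa using h1
  · intro b hb hba
    rw [Finsupp.single_apply, if_neg]
    intro hbw
    exact hba (hw hb ha hbw)
  · intro h'; exact absurd ha h'

end Lie3Mod
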