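import Mathlib
import Groth.Agent.Lib.helper1.L3c

/-! Lie3Mod: the model ring, the map `Φ9`, and the stage lemma. -/

namespace Lie3Mod

open AddMonoidAlgebra

variable {A : Type*} [CommRing A]

/-- The core slicing argument. -/
theorem stage_core {ι : Type*} (s : Finset ι) (l : ι → A) (Ξ : ι → AddMonoidAlgebra A G6)
    (j : Fin 6) (c : ℤ) (Y : AddMonoidAlgebra A G6) (hYeq : Teq j 0 Y)
    (hYreg : ∀ F, Y * F = 0 → F = 0) (K : ℕ) (lo : ι → Prop) (w : ι → G6) (ε : ι → Aˣ)
    (hlo : ∀ a ∈ s, lo a → (w a) j = c ∧ Tge j (c + 1) (Ξ a - Y ^ K * single (w a) (ε a : A)))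
    (hhi : ∀ a ∈ s, ¬ lo a → Tge j (c + 1) (Ξ a))
    (hinj : Set.InjOn w {a | a ∈ s ∧ lo a})
    (h : ∑ a ∈ s, l a • Ξ a = 0) : ∀ a ∈ s, lo a → l a = 0 := by
  classical
  have hsplit : ∑ a ∈ s, l a • Ξ a =
      Y ^ K * (∑ a ∈ s.filter lo, single (w a) (l a * (ε a : A))) +
        (∑ a ∈ s.filter lo, l a • (Ξ a - Y ^ K * single (w a) (ε a : A)) +
          ∑ a ∈ s.filter (fun a => ¬ lo a), l a • Ξ a) := by
    rw [← Finset.sum_filter_add_sum_filter_not s lo, Finset.mul_sum, ← add_assoc,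
      ← Finset.sum_add_distrib]
    congr 1
    apply Finset.sum_congr rfl
    intro a _
    rw [smul_sub, ← smul_single', mul_smul_comm]
    abel
  rw [hsplit] at h
  have hA : Teq j c (Y ^ K * (∑ a ∈ s.filter lo, single (w a) (l a * (ε a : A)))) := by
    have h1 : Teq j c (∑ a ∈ s.filter lo, single (w a) (l a * (ε a : A)) : AddMonoidAlgebra A G6) := by
      apply Teq.sum
      intro a ha
      rw [Finset.mem_filter] at ha
      exact Teq_single _ (hlo a ha.1 ha.2).1
    simpa using (hYeq.pow K).mul h1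
  have hB : Tge j (c + 1) (∑ a ∈ s.filter lo, l a • (Ξ a - Y ^ K * single (w a) (ε a : A)) +
      ∑ a ∈ s.filter (fun a => ¬ lo a), l a • Ξ a) := by
    refine Tge.add (Tge.sum _ _ ?_) (Tge.sum _ _ ?_)
    · intro a ha
      rw [Finset.mem_filter] at ha
      exact (hlo a ha.1 ha.2).2.smul _
    · intro a ha
      rw [Finset.mem_filter] at ha
      exact (hhi a ha.1 ha.2).smul _
  have h0 := eq_zero_of_add_eq_zero hA hB h
  have h1 := regular_pow hYreg K _ h0
  have h2 := coeff_eq_zero_of_sum_single (s.filter lo) w (fun a => l a * (ε a : A)) ?_ h1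
  · intro a ha hla
    have := h2 a (Finset.mem_filter.2 ⟨ha, hla⟩)
    exact (Units.mul_left_eq_zero (ε a)).1 this
  · intro a ha b hb hab
    rw [Finset.coe_filter] at ha hb
    exact hinj ha hb hab

/-- unit vectors of the exponent group -/
def E (k : Fin 6) : G6 := Pi.single k 1

/-- the Laurent variables `x1, x2, x3, b, h, i` -/
noncomputable def Xm (k : Fin 6) : AddMonoidAlgebra A G6 := single (E k) 1

variable (A)

/-- `y1 = i x3 - h x2` -/
noncomputable def Y1 : AddMonoidAlgebra A G6 := single (E 5 + E 2) 1 - single (E 4 + E 1) 1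
/-- `y2 = h x1 - b x3` -/
noncomputable def Y2 : AddMonoidAlgebra A G6 := single (E 4 + E 0) 1 - single (E 3 + E 2) 1
/-- `y3 = i x1 + b x2 - x1 x2` -/
noncomputable def Y3 : AddMonoidAlgebra A G6 :=
  single (E 5 + E 0) 1 + single (E 3 + E 1) 1 - single (E 0 + E 1) 1

theorem Y1_teq0 : Teq 0 0 (Y1 A) := by
  refine Teq.add (Teq_single _ ?_) (Teq.neg (Teq_single _ ?_)) |> fun h => by
    simpa [Y1, sub_eq_add_neg] using h
  · simp [E]
  · simp [E]

theorem Y2_teq1 : Teq 1 0 (Y2 A) := by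
  refine Teq.add (Teq_single _ ?_) (Teq.neg (Teq_single _ ?_)) |> fun h => by
    simpa [Y2, sub_eq_add_neg] using h
  · simp [E]
  · simp [E]

theorem Y3_teq2 : Teq 2 0 (Y3 A) := by
  refine Teq.add (Teq.add (Teq_single _ ?_) (Teq_single _ ?_)) (Teq.neg (Teq_single _ ?_)) |>
    fun h => by simpa [Y3, sub_eq_add_neg] using h
  · simp [E]
  · simp [E]
  · simp [E]

theorem Y1_regular (F : AddMonoidAlgebra A G6) (h : Y1 A * F = 0) : F = 0 := by
  have hU : IsUnit (single (E 5 + E 2) (1 : A) : AddMonoidAlgebra A G6) := by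
    simpa using single_isUnit (A := A) (E 5 + E 2) 1
  refine regular_of_low (j := 1) (c := 0) hU (Teq_single _ (by simp [E]))
    (V := -single (E 4 + E 1) 1) (Tge.neg (Tge_single _ (by simp [E]))) F ?_
  rw [← sub_eq_add_neg]; exact h

theorem Y2_regular (F : AddMonoidAlgebra A G6) (h : Y2 A * F = 0) : F = 0 := by
  have hU : IsUnit (single (E 3 + E 2) (-1 : A) : AddMonoidAlgebra A G6) := by
    simpa using single_isUnit (A := A) (E 3 + E 2) (-1)
  refine regular_of_low (j := 0) (c := 0) hU (Teq_single _ (by simp [E]))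
    (V := single (E 4 + E 0) 1) (Tge_single _ (by simp [E])) F ?_
  rw [single_neg, neg_add_eq_sub]; exact h

theorem Y3_regular (F : AddMonoidAlgebra A G6) (h : Y3 A * F = 0) : F = 0 := by
  have hU : IsUnit (single (E 3 + E 1) (1 : A) : AddMonoidAlgebra A G6) := by
    simpa using single_isUnit (A := A) (E 3 + E 1) 1
  refine regular_of_low (j := 0) (c := 0) hU (Teq_single _ (by simp [E]))
    (V := single (E 5 + E 0) 1 - single (E 0 + E 1) 1)
    (Tge.sub (Tge_single _ (by simp [E])) (Tge_single _ (by simp [E]))) F ?_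
  have : single (E 3 + E 1) (1 : A) + (single (E 5 + E 0) 1 - single (E 0 + E 1) 1) = Y3 A := by
    rw [Y3]; abel
  rw [this]; exact h

end Lie3Mod
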