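import Mathlib
import Groth.Agent.Lib.helper1.L3d

/-! Lie3Mod: images of monomials in the model ring; low parts. -/

namespace Lie3Mod

open AddMonoidAlgebra

variable (A : Type*) [CommRing A]

/-- lowering lemma for one power. -/
theorem low_pow_one (j : Fin 6) {U H : AddMonoidAlgebra A G6} (hU : Tge j 0 U) (hH : Tge j 0 H)
    (m : ℕ) : ∃ W, Tge j 0 W ∧ (U + Xm j * H) ^ m = U ^ m + Xm j * W := by
  have hX : Tge j 0 (Xm j : AddMonoidAlgebra A G6) := Tge_single _ (by simp [E])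
  induction m with
  | zero => exact ⟨0, Tge_zero _ _, by simp⟩
  | succ m ih =>
    obtain ⟨W, hW, e⟩ := ih
    refine ⟨U ^ m * H + W * U + Xm j * (W * H), ?_, ?_⟩
    · refine Tge.add (Tge.add ?_ ?_) ?_
      · simpa using (hU.pow m).mul hH
      · simpa using hW.mul hU
      · simpa using hX.mul (hW.mul hH)
    · rw [pow_succ, e]; ring

theorem low_pow_two (j : Fin 6) {U₁ H₁ U₂ H₂ : AddMonoidAlgebra A G6} (hU₁ : Tge j 0 U₁)
    (hH₁ : Tge j 0 H₁) (hU₂ : Tge j 0 U₂) (hH₂ : Tge j 0 H₂) (m n : ℕ) :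
    ∃ W, Tge j 0 W ∧
      (U₁ + Xm j * H₁) ^ m * (U₂ + Xm j * H₂) ^ n = U₁ ^ m * U₂ ^ n + Xm j * W := by
  have hX : Tge j 0 (Xm j : AddMonoidAlgebra A G6) := Tge_single _ (by simp [E])
  obtain ⟨W₁, hW₁, e₁⟩ := low_pow_one A j hU₁ hH₁ m
  obtain ⟨W₂, hW₂, e₂⟩ := low_pow_one A j hU₂ hH₂ n
  refine ⟨U₁ ^ m * W₂ + W₁ * U₂ ^ n + Xm j * (W₁ * W₂), ?_, ?_⟩
  · refine Tge.add (Tge.add ?_ ?_) ?_
    · simpa using (hU₁.pow m).mul hW₂
    · simpa using hW₁.mul (hU₂.pow n)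
    · simpa using hX.mul (hW₁.mul hW₂)
  · rw [e₁, e₂]; ring

/-- The images of the nine variables `x1,x2,x3,b,h,i,g,e,c` in the model ring. -/
noncomputable def img : Fin 9 → AddMonoidAlgebra A G6 :=
  ![Xm 0, Xm 1, Xm 2, Xm 3, Xm 4, Xm 5, single (-E 0) 1 * Y1 A, single (-E 1) 1 * Y2 A,
    single (-E 2) 1 * Y3 A]

/-- The model map. -/
noncomputable def Phi9 : MvPolynomial (Fin 9) A →ₐ[A] AddMonoidAlgebra A G6 :=
  MvPolynomial.aeval (img A)

/-- base exponent of a monomial -/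
def zexp (u : Fin 9 →₀ ℕ) : G6 :=
  ![(u 0 : ℤ) - u 6, (u 1 : ℤ) - u 7, (u 2 : ℤ) - u 8, u 3, u 4, u 5]

/-- image of a monomial -/
noncomputable def Xi (u : Fin 9 →₀ ℕ) : AddMonoidAlgebra A G6 :=
  single (zexp u) 1 * Y1 A ^ (u 6) * Y2 A ^ (u 7) * Y3 A ^ (u 8)

theorem prod_univ_nine' {M : Type*} [CommMonoid M] (f : Fin 9 → M) :
    ∏ i, f i = f 0 * f 1 * f 2 * f 3 * f 4 * f 5 * f 6 * f 7 * f 8 := by
  rw [Fin.prod_univ_castSucc, Fin.prod_univ_eight]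
  rfl

theorem Phi9_monomial (u : Fin 9 →₀ ℕ) (r : A) :
    Phi9 A (MvPolynomial.monomial u r) = r • Xi A u := by
  rw [Phi9, MvPolynomial.aeval_monomial, Finsupp.prod_fintype _ _ (fun i => pow_zero _),
    Algebra.algebraMap_eq_smul_one, smul_mul_assoc, one_mul]
  congr 1
  rw [prod_univ_nine']
  have h0 : img A 0 = Xm 0 := rfl
  have h1 : img A 1 = Xm 1 := rfl
  have h2 : img A 2 = Xm 2 := rfl
  have h3 : img A 3 = Xm 3 := rfl
  have h4 : img A 4 = Xm 4 := rfl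
  have h5 : img A 5 = Xm 5 := rfl
  have h6 : img A 6 = single (-E 0) 1 * Y1 A := rfl
  have h7 : img A 7 = single (-E 1) 1 * Y2 A := rfl
  have h8 : img A 8 = single (-E 2) 1 * Y3 A := rfl
  rw [h0, h1, h2, h3, h4, h5, h6, h7, h8, Xi]
  simp only [Xm, mul_pow, single_pow, one_pow]
  have key : (single (u 0 • E 0) (1 : A) * single (u 1 • E 1) 1 * single (u 2 • E 2) 1 *
      single (u 3 • E 3) 1 * single (u 4 • E 4) 1 * single (u 5 • E 5) 1 *
      single (u 6 • -E 0) 1 * single (u 7 • -E 1) 1 * single (u 8 • -E 2) 1 :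
        AddMonoidAlgebra A G6) = single (zexp u) 1 := by
    simp only [single_mul_single, mul_one]
    congr 1
    funext k
    fin_cases k <;> simp [E, zexp, Pi.single_apply] <;> ring
  rw [← key]
  ring

end Lie3Mod
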