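import Mathlib
import Groth.Agent.Lib.helper1.L3e

/-! Lie3Mod: low parts of the images of monomials, stage by stage. -/

namespace Lie3Mod

open AddMonoidAlgebra

variable (A : Type*) [CommRing A]

theorem Y1_tge (j : Fin 6) : Tge j 0 (Y1 A) := by
  rw [Y1]
  refine Tge.sub (Tge_single _ ?_) (Tge_single _ ?_) <;>
  · fin_cases j <;> simp [E, Pi.single_apply]

theorem Y2_tge (j : Fin 6) : Tge j 0 (Y2 A) := by
  rw [Y2]
  refine Tge.sub (Tge_single _ ?_) (Tge_single _ ?_) <;>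
  · fin_cases j <;> simp [E, Pi.single_apply]

theorem Y3_tge (j : Fin 6) : Tge j 0 (Y3 A) := by
  rw [Y3]
  refine Tge.sub (Tge.add (Tge_single _ ?_) (Tge_single _ ?_)) (Tge_single _ ?_) <;>
  · fin_cases j <;> simp [E, Pi.single_apply]

theorem Xm_tge (j k : Fin 6) : Tge j 0 (Xm k : AddMonoidAlgebra A G6) := by
  refine Tge_single _ ?_
  fin_cases j <;> fin_cases k <;> simp [E, Pi.single_apply]

theorem Y2_decomp0 : Y2 A = single (E 3 + E 2) (-1) + Xm 0 * Xm 4 := by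
  rw [Y2, Xm, Xm, single_mul_single, single_neg, add_comm (E 0), mul_one]; abel

theorem Y3_decomp0 : Y3 A = single (E 3 + E 1) 1 + Xm 0 * (Xm 5 - Xm 1) := by
  rw [Y3, Xm, Xm, Xm, mul_sub, single_mul_single, single_mul_single, add_comm (E 0) (E 5), mul_one]
  abel

theorem Y3_decomp1 : Y3 A = single (E 5 + E 0) 1 + Xm 1 * (Xm 3 - Xm 0) := by
  rw [Y3, Xm, Xm, Xm, mul_sub, single_mul_single, single_mul_single, add_comm (E 1) (E 3),
    add_comm (E 1) (E 0), mul_one]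
  abel

theorem Xi_tge (j : Fin 6) (u : Fin 9 →₀ ℕ) : Tge j (zexp u j) (Xi A u) := by
  rw [Xi, mul_assoc, mul_assoc]
  have h1 : Tge j (zexp u j) (single (zexp u) (1 : A) : AddMonoidAlgebra A G6) :=
    Tge_single _ le_rfl
  have h2 : Tge j 0 (Y1 A ^ u 6 * (Y2 A ^ u 7 * Y3 A ^ u 8)) := by
    simpa using ((Y1_tge A j).pow _).mul (((Y2_tge A j).pow _).mul ((Y3_tge A j).pow _))
  simpa using h1.mul h2

/-- Stage 0 (coordinate `x1`, variable `g`). -/
theorem stage0_lo (u : Fin 9 →₀ ℕ) (K : ℕ) (h6 : u 6 = K) (h0 : u 0 = 0) :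
    (zexp u + (u 7) • (E 3 + E 2) + (u 8) • (E 3 + E 1)) 0 = -(K : ℤ) ∧
      Tge 0 (-(K : ℤ) + 1) (Xi A u - Y1 A ^ K *
        single (zexp u + (u 7) • (E 3 + E 2) + (u 8) • (E 3 + E 1))
          ((((-1 : Aˣ) ^ (u 7) : Aˣ) : A))) := by
  constructor
  · simp only [Pi.add_apply, Pi.smul_apply, E, Pi.single_apply, zexp, Matrix.cons_val_zero]
    simp [h6, h0]
  · obtain ⟨W, hW, e⟩ := low_pow_two A 0 (U₁ := single (E 3 + E 2) (-1)) (H₁ := Xm 4)
      (U₂ := single (E 3 + E 1) 1) (H₂ := Xm 5 - Xm 1)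
      (Tge_single _ (by simp [E])) (Xm_tge A 0 4) (Tge_single _ (by simp [E]))
      (Tge.sub (Xm_tge A 0 5) (Xm_tge A 0 1)) (u 7) (u 8)
    rw [← Y2_decomp0, ← Y3_decomp0] at e
    have e2 : Xi A u - Y1 A ^ K * single (zexp u + (u 7) • (E 3 + E 2) + (u 8) • (E 3 + E 1))
          ((((-1 : Aˣ) ^ (u 7) : Aˣ) : A)) = single (zexp u + E 0) 1 * (Y1 A ^ K * W) := by
      rw [Xi, mul_assoc, mul_assoc, e, h6, single_pow, single_pow, one_pow]
      have e3 : (single (zexp u + (u 7) • (E 3 + E 2) + (u 8) • (E 3 + E 1))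
          ((((-1 : Aˣ) ^ (u 7) : Aˣ) : A)) : AddMonoidAlgebra A G6) =
          single (zexp u) 1 * (single ((u 7) • (E 3 + E 2)) ((-1) ^ (u 7)) *
            single ((u 8) • (E 3 + E 1)) 1) := by
        rw [single_mul_single, single_mul_single, add_assoc]
        simp
      have e4 : (single (zexp u + E 0) 1 : AddMonoidAlgebra A G6) = single (zexp u) 1 * Xm 0 := by
        rw [Xm, single_mul_single, mul_one]
      rw [e3, e4]; ring
    rw [e2]
    have h1 : Tge 0 (-(K : ℤ) + 1) (single (zexp u + E 0) (1 : A) : AddMonoidAlgebra A G6) :=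
      Tge_single _ (by simp [E, zexp, h6, h0])
    have h2 : Tge 0 0 (Y1 A ^ K * W) := by simpa using ((Y1_tge A 0).pow K).mul hW
    simpa using h1.mul h2

theorem stage0_hi (u : Fin 9 →₀ ℕ) (K : ℕ) (h6 : u 6 < K) : Tge 0 (-(K : ℤ) + 1) (Xi A u) := by
  refine (Xi_tge A 0 u).mono ?_
  simp only [zexp, Matrix.cons_val_zero]
  omega

/-- Stage 1 (coordinate `x2`, variable `e`), assuming no `g`. -/
theorem stage1_lo (u : Fin 9 →₀ ℕ) (K : ℕ) (hg : u 6 = 0) (h7 : u 7 = K) (h1 : u 1 = 0) :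
    (zexp u + (u 8) • (E 5 + E 0)) 1 = -(K : ℤ) ∧
      Tge 1 (-(K : ℤ) + 1) (Xi A u - Y2 A ^ K *
        single (zexp u + (u 8) • (E 5 + E 0)) (((1 : Aˣ) : A))) := by
  constructor
  · simp only [Pi.add_apply, Pi.smul_apply, E, Pi.single_apply, zexp, Matrix.cons_val_one,
      Matrix.cons_val_zero]
    simp [h7, h1]
  · obtain ⟨W, hW, e⟩ := low_pow_one A 1 (U := single (E 5 + E 0) 1) (H := Xm 3 - Xm 0)
      (Tge_single _ (by simp [E])) (Tge.sub (Xm_tge A 1 3) (Xm_tge A 1 0)) (u 8)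
    rw [← Y3_decomp1] at e
    have e2 : Xi A u - Y2 A ^ K * single (zexp u + (u 8) • (E 5 + E 0)) (((1 : Aˣ) : A)) =
        single (zexp u + E 1) 1 * (Y2 A ^ K * W) := by
      rw [Xi, hg, pow_zero, mul_one, mul_assoc, e, h7, single_pow, one_pow]
      have e3 : (single (zexp u + (u 8) • (E 5 + E 0)) (((1 : Aˣ) : A)) : AddMonoidAlgebra A G6) =
          single (zexp u) 1 * single ((u 8) • (E 5 + E 0)) 1 := by
        rw [single_mul_single]; simp
      have e4 : (single (zexp u + E 1) 1 : AddMonoidAlgebra A G6) = single (zexp u) 1 * Xm 1 := by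
        rw [Xm, single_mul_single, mul_one]
      rw [e3, e4]; ring
    rw [e2]
    have h1' : Tge 1 (-(K : ℤ) + 1) (single (zexp u + E 1) (1 : A) : AddMonoidAlgebra A G6) :=
      Tge_single _ (by simp [E, zexp, h7, h1])
    have h2 : Tge 1 0 (Y2 A ^ K * W) := by simpa using ((Y2_tge A 1).pow K).mul hW
    simpa using h1'.mul h2

theorem stage1_hi (u : Fin 9 →₀ ℕ) (K : ℕ) (h7 : u 7 < K) : Tge 1 (-(K : ℤ) + 1) (Xi A u) := by
  refine (Xi_tge A 1 u).mono ?_
  simp only [zexp, Matrix.cons_val_one, Matrix.cons_val_zero]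
  omega

/-- Stage 2 (coordinate `x3`, variable `c`), assuming no `g`, `e`. -/
theorem stage2_lo (u : Fin 9 →₀ ℕ) (K : ℕ) (hg : u 6 = 0) (he : u 7 = 0) (h8 : u 8 = K)
    (h2 : u 2 = 0) :
    (zexp u) 2 = -(K : ℤ) ∧
      Tge 2 (-(K : ℤ) + 1) (Xi A u - Y3 A ^ K * single (zexp u) (((1 : Aˣ) : A))) := by
  constructor
  · simp [zexp, h8, h2]
  · have : Xi A u - Y3 A ^ K * single (zexp u) (((1 : Aˣ) : A)) = 0 := by
      rw [Xi, hg, he, h8, pow_zero, pow_zero, mul_one, mul_one, Units.val_one, mul_comm, sub_self]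
    rw [this]; exact Tge_zero _ _

theorem stage2_hi (u : Fin 9 →₀ ℕ) (K : ℕ) (h8 : u 8 < K) : Tge 2 (-(K : ℤ) + 1) (Xi A u) := by
  refine (Xi_tge A 2 u).mono ?_
  simp only [zexp, Matrix.cons_val_two, Matrix.cons_val_one, Matrix.cons_val_zero, Matrix.tail_cons,
    Matrix.head_cons]
  omega

end Lie3Mod
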