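import Mathlib
import Groth.Agent.Lib.helper1.L3f

/-! Lie3Mod: injectivity of the model map on normal forms. -/

namespace Lie3Mod

open AddMonoidAlgebra

variable (A : Type*) [CommRing A]

/-- normal-form monomials in the variables `x1,x2,x3,b,h,i,g,e,c` -/
def NF (u : Fin 9 →₀ ℕ) : Prop :=
  (u 0 = 0 ∨ u 6 = 0) ∧ (u 1 = 0 ∨ u 7 = 0) ∧ (u 2 = 0 ∨ u 8 = 0) ∧ (u 6 = 0 ∨ u 7 = 0 ∨ u 8 = 0)

theorem Phi9_eq_sum (n : MvPolynomial (Fin 9) A) :
    Phi9 A n = ∑ u ∈ n.support, n.coeff u • Xi A u := by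
  conv_lhs => rw [n.as_sum]
  rw [map_sum]
  exact Finset.sum_congr rfl fun u _ => Phi9_monomial A u _

theorem inj0 (u u' : Fin 9 →₀ ℕ) (hu : NF u) (hu' : NF u') (K : ℕ) (hK : 0 < K) (h6 : u 6 = K)
    (h6' : u' 6 = K)
    (hw : zexp u + (u 7) • (E 3 + E 2) + (u 8) • (E 3 + E 1) =
      zexp u' + (u' 7) • (E 3 + E 2) + (u' 8) • (E 3 + E 1)) : u = u' := by
  have e0 := congrFun hw 0
  have e1 := congrFun hw 1
  have e2 := congrFun hw 2
  have e3 := congrFun hw 3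
  have e4 := congrFun hw 4
  have e5 := congrFun hw 5
  simp only [Pi.add_apply, Pi.smul_apply, E, Pi.single_apply, zexp, Matrix.cons_val_zero,
    Matrix.cons_val_one, Matrix.cons_val, nsmul_eq_mul] at e0 e1 e2 e3 e4 e5
  simp at e0 e1 e2 e3 e4 e5
  obtain ⟨a1, a2, a3, a4⟩ := hu
  obtain ⟨b1, b2, b3, b4⟩ := hu'
  ext k
  fin_cases k <;> simp only [Fin.zero_eta, Fin.mk_one, Fin.reduceFinMk] <;> omega

theorem inj1 (u u' : Fin 9 →₀ ℕ) (hu : NF u) (hu' : NF u') (K : ℕ) (hK : 0 < K)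
    (h6 : u 6 = 0) (h6' : u' 6 = 0) (h7 : u 7 = K) (h7' : u' 7 = K)
    (hw : zexp u + (u 8) • (E 5 + E 0) = zexp u' + (u' 8) • (E 5 + E 0)) : u = u' := by
  have e0 := congrFun hw 0
  have e1 := congrFun hw 1
  have e2 := congrFun hw 2
  have e3 := congrFun hw 3
  have e4 := congrFun hw 4
  have e5 := congrFun hw 5
  simp only [Pi.add_apply, Pi.smul_apply, E, Pi.single_apply, zexp, Matrix.cons_val_zero,
    Matrix.cons_val_one, Matrix.cons_val, nsmul_eq_mul] at e0 e1 e2 e3 e4 e5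
  simp at e0 e1 e2 e3 e4 e5
  obtain ⟨a1, a2, a3, a4⟩ := hu
  obtain ⟨b1, b2, b3, b4⟩ := hu'
  ext k
  fin_cases k <;> simp only [Fin.zero_eta, Fin.mk_one, Fin.reduceFinMk] <;> omega

theorem inj2 (u u' : Fin 9 →₀ ℕ) (hu : NF u) (hu' : NF u') (K : ℕ) (hK : 0 < K)
    (h6 : u 6 = 0) (h6' : u' 6 = 0) (h7 : u 7 = 0) (h7' : u' 7 = 0) (h8 : u 8 = K) (h8' : u' 8 = K)
    (hw : zexp u = zexp u') : u = u' := by
  have e0 := congrFun hw 0
  have e1 := congrFun hw 1
  have e2 := congrFun hw 2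
  have e3 := congrFun hw 3
  have e4 := congrFun hw 4
  have e5 := congrFun hw 5
  simp only [zexp, Matrix.cons_val_zero, Matrix.cons_val_one, Matrix.cons_val] at e0 e1 e2 e3 e4 e5
  obtain ⟨a1, a2, a3, a4⟩ := hu
  obtain ⟨b1, b2, b3, b4⟩ := hu'
  ext k
  fin_cases k <;> simp only [Fin.zero_eta, Fin.mk_one, Fin.reduceFinMk] <;> omega

theorem inj3 (u u' : Fin 9 →₀ ℕ)
    (h6 : u 6 = 0) (h6' : u' 6 = 0) (h7 : u 7 = 0) (h7' : u' 7 = 0) (h8 : u 8 = 0) (h8' : u' 8 = 0)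
    (hw : zexp u = zexp u') : u = u' := by
  have e0 := congrFun hw 0
  have e1 := congrFun hw 1
  have e2 := congrFun hw 2
  have e3 := congrFun hw 3
  have e4 := congrFun hw 4
  have e5 := congrFun hw 5
  simp only [zexp, Matrix.cons_val_zero, Matrix.cons_val_one, Matrix.cons_val] at e0 e1 e2 e3 e4 e5
  ext k
  fin_cases k <;> simp only [Fin.zero_eta, Fin.mk_one, Fin.reduceFinMk] <;> omega

/-- **Injectivity of the model map on normal forms.** -/
theorem indep (n : MvPolynomial (Fin 9) A) (hn : ∀ u ∈ n.support, NF u) (h : Phi9 A n = 0) :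
    n = 0 := by
  classical
  rw [Phi9_eq_sum] at h
  have hl : ∀ u ∈ n.support, n.coeff u ≠ 0 := fun u hu => MvPolynomial.mem_support_iff.1 hu
  -- stage 0
  have s0 : ∀ u ∈ n.support, u 6 = 0 := by
    by_contra hcon
    push Not at hcon
    obtain ⟨u1, hu1, hu1'⟩ := hcon
    obtain ⟨um, hum, hmax⟩ := Finset.exists_max_image n.support (fun u => u 6) ⟨u1, hu1⟩
    have hK : 0 < um 6 := lt_of_lt_of_le (Nat.pos_of_ne_zero hu1') (hmax u1 hu1)
    have := stage_core n.support (fun u => n.coeff u) (Xi A) 0 (-((um 6 : ℕ) : ℤ)) (Y1 A) (Y1_teq0 A)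
      (Y1_regular A) (um 6) (fun u => u 6 = um 6)
      (fun u => zexp u + (u 7) • (E 3 + E 2) + (u 8) • (E 3 + E 1)) (fun u => (-1) ^ (u 7))
      ?_ ?_ ?_ h um hum rfl
    · exact hl um hum this
    · intro u hu h6
      refine stage0_lo A u (um 6) h6 ?_
      rcases (hn u hu).1 with h0 | h0
      · exact h0
      · omega
    · intro u hu h6
      exact stage0_hi A u (um 6) (lt_of_le_of_ne (hmax u hu) h6)
    · rintro u ⟨hu, h6⟩ u' ⟨hu', h6'⟩ hw
      exact inj0 u u' (hn u hu) (hn u' hu') (um 6) hK h6 h6' hw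
  -- stage 1
  have s1 : ∀ u ∈ n.support, u 7 = 0 := by
    by_contra hcon
    push Not at hcon
    obtain ⟨u1, hu1, hu1'⟩ := hcon
    obtain ⟨um, hum, hmax⟩ := Finset.exists_max_image n.support (fun u => u 7) ⟨u1, hu1⟩
    have hK : 0 < um 7 := lt_of_lt_of_le (Nat.pos_of_ne_zero hu1') (hmax u1 hu1)
    have := stage_core n.support (fun u => n.coeff u) (Xi A) 1 (-((um 7 : ℕ) : ℤ)) (Y2 A) (Y2_teq1 A)
      (Y2_regular A) (um 7) (fun u => u 7 = um 7)
      (fun u => zexp u + (u 8) • (E 5 + E 0)) (fun _ => 1)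
      ?_ ?_ ?_ h um hum rfl
    · exact hl um hum this
    · intro u hu h7
      refine stage1_lo A u (um 7) (s0 u hu) h7 ?_
      rcases (hn u hu).2.1 with h0 | h0
      · exact h0
      · omega
    · intro u hu h7
      exact stage1_hi A u (um 7) (lt_of_le_of_ne (hmax u hu) h7)
    · rintro u ⟨hu, h7⟩ u' ⟨hu', h7'⟩ hw
      exact inj1 u u' (hn u hu) (hn u' hu') (um 7) hK (s0 u hu) (s0 u' hu') h7 h7' hw
  -- stage 2
  have s2 : ∀ u ∈ n.support, u 8 = 0 := by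
    by_contra hcon
    push Not at hcon
    obtain ⟨u1, hu1, hu1'⟩ := hcon
    obtain ⟨um, hum, hmax⟩ := Finset.exists_max_image n.support (fun u => u 8) ⟨u1, hu1⟩
    have hK : 0 < um 8 := lt_of_lt_of_le (Nat.pos_of_ne_zero hu1') (hmax u1 hu1)
    have := stage_core n.support (fun u => n.coeff u) (Xi A) 2 (-((um 8 : ℕ) : ℤ)) (Y3 A) (Y3_teq2 A)
      (Y3_regular A) (um 8) (fun u => u 8 = um 8)
      (fun u => zexp u) (fun _ => 1)
      ?_ ?_ ?_ h um hum rfl
    · exact hl um hum this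
    · intro u hu h8
      refine stage2_lo A u (um 8) (s0 u hu) (s1 u hu) h8 ?_
      rcases (hn u hu).2.2.1 with h0 | h0
      · exact h0
      · omega
    · intro u hu h8
      exact stage2_hi A u (um 8) (lt_of_le_of_ne (hmax u hu) h8)
    · rintro u ⟨hu, h8⟩ u' ⟨hu', h8'⟩ hw
      exact inj2 u u' (hn u hu) (hn u' hu') (um 8) hK (s0 u hu) (s0 u' hu') (s1 u hu) (s1 u' hu')
        h8 h8' hw
  -- final
  have hfin : ∑ u ∈ n.support, single (zexp u) (n.coeff u) = (0 : AddMonoidAlgebra A G6) := by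
    rw [← h]
    apply Finset.sum_congr rfl
    intro u hu
    rw [Xi, s0 u hu, s1 u hu, s2 u hu, pow_zero, pow_zero, pow_zero, mul_one, mul_one, mul_one,
      smul_single', mul_one]
  have h3 := coeff_eq_zero_of_sum_single n.support zexp (fun u => n.coeff u) ?_ hfin
  · rw [← MvPolynomial.support_eq_empty]
    by_contra hne
    obtain ⟨u, hu⟩ := Finset.nonempty_iff_ne_empty.2 hne
    exact hl u hu (h3 u hu)
  · intro u hu u' hu' hw
    exact inj3 u u' (s0 u hu) (s0 u' hu') (s1 u hu) (s1 u' hu') (s2 u hu) (s2 u' hu') hw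

end Lie3Mod
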