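import Mathlib
import Groth.Agent.Lib.helper1.L3g

/-! Lie3Mod: reduction to normal form modulo `J9`. -/

namespace Lie3Mod

open MvPolynomial

variable (A : Type*) [CommRing A]

/-- the polynomial ring in `x1,x2,x3,b,h,i,g,e,c` -/
abbrev P9 := MvPolynomial (Fin 9) A

noncomputable def q1 : P9 A := X 0 * X 6 - (X 5 * X 2 - X 4 * X 1)
noncomputable def q2 : P9 A := X 1 * X 7 - (X 4 * X 0 - X 3 * X 2)
noncomputable def q3 : P9 A := X 2 * X 8 - (X 5 * X 0 + X 3 * X 1 - X 0 * X 1)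
noncomputable def Delta9 : P9 A :=
  -(X 8 * X 4 ^ 2) + X 6 * X 3 * (X 0 - X 3) + X 7 * X 5 ^ 2 - X 6 * X 7 * X 8 + X 4 * X 3 * X 5
    - X 5 * X 4 * (X 0 - X 3)

/-- the ideal `J` in the new coordinates -/
noncomputable def J9 : Ideal (P9 A) := Ideal.span {q1 A, q2 A, q3 A, Delta9 A}

theorem q1_mem : q1 A ∈ J9 A := Ideal.subset_span (by simp)
theorem q2_mem : q2 A ∈ J9 A := Ideal.subset_span (by simp)
theorem q3_mem : q3 A ∈ J9 A := Ideal.subset_span (by simp)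
theorem Delta9_mem : Delta9 A ∈ J9 A := Ideal.subset_span (by simp)

/-- `p` is congruent modulo `J9` to a normal form. -/
def Good (p : P9 A) : Prop := ∃ n : P9 A, (∀ u ∈ n.support, NF u) ∧ p - n ∈ J9 A

variable {A}

theorem Good.zero : Good A 0 := ⟨0, by simp, by simp⟩

theorem Good.add {p q : P9 A} (hp : Good A p) (hq : Good A q) : Good A (p + q) := by
  classical
  obtain ⟨n, hn, h1⟩ := hp
  obtain ⟨m, hm, h2⟩ := hq
  refine ⟨n + m, ?_, ?_⟩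
  · intro u hu
    rcases Finset.mem_union.1 (MvPolynomial.support_add hu) with h | h
    · exact hn u h
    · exact hm u h
  · have : p + q - (n + m) = (p - n) + (q - m) := by ring
    rw [this]; exact add_mem h1 h2

theorem Good.neg {p : P9 A} (hp : Good A p) : Good A (-p) := by
  obtain ⟨n, hn, h1⟩ := hp
  refine ⟨-n, ?_, ?_⟩
  · intro u hu
    rw [MvPolynomial.support_neg] at hu
    exact hn u hu
  · have : -p - -n = -(p - n) := by ring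
    rw [this]; exact neg_mem h1

theorem Good.sub {p q : P9 A} (hp : Good A p) (hq : Good A q) : Good A (p - q) := by
  rw [sub_eq_add_neg]; exact hp.add hq.neg

theorem Good.smul {p : P9 A} (a : A) (hp : Good A p) : Good A (a • p) := by
  obtain ⟨n, hn, h1⟩ := hp
  refine ⟨a • n, ?_, ?_⟩
  · intro u hu
    exact hn u (MvPolynomial.support_smul hu)
  · rw [← smul_sub, Algebra.smul_def]; exact Ideal.mul_mem_left _ _ h1

theorem Good.of_sub_mem {p q : P9 A} (hq : Good A q) (h : p - q ∈ J9 A) : Good A p := by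
  obtain ⟨n, hn, h1⟩ := hq
  refine ⟨n, hn, ?_⟩
  have : p - n = (p - q) + (q - n) := by ring
  rw [this]; exact add_mem h h1

/-- explicit monomials -/
noncomputable def Mn (a0 a1 a2 a3 a4 a5 a6 a7 a8 : ℕ) : P9 A :=
  X 0 ^ a0 * X 1 ^ a1 * X 2 ^ a2 * X 3 ^ a3 * X 4 ^ a4 * X 5 ^ a5 * X 6 ^ a6 * X 7 ^ a7 * X 8 ^ a8

theorem Mn_eq_monomial (a0 a1 a2 a3 a4 a5 a6 a7 a8 : ℕ) :
    (Mn a0 a1 a2 a3 a4 a5 a6 a7 a8 : P9 A) =
      monomial (Finsupp.single 0 a0 + Finsupp.single 1 a1 + Finsupp.single 2 a2 +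
        Finsupp.single 3 a3 + Finsupp.single 4 a4 + Finsupp.single 5 a5 + Finsupp.single 6 a6 +
        Finsupp.single 7 a7 + Finsupp.single 8 a8) 1 := by
  simp only [Mn, X_pow_eq_monomial, monomial_mul, mul_one]

theorem monomial_eq_Mn (u : Fin 9 →₀ ℕ) :
    (monomial u 1 : P9 A) = Mn (u 0) (u 1) (u 2) (u 3) (u 4) (u 5) (u 6) (u 7) (u 8) := by
  rw [Mn_eq_monomial]
  have : u = Finsupp.single 0 (u 0) + Finsupp.single 1 (u 1) + Finsupp.single 2 (u 2) +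
        Finsupp.single 3 (u 3) + Finsupp.single 4 (u 4) + Finsupp.single 5 (u 5) +
        Finsupp.single 6 (u 6) + Finsupp.single 7 (u 7) + Finsupp.single 8 (u 8) := by
    refine Finsupp.ext fun k => ?_
    fin_cases k <;> simp
  exact congrArg (fun v => (monomial v 1 : P9 A)) this

theorem Good_Mn_of_NF (a0 a1 a2 a3 a4 a5 a6 a7 a8 : ℕ)
    (h : (a0 = 0 ∨ a6 = 0) ∧ (a1 = 0 ∨ a7 = 0) ∧ (a2 = 0 ∨ a8 = 0) ∧ (a6 = 0 ∨ a7 = 0 ∨ a8 = 0)) :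
    Good A (Mn a0 a1 a2 a3 a4 a5 a6 a7 a8) := by
  classical
  refine ⟨Mn a0 a1 a2 a3 a4 a5 a6 a7 a8, ?_, by simp⟩
  intro u hu
  rw [Mn_eq_monomial] at hu
  have := MvPolynomial.support_monomial_subset hu
  rw [Finset.mem_singleton] at this
  subst this
  simpa [NF] using h

end Lie3Mod

namespace Lie3Mod

open MvPolynomial

variable {A : Type*} [CommRing A]

theorem Good_Mn : ∀ (N : ℕ) (a0 a1 a2 a3 a4 a5 a6 a7 a8 : ℕ), a6 + a7 + a8 = N →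
    Good A (Mn a0 a1 a2 a3 a4 a5 a6 a7 a8) := by
  intro N
  induction N using Nat.strong_induction_on with
  | _ N ih =>
  intro a0 a1 a2 a3 a4 a5 a6 a7 a8 hN
  by_cases hD : 1 ≤ a6 ∧ 1 ≤ a7 ∧ 1 ≤ a8
  · obtain ⟨b6, rfl⟩ : ∃ b6, a6 = b6 + 1 := ⟨a6 - 1, by omega⟩
    obtain ⟨b7, rfl⟩ : ∃ b7, a7 = b7 + 1 := ⟨a7 - 1, by omega⟩
    obtain ⟨b8, rfl⟩ : ∃ b8, a8 = b8 + 1 := ⟨a8 - 1, by omega⟩
    have key : Mn a0 a1 a2 a3 a4 a5 (b6+1) (b7+1) (b8+1) -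
        (-Mn a0 a1 a2 a3 (a4+2) a5 b6 b7 (b8+1) + Mn (a0+1) a1 a2 (a3+1) a4 a5 (b6+1) b7 b8
          - Mn a0 a1 a2 (a3+2) a4 a5 (b6+1) b7 b8 + Mn a0 a1 a2 a3 a4 (a5+2) b6 (b7+1) b8
          + Mn a0 a1 a2 (a3+1) (a4+1) (a5+1) b6 b7 b8 - Mn (a0+1) a1 a2 a3 (a4+1) (a5+1) b6 b7 b8
          + Mn a0 a1 a2 (a3+1) (a4+1) (a5+1) b6 b7 b8) =
        -(Mn a0 a1 a2 a3 a4 a5 b6 b7 b8) * Delta9 A := by
      simp only [Mn, Delta9]; ring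
    refine Good.of_sub_mem ?_ (key ▸ Ideal.mul_mem_left _ _ (Delta9_mem A))
    refine Good.add (Good.sub (Good.add (Good.add (Good.sub (Good.add (Good.neg ?_) ?_) ?_) ?_) ?_) ?_) ?_
    · exact ih (b6 + b7 + (b8 + 1)) (by omega) _ _ _ _ _ _ _ _ _ rfl
    · exact ih (b6 + 1 + b7 + b8) (by omega) _ _ _ _ _ _ _ _ _ rfl
    · exact ih (b6 + 1 + b7 + b8) (by omega) _ _ _ _ _ _ _ _ _ rfl
    · exact ih (b6 + (b7 + 1) + b8) (by omega) _ _ _ _ _ _ _ _ _ rfl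
    · exact ih (b6 + b7 + b8) (by omega) _ _ _ _ _ _ _ _ _ rfl
    · exact ih (b6 + b7 + b8) (by omega) _ _ _ _ _ _ _ _ _ rfl
    · exact ih (b6 + b7 + b8) (by omega) _ _ _ _ _ _ _ _ _ rfl
  by_cases h1 : 1 ≤ a0 ∧ 1 ≤ a6
  · obtain ⟨b0, rfl⟩ : ∃ b0, a0 = b0 + 1 := ⟨a0 - 1, by omega⟩
    obtain ⟨b6, rfl⟩ : ∃ b6, a6 = b6 + 1 := ⟨a6 - 1, by omega⟩
    have key : Mn (b0+1) a1 a2 a3 a4 a5 (b6+1) a7 a8 -
        (Mn b0 a1 (a2+1) a3 a4 (a5+1) b6 a7 a8 - Mn b0 (a1+1) a2 a3 (a4+1) a5 b6 a7 a8) =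
        (Mn b0 a1 a2 a3 a4 a5 b6 a7 a8) * q1 A := by
      simp only [Mn, q1]; ring
    refine Good.of_sub_mem ?_ (key ▸ Ideal.mul_mem_left _ _ (q1_mem A))
    refine Good.sub ?_ ?_
    · exact ih (b6 + a7 + a8) (by omega) _ _ _ _ _ _ _ _ _ rfl
    · exact ih (b6 + a7 + a8) (by omega) _ _ _ _ _ _ _ _ _ rfl
  by_cases h2 : 1 ≤ a1 ∧ 1 ≤ a7
  · obtain ⟨b1, rfl⟩ : ∃ b1, a1 = b1 + 1 := ⟨a1 - 1, by omega⟩
    obtain ⟨b7, rfl⟩ : ∃ b7, a7 = b7 + 1 := ⟨a7 - 1, by omega⟩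
    have key : Mn a0 (b1+1) a2 a3 a4 a5 a6 (b7+1) a8 -
        (Mn (a0+1) b1 a2 a3 (a4+1) a5 a6 b7 a8 - Mn a0 b1 (a2+1) (a3+1) a4 a5 a6 b7 a8) =
        (Mn a0 b1 a2 a3 a4 a5 a6 b7 a8) * q2 A := by
      simp only [Mn, q2]; ring
    refine Good.of_sub_mem ?_ (key ▸ Ideal.mul_mem_left _ _ (q2_mem A))
    refine Good.sub ?_ ?_
    · exact ih (a6 + b7 + a8) (by omega) _ _ _ _ _ _ _ _ _ rfl
    · exact ih (a6 + b7 + a8) (by omega) _ _ _ _ _ _ _ _ _ rfl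
  by_cases h3 : 1 ≤ a2 ∧ 1 ≤ a8
  · obtain ⟨b2, rfl⟩ : ∃ b2, a2 = b2 + 1 := ⟨a2 - 1, by omega⟩
    obtain ⟨b8, rfl⟩ : ∃ b8, a8 = b8 + 1 := ⟨a8 - 1, by omega⟩
    have key : Mn a0 a1 (b2+1) a3 a4 a5 a6 a7 (b8+1) -
        (Mn (a0+1) a1 b2 a3 a4 (a5+1) a6 a7 b8 + Mn a0 (a1+1) b2 (a3+1) a4 a5 a6 a7 b8
          - Mn (a0+1) (a1+1) b2 a3 a4 a5 a6 a7 b8) =
        (Mn a0 a1 b2 a3 a4 a5 a6 a7 b8) * q3 A := by
      simp only [Mn, q3]; ring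
    refine Good.of_sub_mem ?_ (key ▸ Ideal.mul_mem_left _ _ (q3_mem A))
    refine Good.sub (Good.add ?_ ?_) ?_
    · exact ih (a6 + a7 + b8) (by omega) _ _ _ _ _ _ _ _ _ rfl
    · exact ih (a6 + a7 + b8) (by omega) _ _ _ _ _ _ _ _ _ rfl
    · exact ih (a6 + a7 + b8) (by omega) _ _ _ _ _ _ _ _ _ rfl
  · apply Good_Mn_of_NF
    omega

theorem Good_all (p : P9 A) : Good A p := by
  classical
  rw [p.as_sum]
  refine Finset.sum_induction _ (Good A) (fun _ _ => Good.add) Good.zero ?_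
  intro u _
  have : (monomial u (p.coeff u) : P9 A) = p.coeff u • monomial u 1 := by
    rw [smul_monomial, smul_eq_mul, mul_one]
  rw [this, monomial_eq_Mn]
  exact (Good_Mn _ _ _ _ _ _ _ _ _ _ rfl).smul _

end Lie3Mod
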