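import Mathlib
import Groth.Agent.Lib.helper1.L3h
import Groth.Agent.Lib.helper1.L3b

/-! Lie3Mod: the key theorem `J = ker Φ` and its consequences. -/

namespace Lie3Mod

open MvPolynomial AddMonoidAlgebra

variable (A : Type*) [CommRing A]

theorem Phi9_X (k : Fin 9) : Phi9 A (X k) = img A k := by
  rw [Phi9, aeval_X]

theorem Xm0_mul : (Xm 0 : AddMonoidAlgebra A G6) * single (-E 0) 1 = 1 := by
  rw [Xm, single_mul_single, add_neg_cancel, mul_one]; rfl
theorem Xm1_mul : (Xm 1 : AddMonoidAlgebra A G6) * single (-E 1) 1 = 1 := by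
  rw [Xm, single_mul_single, add_neg_cancel, mul_one]; rfl
theorem Xm2_mul : (Xm 2 : AddMonoidAlgebra A G6) * single (-E 2) 1 = 1 := by
  rw [Xm, single_mul_single, add_neg_cancel, mul_one]; rfl

theorem Phi9_q1 : Phi9 A (q1 A) = 0 := by
  simp only [q1, map_sub, map_mul, Phi9_X]
  have h0 : img A 0 = Xm 0 := rfl
  have h1 : img A 1 = Xm 1 := rfl
  have h2 : img A 2 = Xm 2 := rfl
  have h4 : img A 4 = Xm 4 := rfl
  have h5 : img A 5 = Xm 5 := rfl
  have h6 : img A 6 = single (-E 0) 1 * Y1 A := rfl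
  rw [h0, h1, h2, h4, h5, h6, ← mul_assoc, Xm0_mul, one_mul, Y1]
  simp only [Xm, single_mul_single, mul_one]
  abel

theorem Phi9_q2 : Phi9 A (q2 A) = 0 := by
  simp only [q2, map_sub, map_mul, Phi9_X]
  have h0 : img A 0 = Xm 0 := rfl
  have h1 : img A 1 = Xm 1 := rfl
  have h2 : img A 2 = Xm 2 := rfl
  have h3 : img A 3 = Xm 3 := rfl
  have h4 : img A 4 = Xm 4 := rfl
  have h7 : img A 7 = single (-E 1) 1 * Y2 A := rfl
  rw [h0, h1, h2, h3, h4, h7, ← mul_assoc, Xm1_mul, one_mul, Y2]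
  simp only [Xm, single_mul_single, mul_one]
  abel

theorem Phi9_q3 : Phi9 A (q3 A) = 0 := by
  simp only [q3, map_sub, map_add, map_mul, Phi9_X]
  have h0 : img A 0 = Xm 0 := rfl
  have h1 : img A 1 = Xm 1 := rfl
  have h2 : img A 2 = Xm 2 := rfl
  have h3 : img A 3 = Xm 3 := rfl
  have h5 : img A 5 = Xm 5 := rfl
  have h8 : img A 8 = single (-E 2) 1 * Y3 A := rfl
  rw [h0, h1, h2, h3, h5, h8, ← mul_assoc, Xm2_mul, one_mul, Y3]
  simp only [Xm, single_mul_single, mul_one]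
  abel

theorem X0_mul_Delta9 : (X 0 : P9 A) * Delta9 A =
    -(X 7 * X 8 - X 3 * (X 0 - X 3)) * q1 A + (X 4 * X 8 + X 5 * (X 0 - X 3)) * q2 A
      - (X 4 * X 3 + X 5 * X 7) * q3 A := by
  simp only [Delta9, q1, q2, q3]; ring

theorem Phi9_Delta9 : Phi9 A (Delta9 A) = 0 := by
  have h := congrArg (Phi9 A) (X0_mul_Delta9 A)
  simp only [map_sub, map_add, map_mul, map_neg, Phi9_q1, Phi9_q2, Phi9_q3, mul_zero, neg_zero,
    add_zero, sub_zero] at h
  have h0 : Phi9 A (X 0) = Xm 0 := Phi9_X A 0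
  rw [h0] at h
  have := congrArg (fun t => single (-E 0) (1 : A) * t) h
  simp only [mul_zero] at this
  rwa [← mul_assoc, mul_comm (single (-E 0) (1 : A)), Xm0_mul, one_mul] at this

theorem Phi9_J9 (p : P9 A) (hp : p ∈ J9 A) : Phi9 A p = 0 := by
  rw [J9] at hp
  refine Submodule.span_induction (p := fun x _ => Phi9 A x = 0) ?_ ?_ ?_ ?_ hp
  · intro x hx
    simp only [Set.mem_insert_iff, Set.mem_singleton_iff] at hx
    rcases hx with rfl | rfl | rfl | rfl
    · exact Phi9_q1 A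
    · exact Phi9_q2 A
    · exact Phi9_q3 A
    · exact Phi9_Delta9 A
  · simp
  · intro x y _ _ hx hy; rw [map_add, hx, hy, add_zero]
  · intro a x _ hx; rw [smul_eq_mul, map_mul, hx, mul_zero]

/-- **Key theorem** in the coordinates `x1,x2,x3,b,h,i,g,e,c`. -/
theorem mem_J9_iff (p : P9 A) : p ∈ J9 A ↔ Phi9 A p = 0 := by
  constructor
  · exact Phi9_J9 A p
  · intro h
    obtain ⟨n, hn, hpn⟩ := Good_all p
    have h1 : Phi9 A n = 0 := by
      have := Phi9_J9 A _ hpn
      rw [map_sub, h, zero_sub, neg_eq_zero] at this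
      exact this
    have := indep A n hn h1
    rw [this, sub_zero] at hpn
    exact hpn

/-! ### Transfer to the original coordinates -/

/-- new coordinates ↦ old coordinates -/
noncomputable def piD : P9 A →ₐ[A] D A :=
  aeval ![(X 1 + X 5 : D A), X 8 - X 0, X 3 + X 7, X 1, X 7, X 8, X 6, X 4, X 2]

/-- old coordinates ↦ new coordinates -/
noncomputable def sigD : D A →ₐ[A] P9 A :=
  aeval ![(X 5 - X 1 : P9 A), X 3, X 8, X 2 - X 4, X 7, X 0 - X 3, X 6, X 4, X 5]

theorem piD_sigD (p : D A) : piD A (sigD A p) = p := by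
  have : (piD A).comp (sigD A) = AlgHom.id A (D A) := by
    apply MvPolynomial.algHom_ext
    intro k
    fin_cases k <;> simp [piD, sigD]
  exact DFunLike.congr_fun this p

theorem piD_q1 : piD A (q1 A) = -Q1 A := by
  simp [piD, q1, Q1]; ring
theorem piD_q2 : piD A (q2 A) = Q2 A := by
  simp [piD, q2, Q2]; ring
theorem piD_q3 : piD A (q3 A) = Q3 A := by
  simp [piD, q3, Q3]; ring
theorem piD_Delta9 : piD A (Delta9 A) = detM A := by
  simp [piD, Delta9, detM]

theorem sigD_Q1 : sigD A (Q1 A) = -q1 A := by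
  simp [sigD, q1, Q1]; ring
theorem sigD_Q2 : sigD A (Q2 A) = q2 A := by
  simp [sigD, q2, Q2]; ring
theorem sigD_Q3 : sigD A (Q3 A) = q3 A := by
  simp [sigD, q3, Q3]; ring
theorem sigD_detM : sigD A (detM A) = Delta9 A := by
  simp [sigD, Delta9, detM]

theorem piD_J9 (p : P9 A) (hp : p ∈ J9 A) : piD A p ∈ idJ A := by
  rw [J9] at hp
  refine Submodule.span_induction (p := fun x _ => piD A x ∈ idJ A) ?_ ?_ ?_ ?_ hp
  · intro x hx
    simp only [Set.mem_insert_iff, Set.mem_singleton_iff] at hx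
    rcases hx with rfl | rfl | rfl | rfl
    · rw [piD_q1]; exact neg_mem (idI_le_idJ A (Q1_mem_idI A))
    · rw [piD_q2]; exact idI_le_idJ A (Q2_mem_idI A)
    · rw [piD_q3]; exact idI_le_idJ A (Q3_mem_idI A)
    · rw [piD_Delta9]; exact detM_mem_idJ A
  · simp
  · intro x y _ _ hx hy; rw [map_add]; exact add_mem hx hy
  · intro a x _ hx; rw [smul_eq_mul, map_mul]; exact Ideal.mul_mem_left _ _ hx

/-- The model map on `D A`. -/
noncomputable def PhiD : D A →ₐ[A] AddMonoidAlgebra A G6 := (Phi9 A).comp (sigD A)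

theorem PhiD_idJ (p : D A) (hp : p ∈ idJ A) : PhiD A p = 0 := by
  rw [idJ] at hp
  refine Submodule.span_induction (p := fun x _ => PhiD A x = 0) ?_ ?_ ?_ ?_ hp
  · intro x hx
    simp only [Set.mem_insert_iff, Set.mem_singleton_iff] at hx
    rcases hx with rfl | rfl | rfl | rfl
    · simp [PhiD, sigD_Q1, Phi9_q1]
    · simp [PhiD, sigD_Q2, Phi9_q2]
    · simp [PhiD, sigD_Q3, Phi9_q3]
    · simp [PhiD, sigD_detM, Phi9_Delta9]
  · simp
  · intro x y _ _ hx hy; rw [map_add, hx, hy, add_zero]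
  · intro a x _ hx; rw [smul_eq_mul, map_mul, hx, mul_zero]

/-- **Key theorem**: `J` is the kernel of the model map. -/
theorem mem_idJ_iff_PhiD (p : D A) : p ∈ idJ A ↔ PhiD A p = 0 := by
  constructor
  · exact PhiD_idJ A p
  · intro h
    have h1 : sigD A p ∈ J9 A := (mem_J9_iff A _).2 h
    have := piD_J9 A _ h1
    rwa [piD_sigD] at this

theorem idJ_eq_ker : idJ A = RingHom.ker (PhiD A).toRingHom := by
  ext p; rw [mem_idJ_iff_PhiD]; rfl

theorem PhiD_L2 : PhiD A (L2 A) = Xm 0 := by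
  have : sigD A (L2 A) = X 0 := by simp [sigD, L2]
  rw [PhiD, AlgHom.comp_apply, this, Phi9_X]; rfl

end Lie3Mod
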