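import Mathlib
import Groth.Agent.Lib.helper1.L3i

/-! Lie3Mod: consequences of the key theorem. -/

namespace Lie3Mod

open MvPolynomial AddMonoidAlgebra

variable (A : Type*) [CommRing A]

theorem idJ_isPrime [IsDomain A] : (idJ A).IsPrime := by
  rw [idJ_eq_ker]; exact RingHom.ker_isPrime _

theorem PhiD_eq_zero_of_mul_L2 (p : D A) (h : PhiD A (p * L2 A) = 0) : PhiD A p = 0 := by
  rw [map_mul, PhiD_L2] at h
  have := congrArg (fun t => t * single (-E 0) (1 : A)) h
  simp only [zero_mul] at this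
  rwa [mul_assoc, Xm0_mul, mul_one] at this

theorem colon_idL : (idI A).colon (idL A : Set (D A)) = idJ A := by
  apply le_antisymm
  · intro p hp
    rw [Submodule.mem_colon] at hp
    have h1 := hp (L2 A) (L2_mem_idL A)
    rw [smul_eq_mul] at h1
    rw [mem_idJ_iff_PhiD]
    apply PhiD_eq_zero_of_mul_L2
    exact PhiD_idJ A _ (idI_le_idJ A h1)
  · exact idJ_le_colon_idL A

theorem L2_not_mem_idJ [Nontrivial A] : L2 A ∉ idJ A := by
  intro h
  have := PhiD_idJ A _ h
  rw [PhiD_L2, Xm, single_eq_zero] at this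
  exact one_ne_zero this

theorem idJ_mem_minimalPrimes [IsDomain A] : idJ A ∈ (idI A).minimalPrimes := by
  refine ⟨⟨idJ_isPrime A, idI_le_idJ A⟩, ?_⟩
  rintro P ⟨hP, hIP⟩ hPJ
  intro p hp
  have h1 : p * L2 A ∈ P := hIP (idJ_mul_mem_idI A hp (L2_mem_idL A))
  rcases hP.mem_or_mem h1 with h2 | h2
  · exact h2
  · exact absurd (hPJ h2) (L2_not_mem_idJ A)

theorem idI_isRadical [IsDomain A] : (idI A).IsRadical := by
  rw [idI_eq_inf]
  exact (idJ_isPrime A).isRadical.inf (idL_isPrime A).isRadical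

end Lie3Mod
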