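import Mathlib
import Groth.Agent.Lib.helper1.L3j

/-! Lie3Mod: flatness over ℤ. -/

namespace Lie3Mod

open MvPolynomial AddMonoidAlgebra

theorem flat_idJ : Module.Flat ℤ (D ℤ ⧸ idJ ℤ) := by
  have hker : ∀ a ∈ idJ ℤ, (PhiD ℤ).toRingHom a = 0 := fun a ha => PhiD_idJ ℤ a ha
  let f : (D ℤ ⧸ idJ ℤ) →+* AddMonoidAlgebra ℤ G6 := Ideal.Quotient.lift (idJ ℤ) (PhiD ℤ).toRingHom hker
  have hf : Function.Injective f := by
    rw [injective_iff_map_eq_zero]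
    intro x hx
    obtain ⟨p, rfl⟩ := Ideal.Quotient.mk_surjective x
    rw [Ideal.Quotient.lift_mk] at hx
    rw [Ideal.Quotient.eq_zero_iff_mem, mem_idJ_iff_PhiD]
    exact hx
  haveI : Module.IsTorsionFree ℤ (D ℤ ⧸ idJ ℤ) :=
    Function.Injective.moduleIsTorsionFree f hf (fun r m => map_zsmul f r m)
  infer_instance

theorem flat_idI : Module.Flat ℤ (D ℤ ⧸ idI ℤ) := by
  have hker : ∀ a ∈ idI ℤ, ((PhiD ℤ).toRingHom.prod (rho ℤ).toRingHom) a = 0 := by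
    intro a ha
    rw [RingHom.prod_apply, Prod.mk_eq_zero]
    exact ⟨PhiD_idJ ℤ a (idI_le_idJ ℤ ha), (mem_idL_iff ℤ).1 (idI_le_idL ℤ ha)⟩
  let f : (D ℤ ⧸ idI ℤ) →+* AddMonoidAlgebra ℤ G6 × D ℤ :=
    Ideal.Quotient.lift (idI ℤ) ((PhiD ℤ).toRingHom.prod (rho ℤ).toRingHom) hker
  have hf : Function.Injective f := by
    rw [injective_iff_map_eq_zero]
    intro x hx
    obtain ⟨p, rfl⟩ := Ideal.Quotient.mk_surjective x
    rw [Ideal.Quotient.lift_mk, RingHom.prod_apply, Prod.mk_eq_zero] at hx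
    rw [Ideal.Quotient.eq_zero_iff_mem, idI_eq_inf]
    exact ⟨(mem_idJ_iff_PhiD ℤ p).2 hx.1, (mem_idL_iff ℤ).2 hx.2⟩
  haveI : Module.IsTorsionFree ℤ (D ℤ ⧸ idI ℤ) :=
    Function.Injective.moduleIsTorsionFree f hf (fun r m => map_zsmul f r m)
  infer_instance

end Lie3Mod
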