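import Groth.Agent.Lib.helper1.MR4
import Groth.Prelude.Def_LinSer
import Groth.Prelude.Def_CohB1

set_option autoImplicit false
universe u
open CategoryTheory CategoryTheory.Limits AlgebraicGeometry TopologicalSpace Opposite

namespace Groth.Agent.Lib.helper1.LS1

variable {X : Scheme.{u}}

section Eval

variable (k : Type u) [Field k] (p : Spec (CommRingCat.of k) ⟶ X)

theorem pt_eq (z : (Spec (CommRingCat.of k) : Scheme.{u})) : z = IsLocalRing.closedPoint k :=
  Subsingleton.elim _ _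

theorem top_le (V : X.Opens) (hV : p (IsLocalRing.closedPoint k) ∈ V) : ⊤ ≤ p ⁻¹ᵁ V := by
  intro z _
  change p z ∈ V
  rw [pt_eq k z]
  exact hV

/-- evaluation at a rational point -/
noncomputable def ev (V : X.Opens) (hV : p (IsLocalRing.closedPoint k) ∈ V) : Γ(X, V) →+* k :=
  ((Scheme.ΓSpecIso (CommRingCat.of k)).hom.hom).comp (p.appLE V ⊤ (top_le k p V hV)).hom

theorem ev_res {V V' : X.Opens} (h : V ≤ V') (hV : p (IsLocalRing.closedPoint k) ∈ V)
    (a : Γ(X, V')) : ev k p V hV (X.presheaf.map (homOfLE h).op a) = ev k p V' (h hV) a := by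
  unfold ev
  have := p.map_appLE (top_le k p V hV) (homOfLE h).op
  have h2 := congr($this a)
  simp only [RingHom.comp_apply]
  exact congrArg _ h2

theorem ev_toGlobal [X.Over (Spec (CommRingCat.of k))]
    (hp : p ≫ (X ↘ Spec (CommRingCat.of k)) = 𝟙 _) (c : k) :
    ev k p ⊤ trivial (Coh.toGlobal (X ↘ Spec (CommRingCat.of k)) c) = c := by
  have h0 : p.appLE ⊤ ⊤ (top_le k p ⊤ trivial) = p.appTop := by
    simp [Scheme.Hom.appLE, Scheme.Hom.appTop]
  have h1 : (X ↘ Spec (CommRingCat.of k)).appTop ≫ p.appLE ⊤ ⊤ (top_le k p ⊤ trivial) = 𝟙 _ := by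
    rw [h0, ← Scheme.Hom.comp_appTop, hp]
    simp
  unfold ev Coh.toGlobal
  simp only [RingHom.comp_apply]
  have h2 := congr($h1 ((Scheme.ΓSpecIso (CommRingCat.of k)).inv c))
  simp only [CommRingCat.comp_apply, CommRingCat.id_apply] at h2
  erw [h2]
  simp

end Eval

open GL2 in
/-- multiplication by a global function, on presheaves -/
noncomputable def mulV (a : Γ(X, ⊤)) :
    (Coh.structureModule X).presheaf ⟶ (Coh.structureModule X).presheaf where
  app V := AddCommGrpCat.ofHom (AddMonoidHom.mk'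
    (fun r => ofO X V.unop (X.presheaf.map (homOfLE (le_top : V.unop ≤ ⊤)).op a * toO X V.unop r))
    (fun r r' => mul_add (X.presheaf.map (homOfLE (le_top : V.unop ≤ ⊤)).op a)
      (toO X V.unop r) (toO X V.unop r')))
  naturality V W i := by
    ext r
    change X.presheaf.map (homOfLE (le_top : W.unop ≤ ⊤)).op a * X.presheaf.map i (toO X V.unop r) =
      X.presheaf.map i (X.presheaf.map (homOfLE (le_top : V.unop ≤ ⊤)).op a * toO X V.unop r)
    rw [map_mul]
    congr 1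
    rw [← CommRingCat.comp_apply, ← Functor.map_comp]
    rfl

open GL2 in
theorem mulV_smul (a : Γ(X, ⊤)) (V : X.Opens) (c : Γ(X, V)) (r : Γ(Coh.structureModule X, V)) :
    (mulV a).app (op V) (c • r) = c • (mulV a).app (op V) r := by
  rw [unit_smul, unit_smul]
  change X.presheaf.map (homOfLE (le_top : V ≤ ⊤)).op a * (c * toO X V r) =
    c * (X.presheaf.map (homOfLE (le_top : V ≤ ⊤)).op a * toO X V r)
  ring

/-- multiplication by a global function -/
noncomputable def mulHom (a : Γ(X, ⊤)) : Coh.structureModule X ⟶ Coh.structureModule X :=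
  PP.homOfLinear (mulV a) (mulV_smul a)

open GL2 in
theorem mulHom_comp_app_one (a : Γ(X, ⊤)) {L : X.Modules} (t : Coh.structureModule X ⟶ L)
    (V : X.Opens) :
    (mulHom a ≫ t).app V (ofO X V 1) =
      X.presheaf.map (homOfLE (le_top : V ≤ ⊤)).op a • t.app V (ofO X V 1) := by
  rw [← Scheme.Modules.Hom.app_smul, unit_smul]
  change t.app V (ofO X V (X.presheaf.map (homOfLE (le_top : V ≤ ⊤)).op a * 1)) = _
  rfl

theorem sum_app {M N : X.Modules} {ι : Type} (S : Finset ι) (φ : ι → (M ⟶ N)) (V : X.Opens)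
    (x : Γ(M, V)) : (∑ j ∈ S, φ j).app V x = ∑ j ∈ S, (φ j).app V x := by
  classical
  induction S using Finset.induction_on with
  | empty => simp
  | insert j S hj ih =>
    rw [Finset.sum_insert hj, Finset.sum_insert hj, Scheme.Modules.Hom.add_app, ← ih]
    rfl

open GL2 in
theorem app_one_res {L : X.Modules} (t : Coh.structureModule X ⟶ L) (V : X.Opens) :
    t.app V (ofO X V 1) =
      L.presheaf.map (homOfLE (le_top : V ≤ ⊤)).op (t.app ⊤ (ofO X ⊤ 1)) := by
  rw [← GL1.hom_app_map]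
  congr 1
  exact (map_one (X.presheaf.map (homOfLE (le_top : V ≤ ⊤)).op).hom).symm

theorem app_bijective_of_isIso_restrict {M N : X.Modules} (φ : M ⟶ N) (W : X.Opens)
    (h : IsIso ((Scheme.Modules.restrictFunctor W.ι).map φ)) (V : X.Opens) (hV : V ≤ W) :
    Function.Bijective (φ.app V) := by
  have hV' : W.ι ''ᵁ (W.ι ⁻¹ᵁ V) = V := by
    rw [Scheme.Hom.image_preimage_eq_opensRange_inf]
    simpa using hV
  obtain ⟨V₀, rfl⟩ : ∃ V₀ : (W : Scheme.{u}).Opens, V = W.ι ''ᵁ V₀ := ⟨_, hV'.symm⟩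
  have h1 := Scheme.Modules.Hom.isIso_iff_isIso_app.mp h V₀
  exact ConcreteCategory.bijective_of_isIso
    (((Scheme.Modules.restrictFunctor W.ι).map φ).app V₀)

theorem res_self {V : X.Opens} (h : V ≤ V) (a : Γ(X, V)) :
    X.presheaf.map (homOfLE h).op a = a := by
  have : homOfLE h = 𝟙 V := rfl
  rw [this]
  simp

theorem main (k : Type u) [Field k] (X : Scheme.{u}) [X.Over (Spec (CommRingCat.of k))]
    (L : X.Modules) (hL : PicF.IsInvertible L)
    (n : ℕ) (p : Fin n → (Spec (CommRingCat.of k) ⟶ X))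
    (hp : ∀ i, p i ≫ (X ↘ Spec (CommRingCat.of k)) = 𝟙 _)
    (t : Fin (n + 1) → (Coh.structureModule X ⟶ L))
    (ht : LinSer.LinIndep k X L (fun j => (L.unitHomEquiv (t j)).val (op ⊤))) :
    ∃ s : Coh.structureModule X ⟶ L, s ≠ 0 ∧
      ∀ i, (p i) (IsLocalRing.closedPoint k) ∉ CohB1.genLocus L s := by
  classical
  have hloc : ∀ i, ∃ (U : X.Opens) (_ : (p i) (IsLocalRing.closedPoint k) ∈ U) (σ : Γ(L, U)),
      ∀ (V : X.Opens) (h : V ≤ U),
        Function.Bijective (fun r : Γ(X, V) => r • L.presheaf.map (homOfLE h).op σ) := by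
    intro i
    obtain ⟨U, hxU, ⟨e⟩⟩ := hL ((p i) (IsLocalRing.closedPoint k))
    obtain ⟨σ, hσ⟩ := MR4.gen_conv L U e
    exact ⟨U.ι ''ᵁ ⊤, by simpa using hxU, σ, hσ⟩
  choose U hxU σ hσ using hloc
  let τ : Fin (n + 1) → Γ(L, ⊤) := fun j => (t j).app ⊤ (GL2.ofO X ⊤ 1)
  have hr : ∀ i j, ∃ r : Γ(X, U i), r • L.presheaf.map (homOfLE (le_refl (U i))).op (σ i) =
      L.presheaf.map (homOfLE (le_top : U i ≤ ⊤)).op (τ j) := fun i j => (hσ i (U i) le_rfl).2 _
  choose r hr using hr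
  let b : Fin n → Fin (n + 1) → k := fun i j => ev k (p i) (U i) (hxU i) (r i j)
  let f : (Fin (n + 1) → k) →ₗ[k] (Fin n → k) := Matrix.mulVecLin (Matrix.of b)
  have hker : LinearMap.ker f ≠ ⊥ := LinearMap.ker_ne_bot_of_finrank_lt (by simp)
  obtain ⟨c, hc, hc0⟩ := (Submodule.ne_bot_iff _).mp hker
  have hci : ∀ i, ∑ j, b i j * c j = 0 := by
    intro i
    have h1 := congrFun (LinearMap.mem_ker.mp hc) i
    simpa [f, Matrix.mulVec, dotProduct] using h1
  let a : Fin (n + 1) → Γ(X, ⊤) := fun j => Coh.toGlobal (X ↘ Spec (CommRingCat.of k)) (c j)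
  have hsV : ∀ V : X.Opens, (∑ j, mulHom (a j) ≫ t j).app V (GL2.ofO X V 1) =
      ∑ j, X.presheaf.map (homOfLE (le_top : V ≤ ⊤)).op (a j) •
        L.presheaf.map (homOfLE (le_top : V ≤ ⊤)).op (τ j) := by
    intro V
    rw [sum_app]
    refine Finset.sum_congr rfl (fun j _ => ?_)
    rw [mulHom_comp_app_one, app_one_res]
  refine ⟨∑ j, mulHom (a j) ≫ t j, ?_, ?_⟩
  · intro hs0
    apply hc0
    apply ht c
    have h1 := hsV ⊤
    rw [hs0] at h1
    simp only [res_self, GL1.map_self] at h1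
    exact h1.symm
  · intro i hmem
    obtain ⟨W0, hW, hxW⟩ := Opens.mem_sSup.mp hmem
    obtain ⟨W, rfl⟩ : ∃ W : X.Opens, W = W0 := ⟨W0, rfl⟩
    have hW' : IsIso ((Scheme.Modules.restrictFunctor W.ι).map (∑ j, mulHom (a j) ≫ t j)) := hW
    have hxV : (p i) (IsLocalRing.closedPoint k) ∈ W ⊓ U i := ⟨hxW, hxU i⟩
    have hb := app_bijective_of_isIso_restrict _ W hW' (W ⊓ U i) inf_le_left
    set ρ : Γ(X, W ⊓ U i) := ∑ j, X.presheaf.map (homOfLE (le_top : W ⊓ U i ≤ ⊤)).op (a j) *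
      X.presheaf.map (homOfLE (inf_le_right : W ⊓ U i ≤ U i)).op (r i j) with hρ
    have h1 : (∑ j, mulHom (a j) ≫ t j).app (W ⊓ U i) (GL2.ofO X _ 1) =
        ρ • L.presheaf.map (homOfLE (inf_le_right : W ⊓ U i ≤ U i)).op (σ i) := by
      rw [hsV, hρ, Finset.sum_smul]
      refine Finset.sum_congr rfl (fun j _ => ?_)
      rw [mul_smul, ← GL1.map_map L (inf_le_right : W ⊓ U i ≤ U i) (le_top : U i ≤ ⊤), ← hr i j,
        Scheme.Modules.map_smul, GL1.map_map]
    obtain ⟨w, hw⟩ := hb.2 (L.presheaf.map (homOfLE (inf_le_right : W ⊓ U i ≤ U i)).op (σ i))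
    have h2 : w = GL2.toO X _ w • GL2.ofO X (W ⊓ U i) 1 := by
      rw [GL2.unit_smul]
      exact (mul_one (GL2.toO X (W ⊓ U i) w)).symm
    rw [h2, Scheme.Modules.Hom.app_smul, h1, ← mul_smul] at hw
    have h3 : GL2.toO X _ w * ρ = 1 :=
      (hσ i (W ⊓ U i) inf_le_right).1 (hw.trans (one_smul _ _).symm)
    have h4 := congr(ev k (p i) (W ⊓ U i) hxV $h3)
    have h5 : ev k (p i) (W ⊓ U i) hxV ρ = 0 := by
      rw [hρ, map_sum, ← hci i]
      refine Finset.sum_congr rfl (fun j _ => ?_)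
      rw [map_mul, ev_res, ev_res, ev_toGlobal k (p i) (hp i), mul_comm]
    rw [map_mul, h5, mul_zero, map_one] at h4
    exact zero_ne_one h4

end Groth.Agent.Lib.helper1.LS1
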