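import Mathlib
import Groth.Prelude

set_option autoImplicit false
universe u
open CategoryTheory AlgebraicGeometry TopologicalSpace Opposite

namespace Groth.Agent.Lib.helper1.MR1

theorem local_step (X : Scheme.{u}) (h : Γ(X, ⊤)) (f : Γ(Mero.kmod X, ⊤))
    (hf : (Mero.kmod X).presheaf.map (homOfLE (le_top : X.basicOpen h ≤ ⊤)).op f = 0) (x : X) :
    ∃ (W : X.Opens) (n : ℕ), x ∈ W ∧ ∀ y ∈ W,
      ((Mero.toK X ⊤ h).1 ⟨y, trivial⟩) ^ n * f.1 ⟨y, trivial⟩ = 0 := by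
  obtain ⟨V, hxV, i, a, b, hab⟩ := f.2 ⟨x, trivial⟩
  obtain ⟨W, hW, hxW, hWV⟩ := (X.isBasis_affineOpens).exists_subset_of_mem_open hxV V.2
  obtain ⟨W, rfl⟩ : ∃ W' : X.Opens, W = (W' : Set X) := by
    obtain ⟨W', hW', rfl⟩ := hW
    exact ⟨W', rfl⟩
  have hW' : IsAffineOpen W := by
    obtain ⟨W', hW', e⟩ := hW
    have : W' = W := Opens.ext e
    subst this
    exact hW'
  have hWV' : W ≤ V := hWV
  have hzero : ∀ y (hy : y ∈ W), y ∈ X.basicOpen h →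
      X.presheaf.germ V y (hWV' hy) a = 0 := by
    intro y hy hyh
    have h1 : f.1 ⟨y, trivial⟩ = 0 := congr($(hf).1 ⟨y, hyh⟩)
    have h2 : f.1 ⟨y, trivial⟩ = _ := hab ⟨y, hWV' hy⟩
    rw [h1] at h2
    have h3 := h2.symm
    rw [← LocalizedModule.zero_mk (Mero.regGerm ⟨y, hWV' hy⟩ b), LocalizedModule.mk_eq] at h3
    obtain ⟨c, hc⟩ := h3
    rw [smul_zero, smul_zero, ← mul_smul] at hc
    have hnz := Mero.regStalk_le_nonZeroDivisors _ (c * Mero.regGerm ⟨y, hWV' hy⟩ b).2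
    rw [Submonoid.smul_def, smul_eq_mul] at hc
    exact (mul_left_mem_nonZeroDivisors_eq_zero_iff hnz).mp hc
  have hbo : X.basicOpen (X.presheaf.map (homOfLE (le_top : W ≤ ⊤)).op h) = W ⊓ X.basicOpen h :=
    Scheme.basicOpen_res _ _ _
  have H : (X.presheaf.map (homOfLE hWV').op a) |_
      (X.basicOpen (X.presheaf.map (homOfLE (le_top : W ≤ ⊤)).op h)) = 0 := by
    apply TopCat.Presheaf.section_ext X.sheaf
    intro y hy
    have hy' : y ∈ W ⊓ X.basicOpen h := hbo ▸ hy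
    refine Eq.trans ?_ (map_zero _).symm
    have := hzero y hy'.1 hy'.2
    change X.presheaf.germ _ y hy (X.presheaf.map (homOfLE _).op
      (X.presheaf.map (homOfLE hWV').op a)) = 0
    rw [TopCat.Presheaf.germ_res_apply, TopCat.Presheaf.germ_res_apply]
    exact this
  obtain ⟨n, hn⟩ := exists_pow_mul_eq_zero_of_res_basicOpen_eq_zero_of_isCompact X hW'.isCompact _ _ H
  refine ⟨W, n, hxW, fun y hy => ?_⟩
  have h2 : f.1 ⟨y, trivial⟩ = _ := hab ⟨y, hWV' hy⟩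
  have h3 : ((Mero.toK X ⊤ h).1 ⟨y, trivial⟩) ^ n = (Mero.toK X ⊤ (h ^ n)).1 ⟨y, trivial⟩ := by
    change (Mero.evalK X ⊤ ⟨y, trivial⟩ (Mero.toK X ⊤ h)) ^ n =
      Mero.evalK X ⊤ ⟨y, trivial⟩ (Mero.toK X ⊤ (h ^ n))
    rw [map_pow, map_pow]
  rw [h3, h2, Mero.toK_apply]
  refine Eq.trans LocalizedModule.mk_mul_mk ?_
  have h4 : X.presheaf.germ ⊤ y trivial (h ^ n) * X.presheaf.germ V y (hWV' hy) a = 0 := by
    have := congr(X.presheaf.germ W y hy $hn)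
    rw [map_mul, map_zero, map_pow, TopCat.Presheaf.germ_res_apply,
      TopCat.Presheaf.germ_res_apply, ← map_pow] at this
    exact this
  erw [h4]
  exact LocalizedModule.zero_mk _

theorem main (X : Scheme.{u}) [CompactSpace ↥X] (h : Γ(X, ⊤))
    (f : Γ(Mero.kmod X, ⊤))
    (hf : (Mero.kmod X).presheaf.map (homOfLE (le_top : X.basicOpen h ≤ ⊤)).op f = 0) :
    ∃ n : ℕ, Mero.toK X ⊤ h ^ n * f = 0 := by
  choose W n hxW hWn using local_step X h f hf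
  obtain ⟨t, ht⟩ := isCompact_univ.elim_finite_subcover (fun x => (W x : Set X))
    (fun x => (W x).2) (fun x _ => Set.mem_iUnion.mpr ⟨x, hxW x⟩)
  refine ⟨t.sup n, ?_⟩
  apply Subtype.ext
  funext ⟨y, hy⟩
  obtain ⟨x, hxt, hyx⟩ : ∃ x ∈ t, y ∈ W x := by simpa using ht (Set.mem_univ y)
  have hle : n x ≤ t.sup n := Finset.le_sup hxt
  change (Mero.evalK X ⊤ ⟨y, hy⟩ (Mero.toK X ⊤ h ^ t.sup n * f)) = 0
  rw [map_mul, map_pow, ← Nat.sub_add_cancel hle, pow_add, mul_assoc]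
  have := hWn x y hyx
  change _ * ((Mero.toK X ⊤ h).1 ⟨y, trivial⟩ ^ n x * f.1 ⟨y, trivial⟩) = 0
  rw [this, mul_zero]

end Groth.Agent.Lib.helper1.MR1
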