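import Mathlib
import Groth.Prelude

set_option autoImplicit false
universe u
open CategoryTheory AlgebraicGeometry TopologicalSpace Opposite Mero

namespace Groth.Agent.Lib.helper1.MR2

variable {X : Scheme.{u}}

theorem divCond_mul (D D' : Divisor X) (x : X) (f : (KStalk X x)ˣ)
    (hD : D.1 x = D'.1 x * QuotientGroup.mk f) {t : KStalk X x} (h : DivCond D x t) :
    DivCond D' x (f * t) := by
  intro g' hg'
  have h1 : D.1 x = QuotientGroup.mk (g' * f) := by rw [hD, hg', QuotientGroup.mk_mul]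
  have h2 := h (g' * f) h1
  convert h2 using 1
  push_cast
  ring

/-- Multiplication by a global unit of `K_X`. -/
noncomputable def mulHom (D D' : Divisor X) (f : (Γ(kmod X, ⊤))ˣ)
    (hD : ∀ x : X, D.1 x = D'.1 x * germOf f ⟨x, (Opens.mem_top _)⟩) : divMod D ⟶ divMod D' :=
  ⟨PresheafOfModules.homMk (M₁ := (divMod D).val) (M₂ := (divMod D').val)
    { app := fun U => AddCommGrpCat.ofHom
        { toFun := fun (t : Γ(divMod D, U.unop)) =>
            (⟨fun x => f.1.1 ⟨x.1, (Opens.mem_top _)⟩ * t.1 x,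
              ⟨kLoc_mul X U.unop (fun x => f.1.1 ⟨x.1, (Opens.mem_top _)⟩) t.1
                ((kLoc X).res (homOfLE (le_top : U.unop ≤ ⊤)) f.1.1 f.1.2) t.2.1,
              fun x => divCond_mul D D' x.1 (Units.map (evalK X ⊤ ⟨x.1, (Opens.mem_top _)⟩).toMonoidHom f)
                (hD x.1) (t.2.2 x)⟩⟩ : Γ(divMod D', U.unop))
          map_zero' := Subtype.ext (funext fun x => mul_zero _)
          map_add' := fun _ _ => Subtype.ext (funext fun x => mul_add _ _ _) }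
      naturality := by intros; rfl }
    (fun U r t => Subtype.ext (funext fun x => mul_smul_comm _ _ _))⟩

theorem mulHom_app_apply (D D' : Divisor X) (f : (Γ(kmod X, ⊤))ˣ)
    (hD : ∀ x : X, D.1 x = D'.1 x * germOf f ⟨x, (Opens.mem_top _)⟩) (U : X.Opens) (t : Γ(divMod D, U))
    (x : U) : ((mulHom D D' f hD).app U t).1 x = f.1.1 ⟨x.1, (Opens.mem_top _)⟩ * t.1 x := rfl

theorem mulHom_comp (D D' : Divisor X) (f g : (Γ(kmod X, ⊤))ˣ) (hfg : g * f = 1)
    (hD : ∀ x : X, D.1 x = D'.1 x * germOf f ⟨x, (Opens.mem_top _)⟩)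
    (hD' : ∀ x : X, D'.1 x = D.1 x * germOf g ⟨x, (Opens.mem_top _)⟩) :
    mulHom D D' f hD ≫ mulHom D' D g hD' = 𝟙 _ := by
  apply Scheme.Modules.hom_ext
  intro U
  ext t
  apply Subtype.ext
  funext x
  change g.1.1 ⟨x.1, (Opens.mem_top _)⟩ * (f.1.1 ⟨x.1, (Opens.mem_top _)⟩ * t.1 x) = t.1 x
  have h1 : g.1.1 ⟨x.1, (Opens.mem_top _)⟩ * f.1.1 ⟨x.1, (Opens.mem_top _)⟩ = 1 :=
    congr(($hfg).1.1 ⟨x.1, (Opens.mem_top _)⟩)
  rw [← mul_assoc, h1, one_mul]

theorem main (D D' : Divisor X) (h : LinEquiv D D') : Nonempty (divMod D ≅ divMod D') := by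
  obtain ⟨f, hf⟩ := h
  have hD : ∀ x : X, D.1 x = D'.1 x * germOf f ⟨x, (Opens.mem_top _)⟩ := by
    intro x
    have := congr(($hf).1 x)
    change D.1 x * (D'.1 x)⁻¹ = germOf f ⟨x, (Opens.mem_top _)⟩ at this
    rw [mul_inv_eq_iff_eq_mul] at this
    rw [this]
    exact mul_comm (G := Germ X x) _ _
  have hD' : ∀ x : X, D'.1 x = D.1 x * germOf f⁻¹ ⟨x, (Opens.mem_top _)⟩ := by
    intro x
    rw [hD x, germOf, germOf, map_inv, QuotientGroup.mk_inv, mul_inv_cancel_right]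
  exact ⟨⟨mulHom D D' f hD, mulHom D' D f⁻¹ hD', mulHom_comp D D' f f⁻¹ (inv_mul_cancel f) hD hD',
    mulHom_comp D' D f⁻¹ f (mul_inv_cancel f) hD' hD⟩⟩

end Groth.Agent.Lib.helper1.MR2
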