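import Groth.Agent.Lib.helper1.GL2
import Groth.Prelude.Def_MeroDiv

set_option autoImplicit false
universe u
open CategoryTheory CategoryTheory.Limits AlgebraicGeometry TopologicalSpace Opposite Mero

namespace Groth.Agent.Lib.helper1.MR3

variable {X : Scheme.{u}}

theorem algebraMap_eq_mk (x : X) (ρ : X.presheaf.stalk x) :
    algebraMap (X.presheaf.stalk x) (KStalk X x) ρ = LocalizedModule.mk ρ 1 := rfl

theorem lemmaA (V : X.Opens) (g : ∀ z : V, KStalk X z.1) (hg : (kLoc X).pred g)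
    (ρ : ∀ z : V, X.presheaf.stalk z.1)
    (hρ : ∀ z : V, algebraMap _ (KStalk X z.1) (ρ z) = g z) :
    ∃ r : Γ(X, V), ∀ z : V, X.presheaf.germ V z.1 z.2 r = ρ z := by
  apply GL2.glue_germs V ρ
  intro z
  obtain ⟨N, hzN, i, a, b, hab⟩ := hg z
  have key : ∀ y : N, X.presheaf.germ N y.1 y.2 a =
      X.presheaf.germ N y.1 y.2 b.1 * ρ (i y) := by
    intro y
    have h1 : g (i y) = _ := hab y
    rw [← hρ (i y), algebraMap_eq_mk, LocalizedModule.mk_eq] at h1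
    obtain ⟨c, hc⟩ := h1
    have hnz := Mero.regStalk_le_nonZeroDivisors _ c.2
    simp only [Submonoid.smul_def, smul_eq_mul, OneMemClass.coe_one, one_mul] at hc
    exact ((mul_left_mem_nonZeroDivisors_eq_zero_iff hnz).mp
      (by rw [mul_sub, hc, sub_self]) |> sub_eq_zero.mp).symm
  obtain ⟨N', hzN', c, hc⟩ := X.presheaf.exists_germ_eq (ρ z)
  have h2 : X.presheaf.germ N z.1 hzN a =
      X.presheaf.germ (N ⊓ N') z.1 ⟨hzN, hzN'⟩
        (X.presheaf.map (homOfLE inf_le_left).op b.1 * X.presheaf.map (homOfLE inf_le_right).op c) := by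
    rw [map_mul, TopCat.Presheaf.germ_res_apply, TopCat.Presheaf.germ_res_apply, hc]
    exact key (⟨z.1, hzN⟩ : N)
  obtain ⟨W, hzW, iU, iV, hW⟩ := X.presheaf.germ_eq (U := N) (V := N ⊓ N') z.1 hzN ⟨hzN, hzN'⟩ _ _ h2
  refine ⟨W, hzW, iU.le.trans i.le, X.presheaf.map (homOfLE (iV.le.trans inf_le_right)).op c,
    fun y hy => ?_⟩
  have h3 := congr(X.presheaf.germ W y hy $hW)
  have k : X.presheaf.germ N y (iU.le hy) a =
      X.presheaf.germ N y (iU.le hy) b.1 * ρ ⟨y, (iU.le.trans i.le) hy⟩ :=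
    key (⟨y, iU.le hy⟩ : N)
  rw [TopCat.Presheaf.germ_res_apply, TopCat.Presheaf.germ_res_apply, map_mul,
    TopCat.Presheaf.germ_res_apply, TopCat.Presheaf.germ_res_apply, k] at h3
  rw [TopCat.Presheaf.germ_res_apply]
  have hnz : X.presheaf.germ N y (iU.le hy) b.1 ∈ nonZeroDivisors _ := b.2 ⟨y, iU.le hy⟩
  exact ((mul_left_mem_nonZeroDivisors_eq_zero_iff hnz).mp
    (by rw [mul_sub, h3, sub_self]) |> sub_eq_zero.mp)

theorem inv_mul_apply {U : X.Opens} (f : (Γ(kmod X, U))ˣ) (z : U) :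
    (f⁻¹ : (Γ(kmod X, U))ˣ).1.1 z * f.1.1 z = 1 :=
  congr(($(f.inv_mul)).1 z)

theorem hcond (D : Divisor X) (U : X.Opens) (f : (Γ(kmod X, U))ˣ)
    (hf : ∀ z : U, D.1 z.1 = germOf f z) (z : U) :
    DivCond D z.1 ((f⁻¹ : (Γ(kmod X, U))ˣ).1.1 z) := by
  intro g hg
  rw [hf z] at hg
  have h1 := QuotientGroup.eq.mp hg
  obtain ⟨w, hw⟩ := h1
  refine ⟨(w : X.presheaf.stalk z.1), ?_⟩
  have h2 := congr((($hw : (KStalk X z.1)ˣ) : KStalk X z.1))
  rw [Units.val_mul] at h2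
  exact h2

/-- the local generator `f⁻¹` -/
noncomputable def sec (D : Divisor X) (U : X.Opens) (f : (Γ(kmod X, U))ˣ)
    (hf : ∀ z : U, D.1 z.1 = germOf f z) : Γ(divMod D, U) :=
  ⟨(f⁻¹ : (Γ(kmod X, U))ˣ).1.1, ⟨(f⁻¹ : (Γ(kmod X, U))ˣ).1.2, hcond D U f hf⟩⟩

theorem sec_bijective (D : Divisor X) (U : X.Opens) (f : (Γ(kmod X, U))ˣ)
    (hf : ∀ z : U, D.1 z.1 = germOf f z) (V : X.Opens) (h : V ≤ U) :
    Function.Bijective
      (fun r : Γ(X, V) => r • (divMod D).presheaf.map (homOfLE h).op (sec D U f hf)) := by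
  have hunit : ∀ z : V, IsUnit ((f⁻¹ : (Γ(kmod X, U))ˣ).1.1 ⟨z.1, h z.2⟩) := fun z =>
    IsUnit.of_mul_eq_one _ (inv_mul_apply f ⟨z.1, h z.2⟩)
  constructor
  · intro r r' hrr
    apply TopCat.Presheaf.section_ext X.sheaf
    intro x hx
    have h1 := congr(($hrr).1 ⟨x, hx⟩)
    change X.presheaf.germ V x hx r • (f⁻¹ : (Γ(kmod X, U))ˣ).1.1 ⟨x, h hx⟩ =
      X.presheaf.germ V x hx r' • (f⁻¹ : (Γ(kmod X, U))ˣ).1.1 ⟨x, h hx⟩ at h1
    rw [Algebra.smul_def, Algebra.smul_def] at h1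
    exact algebraMap_KStalk_injective x ((hunit ⟨x, hx⟩).mul_left_injective h1)
  · intro t
    have hmem : ∀ z : V, t.1 z * f.1.1 ⟨z.1, h z.2⟩ ∈
        (algebraMap (X.presheaf.stalk z.1) (KStalk X z.1)).range := fun z =>
      t.2.2 z (Units.map (evalK X U ⟨z.1, h z.2⟩).toMonoidHom f) (hf ⟨z.1, h z.2⟩)
    choose ρ hρ using hmem
    obtain ⟨r, hr⟩ := lemmaA V (fun z => t.1 z * f.1.1 ⟨z.1, h z.2⟩)
      (kLoc_mul X V t.1 (fun z => f.1.1 ⟨z.1, h z.2⟩) t.2.1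
        ((kLoc X).res (homOfLE h) f.1.1 f.1.2)) ρ hρ
    refine ⟨r, ?_⟩
    apply Subtype.ext
    funext z
    change X.presheaf.germ V z.1 z.2 r • (f⁻¹ : (Γ(kmod X, U))ˣ).1.1 ⟨z.1, h z.2⟩ = t.1 z
    rw [Algebra.smul_def, hr z, hρ z, mul_assoc, mul_comm (f.1.1 _), inv_mul_apply, mul_one]

theorem main (D : Divisor X) : PicF.IsInvertible (divMod D) := by
  intro y
  obtain ⟨U, hyU, f, hf⟩ := D.2 y
  exact ⟨U, hyU, GL2.gen (divMod D) U (sec D U f hf) (sec_bijective D U f hf)⟩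

end Groth.Agent.Lib.helper1.MR3
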