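import Groth.Agent.Lib.helper1.MR3

set_option autoImplicit false
universe u
open CategoryTheory CategoryTheory.Limits AlgebraicGeometry TopologicalSpace Opposite Mero

namespace Groth.Agent.Lib.helper1.MR4

variable {X : Scheme.{u}}

theorem mono_app_injective {J K : X.Modules} (ι : J ⟶ K) [Mono ι] (V : X.Opens) :
    Function.Injective (ι.app V) := by
  have h1 : Mono ((Scheme.Modules.toPresheaf X).map ι) := inferInstance
  have h2 : Mono (((Scheme.Modules.toPresheaf X).map ι).app (op V)) :=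
    (NatTrans.mono_iff_mono_app _).mp h1 (op V)
  exact (AddCommGrpCat.mono_iff_injective _).mp h2

/-- cast -/
abbrev ofX (U : X.Opens) (V : (U : Scheme.{u}).Opens)
    (a : Γ(X, U.ι ''ᵁ V)) : Γ((U : Scheme.{u}), V) := a

open GL2 in
theorem gen_conv (L : X.Modules) (U : X.Opens)
    (e : L.restrict U.ι ≅ Coh.structureModule (U : Scheme.{u})) :
    ∃ s : Γ(L, U.ι ''ᵁ ⊤), ∀ (V : X.Opens) (h : V ≤ U.ι ''ᵁ ⊤),
      Function.Bijective (fun r : Γ(X, V) => r • L.presheaf.map (homOfLE h).op s) := by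
  refine ⟨toL L U ⊤ (e.inv.app ⊤ (ofO _ ⊤ 1)), fun V h => ?_⟩
  have hV : U.ι ''ᵁ (U.ι ⁻¹ᵁ V) = V := by
    rw [Scheme.Hom.image_preimage_eq_opensRange_inf]
    have : U.ι.opensRange = U.ι ''ᵁ ⊤ := by simp
    rw [this]
    exact inf_eq_right.mpr h
  obtain ⟨V₀, rfl⟩ : ∃ V₀ : (U : Scheme.{u}).Opens, V = U.ι ''ᵁ V₀ := ⟨_, hV.symm⟩
  have hfun : (fun r : Γ(X, U.ι ''ᵁ V₀) =>
      r • L.presheaf.map (homOfLE h).op (toL L U ⊤ (e.inv.app ⊤ (ofO _ ⊤ 1)))) =
      fun r => toL L U V₀ (e.inv.app V₀ (ofO _ V₀ r)) := by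
    funext r
    have h1 : ofO (U : Scheme.{u}) V₀ r = ofX U V₀ r •
        (Coh.structureModule (U : Scheme.{u})).presheaf.map (homOfLE (le_top : V₀ ≤ ⊤)).op
          (ofO _ ⊤ 1) := by
      rw [unit_smul]
      change ofX U V₀ r = ofX U V₀ r * (U : Scheme.{u}).presheaf.map (homOfLE (le_top : V₀ ≤ ⊤)).op 1
      rw [map_one, mul_one]
    rw [h1, Scheme.Modules.Hom.app_smul, GL1.hom_app_map, restrict_smul]
    rfl
  rw [hfun]
  exact ConcreteCategory.bijective_of_isIso (e.inv.app V₀)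

theorem kmod_smul (V : X.Opens) (r : Γ(X, V)) (t : Γ(kmod X, V)) : r • t = toK X V r * t := by
  apply Subtype.ext
  funext z
  change X.presheaf.germ V z.1 z.2 r • t.1 z = LocalizedModule.mk (X.presheaf.germ V z.1 z.2 r) 1 * t.1 z
  rw [Algebra.smul_def]
  rfl

theorem regular_num (W : X.Opens) (f : Γ(kmod X, W))
    (hreg : ∀ (V : X.Opens) (h : V ≤ W) (r : Γ(X, V)),
      toK X V r * (kmod X).presheaf.map (homOfLE h).op f = 0 → r = 0)
    (N : X.Opens) (hNW : N ≤ W) (a : Γ(X, N)) (b : regSub X N)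
    (hab : ∀ y : N, f.1 ⟨y.1, hNW y.2⟩ =
      LocalizedModule.mk (X.presheaf.germ N y.1 y.2 a) (regGerm y b)) :
    a ∈ regSub X N := by
  intro y
  change X.presheaf.germ N y.1 y.2 a ∈ _
  rw [mem_nonZeroDivisors_iff_right]
  intro c hc
  obtain ⟨V, hyV, r, rfl⟩ := X.presheaf.exists_germ_eq c
  have h1 : X.presheaf.germ (V ⊓ N) y.1 ⟨hyV, y.2⟩
      (X.presheaf.map (homOfLE inf_le_left).op r * X.presheaf.map (homOfLE inf_le_right).op a) =
      X.presheaf.germ (V ⊓ N) y.1 ⟨hyV, y.2⟩ 0 := by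
    rw [map_mul, TopCat.Presheaf.germ_res_apply, TopCat.Presheaf.germ_res_apply, map_zero]
    exact hc
  obtain ⟨V', hyV', iU, iV, hV'⟩ := X.presheaf.germ_eq (U := V ⊓ N) (V := V ⊓ N) y.1
    ⟨hyV, y.2⟩ ⟨hyV, y.2⟩ _ _ h1
  have hV'W : V' ≤ W := iU.le.trans (inf_le_right.trans hNW)
  have h2 : X.presheaf.map (homOfLE (iU.le.trans inf_le_left)).op r = 0 := by
    apply hreg V' hV'W
    apply Subtype.ext
    funext z
    change LocalizedModule.mk (X.presheaf.germ V' z.1 z.2 _) 1 * f.1 ⟨z.1, hV'W z.2⟩ = 0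
    have hz : z.1 ∈ N := (iU.le z.2).2
    rw [hab ⟨z.1, hz⟩]
    refine Eq.trans LocalizedModule.mk_mul_mk ?_
    have h3 := congr(X.presheaf.germ V' z.1 z.2 $hV')
    rw [TopCat.Presheaf.germ_res_apply, TopCat.Presheaf.germ_res_apply, map_mul,
      TopCat.Presheaf.germ_res_apply, TopCat.Presheaf.germ_res_apply, map_zero] at h3
    rw [TopCat.Presheaf.germ_res_apply]
    erw [h3]
    exact LocalizedModule.zero_mk _
  have h4 := congr(X.presheaf.germ V' y.1 hyV' $h2)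
  rw [TopCat.Presheaf.germ_res_apply, map_zero] at h4
  exact h4

theorem mk_mul_inv {R : Type u} [CommRing R] {S : Submonoid R} (s t : S) :
    (LocalizedModule.mk (s : R) t : Localization S) * LocalizedModule.mk (t : R) s = 1 := by
  refine Eq.trans LocalizedModule.mk_mul_mk ?_
  exact (Mero.mk_congr (mul_comm _ _) rfl).trans (Mero.mk_self_eq_one (t * s))

theorem isUnit_of_regular (W : X.Opens) (f : Γ(kmod X, W))
    (hreg : ∀ (V : X.Opens) (h : V ≤ W) (r : Γ(X, V)),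
      toK X V r * (kmod X).presheaf.map (homOfLE h).op f = 0 → r = 0) :
    IsUnit f := by
  choose N hzN i a b hab using f.2
  have hareg : ∀ z : W, a z ∈ regSub X (N z) := fun z =>
    regular_num W f hreg (N z) (i z).le (a z) (b z) (hab z)
  have hinv : ∀ (z : W) (y : N z), f.1 ⟨y.1, (i z).le y.2⟩ *
      LocalizedModule.mk (X.presheaf.germ (N z) y.1 y.2 (b z).1) (regGerm y ⟨a z, hareg z⟩) = 1 := by
    intro z y
    have h1 : f.1 ⟨y.1, (i z).le y.2⟩ = _ := hab z y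
    rw [h1]
    exact mk_mul_inv (regGerm y ⟨a z, hareg z⟩) (regGerm y (b z))
  let g : ∀ z : W, KStalk X z.1 := fun z =>
    LocalizedModule.mk (X.presheaf.germ (N z) z.1 (hzN z) (b z).1)
      (regGerm ⟨z.1, hzN z⟩ ⟨a z, hareg z⟩)
  have hfg : ∀ z : W, f.1 z * g z = 1 := fun z => hinv z ⟨z.1, hzN z⟩
  have hg : (kLoc X).pred g := by
    intro z
    refine ⟨N z, hzN z, i z, (b z).1, ⟨a z, hareg z⟩, fun y => ?_⟩
    have h1 : f.1 ⟨y.1, (i z).le y.2⟩ * g ⟨y.1, (i z).le y.2⟩ = 1 := hfg _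
    have h2 := hinv z y
    change g ⟨y.1, (i z).le y.2⟩ = _
    calc g ⟨y.1, (i z).le y.2⟩ = g ⟨y.1, (i z).le y.2⟩ * 1 := (mul_one _).symm
      _ = g ⟨y.1, (i z).le y.2⟩ * (f.1 ⟨y.1, (i z).le y.2⟩ * _) := by rw [h2]
      _ = _ := by rw [← mul_assoc, mul_comm (g _), h1, one_mul]
  let g' : Γ(kmod X, W) := ⟨g, hg⟩
  have e1 : f * g' = 1 := Subtype.ext (funext hfg)
  exact ⟨⟨f, g', e1, by rw [mul_comm]; exact e1⟩, rfl⟩

theorem toK_injective (V : X.Opens) : Function.Injective (toK X V) := by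
  intro r r' h
  apply TopCat.Presheaf.section_ext X.sheaf
  intro z hz
  have h1 := congr(($h).1 ⟨z, hz⟩)
  exact algebraMap_KStalk_injective z h1

theorem ι_smul_res {J : X.Modules} (ι : J ⟶ kmod X) {U V : X.Opens} (h : V ≤ U) (s : Γ(J, U))
    (r : Γ(X, V)) :
    ι.app V (r • J.presheaf.map (homOfLE h).op s) =
      toK X V r * (kmod X).presheaf.map (homOfLE h).op (ι.app U s) := by
  rw [Scheme.Modules.Hom.app_smul, kmod_smul, GL1.hom_app_map]

theorem isUnit_res {U V : X.Opens} (h : V ≤ U) (f : (Γ(kmod X, U))ˣ) :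
    IsUnit ((kmod X).presheaf.map (homOfLE h).op (f : Γ(kmod X, U))) := by
  refine IsUnit.of_mul_eq_one ((kmod X).presheaf.map (homOfLE h).op
    ((f⁻¹ : (Γ(kmod X, U))ˣ) : Γ(kmod X, U))) ?_
  apply Subtype.ext
  funext z
  exact congr(($(f.mul_inv)).1 ⟨z.1, h z.2⟩)

theorem main (J : X.Modules) (ι : J ⟶ kmod X) [Mono ι] :
    PicF.IsInvertible J ↔ ∀ x : ↥X, ∃ (U : X.Opens) (_ : x ∈ U) (f : (Γ(kmod X, U))ˣ),
      ∀ (V : X.Opens) (hV : V ≤ U),
        Set.range ⇑(ι.val.app (Opposite.op V)) =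
          {t : Γ(kmod X, V) | ∃ r : Γ(X, V),
            t = toK X V r * (kmod X).presheaf.map (homOfLE hV).op (f : Γ(kmod X, U))} := by
  constructor
  · intro hJ x
    obtain ⟨U, hxU, ⟨e⟩⟩ := hJ x
    obtain ⟨s, hs⟩ := gen_conv J U e
    have hunit : IsUnit (ι.app (U.ι ''ᵁ ⊤) s) := by
      apply isUnit_of_regular
      intro V h r hr
      have h1 : ι.app V (r • J.presheaf.map (homOfLE h).op s) = 0 := by
        rw [ι_smul_res]
        exact hr
      have h0 := mono_app_injective ι V (h1.trans (map_zero _).symm)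
      exact (hs V h).1 (h0.trans (zero_smul _ _).symm)
    refine ⟨U.ι ''ᵁ ⊤, by simpa using hxU, hunit.unit, fun V hV => ?_⟩
    ext t
    constructor
    · rintro ⟨t0, rfl⟩
      obtain ⟨r, rfl⟩ := (hs V hV).2 t0
      exact ⟨r, ι_smul_res ι hV s r⟩
    · rintro ⟨r, rfl⟩
      exact ⟨r • J.presheaf.map (homOfLE hV).op s, ι_smul_res ι hV s r⟩
  · intro h x
    obtain ⟨U, hxU, f, hf⟩ := h x
    have hmem : (f : Γ(kmod X, U)) ∈ Set.range ⇑(ι.val.app (Opposite.op U)) := by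
      rw [hf U le_rfl]
      exact ⟨1, by rw [map_one, one_mul, GL1.map_self]⟩
    obtain ⟨s, hs⟩ := hmem
    have hs' : ι.app U s = (f : Γ(kmod X, U)) := hs
    refine ⟨U, hxU, GL2.gen J U s (fun V hV => ⟨?_, ?_⟩)⟩
    · intro r r' hrr
      have h1 := congr(ι.app V $hrr)
      rw [ι_smul_res, ι_smul_res, hs'] at h1
      exact toK_injective V ((isUnit_res hV f).mul_left_injective h1)
    · intro t
      have h1 : ι.app V t ∈ Set.range ⇑(ι.val.app (Opposite.op V)) := ⟨t, rfl⟩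
      rw [hf V hV] at h1
      obtain ⟨r, hr⟩ := h1
      refine ⟨r, mono_app_injective ι V ?_⟩
      rw [ι_smul_res, hs']
      exact hr.symm

end Groth.Agent.Lib.helper1.MR4
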