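import Mathlib

namespace Groth.Agent.Lib.helper1.NM

open TensorProduct

universe u

set_option linter.unusedSectionVars false

section basis

variable {k K L R : Type*} [Field k] [Field K] [Algebra k K] [Field L] [Algebra K L]
  [Algebra k L] [IsScalarTower k K L] [CommRing R] [Algebra k R]

variable (k K L R) in
/-- the algebra structure of `L ⊗ R` over `K ⊗ R` -/
@[reducible] noncomputable def algKL : Algebra (K ⊗[k] R) (L ⊗[k] R) :=
  (Algebra.TensorProduct.map (IsScalarTower.toAlgHom k K L) (AlgHom.id k R)).toRingHom.toAlgebra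

attribute [local instance] algKL

lemma smul_tmul_eq (c : K) (r : R) (l : L) (r' : R) :
    (c ⊗ₜ[k] r : K ⊗[k] R) • (l ⊗ₜ[k] r' : L ⊗[k] R) = (c • l) ⊗ₜ[k] (r * r') := by
  rw [Algebra.smul_def, RingHom.algebraMap_toAlgebra]
  simp [Algebra.smul_def]

variable {ι : Type*} [Fintype ι] [DecidableEq ι] (b : Module.Basis ι K L)

/-- coordinates: `L ⊗ R → ι → K ⊗ R`, `k`-linear -/
noncomputable def coord : L ⊗[k] R →ₗ[k] (ι → K ⊗[k] R) :=
  LinearMap.pi (fun i => TensorProduct.map ((b.coord i).restrictScalars k) LinearMap.id)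

@[simp] lemma coord_tmul (l : L) (r : R) (i : ι) :
    coord (k := k) b (l ⊗ₜ r) i = (b.repr l i) ⊗ₜ r := by
  simp [coord]

/-- the candidate basis map -/
noncomputable def Phi : (ι → K ⊗[k] R) →ₗ[K ⊗[k] R] L ⊗[k] R :=
  Fintype.linearCombination (K ⊗[k] R) (fun i => b i ⊗ₜ[k] (1 : R))

lemma Phi_apply (x : ι → K ⊗[k] R) : Phi (k := k) (R := R) b x = ∑ i, x i • (b i ⊗ₜ[k] (1 : R)) := by
  simp [Phi, Fintype.linearCombination_apply]

lemma coord_Phi_single (j : ι) (z : K ⊗[k] R) :
    coord (k := k) b (Phi (k := k) (R := R) b (Pi.single j z)) = Pi.single j z := by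
  induction z using TensorProduct.induction_on with
  | zero => simp
  | tmul c r =>
    funext i
    rw [Phi_apply, Finset.sum_eq_single j]
    · rw [Pi.single_eq_same, smul_tmul_eq, coord_tmul, mul_one]
      by_cases hij : i = j
      · subst hij; simp
      · simp [hij, Pi.single_apply, Finsupp.single_apply, Ne.symm hij]
    · intro i' _ hi'
      rw [Pi.single_eq_of_ne hi', zero_smul]
    · intro h; exact absurd (Finset.mem_univ j) h
  | add x y hx hy =>
    rw [Pi.single_add, map_add, map_add, hx, hy]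

lemma coord_Phi (x : ι → K ⊗[k] R) : coord (k := k) b (Phi (k := k) (R := R) b x) = x := by
  rw [← Finset.univ_sum_single x, map_sum, map_sum]
  exact Finset.sum_congr rfl (fun j _ => coord_Phi_single b j (x j))

lemma Phi_coord (y : L ⊗[k] R) : Phi (k := k) (R := R) b (coord (k := k) b y) = y := by
  induction y using TensorProduct.induction_on with
  | zero => simp
  | tmul l r =>
    rw [Phi_apply]
    have : ∀ i, coord (k := k) b (l ⊗ₜ[k] r) i • (b i ⊗ₜ[k] (1 : R)) = (b.repr l i • b i) ⊗ₜ[k] r := by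
      intro i
      rw [coord_tmul, smul_tmul_eq, mul_one]
    simp only [this]
    rw [← TensorProduct.sum_tmul, b.sum_repr]
  | add x y hx hy =>
    rw [map_add, map_add, hx, hy]

lemma Phi_bijective : Function.Bijective (Phi (k := k) (R := R) b) :=
  ⟨Function.LeftInverse.injective (coord_Phi b), fun y => ⟨_, Phi_coord b y⟩⟩

/-- `Phi` as an equivalence -/
noncomputable def PhiEquiv : (ι → K ⊗[k] R) ≃ₗ[K ⊗[k] R] L ⊗[k] R :=
  LinearEquiv.ofBijective (Phi (k := k) (R := R) b) (Phi_bijective b)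

lemma PhiEquiv_symm_apply (y : L ⊗[k] R) :
    (PhiEquiv (k := k) (R := R) b).symm y = coord (k := k) b y := by
  rw [LinearEquiv.symm_apply_eq]
  exact (Phi_coord b y).symm

/-- the basis `b_i ⊗ 1` of `L ⊗ R` over `K ⊗ R`. -/
noncomputable def bR : Module.Basis ι (K ⊗[k] R) (L ⊗[k] R) :=
  Module.Basis.ofEquivFun (PhiEquiv (k := k) (R := R) b).symm

lemma bR_repr (y : L ⊗[k] R) (i : ι) :
    (bR (k := k) (R := R) b).repr y i = coord (k := k) b y i := by
  rw [bR, Module.Basis.ofEquivFun_repr_apply, PhiEquiv_symm_apply]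

lemma bR_apply (i : ι) : bR (k := k) (R := R) b i = b i ⊗ₜ[k] (1 : R) := by
  rw [bR, Module.Basis.coe_ofEquivFun]
  change Phi (k := k) (R := R) b (Pi.single i 1) = _
  rw [Phi_apply, Finset.sum_eq_single i]
  · simp
  · intro j _ hj; rw [Pi.single_eq_of_ne hj, zero_smul]
  · intro h; exact absurd (Finset.mem_univ i) h

end basis

end Groth.Agent.Lib.helper1.NM
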