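import Mathlib

namespace Groth.Agent.Lib.helper1.NM

open Polynomial

/-- eigenvalue lemma: a matrix over a domain killed by a monic polynomial over `R₀`
has determinant integral over `R₀`. -/
theorem isIntegral_det_of_eval₂_eq_zero {R₀ D : Type*} [CommRing R₀] [CommRing D] [IsDomain D]
    (φ : R₀ →+* D) {n : Type*} [Fintype n] [DecidableEq n] (G : Matrix n n D)
    (p : Polynomial R₀) (hp : p.Monic)
    (h : p.eval₂ ((algebraMap D (Matrix n n D)).comp φ) G = 0) : φ.IsIntegralElem G.det := by
  let F := AlgebraicClosure (FractionRing D)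
  let ψ : D →+* F := algebraMap D F
  have hψ : Function.Injective ψ := by
    have : ψ = (algebraMap (FractionRing D) F).comp (algebraMap D (FractionRing D)) :=
      IsScalarTower.algebraMap_eq D (FractionRing D) F
    rw [this]
    exact (algebraMap (FractionRing D) F).injective.comp (IsFractionRing.injective D _)
  let G' : Matrix n n F := ψ.mapMatrix G
  have hdet : ψ G.det = G'.det := RingHom.map_det ψ G
  apply RingHom.IsIntegralElem.of_map (g := ψ) hψ
  rw [hdet, Matrix.det_eq_prod_roots_charpoly]
  -- the polynomial over F
  let q : Polynomial F := p.map (ψ.comp φ)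
  have hq : aeval G' q = 0 := by
    rw [aeval_def, eval₂_map]
    have h1 := congrArg ψ.mapMatrix h
    rw [map_zero, Polynomial.hom_eval₂] at h1
    convert h1 using 2
    ext d i j
    simp [Matrix.algebraMap_matrix_apply]
    split_ifs <;> simp
  refine Multiset.prod_induction (fun z => (ψ.comp φ).IsIntegralElem z) _
    (fun a b ha hb => RingHom.IsIntegralElem.mul _ ha hb) ?_ ?_
  · simpa using (ψ.comp φ).isIntegralElem_map (x := 1)
  · intro μ hμ
    have hroot : G'.charpoly.IsRoot μ := (Polynomial.mem_roots'.mp hμ).2
    let f : Module.End F (n → F) := Matrix.toLin' G'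
    have hf : f.charpoly = G'.charpoly := Matrix.charpoly_toLin' G'
    have hev : f.HasEigenvalue μ := by
      rw [Module.End.hasEigenvalue_iff_isRoot_charpoly, hf]; exact hroot
    obtain ⟨x, hx⟩ := hev.exists_hasEigenvector
    have h2 := Module.End.aeval_apply_of_hasEigenvector (p := q) hx
    have h3 : aeval f q = 0 := by
      have : f = Matrix.toLinAlgEquiv' G' := rfl
      rw [this, Polynomial.aeval_algHom_apply, hq, map_zero]
    rw [h3, LinearMap.zero_apply] at h2
    have h4 : q.eval μ = 0 := by
      rcases smul_eq_zero.mp h2.symm with h | h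
      · exact h
      · exact absurd h hx.2
    refine ⟨p, hp, ?_⟩
    rw [← Polynomial.eval_map]; exact h4

end Groth.Agent.Lib.helper1.NM
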