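import Mathlib
import Groth.Agent.Lib.helper1.NM2

namespace Groth.Agent.Lib.helper1.NM

open TensorProduct

set_option linter.unusedSectionVars false

section universal

variable {A K L : Type*} [CommRing A] [Field K] [Algebra A K] [Field L] [Algebra K L]
  [Algebra A L] [IsScalarTower A K L]
variable {ι : Type*} [Fintype ι] [DecidableEq ι] (b : Module.Basis ι K L)
variable {σ : Type*} [Fintype σ] (β : σ → L)

/-- the universal matrix `Σ_j X_j M(β_j)` -/
noncomputable def G : Matrix ι ι (MvPolynomial σ K) :=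
  fun i i' => ∑ j, MvPolynomial.X j * MvPolynomial.C (Algebra.leftMulMatrix b (β j) i i')

/-- the generic element -/
noncomputable def theta : MvPolynomial σ K ⊗[K] L :=
  ∑ j, (MvPolynomial.X j : MvPolynomial σ K) ⊗ₜ[K] β j

lemma leftMulMatrix_theta :
    Algebra.leftMulMatrix (Algebra.TensorProduct.basis (MvPolynomial σ K) b) (theta β)
      = G b β := by
  refine Matrix.ext (fun i i' => ?_)
  rw [Algebra.leftMulMatrix_eq_repr_mul, G, theta, Finset.sum_mul, map_sum]
  rw [Finsupp.finsetSum_apply]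
  refine Finset.sum_congr rfl (fun j _ => ?_)
  rw [Algebra.TensorProduct.basis_apply, Algebra.TensorProduct.tmul_mul_tmul, mul_one,
    Algebra.TensorProduct.basis_repr_tmul, Algebra.leftMulMatrix_eq_repr_mul]
  simp [MvPolynomial.algebraMap_eq]

variable (A K) (σ) in
/-- `P_A → P_K` -/
noncomputable def phi : MvPolynomial σ A →+* MvPolynomial σ K :=
  MvPolynomial.map (algebraMap A K)

variable (A K L) (σ) in
/-- `P_A → E` -/
noncomputable def fE : MvPolynomial σ A →+* MvPolynomial σ K ⊗[K] L :=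
  (algebraMap (MvPolynomial σ K) (MvPolynomial σ K ⊗[K] L)).comp (phi A K σ)

lemma fE_C (a : A) : fE A K L σ (MvPolynomial.C a) =
    (1 : MvPolynomial σ K) ⊗ₜ[K] algebraMap A L a := by
  simp only [fE, phi, RingHom.comp_apply, MvPolynomial.map_C,
    Algebra.TensorProduct.algebraMap_apply, Algebra.algebraMap_self, RingHom.id_apply]
  have h1 : (MvPolynomial.C (algebraMap A K a) : MvPolynomial σ K) =
      (algebraMap A K a) • (1 : MvPolynomial σ K) := by
    rw [MvPolynomial.smul_eq_C_mul, mul_one]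
  have h2 : algebraMap A L a = (algebraMap A K a) • (1 : L) := by
    rw [Algebra.smul_def, mul_one, ← IsScalarTower.algebraMap_apply]
  rw [h1, h2, TensorProduct.smul_tmul]

lemma fE_X (j : σ) : fE A K L σ (MvPolynomial.X j) =
    (MvPolynomial.X j : MvPolynomial σ K) ⊗ₜ[K] (1 : L) := by
  simp [fE, phi, Algebra.TensorProduct.algebraMap_apply]

lemma isIntegralElem_one_tmul (l : L) (hl : IsIntegral A l) :
    (fE A K L σ).IsIntegralElem ((1 : MvPolynomial σ K) ⊗ₜ[K] l) := by
  obtain ⟨g, hg, hgl⟩ := hl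
  refine ⟨g.map MvPolynomial.C, hg.map _, ?_⟩
  rw [Polynomial.eval₂_map]
  have : (fE A K L σ).comp MvPolynomial.C =
      ((Algebra.TensorProduct.includeRight : L →ₐ[K] MvPolynomial σ K ⊗[K] L) :
        L →+* MvPolynomial σ K ⊗[K] L).comp (algebraMap A L) := by
    ext a; rw [RingHom.comp_apply, fE_C]; rfl
  rw [this, show ((1 : MvPolynomial σ K) ⊗ₜ[K] l) =
    ((Algebra.TensorProduct.includeRight : L →ₐ[K] MvPolynomial σ K ⊗[K] L) :
        L →+* MvPolynomial σ K ⊗[K] L) l from rfl, ← Polynomial.hom_eval₂, hgl, map_zero]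

lemma isIntegralElem_theta (hβ : ∀ j, IsIntegral A (β j)) :
    (fE A K L σ).IsIntegralElem (theta β) := by
  unfold theta
  refine Finset.sum_induction _ (fun z => (fE A K L σ).IsIntegralElem z)
    (fun x y hx hy => RingHom.IsIntegralElem.add _ hx hy) (RingHom.isIntegralElem_zero _) ?_
  intro j _
  have : (MvPolynomial.X j : MvPolynomial σ K) ⊗ₜ[K] β j =
      fE A K L σ (MvPolynomial.X j) * ((1 : MvPolynomial σ K) ⊗ₜ[K] β j) := by
    rw [fE_X, Algebra.TensorProduct.tmul_mul_tmul, mul_one, one_mul]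
  rw [this]
  exact RingHom.IsIntegralElem.mul _ (RingHom.isIntegralElem_map _)
    (isIntegralElem_one_tmul _ (hβ j))

lemma isIntegralElem_det_G (hβ : ∀ j, IsIntegral A (β j)) :
    (phi A K σ).IsIntegralElem (G b β).det := by
  obtain ⟨p, hp, hpθ⟩ := isIntegralElem_theta (A := A) (K := K) β hβ
  refine isIntegral_det_of_eval₂_eq_zero (phi A K σ) (G b β) p hp ?_
  have h1 := congrArg
    ((Algebra.leftMulMatrix (Algebra.TensorProduct.basis (MvPolynomial σ K) b) :
      MvPolynomial σ K ⊗[K] L →ₐ[MvPolynomial σ K] _) :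
      MvPolynomial σ K ⊗[K] L →+* Matrix ι ι (MvPolynomial σ K)) hpθ
  rw [map_zero, Polynomial.hom_eval₂] at h1
  rw [← leftMulMatrix_theta]
  convert h1 using 2
  · refine RingHom.ext (fun x => ?_)
    simp only [fE, RingHom.comp_apply, RingHom.coe_coe, AlgHom.commutes]
  · rfl

lemma det_G_mem_range [IsDomain A] [IsIntegrallyClosed A] [IsFractionRing A K]
    (hβ : ∀ j, IsIntegral A (β j)) :
    (G b β).det ∈ Set.range (phi A K σ) := by
  have h1 := isIntegralElem_det_G b β hβ
  letI := MvPolynomial.algebraMvPolynomial (σ := σ) (R := A) (S := K)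
  have h2 : IsIntegral (MvPolynomial σ A) (G b β).det := h1
  rw [MvPolynomial.isIntegral_iff_isIntegral_coeff] at h2
  change (G b β).det ∈ Set.range (MvPolynomial.map (algebraMap A K))
  rw [MvPolynomial.mem_range_map_iff_coeffs_subset]
  intro c hc
  rw [Finset.mem_coe, MvPolynomial.mem_coeffs_iff] at hc
  obtain ⟨d, -, rfl⟩ := hc
  exact IsIntegrallyClosed.isIntegral_iff.mp (h2 d)

end universal

end Groth.Agent.Lib.helper1.NM
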