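import Mathlib
import Groth.Agent.Lib.helper1.NM1
import Groth.Agent.Lib.helper1.NM3

namespace Groth.Agent.Lib.helper1.NM

open TensorProduct

set_option linter.unusedSectionVars false

section ev

variable {k A K L R : Type*} [Field k] [CommRing A] [Algebra k A]
    [Field K] [Algebra A K] [Algebra k K] [IsScalarTower k A K]
    [Field L] [Algebra K L] [Algebra A L] [IsScalarTower A K L]
    [Algebra k L] [IsScalarTower k K L] [IsScalarTower k A L]
    [CommRing R] [Algebra k R]

attribute [local instance] algKL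

variable {ι : Type*} [Fintype ι] [DecidableEq ι] (b : Module.Basis ι K L)
variable {σ : Type*} [Fintype σ] (β : σ → L) (r : σ → R)

variable (k K) in
/-- evaluation `K[X_j] → K ⊗ R` -/
noncomputable def evK : MvPolynomial σ K →+* K ⊗[k] R :=
  MvPolynomial.eval₂Hom ((Algebra.TensorProduct.includeLeft : K →ₐ[k] K ⊗[k] R) : K →+* K ⊗[k] R)
    (fun j => (1 : K) ⊗ₜ[k] r j)

variable (k A) in
/-- evaluation `A[X_j] → A ⊗ R` -/
noncomputable def evA : MvPolynomial σ A →+* A ⊗[k] R :=
  MvPolynomial.eval₂Hom ((Algebra.TensorProduct.includeLeft : A →ₐ[k] A ⊗[k] R) : A →+* A ⊗[k] R)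
    (fun j => (1 : A) ⊗ₜ[k] r j)

variable (k A K R) in
/-- `A ⊗ R → K ⊗ R` -/
noncomputable def jAK : A ⊗[k] R →ₐ[k] K ⊗[k] R :=
  Algebra.TensorProduct.map (IsScalarTower.toAlgHom k A K) (AlgHom.id k R)

lemma jAK_comp_evA :
    ((jAK k A K R : A ⊗[k] R →+* K ⊗[k] R)).comp (evA k A r) = (evK k K r).comp (phi A K σ) := by
  apply MvPolynomial.ringHom_ext
  · intro a; simp [jAK, evA, evK, phi]
  · intro j; simp [jAK, evA, evK, phi]

lemma leftMulMatrix_sum :
    Algebra.leftMulMatrix (bR (k := k) (R := R) b) (∑ j, β j ⊗ₜ[k] r j) =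
      (evK k K r).mapMatrix (G b β) := by
  refine Matrix.ext (fun i i' => ?_)
  rw [Algebra.leftMulMatrix_eq_repr_mul, bR_repr, bR_apply, Finset.sum_mul, map_sum,
    Finset.sum_apply, RingHom.mapMatrix_apply, Matrix.map_apply, G, map_sum]
  refine Finset.sum_congr rfl (fun j _ => ?_)
  rw [Algebra.TensorProduct.tmul_mul_tmul, mul_one, coord_tmul, Algebra.leftMulMatrix_eq_repr_mul]
  simp [evK]

include b in
lemma norm_sum_mem [IsDomain A] [IsIntegrallyClosed A] [IsFractionRing A K]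
    (hβ : ∀ j, IsIntegral A (β j)) :
    Algebra.norm (K ⊗[k] R) (∑ j, β j ⊗ₜ[k] r j : L ⊗[k] R) ∈ Set.range (jAK k A K R) := by
  classical
  rw [Algebra.norm_eq_matrix_det (bR (k := k) (R := R) b), leftMulMatrix_sum, ← RingHom.map_det]
  obtain ⟨q, hq⟩ := det_G_mem_range b β hβ
  rw [← hq]
  refine ⟨evA k A r q, ?_⟩
  have := congrArg (fun f => f q) (jAK_comp_evA (k := k) (A := A) (K := K) r)
  simpa using this

end ev

end Groth.Agent.Lib.helper1.NM
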