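import Mathlib
import Groth.Agent.Lib.helper1.NM4

namespace Groth.Agent.Lib.helper1.NM

open TensorProduct Matrix

set_option linter.unusedSectionVars false

section reg

variable {k A K L R : Type*} [Field k] [CommRing A] [IsDomain A] [Algebra k A]
    [Field K] [Algebra A K] [IsFractionRing A K] [Algebra k K] [IsScalarTower k A K]
    [Field L] [Algebra K L] [FiniteDimensional K L] [Algebra A L] [IsScalarTower A K L]
    [Algebra k L] [IsScalarTower k K L] [IsScalarTower k A L]
    [CommRing R] [Algebra k R]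

attribute [local instance] algKL

variable (k A L R) in
/-- `B ⊗ R → L ⊗ R` -/
noncomputable def iB : (integralClosure A L) ⊗[k] R →ₐ[k] L ⊗[k] R :=
  Algebra.TensorProduct.map ((integralClosure A L).val.restrictScalars k) (AlgHom.id k R)

lemma iB_injective : Function.Injective (iB k A L R) := by
  have h1 : Function.Injective ((integralClosure A L).val.restrictScalars k).toLinearMap :=
    Subtype.val_injective
  have h2 := Module.Flat.rTensor_preserves_injective_linearMap (M := R) _ h1
  intro x y hxy
  apply h2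
  exact hxy

/-- clearing denominators -/
lemma exists_denom (halgL : Algebra.IsAlgebraic A L) (y : L ⊗[k] R) : ∃ s : A, s ≠ 0 ∧ ∃ c : (integralClosure A L) ⊗[k] R,
    ((algebraMap A L s) ⊗ₜ[k] (1 : R)) * y = iB k A L R c := by
  induction y using TensorProduct.induction_on with
  | zero => exact ⟨1, one_ne_zero, 0, by simp⟩
  | tmul l r =>
    have halg : IsAlgebraic A l := Algebra.IsAlgebraic.isAlgebraic l
    obtain ⟨s, hs, hint⟩ := halg.exists_integral_multiple
    refine ⟨s, hs, (⟨s • l, hint⟩ : integralClosure A L) ⊗ₜ[k] r, ?_⟩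
    simp [iB, Algebra.smul_def]
  | add y1 y2 h1 h2 =>
    obtain ⟨s1, hs1, c1, hc1⟩ := h1
    obtain ⟨s2, hs2, c2, hc2⟩ := h2
    refine ⟨s1 * s2, mul_ne_zero hs1 hs2,
      ((algebraMap A (integralClosure A L) s2) ⊗ₜ[k] (1 : R)) * c1 +
      ((algebraMap A (integralClosure A L) s1) ⊗ₜ[k] (1 : R)) * c2, ?_⟩
    have e1 : iB k A L R ((algebraMap A (integralClosure A L) s1) ⊗ₜ[k] (1 : R)) =
        (algebraMap A L s1) ⊗ₜ[k] (1 : R) := by simp [iB]
    have e2 : iB k A L R ((algebraMap A (integralClosure A L) s2) ⊗ₜ[k] (1 : R)) =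
        (algebraMap A L s2) ⊗ₜ[k] (1 : R) := by simp [iB]
    simp only [map_add, map_mul, e1, e2, ← hc1, ← hc2]
    have : ((algebraMap A L s1 * algebraMap A L s2) ⊗ₜ[k] (1 : R) : L ⊗[k] R) =
        ((algebraMap A L s1) ⊗ₜ[k] (1 : R)) * ((algebraMap A L s2) ⊗ₜ[k] (1 : R)) := by
      rw [Algebra.TensorProduct.tmul_mul_tmul, mul_one]
    rw [this]
    ring

variable {ι : Type*} [Fintype ι] [DecidableEq ι] (b : Module.Basis ι K L)

include b in
lemma isRegular_of_norm (β : (integralClosure A L) ⊗[k] R)
    (hN : IsRegular (Algebra.norm (K ⊗[k] R) (iB k A L R β))) : IsRegular β := by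
  classical
  rw [isRegular_iff_mem_nonZeroDivisors] at hN ⊢
  rw [Algebra.norm_eq_matrix_det (bR (k := k) (R := R) b)] at hN
  rw [mem_nonZeroDivisors_iff_right]
  intro c hc
  have h1 : iB k A L R β * iB k A L R c = 0 := by rw [← map_mul, mul_comm, hc, map_zero]
  have h2 := Algebra.leftMulMatrix_mulVec_repr (bR (k := k) (R := R) b)
    (iB k A L R β) (iB k A L R c)
  rw [h1, map_zero] at h2
  have h3 := Matrix.eq_zero_of_det_mem_nonZeroDivisors_of_mulVec_eq_zero hN h2
  have h4 : iB k A L R c = 0 := by
    apply (bR (k := k) (R := R) b).repr.injective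
    ext i
    simpa using congrFun h3 i
  exact iB_injective (by rw [h4, map_zero])

lemma isUnit_tmul_one (l : L) (h1 : l ≠ 0) :
    IsUnit (l ⊗ₜ[k] (1 : R) : L ⊗[k] R) := by
  exact (IsUnit.mk0 _ h1).map (Algebra.TensorProduct.includeLeft : L →ₐ[k] L ⊗[k] R)

include b in
lemma norm_isRegular (halgL : Algebra.IsAlgebraic A L) (β : (integralClosure A L) ⊗[k] R)
    (hβ : IsRegular β) : IsRegular (Algebra.norm (K ⊗[k] R) (iB k A L R β)) := by
  classical
  rw [isRegular_iff_mem_nonZeroDivisors]
  rw [Algebra.norm_eq_matrix_det (bR (k := k) (R := R) b),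
    ← Matrix.nonsingular_iff_det_mem_nonZeroDivisors]
  apply Matrix.Nonsingular.of_linearIndependent_col
  rw [← Matrix.mulVec_injective_iff]
  have key : ∀ v, (Algebra.leftMulMatrix (bR (k := k) (R := R) b) (iB k A L R β)) *ᵥ v = 0 →
      v = 0 := by
    intro v hv
    let y := (bR (k := k) (R := R) b).equivFun.symm v
    have hy : ⇑((bR (k := k) (R := R) b).repr y) = v := by
      have : (bR (k := k) (R := R) b).equivFun y = v :=
        (bR (k := k) (R := R) b).equivFun.apply_symm_apply v
      rwa [Module.Basis.equivFun_apply] at this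
    have h2 := Algebra.leftMulMatrix_mulVec_repr (bR (k := k) (R := R) b) (iB k A L R β) y
    rw [hy, hv] at h2
    have h3 : iB k A L R β * y = 0 := by
      apply (bR (k := k) (R := R) b).repr.injective
      ext i
      simpa using (congrFun h2 i).symm
    obtain ⟨s, hs, c, hc⟩ := exists_denom (k := k) (R := R) halgL y
    have h4 : iB k A L R (β * c) = 0 := by
      rw [map_mul, ← hc]
      calc iB k A L R β * ((algebraMap A L s) ⊗ₜ[k] (1 : R) * y)
          = (algebraMap A L s) ⊗ₜ[k] (1 : R) * (iB k A L R β * y) := by ring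
        _ = 0 := by rw [h3, mul_zero]
    have h5 : β * c = 0 := iB_injective (by rw [h4, map_zero])
    have h6 : c = 0 := hβ.left (by simpa using h5)
    rw [h6, map_zero] at hc
    have h1 : algebraMap A L s ≠ 0 := by
      rw [IsScalarTower.algebraMap_apply A K L]
      intro h
      have h2 := (map_eq_zero (algebraMap K L)).mp h
      exact hs ((IsFractionRing.injective A K) (by rw [h2, map_zero]))
    have h7 : y = 0 := (isUnit_tmul_one (k := k) (R := R) _ h1).mul_right_eq_zero.mp hc
    rw [← hy, h7, map_zero]; rfl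
  exact (injective_iff_map_eq_zero
    (Matrix.mulVecLin (Algebra.leftMulMatrix (bR (k := k) (R := R) b) (iB k A L R β)))).mpr key

end reg

universe u

theorem main (k A K L R : Type u) [Field k]
    [CommRing A] [IsDomain A] [IsIntegrallyClosed A] [Algebra k A]
    [Field K] [Algebra A K] [IsFractionRing A K] [Algebra k K] [IsScalarTower k A K]
    [Field L] [Algebra K L] [FiniteDimensional K L] [Algebra A L] [IsScalarTower A K L]
    [Algebra k L] [IsScalarTower k K L] [IsScalarTower k A L]
    [CommRing R] [Algebra k R] :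
    letI : Algebra (K ⊗[k] R) (L ⊗[k] R) :=
      (Algebra.TensorProduct.map (IsScalarTower.toAlgHom k K L) (AlgHom.id k R)).toRingHom.toAlgebra
    Module.Free (K ⊗[k] R) (L ⊗[k] R) ∧ Module.Finite (K ⊗[k] R) (L ⊗[k] R) ∧
      ∀ b : (integralClosure A L) ⊗[k] R,
        Algebra.norm (K ⊗[k] R)
            (Algebra.TensorProduct.map ((integralClosure A L).val.restrictScalars k) (AlgHom.id k R) b) ∈
          Set.range (Algebra.TensorProduct.map (IsScalarTower.toAlgHom k A K) (AlgHom.id k R)) ∧
        (IsRegular b ↔ IsRegular (Algebra.norm (K ⊗[k] R)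
            (Algebra.TensorProduct.map ((integralClosure A L).val.restrictScalars k) (AlgHom.id k R) b))) := by
  classical
  letI : Algebra (K ⊗[k] R) (L ⊗[k] R) := algKL k K L R
  let b0 := Module.finBasis K L
  have halgL : Algebra.IsAlgebraic A L := by
    haveI : Algebra.IsAlgebraic K L := Algebra.IsAlgebraic.of_finite K L
    exact ⟨fun l => (IsFractionRing.isAlgebraic_iff A K L).mpr (Algebra.IsAlgebraic.isAlgebraic l)⟩
  refine ⟨Module.Free.of_basis (bR (k := k) (R := R) b0),
    Module.Finite.of_basis (bR (k := k) (R := R) b0), fun β => ⟨?_, ?_, ?_⟩⟩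
  · obtain ⟨T, hT⟩ := TensorProduct.exists_finset β
    have h1 : iB k A L R β = ∑ t : T, ((t.1.1 : integralClosure A L) : L) ⊗ₜ[k] t.1.2 := by
      rw [hT, map_sum, ← Finset.sum_coe_sort]
      refine Finset.sum_congr rfl (fun t _ => ?_)
      simp [iB]
    change Algebra.norm (K ⊗[k] R) (iB k A L R β) ∈ Set.range (jAK k A K R)
    rw [h1]
    exact norm_sum_mem b0 (fun t : T => ((t.1.1 : integralClosure A L) : L)) (fun t : T => t.1.2)
      (fun t => t.1.1.2)
  · exact norm_isRegular b0 halgL β
  · exact isRegular_of_norm b0 β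

end Groth.Agent.Lib.helper1.NM
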