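import Groth.Agent.Lib.helper1.NN1

/-!
# Strong Noether normalization for one ideal of a polynomial ring
-/

open MvPolynomial

namespace Groth.Agent.Lib.helper1.NNq

variable {k : Type*} [Field k]

/-- An algebra endomorphism-like map out of a polynomial ring is integral as soon as the
variables of the target are integral. -/
lemma isIntegral_of_X {σ τ : Type*} (θ : MvPolynomial σ k →ₐ[k] MvPolynomial τ k)
    (h : ∀ i, θ.toRingHom.IsIntegralElem (X i)) : θ.toRingHom.IsIntegral := by
  intro p
  induction p using MvPolynomial.induction_on with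
  | C a =>
    have : (C a : MvPolynomial τ k) = θ.toRingHom (C a) := by simp
    rw [this]; exact θ.toRingHom.isIntegralElem_map
  | add p q hp hq => exact RingHom.IsIntegralElem.add _ hp hq
  | mul_X p i hp => exact RingHom.IsIntegralElem.mul _ hp (h i)

lemma exists_decomp {n : ℕ} (g : MvPolynomial (Fin (n + 1)) k) :
    ∃ (g₁ : MvPolynomial (Fin (n + 1)) k) (g₀ : MvPolynomial (Fin n) k),
      g = X 0 * g₁ + rename Fin.succ g₀ := by
  induction g using MvPolynomial.induction_on with
  | C a => exact ⟨0, C a, by simp⟩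
  | add p q hp hq =>
    obtain ⟨p₁, p₀, rfl⟩ := hp
    obtain ⟨q₁, q₀, rfl⟩ := hq
    exact ⟨p₁ + q₁, p₀ + q₀, by simp only [map_add]; ring⟩
  | mul_X p i hp =>
    obtain ⟨p₁, p₀, rfl⟩ := hp
    refine Fin.cases ?_ (fun j => ?_) i
    · exact ⟨X 0 * p₁ + rename Fin.succ p₀, 0, by simp only [map_zero]; ring⟩
    · exact ⟨p₁ * X j.succ, p₀ * X j, by simp only [map_mul, rename_X]; ring⟩

lemma finSuccEquiv_symm_eq_eval₂ {n : ℕ} (q : Polynomial (MvPolynomial (Fin n) k)) :
    (finSuccEquiv k n).symm q =
      q.eval₂ (rename Fin.succ : MvPolynomial (Fin n) k →ₐ[k] _).toRingHom (X 0) := by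
  apply (finSuccEquiv k n).injective
  rw [AlgEquiv.apply_symm_apply]
  induction q using Polynomial.induction_on with
  | C a =>
    rw [Polynomial.eval₂_C]
    induction a using MvPolynomial.induction_on with
    | C c =>
      simp only [AlgHom.toRingHom_eq_coe, RingHom.coe_coe, rename_C]
      have h := (MvPolynomial.finSuccEquiv k n).commutes c
      rw [MvPolynomial.algebraMap_eq] at h
      rw [h]; rfl
    | add p q hp hq => simp only [map_add] at hp hq ⊢; rw [hp, hq]
    | mul_X p i hp =>
      simp only [map_mul] at hp ⊢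
      rw [hp]
      simp [finSuccEquiv_X_succ]
  | add p q hp hq => rw [Polynomial.eval₂_add, map_add, ← hp, ← hq]
  | monomial m a h =>
    rw [pow_succ, ← mul_assoc, Polynomial.eval₂_mul, map_mul, ← h, Polynomial.eval₂_X,
      finSuccEquiv_X_zero]


/-- The set of the first `m` variables. -/
def firstVars (n m : ℕ) : Set (MvPolynomial (Fin n) k) :=
  Set.range fun i : {i : Fin n // (i : ℕ) < m} => (X (i : Fin n) : MvPolynomial (Fin n) k)

lemma firstVars_zero (n : ℕ) : firstVars (k := k) n 0 = ∅ := by
  rw [firstVars, Set.range_eq_empty_iff]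
  exact ⟨fun i => absurd i.2 (Nat.not_lt_zero _)⟩

theorem exists_integral_comap (n : ℕ) : ∀ (I : Ideal (MvPolynomial (Fin n) k)) (_ : I ≠ ⊤),
    ∃ m ≤ n, ∃ φ : MvPolynomial (Fin n) k →ₐ[k] MvPolynomial (Fin n) k,
      φ.toRingHom.IsIntegral ∧ I.comap φ = Ideal.span (firstVars n m) := by
  induction n with
  | zero =>
    intro I hI
    refine ⟨0, le_rfl, AlgHom.id k _, RingHom.isIntegral_of_surjective _ Function.surjective_id, ?_⟩
    rw [firstVars_zero, Ideal.span_empty]
    change I.comap (RingHom.id _) = ⊥
    rw [Ideal.comap_id, eq_bot_iff]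
    intro g hg
    by_contra hne
    apply hI
    have hgC := MvPolynomial.eq_C_of_isEmpty g
    have hc : MvPolynomial.coeff 0 g ≠ 0 := by
      intro h0
      apply hne
      rw [hgC, h0, map_zero]; exact Submodule.zero_mem _
    apply Ideal.eq_top_of_isUnit_mem _ hg
    rw [hgC]
    exact (hc.isUnit).map MvPolynomial.C
  | succ n ih =>
    intro I hI
    by_cases hI0 : I = ⊥
    · refine ⟨0, Nat.zero_le _, AlgHom.id k _,
        RingHom.isIntegral_of_surjective _ Function.surjective_id, ?_⟩
      rw [firstVars_zero, Ideal.span_empty]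
      change I.comap (RingHom.id _) = ⊥
      rw [Ideal.comap_id, hI0]
    obtain ⟨f, fI, fne⟩ := Submodule.exists_mem_ne_zero_of_ne_bot hI0
    obtain ⟨τ, hτ⟩ := exists_equiv_isUnit_leadingCoeff f fne
    set F := τ f with hF
    set I' : Ideal (MvPolynomial (Fin n) k) :=
      (I.comap (τ.symm : _ →ₐ[k] _)).comap (rename Fin.succ : _ →ₐ[k] _) with hI'
    have hI'mem : ∀ p, p ∈ I' ↔ τ.symm (rename Fin.succ p) ∈ I := fun p => Iff.rfl
    have hI'top : I' ≠ ⊤ := by
      intro h
      apply hI
      rw [Ideal.eq_top_iff_one] at h ⊢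
      rw [hI'mem] at h
      simpa using h
    obtain ⟨m', hm', ψ, hψ, hcomap⟩ := ih I' hI'top
    let θ₁ : MvPolynomial (Fin (n + 1)) k →ₐ[k] MvPolynomial (Fin (n + 1)) k :=
      aeval (Fin.cases (X 0) (fun i => rename Fin.succ (ψ (X i))))
    let θ₂ : MvPolynomial (Fin (n + 1)) k →ₐ[k] MvPolynomial (Fin (n + 1)) k :=
      aeval (Fin.cases F (fun i => X i.succ))
    have hθ₁c : θ₁.comp (rename Fin.succ) = (rename Fin.succ).comp ψ := by
      apply MvPolynomial.algHom_ext; intro i; simp [θ₁]
    have hθ₁ : ∀ p, θ₁ (rename Fin.succ p) = rename Fin.succ (ψ p) :=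
      fun p => AlgHom.congr_fun hθ₁c p
    have hθ₂c : θ₂.comp (rename Fin.succ) = (rename Fin.succ) := by
      apply MvPolynomial.algHom_ext; intro i; simp [θ₂]
    have hθ₂ : ∀ p, θ₂ (rename Fin.succ p) = rename Fin.succ p :=
      fun p => AlgHom.congr_fun hθ₂c p
    have hθ₁0 : θ₁ (X 0) = X 0 := by simp [θ₁]
    have hθ₂0 : θ₂ (X 0) = F := by simp [θ₂]
    let φ : MvPolynomial (Fin (n + 1)) k →ₐ[k] MvPolynomial (Fin (n + 1)) k :=
      (τ.symm : _ →ₐ[k] _).comp (θ₂.comp θ₁)
    have hφ0 : φ (X 0) = f := by
      simp only [φ, AlgHom.comp_apply, hθ₁0, hθ₂0, hF]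
      exact τ.symm_apply_apply f
    have hφs : ∀ p, φ (rename Fin.succ p) = τ.symm (rename Fin.succ (ψ p)) := by
      intro p
      simp only [φ, AlgHom.comp_apply, hθ₁, hθ₂]
      rfl
    refine ⟨m' + 1, by omega, φ, ?_, ?_⟩
    · -- integrality
      have h1 : θ₁.toRingHom.IsIntegral := by
        apply isIntegral_of_X
        intro i
        refine Fin.cases ?_ (fun j => ?_) i
        · rw [← hθ₁0]; exact θ₁.toRingHom.isIntegralElem_map
        · have hj := (hψ (X j)).map (rename Fin.succ : MvPolynomial (Fin n) k →ₐ[k]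
            MvPolynomial (Fin (n + 1)) k).toRingHom
          have hc : (rename Fin.succ : MvPolynomial (Fin n) k →ₐ[k]
              MvPolynomial (Fin (n + 1)) k).toRingHom.comp ψ.toRingHom =
              θ₁.toRingHom.comp (rename Fin.succ : MvPolynomial (Fin n) k →ₐ[k]
              MvPolynomial (Fin (n + 1)) k).toRingHom :=
            RingHom.ext fun p => (hθ₁ p).symm
          rw [hc] at hj
          have := hj.of_comp
          simpa using this
      have h2 : θ₂.toRingHom.IsIntegral := by
        apply isIntegral_of_X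
        intro i
        refine Fin.cases ?_ (fun j => ?_) i
        · set ρ : MvPolynomial (Fin n) k →+* MvPolynomial (Fin (n + 1)) k :=
            (rename Fin.succ : MvPolynomial (Fin n) k →ₐ[k]
              MvPolynomial (Fin (n + 1)) k).toRingHom with hρ
          have hρinj : Function.Injective ρ := rename_injective _ (Fin.succ_injective n)
          set Ft := finSuccEquiv k n F with hFt
          have hdeg : 0 < Ft.natDegree := by
            by_contra h0
            have h0' : Ft.natDegree = 0 := by omega
            have hC := Polynomial.eq_C_of_natDegree_eq_zero h0'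
            have hu : IsUnit (Ft.coeff 0) := by
              have := hτ
              rwa [Polynomial.leadingCoeff, h0'] at this
            have hFu : IsUnit F := by
              have : F = (finSuccEquiv k n).symm Ft := by rw [hFt, AlgEquiv.symm_apply_apply]
              rw [this, hC]
              exact (hu.map Polynomial.C).map (finSuccEquiv k n).symm
            have hfu : IsUnit f := by
              have : f = τ.symm F := by rw [hF, AlgEquiv.symm_apply_apply]
              rw [this]; exact hFu.map τ.symm
            exact hI (Ideal.eq_top_of_isUnit_mem _ fI hfu)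
          set G₀ : Polynomial (MvPolynomial (Fin (n + 1)) k) :=
            Ft.map ρ - Polynomial.C (X 0) with hG₀
          have hdegG : (Polynomial.C (X 0 : MvPolynomial (Fin (n + 1)) k)).degree <
              (Ft.map ρ).degree := by
            rw [Polynomial.degree_map_eq_of_injective hρinj]
            calc _ ≤ 0 := Polynomial.degree_C_le
              _ < _ := by rwa [← Polynomial.natDegree_pos_iff_degree_pos]
          have hlc : G₀.leadingCoeff = ρ Ft.leadingCoeff := by
            rw [hG₀, Polynomial.leadingCoeff_sub_of_degree_lt hdegG,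
              Polynomial.leadingCoeff_map_of_injective hρinj]
          have hu : IsUnit G₀.leadingCoeff := by rw [hlc]; exact hτ.map ρ
          have heval : G₀.eval₂ θ₂.toRingHom (X 0) = 0 := by
            rw [hG₀, Polynomial.eval₂_sub, Polynomial.eval₂_C, Polynomial.eval₂_map]
            have hc : θ₂.toRingHom.comp ρ = ρ := RingHom.ext fun p => hθ₂ p
            rw [hc, ← finSuccEquiv_symm_eq_eval₂, hFt, AlgEquiv.symm_apply_apply]
            simp [hθ₂0]
          refine ⟨_, Polynomial.monic_of_isUnit_leadingCoeff_inv_smul hu, ?_⟩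
          rw [Units.smul_def, Polynomial.eval₂_smul, heval, mul_zero]
        · have : (X j.succ : MvPolynomial (Fin (n + 1)) k) = θ₂.toRingHom (X j.succ) := by
            have := hθ₂ (X j)
            simpa using this.symm
          rw [this]; exact θ₂.toRingHom.isIntegralElem_map
      have h3 : ((τ.symm : _ →ₐ[k] _) : MvPolynomial (Fin (n + 1)) k →ₐ[k] _).toRingHom.IsIntegral :=
        RingHom.isIntegral_of_surjective _ (fun x => τ.symm.surjective x)
      exact RingHom.IsIntegral.trans _ _ (RingHom.IsIntegral.trans _ _ h1 h2) h3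
    · -- comap
      apply le_antisymm
      · intro g hg
        rw [Ideal.mem_comap] at hg
        obtain ⟨g₁, g₀, rfl⟩ := exists_decomp g
        have hg' : φ (X 0 * g₁ + rename Fin.succ g₀) =
            f * φ g₁ + τ.symm (rename Fin.succ (ψ g₀)) := by
          rw [map_add, map_mul, hφ0, hφs]
        rw [hg'] at hg
        have h2 : τ.symm (rename Fin.succ (ψ g₀)) ∈ I := by
          have := I.sub_mem hg (I.mul_mem_right (φ g₁) fI)
          simpa using this
        have h3 : g₀ ∈ I'.comap ψ := h2
        rw [hcomap] at h3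
        refine Ideal.add_mem _ (Ideal.mul_mem_right _ _
          (Ideal.subset_span ⟨⟨0, by simp⟩, rfl⟩)) ?_
        have h4 : (rename Fin.succ : MvPolynomial (Fin n) k →ₐ[k]
            MvPolynomial (Fin (n + 1)) k) g₀ ∈ (Ideal.span (firstVars n m')).map
              (rename Fin.succ : MvPolynomial (Fin n) k →ₐ[k] MvPolynomial (Fin (n + 1)) k) :=
          Ideal.mem_map_of_mem _ h3
        rw [Ideal.map_span] at h4
        refine Ideal.span_mono ?_ h4
        rintro _ ⟨_, ⟨⟨j, hj⟩, rfl⟩, rfl⟩
        exact ⟨⟨j.succ, by simp; omega⟩, by simp⟩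
      · rw [Ideal.span_le]
        rintro _ ⟨⟨i, hi⟩, rfl⟩
        rw [SetLike.mem_coe, Ideal.mem_comap]
        revert hi
        refine Fin.cases ?_ (fun j => ?_) i
        · intro _; rw [hφ0]; exact fI
        · intro hj
          have hj' : (j : ℕ) < m' := by simpa using hj
          have : (X j : MvPolynomial (Fin n) k) ∈ I'.comap ψ := by
            rw [hcomap]; exact Ideal.subset_span ⟨⟨j, hj'⟩, rfl⟩
          have h5 := (hI'mem _).mp this
          rw [← hφs] at h5
          simpa using h5
end Groth.Agent.Lib.helper1.NNq
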