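import Groth.Agent.Lib.helper1.NN2

/-!
# Noether normalization relative to a prime of a polynomial ring
-/

open MvPolynomial Cardinal

namespace Groth.Agent.Lib.helper1.NNq

universe u

variable {k : Type u} [Field k]

/-- kill the first `m` variables -/
noncomputable def killFirst (n m : ℕ) :
    MvPolynomial (Fin n) k →ₐ[k] MvPolynomial {i : Fin n // m ≤ (i : ℕ)} k :=
  aeval fun i => if h : m ≤ (i : ℕ) then X ⟨i, h⟩ else 0

lemma killFirst_rename (n m : ℕ) (p : MvPolynomial {i : Fin n // m ≤ (i : ℕ)} k) :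
    killFirst n m (rename Subtype.val p) = p := by
  have : (killFirst n m).comp (rename Subtype.val) = AlgHom.id k _ := by
    apply MvPolynomial.algHom_ext; intro i; simp [killFirst, i.2]
  exact AlgHom.congr_fun this p

lemma killFirst_firstVars (n m : ℕ) :
    (Ideal.span (firstVars (k := k) n m)).map (killFirst n m) = ⊥ := by
  rw [Ideal.map_span, Ideal.span_eq_bot]
  rintro _ ⟨_, ⟨⟨i, hi⟩, rfl⟩, rfl⟩
  simp [killFirst, Nat.not_le.mpr hi]

lemma card_ge (n m : ℕ) (hm : m ≤ n) : Fintype.card {i : Fin n // m ≤ (i:ℕ)} = n - m := by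
  have h1 : Fintype.card {i : Fin n // (i : ℕ) < m} = m := by
    rw [Fintype.card_subtype, Fin.card_filter_val_lt]; omega
  have h2 := Fintype.card_subtype_compl (fun i : Fin n => (i : ℕ) < m)
  rw [h1, Fintype.card_fin] at h2
  rw [← h2]
  apply Fintype.card_congr
  exact Equiv.subtypeEquivRight (fun i => by simp)

theorem trdeg_eq (n m : ℕ) (hm : m ≤ n) (q : Ideal (MvPolynomial (Fin n) k)) [q.IsPrime]
    (φ : MvPolynomial (Fin n) k →ₐ[k] MvPolynomial (Fin n) k)
    (hφint : φ.toRingHom.IsIntegral) (hcomap : q.comap φ = Ideal.span (firstVars n m)) :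
    Algebra.trdeg k q.ResidueField = ((n - m : ℕ) : Cardinal.{u}) := by
  set ι := {i : Fin n // m ≤ (i : ℕ)} with hι
  let π : MvPolynomial (Fin n) k →ₐ[k] q.ResidueField := IsScalarTower.toAlgHom k _ _
  have hπ : ∀ p, π p = 0 ↔ p ∈ q := fun p => Ideal.algebraMap_residueField_eq_zero
  let y : ι → q.ResidueField := fun j => π (φ (X (j : Fin n)))
  let g : MvPolynomial ι k →ₐ[k] q.ResidueField := π.comp (φ.comp (rename Subtype.val))
  have hgy : g = aeval y := by
    apply MvPolynomial.algHom_ext; intro j; simp [g, y]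
  have hginj : Function.Injective g := by
    rw [injective_iff_map_eq_zero]
    intro p hp
    have h1 : φ (rename Subtype.val p) ∈ q := (hπ _).mp hp
    have h2 : rename Subtype.val p ∈ q.comap φ := h1
    rw [hcomap] at h2
    have h3 := Ideal.mem_map_of_mem (killFirst n m) h2
    rw [killFirst_firstVars, killFirst_rename] at h3
    exact h3
  have hind : AlgebraicIndependent k y := by
    rw [algebraicIndependent_iff_injective_aeval, ← hgy]
    exact hginj
  set S₀ := Algebra.adjoin k (Set.range y) with hS₀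
  have hmemS : ∀ c : MvPolynomial (Fin n) k, π (φ c) ∈ S₀ := by
    intro c
    induction c using MvPolynomial.induction_on with
    | C a =>
      have : π (φ (C a)) = algebraMap k _ a := by simp
      rw [this]; exact Subalgebra.algebraMap_mem _ _
    | add p q hp hq => simp only [map_add]; exact S₀.add_mem hp hq
    | mul_X p i hp =>
      simp only [map_mul]
      refine S₀.mul_mem hp ?_
      by_cases hi : m ≤ (i : ℕ)
      · exact Algebra.subset_adjoin ⟨⟨i, hi⟩, rfl⟩
      · have h1 : X i ∈ q.comap φ := by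
          rw [hcomap]; exact Ideal.subset_span ⟨⟨i, by omega⟩, rfl⟩
        have h2 : π (φ (X i)) = 0 := (hπ _).mpr h1
        rw [h2]; exact S₀.zero_mem
  have hint : ∀ a : MvPolynomial (Fin n) k, IsIntegral S₀ (π a) := by
    intro a
    obtain ⟨G, hG, h0⟩ := hφint a
    set G₁ := G.map (π.toRingHom.comp φ.toRingHom) with hG₁
    have hG₁m : G₁.Monic := hG.map _
    have hlift : G₁ ∈ Polynomial.lifts (algebraMap S₀ q.ResidueField) := by
      rw [Polynomial.lifts_iff_coeff_lifts]
      intro i
      rw [hG₁, Polynomial.coeff_map]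
      exact ⟨⟨_, hmemS (G.coeff i)⟩, rfl⟩
    obtain ⟨G₂, hG₂, -, hG₂m⟩ := Polynomial.lifts_and_degree_eq_and_monic hlift hG₁m
    refine ⟨G₂, hG₂m, ?_⟩
    rw [← Polynomial.eval_map, hG₂, hG₁, Polynomial.eval_map, ← Polynomial.eval₂_map,
      Polynomial.eval₂_map]
    have := Polynomial.hom_eval₂ G φ.toRingHom (π : MvPolynomial (Fin n) k →+* q.ResidueField) a
    rw [h0, map_zero] at this
    exact this.symm
  have halg : Algebra.IsAlgebraic S₀ q.ResidueField := by
    constructor
    intro x
    obtain ⟨a, b, hb, rfl⟩ := IsFractionRing.div_surjective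
      (A := MvPolynomial (Fin n) k ⧸ q) x
    obtain ⟨a', rfl⟩ := Ideal.Quotient.mk_surjective a
    obtain ⟨b', rfl⟩ := Ideal.Quotient.mk_surjective b
    have hm : ∀ c : MvPolynomial (Fin n) k,
        algebraMap (MvPolynomial (Fin n) k ⧸ q) q.ResidueField (Ideal.Quotient.mk q c) = π c :=
      fun c => Ideal.algebraMap_quotient_residueField_mk q c
    rw [hm, hm, div_eq_mul_inv]
    exact (hint a').isAlgebraic.mul (hint b').isAlgebraic.inv
  have hbasis : IsTranscendenceBasis k y := hind.isTranscendenceBasis_iff_isAlgebraic.mpr halg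
  have hcard := hbasis.lift_cardinalMk_eq_trdeg
  rw [Cardinal.lift_uzero] at hcard
  rw [← hcard]
  rw [Cardinal.mk_fintype, card_ge n m hm, Cardinal.lift_natCast]


theorem main (n r : ℕ) (q : Ideal (MvPolynomial (Fin n) k)) [q.IsPrime]
    (hr : Algebra.trdeg k q.ResidueField = r) :
    ∃ φ : MvPolynomial (Fin n) k →ₐ[k] MvPolynomial (Fin n) k, φ.toRingHom.Finite ∧
      q.comap φ = Ideal.span (Set.range fun i : {i : Fin n // r ≤ (i : ℕ)} =>
        (MvPolynomial.X (i : Fin n) : MvPolynomial (Fin n) k)) := by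
  obtain ⟨m, hm, φ, hφint, hcomap⟩ := exists_integral_comap n q (Ideal.IsPrime.ne_top ‹_›)
  have ht := trdeg_eq n m hm q φ hφint hcomap
  rw [hr] at ht
  have hmr : r = n - m := by exact_mod_cast ht
  let ρ : MvPolynomial (Fin n) k →ₐ[k] MvPolynomial (Fin n) k := rename Fin.rev
  have hρX : ∀ i, ρ (X i) = X (Fin.rev i) := fun i => rename_X _ _
  have hρρ : ∀ p, ρ (ρ p) = p := by
    intro p
    simp only [ρ, rename_rename]
    have : (Fin.rev ∘ Fin.rev : Fin n → Fin n) = id := by
      funext i; simp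
    rw [this, rename_id]; rfl
  refine ⟨φ.comp ρ, ?_, ?_⟩
  · have hint : (φ.comp ρ).toRingHom.IsIntegral := by
      have hρint : ρ.toRingHom.IsIntegral :=
        RingHom.isIntegral_of_surjective _ (fun x => ⟨ρ x, hρρ x⟩)
      exact RingHom.IsIntegral.trans _ _ hρint hφint
    have hft : (φ.comp ρ).toRingHom.FiniteType := by
      have h : algebraMap k (MvPolynomial (Fin n) k) =
          (φ.comp ρ).toRingHom.comp (algebraMap k (MvPolynomial (Fin n) k)) := by
        ext a; simp
      have h2 : (algebraMap k (MvPolynomial (Fin n) k)).FiniteType :=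
        RingHom.finiteType_algebraMap.mpr inferInstance
      rw [h] at h2
      exact h2.of_comp_finiteType
    exact hint.to_finite hft
  · set J₂ := Ideal.span (Set.range fun i : {i : Fin n // r ≤ (i : ℕ)} =>
        (MvPolynomial.X (i : Fin n) : MvPolynomial (Fin n) k)) with hJ₂
    have h1 : ∀ g, g ∈ J₂ → ρ g ∈ Ideal.span (firstVars (k := k) n m) := by
      intro g hg
      have := Ideal.mem_map_of_mem ρ hg
      rw [hJ₂, Ideal.map_span] at this
      refine Ideal.span_mono ?_ this
      rintro _ ⟨_, ⟨⟨i, hi⟩, rfl⟩, rfl⟩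
      refine ⟨⟨Fin.rev i, ?_⟩, (hρX i).symm⟩
      rw [Fin.val_rev]
      have := i.2
      omega
    have h2 : ∀ g, g ∈ Ideal.span (firstVars (k := k) n m) → ρ g ∈ J₂ := by
      intro g hg
      have := Ideal.mem_map_of_mem ρ hg
      rw [Ideal.map_span] at this
      refine Ideal.span_mono ?_ this
      rintro _ ⟨_, ⟨⟨i, hi⟩, rfl⟩, rfl⟩
      refine ⟨⟨Fin.rev i, ?_⟩, (hρX i).symm⟩
      rw [Fin.val_rev]
      have := i.2
      omega
    ext g
    rw [Ideal.mem_comap]
    change φ (ρ g) ∈ q ↔ _
    rw [← Ideal.mem_comap, hcomap]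
    constructor
    · intro hg
      have := h2 _ hg
      rwa [hρρ] at this
    · exact h1 g

end Groth.Agent.Lib.helper1.NNq
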