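import Mathlib
import Groth.Agent.Lib.lead.Restore.H1NN1
import Groth.Agent.Lib.lead.Restore.H1NN2
import Groth.Agent.Lib.lead.Restore.H1NN3

set_option autoImplicit false

namespace Groth.Agent.Lib.helper1.NN

open IntermediateField

universe u

/-- Existence of an invariant `E`-basis `t` of the `E`-span of the `y`'s, with transition
matrices. -/
theorem exists_invariant_basis (k : Type u) [Field k] (n m : ℕ)
    (G : Subgroup (InvFld.Fld (Fin n ⊕ Fin m) k ≃ₐ[k] InvFld.Fld (Fin n ⊕ Fin m) k)) [Finite G]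
    (hx : ∀ σ ∈ G, ∀ i : Fin n, σ (InvFld.X (Sum.inl i)) ∈ Submodule.span k (Set.range fun j : Fin n => (InvFld.X (Sum.inl j) : InvFld.Fld (Fin n ⊕ Fin m) k)))
    (hy : ∀ σ ∈ G, ∀ i : Fin m, σ (InvFld.X (Sum.inr i)) ∈ Submodule.span k (Set.range fun j : Fin m => (InvFld.X (Sum.inr j) : InvFld.Fld (Fin n ⊕ Fin m) k)))
    (hfaith : ∀ σ ∈ G, (∀ i : Fin n, σ (InvFld.X (Sum.inl i)) = InvFld.X (Sum.inl i)) → σ = 1) :
    (∀ (g : G) (e : InvFld.Fld (Fin n ⊕ Fin m) k),
      e ∈ IntermediateField.adjoin k (Set.range fun j : Fin n => (InvFld.X (Sum.inl j) : InvFld.Fld (Fin n ⊕ Fin m) k)) →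
      g • e ∈ IntermediateField.adjoin k (Set.range fun j : Fin n => (InvFld.X (Sum.inl j) : InvFld.Fld (Fin n ⊕ Fin m) k))) ∧
    ∃ (t : Fin m → InvFld.Fld (Fin n ⊕ Fin m) k)
      (M N : Matrix (Fin m) (Fin m)
        (IntermediateField.adjoin k (Set.range fun j : Fin n => (InvFld.X (Sum.inl j) : InvFld.Fld (Fin n ⊕ Fin m) k)))),
      (∀ (g : G) j, g • t j = t j) ∧
      (∀ j, t j = ∑ i, M j i • (InvFld.X (Sum.inr i) : InvFld.Fld (Fin n ⊕ Fin m) k)) ∧
      (∀ i, (InvFld.X (Sum.inr i) : InvFld.Fld (Fin n ⊕ Fin m) k) = ∑ l, N i l • t l) := by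
  classical
  haveI : Fintype G := Fintype.ofFinite G
  set L := InvFld.Fld (Fin n ⊕ Fin m) k with hL
  set xs : Fin n → L := fun i => InvFld.X (Sum.inl i) with hxs
  set ys : Fin m → L := fun j => InvFld.X (Sum.inr j) with hys
  set E : IntermediateField k L := IntermediateField.adjoin k (Set.range xs) with hEdef
  have hspanE : ∀ z : L, z ∈ Submodule.span k (Set.range xs) → z ∈ E := by
    intro z hz
    have : Submodule.span k (Set.range xs) ≤ E.toSubalgebra.toSubmodule :=
      Submodule.span_le.2 (IntermediateField.subset_adjoin k _)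
    exact this hz
  have hE : ∀ (g : G) (e : L), e ∈ E → g • e ∈ E := by
    intro g e he
    have h1 : E.map ((g : L ≃ₐ[k] L) : L →ₐ[k] L) ≤ E := by
      rw [hEdef, IntermediateField.adjoin_map]
      apply IntermediateField.adjoin_le_iff.2
      rintro _ ⟨_, ⟨i, rfl⟩, rfl⟩
      exact hspanE _ (hx g g.2 i)
    exact h1 ⟨e, he, rfl⟩
  refine ⟨hE, ?_⟩
  have hfaith' : ∀ g : G, (∀ e ∈ E, g • e = e) → g = 1 := by
    intro g hg
    apply Subtype.ext
    exact hfaith g g.2 fun i => hg _ (IntermediateField.subset_adjoin k _ ⟨i, rfl⟩)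
  set W : Submodule E L := Submodule.span E (Set.range ys) with hWdef
  have hspanW : ∀ z : L, z ∈ Submodule.span k (Set.range ys) → z ∈ W :=
    fun z hz => Submodule.span_le_restrictScalars k E (Set.range ys) hz
  have hW : ∀ (g : G) (w : L), w ∈ W → g • w ∈ W := by
    intro g w hw
    induction hw using Submodule.span_induction with
    | mem w hw =>
      obtain ⟨j, rfl⟩ := hw
      exact hspanW _ (hy g g.2 j)
    | zero => rw [smul_zero]; exact zero_mem _
    | add a b _ _ ha hb => rw [smul_add]; exact add_mem ha hb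
    | smul e w _ hw =>
      have : g • (e • w) = (⟨g • (e : L), hE g e e.2⟩ : E) • (g • w) := by
        show g • ((e : L) * w) = (g • (e : L)) * (g • w)
        exact smul_mul' g _ _
      rw [this]
      exact W.smul_mem _ hw
  have hsp := speiser (G := G) E hE hfaith' W hW
  -- work inside `W`
  let Inv' : Set W := {w | ∀ g : G, g • (w : L) = w}
  have hInv'top : Submodule.span E Inv' = ⊤ := by
    apply Submodule.map_injective_of_injective W.injective_subtype
    rw [Submodule.map_span, Submodule.map_subtype_top]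
    refine (congrArg (Submodule.span E) ?_).trans hsp
    ext w
    constructor
    · rintro ⟨w', hw', rfl⟩
      exact ⟨w'.2, hw'⟩
    · rintro ⟨hw, hw'⟩
      exact ⟨⟨w, hw⟩, hw', rfl⟩
  obtain ⟨b, hbI, hbspan, hbli⟩ := exists_linearIndependent E Inv'
  have hbtop : ⊤ ≤ Submodule.span E (Set.range (Subtype.val : b → W)) := by
    rw [Subtype.range_coe, hbspan, hInv'top]
  let bb : Module.Basis b E W := Module.Basis.mk hbli hbtop
  have hli_ys : LinearIndependent E ys := (algInd_ys k n m).linearIndependent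
  have hfr : Module.finrank E W = m := by
    rw [hWdef, finrank_span_eq_card hli_ys, Fintype.card_fin]
  haveI : Module.Finite E W := Module.Finite.span_of_finite E (Set.finite_range ys)
  haveI : Fintype b := FiniteDimensional.fintypeBasisIndex bb
  have hcard : Fintype.card b = m := by
    rw [← Module.finrank_eq_card_basis bb, hfr]
  let eqv : b ≃ Fin m := Fintype.equivFinOfCardEq hcard
  let t' : Fin m → W := fun j => ((eqv.symm j : b) : W)
  have ht'span : Submodule.span E (Set.range t') = ⊤ := by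
    have : Set.range t' = Set.range (Subtype.val : b → W) := by
      ext w
      constructor
      · rintro ⟨j, rfl⟩; exact ⟨eqv.symm j, rfl⟩
      · rintro ⟨c, rfl⟩; exact ⟨eqv c, by simp [t']⟩
    rw [this]
    exact top_le_iff.1 hbtop
  have ht'inv : ∀ (g : G) j, g • ((t' j : W) : L) = t' j := by
    intro g j
    exact hbI (eqv.symm j).2 g
  -- matrices
  have hM : ∀ j, ∃ c : Fin m → E, ∑ i, c i • ys i = (t' j : L) := by
    intro j
    have : ((t' j : W) : L) ∈ Submodule.span E (Set.range ys) := (t' j).2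
    exact (Submodule.mem_span_range_iff_exists_fun E).1 this
  have hN : ∀ i, ∃ c : Fin m → E, ∑ l, c l • (t' l : L) = ys i := by
    intro i
    have hmem : (⟨ys i, Submodule.subset_span ⟨i, rfl⟩⟩ : W) ∈ Submodule.span E (Set.range t') := by
      rw [ht'span]; trivial
    obtain ⟨c, hc⟩ := (Submodule.mem_span_range_iff_exists_fun E).1 hmem
    refine ⟨c, ?_⟩
    have := congrArg (Subtype.val : W → L) hc
    simpa using this
  choose M hM using hM
  choose N hN using hN
  exact ⟨fun j => (t' j : L), Matrix.of M, Matrix.of N, ht'inv, fun j => (hM j).symm,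
    fun i => (hN i).symm⟩

end Groth.Agent.Lib.helper1.NN
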