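import Mathlib
import Groth.Agent.Lib.helper1.NN4

set_option autoImplicit false

namespace Groth.Agent.Lib.helper1.NN

open IntermediateField

universe u

/-- Artin's bound for a stable subfield: `[E : E ∩ L^G] ≤ |G|`. -/
theorem rank_le_card {k L : Type*} [Field k] [Field L] [Algebra k L]
    (G : Subgroup (L ≃ₐ[k] L)) [Fintype G] (E : IntermediateField k L)
    (hE : ∀ (g : G) (e : L), e ∈ E → g • e ∈ E) :
    Module.rank ↥(E ⊓ IntermediateField.fixedField G)
      ↥(IntermediateField.extendScalars (inf_le_left : E ⊓ IntermediateField.fixedField G ≤ E)) ≤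
      (Fintype.card G : Cardinal) := by
  classical
  letI actE : MulSemiringAction G E :=
    { smul := fun g e => ⟨g • (e : L), hE g e e.2⟩
      one_smul := fun e => Subtype.ext (one_smul G (e : L))
      mul_smul := fun g h e => Subtype.ext (mul_smul g h (e : L))
      smul_zero := fun g => Subtype.ext (smul_zero g)
      smul_add := fun g a b => Subtype.ext (smul_add g (a : L) (b : L))
      smul_one := fun g => Subtype.ext (smul_one g)
      smul_mul := fun g a b => Subtype.ext (smul_mul' g (a : L) (b : L)) }
  have hsmul : ∀ (g : G) (e : E), ((g • e : E) : L) = g • (e : L) := fun g e => rfl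
  let F' := FixedPoints.subfield G E
  let F := E ⊓ IntermediateField.fixedField G
  let i : F → F' := fun z =>
    ⟨⟨z.1, z.2.1⟩, fun g => Subtype.ext (z.2.2 g)⟩
  have hi : Function.Surjective i := by
    rintro ⟨⟨e, he⟩, hinv⟩
    refine ⟨⟨e, he, fun g => ?_⟩, rfl⟩
    exact congrArg Subtype.val (hinv g)
  let j : ↥(IntermediateField.extendScalars (inf_le_left : F ≤ E)) →+ E :=
    { toFun := fun v => ⟨v.1, v.2⟩
      map_zero' := rfl
      map_add' := fun a b => rfl }
  have hj : Function.Injective j := by
    intro a b hab
    exact Subtype.ext (congrArg (fun e : E => (e : L)) hab)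
  have h1 := rank_le_of_surjective_injective i j hi hj (fun r v => rfl)
  have h2 : Module.rank F' E ≤ (Fintype.card G : Cardinal) := by
    rw [← Module.finrank_eq_rank]
    exact_mod_cast FixedPoints.finrank_le_card G E
  exact h1.trans h2

end Groth.Agent.Lib.helper1.NN
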