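import Mathlib
import Groth.Agent.Lib.helper1.NN5

set_option autoImplicit false

namespace Groth.Agent.Lib.helper1.NN

open IntermediateField

universe u

theorem main (k : Type u) [Field k] (n m : ℕ)
    (G : Subgroup (InvFld.Fld (Fin n ⊕ Fin m) k ≃ₐ[k] InvFld.Fld (Fin n ⊕ Fin m) k)) [Finite G]
    (hx : ∀ σ ∈ G, ∀ i : Fin n, σ (InvFld.X (Sum.inl i)) ∈ Submodule.span k (Set.range fun j : Fin n => (InvFld.X (Sum.inl j) : InvFld.Fld (Fin n ⊕ Fin m) k)))
    (hy : ∀ σ ∈ G, ∀ i : Fin m, σ (InvFld.X (Sum.inr i)) ∈ Submodule.span k (Set.range fun j : Fin m => (InvFld.X (Sum.inr j) : InvFld.Fld (Fin n ⊕ Fin m) k)))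
    (hfaith : ∀ σ ∈ G, (∀ i : Fin n, σ (InvFld.X (Sum.inl i)) = InvFld.X (Sum.inl i)) → σ = 1) :
    ∃ t : Fin m → InvFld.Fld (Fin n ⊕ Fin m) k,
      AlgebraicIndependent (↥(IntermediateField.adjoin k (Set.range fun j : Fin n => (InvFld.X (Sum.inl j) : InvFld.Fld (Fin n ⊕ Fin m) k)) ⊓ IntermediateField.fixedField G)) t ∧
      IntermediateField.restrictScalars k (IntermediateField.adjoin (↥(IntermediateField.adjoin k (Set.range fun j : Fin n => (InvFld.X (Sum.inl j) : InvFld.Fld (Fin n ⊕ Fin m) k)) ⊓ IntermediateField.fixedField G)) (Set.range t)) =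
        IntermediateField.fixedField G := by
  classical
  haveI : Fintype G := Fintype.ofFinite G
  have key := exists_invariant_basis k n m G hx hy hfaith
  set L := InvFld.Fld (Fin n ⊕ Fin m) k with hL
  set xs : Fin n → L := fun i => InvFld.X (Sum.inl i) with hxs
  set ys : Fin m → L := fun j => InvFld.X (Sum.inr j) with hys
  set E : IntermediateField k L := IntermediateField.adjoin k (Set.range xs) with hEdef
  set Fix : IntermediateField k L := IntermediateField.fixedField G with hFix
  set F : IntermediateField k L := E ⊓ Fix with hF
  obtain ⟨hE, t, M, N, htinv, htM, htN⟩ := key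
  refine ⟨t, ?_, ?_⟩
  · -- algebraic independence
    have h1 : AlgebraicIndependent E t := algInd_of_matrix ys t (algInd_ys k n m) M N htM htN
    letI : Algebra F E := (IntermediateField.inclusion (inf_le_left : F ≤ E)).toRingHom.toAlgebra
    haveI : IsScalarTower F E L := IsScalarTower.of_algebraMap_eq (fun x => rfl)
    exact h1.restrictScalars (K := E) (IntermediateField.inclusion (inf_le_left : F ≤ E)).injective
  · set M' : IntermediateField F L := IntermediateField.adjoin F (Set.range t) with hM'
    have hle : M'.restrictScalars k ≤ Fix := by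
      have : M' ≤ IntermediateField.extendScalars (inf_le_right : F ≤ Fix) := by
        apply IntermediateField.adjoin_le_iff.2
        rintro _ ⟨j, rfl⟩
        show t j ∈ Fix
        rw [hFix, IntermediateField.mem_fixedField_iff]
        intro g hg
        exact htinv ⟨g, hg⟩ j
      intro z hz
      exact this hz
    -- the degree bound
    let EF : IntermediateField F L := IntermediateField.extendScalars (inf_le_left : F ≤ E)
    have hrank1 : Module.rank F EF ≤ (Fintype.card G : Cardinal) := rank_le_card G E hE
    haveI : Module.Finite F EF := by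
      rw [← Module.rank_lt_aleph0_iff]
      exact lt_of_le_of_lt hrank1 (Cardinal.natCast_lt_aleph0)
    have hrank2 := IntermediateField.adjoin_rank_le_of_isAlgebraic M' EF
      (Or.inr (Algebra.IsAlgebraic.of_finite F EF))
    have htop : IntermediateField.adjoin M' (EF : Set L) = ⊤ := by
      rw [eq_top_iff]
      intro z _
      have hxmem : ∀ i, xs i ∈ IntermediateField.adjoin M' (EF : Set L) := fun i =>
        IntermediateField.subset_adjoin _ _
          (show xs i ∈ E from IntermediateField.subset_adjoin k _ ⟨i, rfl⟩)
      have htmem : ∀ j, t j ∈ IntermediateField.adjoin M' (EF : Set L) := fun j => by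
        have : t j ∈ M' := IntermediateField.subset_adjoin _ _ ⟨j, rfl⟩
        exact IntermediateField.algebraMap_mem _ (⟨t j, this⟩ : M')
      have hymem : ∀ i, ys i ∈ IntermediateField.adjoin M' (EF : Set L) := fun i => by
        rw [show ys i = ∑ l, N i l • t l from htN i]
        refine sum_mem fun l _ => ?_
        show ((N i l : E) : L) * t l ∈ _
        exact mul_mem (IntermediateField.subset_adjoin _ _ (N i l).2) (htmem l)
      have hk : ∀ c : k, algebraMap k L c ∈
          (IntermediateField.adjoin M' (EF : Set L)).toSubfield := fun c => by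
        have : algebraMap k L c = algebraMap M' L (algebraMap F M' (algebraMap k F c)) := rfl
        rw [this]
        exact IntermediateField.algebraMap_mem _ _
      have hall : (⊤ : IntermediateField k L) ≤
          (IntermediateField.adjoin M' (EF : Set L)).toSubfield.toIntermediateField hk := by
        rw [← adjoin_X_eq_top k (Fin n ⊕ Fin m)]
        apply IntermediateField.adjoin_le_iff.2
        rintro _ ⟨i | i, rfl⟩
        · exact hxmem i
        · exact hymem i
      exact hall trivial
    have hrank3 : Module.rank M' L ≤ (Fintype.card G : Cardinal) := by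
      have := hrank2.trans hrank1
      rw [htop] at this
      rwa [IntermediateField.rank_top'] at this
    haveI hfinM : Module.Finite M' L := by
      rw [← Module.rank_lt_aleph0_iff]
      exact lt_of_le_of_lt hrank3 (Cardinal.natCast_lt_aleph0)
    haveI : FiniteDimensional (M'.restrictScalars k) L := hfinM
    apply IntermediateField.eq_of_le_of_finrank_le' hle
    have h4 : Module.finrank Fix L = Fintype.card G := FixedPoints.finrank_eq_card G L
    rw [h4]
    have h5 : Module.finrank (M'.restrictScalars k) L = Module.finrank M' L := rfl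
    rw [h5]
    have h6 : (Module.finrank M' L : Cardinal) ≤ (Fintype.card G : Cardinal) := by
      rw [Module.finrank_eq_rank]
      exact hrank3
    exact_mod_cast h6

end Groth.Agent.Lib.helper1.NN
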