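import Mathlib
import Groth.Agent.Lib.helper9.IntegralDim

/-! Norms and zero loci for integral extensions of integrally closed domains. -/

namespace NZ

open Polynomial IntermediateField

universe u

variable {A B K L : Type*} [CommRing A] [IsDomain A] [CommRing B] [IsDomain B] [Algebra A B]
    [Field K] [Field L] [Algebra A K] [IsFractionRing A K] [Algebra B L] [IsFractionRing B L]
    [Algebra A L] [Algebra K L] [IsScalarTower A B L] [IsScalarTower A K L]
    [FiniteDimensional K L] [Algebra.IsIntegral A B] [IsIntegrallyClosed A]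

/-- `b` divides its norm. -/
theorem dvd_norm (b : B) (a : A) (ha : algebraMap A K a = Algebra.norm K (algebraMap B L b)) :
    b ∣ algebraMap A B a := by
  set x := algebraMap B L b with hx
  have hbint : IsIntegral A b := Algebra.IsIntegral.isIntegral b
  have hxint : IsIntegral K x := (hbint.map (IsScalarTower.toAlgHom A B L)).tower_top
  have hmin : minpoly K x = (minpoly A b).map (algebraMap A K) :=
    minpoly.isIntegrallyClosed_eq_field_fractions K L hbint
  set c₀ := (minpoly A b).coeff 0 with hc₀
  -- b ∣ c₀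
  have hdvd : b ∣ algebraMap A B c₀ := by
    have h1 : aeval b (minpoly A b) = 0 := minpoly.aeval A b
    rw [← Polynomial.divX_mul_X_add (minpoly A b), map_add, map_mul, aeval_X, aeval_C] at h1
    refine ⟨-(aeval b (minpoly A b).divX), ?_⟩
    rw [← hc₀] at h1
    linear_combination h1
  -- norm formula
  have hnorm : Algebra.norm K x =
      ((-1) ^ (adjoin.powerBasis hxint).dim * algebraMap A K c₀) ^ Module.finrank K⟮x⟯ L := by
    rw [Algebra.norm_eq_norm_adjoin K x]
    congr 1
    have h2 := Algebra.PowerBasis.norm_gen_eq_coeff_zero_minpoly (adjoin.powerBasis hxint)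
    rw [adjoin.powerBasis_gen, IntermediateField.minpoly_gen, hmin, coeff_map] at h2
    exact h2
  set r := Module.finrank K⟮x⟯ L with hr
  have hrpos : 0 < r := Module.finrank_pos
  have haeq : a = ((-1) ^ (adjoin.powerBasis hxint).dim * c₀) ^ r := by
    apply IsFractionRing.injective A K
    rw [ha, hnorm]
    simp
  rw [haeq, map_pow, map_mul]
  obtain ⟨r', hr'⟩ : ∃ r', r = r' + 1 := ⟨r - 1, by omega⟩
  rw [hr', pow_succ]
  exact Dvd.dvd.mul_left (Dvd.dvd.mul_left hdvd _) _

/-- elements of `bB ∩ A` have a power in `aA` -/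
theorem pow_mem_span (b : B) (a : A) (ha : algebraMap A K a = Algebra.norm K (algebraMap B L b))
    (c : A) (hc : b ∣ algebraMap A B c) : a ∣ c ^ Module.finrank K L := by
  obtain ⟨b', hb'⟩ := hc
  have hb'int : IsIntegral A (algebraMap B L b') :=
    (Algebra.IsIntegral.isIntegral (R := A) b').map (IsScalarTower.toAlgHom A B L)
  obtain ⟨a', ha'⟩ := IsIntegrallyClosed.isIntegral_iff.1 (Algebra.isIntegral_norm K hb'int)
  refine ⟨a', ?_⟩
  apply IsFractionRing.injective A K
  rw [map_pow, map_mul, ha, ha', ← map_mul, ← map_mul, ← hb',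
    ← IsScalarTower.algebraMap_apply A B L, IsScalarTower.algebraMap_apply A K L,
    Algebra.norm_algebraMap]

theorem zeroLocus_comap_eq (b : B) (a : A)
    (ha : algebraMap A K a = Algebra.norm K (algebraMap B L b)) :
    PrimeSpectrum.zeroLocus ((Ideal.span {b}).comap (algebraMap A B) : Set A) =
      PrimeSpectrum.zeroLocus ({a} : Set A) := by
  ext p
  simp only [PrimeSpectrum.mem_zeroLocus, Set.singleton_subset_iff, SetLike.mem_coe]
  constructor
  · intro h
    apply h
    rw [SetLike.mem_coe, Ideal.mem_comap, Ideal.mem_span_singleton]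
    exact dvd_norm (K := K) (L := L) b a ha
  · intro h c hc
    rw [SetLike.mem_coe, Ideal.mem_comap, Ideal.mem_span_singleton] at hc
    obtain ⟨a', ha'⟩ := pow_mem_span (K := K) (L := L) b a ha c hc
    have : c ^ Module.finrank K L ∈ p.asIdeal := by rw [ha']; exact Ideal.mul_mem_right _ _ h
    exact p.2.mem_of_pow_mem _ this

theorem image_zeroLocus (b : B) (a : A)
    (ha : algebraMap A K a = Algebra.norm K (algebraMap B L b)) :
    PrimeSpectrum.comap (algebraMap A B) '' PrimeSpectrum.zeroLocus ({b} : Set B) =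
      PrimeSpectrum.zeroLocus ({a} : Set A) := by
  rw [← zeroLocus_comap_eq (K := K) (L := L) b a ha]
  ext p
  constructor
  · rintro ⟨q, hq, rfl⟩
    rw [PrimeSpectrum.mem_zeroLocus, Set.singleton_subset_iff] at hq
    rw [PrimeSpectrum.mem_zeroLocus]
    intro c hc
    rw [SetLike.mem_coe, Ideal.mem_comap, Ideal.mem_span_singleton] at hc
    show algebraMap A B c ∈ q.asIdeal
    obtain ⟨b', hb'⟩ := hc
    rw [hb']; exact Ideal.mul_mem_right _ _ hq
  · intro hp
    rw [PrimeSpectrum.mem_zeroLocus] at hp
    obtain ⟨Q, hQ, hQp, hQc⟩ := Ideal.exists_ideal_over_prime_of_isIntegral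
      (R := A) (S := B) p.asIdeal (Ideal.span {b}) hp
    refine ⟨⟨Q, hQp⟩, ?_, PrimeSpectrum.ext hQc⟩
    rw [PrimeSpectrum.mem_zeroLocus, Set.singleton_subset_iff]
    exact hQ (Ideal.mem_span_singleton_self b)

/-- dimension of a zero locus as a subspace -/
theorem dim_zeroLocus {R : Type*} [CommRing R] (I : Ideal R) :
    topologicalKrullDim ↥(PrimeSpectrum.zeroLocus (I : Set R)) = ringKrullDim (R ⧸ I) := by
  rw [← PrimeSpectrum.topologicalKrullDim_eq_ringKrullDim]
  have hemb := PrimeSpectrum.isClosedEmbedding_comap_of_surjective (R ⧸ I) (Ideal.Quotient.mk I)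
    Ideal.Quotient.mk_surjective
  have hrange : Set.range (PrimeSpectrum.comap (Ideal.Quotient.mk I)) =
      PrimeSpectrum.zeroLocus (I : Set R) := by
    rw [range_comap_of_surjective _ _ Ideal.Quotient.mk_surjective, Ideal.mk_ker]
  symm
  have h1 := (hemb.isEmbedding.toHomeomorph).isHomeomorph.topologicalKrullDim_eq
  rw [h1]
  rw [hrange]

theorem dim_eq (b : B) (a : A)
    (ha : algebraMap A K a = Algebra.norm K (algebraMap B L b)) :
    topologicalKrullDim ↥(PrimeSpectrum.zeroLocus ({b} : Set B)) =
      topologicalKrullDim ↥(PrimeSpectrum.zeroLocus ({a} : Set A)) := by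
  rw [← zeroLocus_comap_eq (K := K) (L := L) b a ha, ← PrimeSpectrum.zeroLocus_span ({b} : Set B),
    dim_zeroLocus, dim_zeroLocus]
  symm
  exact Groth.Agent.Lib.helper9.IntegralDim.ringKrullDim_eq_of_isIntegral_of_injective
    (A ⧸ (Ideal.span {b}).comap (algebraMap A B)) (B ⧸ Ideal.span {b})
    Ideal.quotientMap_injective

end NZ
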