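import Mathlib
import Groth.Prelude
import Groth.Agent.Lib.helper1.NormForm1

/-!
# Norms from finite extensions of `C₁` fields are surjective (helper library of seat helper1)
-/

set_option autoImplicit false
set_option linter.unusedSectionVars false
set_option linter.dupNamespace false
universe u v w

namespace Groth.Agent.Lib.helper1.NormSurj

open MvPolynomial Groth.Agent.Lib.helper1.NormForm

variable (F : Type u) [Field F] (E : Type v) [Field E] [Algebra F E] [FiniteDimensional F E]

/-- Over a `C₁` field (single form version), the norm of a finite extension is surjective. -/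
theorem norm_surjective_of_isCr_one (hF : Curves.IsCr F 1) :
    Function.Surjective (Algebra.norm F : E → F) := by
  classical
  intro y
  set n := Module.finrank F E with hn
  have hnpos : 0 < n := Module.finrank_pos
  let b : Module.Basis (Fin n) F E := Module.finBasis F E
  let c : Fin n → Matrix (Fin n) (Fin n) F := fun i => Algebra.leftMulMatrix b (b i)
  let G : MvPolynomial (Fin (n + 1)) F :=
    rename Fin.succ (genMat c).det - C y * X 0 ^ n
  have hG : G.IsHomogeneous n := by
    apply IsHomogeneous.sub
    · exact (isHomogeneous_det_genMat c).rename_isHomogeneous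
    · have := (isHomogeneous_X_pow (R := F) (0 : Fin (n + 1)) n).C_mul y
      exact this
  obtain ⟨a, ha0, ha⟩ := hF (n + 1) n G hG hnpos (by simp)
  have hev : Algebra.norm F (∑ i, a (Fin.succ i) • b i) = y * a 0 ^ n := by
    have h1 : eval a G = 0 := ha
    simp only [G, map_sub, eval_rename, map_mul, eval_C, map_pow, eval_X] at h1
    rw [eval_det_genMat] at h1
    have h2 : (∑ i, (a ∘ Fin.succ) i • c i) = Algebra.leftMulMatrix b (∑ i, a (Fin.succ i) • b i) := by
      simp [c, map_sum]
    rw [h2, ← Algebra.norm_eq_matrix_det] at h1
    exact sub_eq_zero.mp h1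
  by_cases h0 : a 0 = 0
  · exfalso
    rw [h0, zero_pow hnpos.ne', mul_zero] at hev
    have hx : (∑ i, a (Fin.succ i) • b i) = 0 := Algebra.norm_eq_zero_iff.mp hev
    have hcoef : ∀ i, a (Fin.succ i) = 0 := by
      have := Fintype.linearIndependent_iff.mp b.linearIndependent (fun i => a (Fin.succ i)) hx
      exact this
    apply ha0
    funext j
    refine Fin.cases h0 (fun i => hcoef i) j
  · refine ⟨(algebraMap F E (a 0))⁻¹ * ∑ i, a (Fin.succ i) • b i, ?_⟩
    rw [map_mul, hev, Algebra.norm_inv, Algebra.norm_algebraMap, ← hn]
    field_simp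

end Groth.Agent.Lib.helper1.NormSurj
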