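import Mathlib
import Groth.Prelude

/-!
# A Hilbert 90 for cyclic quotients, inside a Galois extension (helper library of seat helper1)
-/

set_option autoImplicit false
set_option linter.unusedSectionVars false
set_option linter.dupNamespace false
universe u v w

namespace Groth.Agent.Lib.helper1.NormSurj

open Finset

variable {K : Type u} {L : Type v} [Field K] [Field L] [Algebra K L] [FiniteDimensional K L]

/-- partial products `y · τ y ⋯ τ^{j-1} y`. -/
noncomputable def pp (τ : L ≃ₐ[K] L) (y : L) (j : ℕ) : L := ∏ i ∈ range j, (τ ^ i) y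

theorem pp_zero (τ : L ≃ₐ[K] L) (y : L) : pp τ y 0 = 1 := by simp [pp]

theorem pp_succ (τ : L ≃ₐ[K] L) (y : L) (j : ℕ) : pp τ y (j + 1) = y * τ (pp τ y j) := by
  unfold pp
  rw [Finset.prod_range_succ', map_prod, mul_comm]
  congr 1
  · apply Finset.prod_congr rfl
    intro i _
    rw [pow_succ']
    rfl

/-- Hilbert 90 for the cyclic quotient generated by `τ` modulo `H'`. -/
theorem h90 [IsGalois K L] (H' : Subgroup (L ≃ₐ[K] L)) (τ : L ≃ₐ[K] L) (n : ℕ) (hn : 0 < n)
    (hnorm : ∀ h ∈ H', τ⁻¹ * h * τ ∈ H') (hpow : τ ^ n ∈ H')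
    (hmin : ∀ m, 0 < m → m < n → τ ^ m ∉ H')
    (y : L) (hy : ∀ h ∈ H', h y = y) (hN : ∏ j ∈ range n, (τ ^ j) y = 1) :
    ∃ z : Lˣ, (∀ h ∈ H', h (z : L) = z) ∧ y = (z : L) / τ (z : L) := by
  classical
  let M' : IntermediateField K L := IntermediateField.fixedField H'
  have hM' : ∀ x : L, x ∈ M' ↔ ∀ h ∈ H', h x = x := by
    intro x
    constructor
    · intro hx h hh; exact hx ⟨h, hh⟩
    · intro hx h; exact hx h.1 h.2
  -- τ stabilizes M'
  have hτM : ∀ x ∈ M', τ x ∈ M' := by
    intro x hx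
    rw [hM'] at hx ⊢
    intro h hh
    have := hx _ (hnorm h hh)
    have h2 : h (τ x) = τ ((τ⁻¹ * h * τ) x) := by
      simp [AlgEquiv.mul_apply]
    rw [h2, this]
  have hτjM : ∀ (j : ℕ) (x : L), x ∈ M' → (τ ^ j) x ∈ M' := by
    intro j
    induction j with
    | zero => intro x hx; simpa using hx
    | succ j ih =>
      intro x hx
      rw [pow_succ']
      exact hτM _ (ih x hx)
  have hppM : ∀ j, pp τ y j ∈ M' := by
    intro j
    unfold pp
    apply prod_mem
    intro i _
    exact hτjM i y ((hM' y).2 hy)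
  -- the characters
  let χ : Fin n → (M' →* L) := fun j =>
    ((τ ^ (j : ℕ) : L ≃ₐ[K] L) : L →* L).comp ((algebraMap M' L : M' →+* L) : M' →* L)
  have hχ : Function.Injective χ := by
    intro i j hij
    by_contra hne
    wlog hlt : (i : ℕ) < j generalizing i j
    · exact this hij.symm (Ne.symm hne) (lt_of_le_of_ne (not_lt.mp hlt) (fun h => hne (Fin.ext h.symm)))
    have hmem : τ ^ ((j : ℕ) - i) ∈ H' := by
      rw [← IntermediateField.fixingSubgroup_fixedField H']
      rw [IntermediateField.mem_fixingSubgroup_iff]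
      intro x hx
      have h1 : (τ ^ (i : ℕ)) x = (τ ^ (j : ℕ)) x := by
        have := DFunLike.congr_fun hij ⟨x, hx⟩
        exact this
      have h2 : (τ ^ (j : ℕ)) = τ ^ (i : ℕ) * τ ^ ((j : ℕ) - i) := by
        rw [← pow_add]; congr 1; omega
      rw [h2, AlgEquiv.mul_apply] at h1
      exact ((τ ^ (i : ℕ)).injective h1).symm
    exact hmin _ (by omega) (by omega) hmem
  have hli : LinearIndependent L (fun j : Fin n => ((χ j : M' →* L) : M' → L)) :=
    (linearIndependent_monoidHom M' L).comp χ hχ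
  -- find `c`
  obtain ⟨c, hc⟩ : ∃ c : M', ∑ j : Fin n, pp τ y j * (τ ^ (j : ℕ)) (c : L) ≠ 0 := by
    by_contra hcon
    push Not at hcon
    have hzero : ∑ j : Fin n, pp τ y j • ((χ j : M' →* L) : M' → L) = 0 := by
      funext c
      simpa [χ, Finset.sum_apply] using hcon c
    have := Fintype.linearIndependent_iff.mp hli (fun j => pp τ y j) hzero ⟨0, hn⟩
    simp [pp_zero] at this
  set z : L := ∑ j : Fin n, pp τ y j * (τ ^ (j : ℕ)) (c : L) with hz
  have hzM : z ∈ M' := by
    rw [hz]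
    apply sum_mem
    intro j _
    exact mul_mem (hppM j) (hτjM j _ c.2)
  have hτn : (τ ^ n) (c : L) = c := ((hM' _).1 c.2) _ hpow
  have hkey : y * τ z = z := by
    rw [hz, map_sum, Finset.mul_sum]
    have h1 : ∀ j : Fin n, y * τ (pp τ y j * (τ ^ (j : ℕ)) (c : L)) =
        pp τ y (j + 1) * (τ ^ ((j : ℕ) + 1)) (c : L) := by
      intro j
      rw [map_mul, pp_succ, pow_succ', AlgEquiv.mul_apply, mul_assoc]
    rw [Finset.sum_congr rfl (fun j _ => h1 j)]
    rw [Fin.sum_univ_eq_sum_range (fun j => pp τ y (j + 1) * (τ ^ (j + 1)) (c : L)) n,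
      Fin.sum_univ_eq_sum_range (fun j => pp τ y j * (τ ^ j) (c : L)) n]
    obtain ⟨m, rfl⟩ : ∃ m, n = m + 1 := ⟨n - 1, by omega⟩
    rw [Finset.sum_range_succ (fun j => pp τ y (j + 1) * (τ ^ (j + 1)) (c : L)) m]
    rw [Finset.sum_range_succ' (fun j => pp τ y j * (τ ^ j) (c : L)) m]
    have hppn : pp τ y (m + 1) = 1 := hN
    rw [hppn, hτn, pp_zero]
    simp
  have hz0 : z ≠ 0 := hc
  refine ⟨Units.mk0 z hz0, ?_, ?_⟩
  · intro h hh
    exact (hM' z).1 hzM h hh
  · have hτz : τ z ≠ 0 := by simpa using hz0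
    simp only [Units.val_mk0]
    rw [eq_div_iff hτz]
    exact hkey

end Groth.Agent.Lib.helper1.NormSurj
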