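import Mathlib
import Groth.Prelude
import Groth.Agent.Lib.helper1.NormSurj1
import Groth.Agent.Lib.helper1.NormSurj2

/-!
# Kernel of the norm for Galois `p`-extensions of fields all of whose finite extensions are `C₁`
(helper library of seat helper1)
-/

set_option autoImplicit false
set_option linter.unusedSectionVars false
set_option linter.dupNamespace false
universe u v w

namespace Groth.Agent.Lib.helper1.NormSurj

open Finset

section defs

variable (K : Type u) (L : Type v) [Field K] [Field L] [Algebra K L]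

/-- the subgroup of `Lˣ` generated by the `w / g w`. -/
def IG : Subgroup Lˣ :=
  Subgroup.closure {v : Lˣ | ∃ (w : Lˣ) (g : L ≃ₐ[K] L), (v : L) = (w : L) / g (w : L)}

variable {K L}

theorem div_mem_IG (w : Lˣ) (g : L ≃ₐ[K] L) (v : Lˣ) (hv : (v : L) = (w : L) / g (w : L)) :
    v ∈ IG K L :=
  Subgroup.subset_closure ⟨w, g, hv⟩

end defs

variable {K : Type u} {L : Type v} [Field K] [Field L] [Algebra K L] [FiniteDimensional K L]
  [IsGalois K L]

/-- The norm to a fixed field is the product over the subgroup. -/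
theorem norm_fixedField (H : Subgroup (L ≃ₐ[K] L)) [Fintype H] (x : L) :
    algebraMap (IntermediateField.fixedField H) L
      (Algebra.norm (IntermediateField.fixedField H) x) = ∏ h : H, (h : L ≃ₐ[K] L) x := by
  classical
  set M := IntermediateField.fixedField H with hM
  rw [Algebra.norm_eq_prod_automorphisms M x]
  have hmem : ∀ σ : L ≃ₐ[M] L, σ.restrictScalars K ∈ H := by
    intro σ
    rw [← IntermediateField.fixingSubgroup_fixedField H, IntermediateField.mem_fixingSubgroup_iff]
    intro y hy
    exact σ.commutes ⟨y, hy⟩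
  let φ : (L ≃ₐ[M] L) → H := fun σ => ⟨σ.restrictScalars K, hmem σ⟩
  have hφinj : Function.Injective φ := by
    intro σ σ' h
    ext y
    have := congrArg (fun t : H => (t : L ≃ₐ[K] L) y) h
    exact this
  have hφ : Function.Bijective φ := by
    rw [Fintype.bijective_iff_injective_and_card]
    refine ⟨hφinj, ?_⟩
    rw [← Nat.card_eq_fintype_card, ← Nat.card_eq_fintype_card, IsGalois.card_aut_eq_finrank,
      IntermediateField.finrank_fixedField_eq_card]
  exact Fintype.prod_bijective φ hφ _ _ (fun σ => rfl)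

theorem norm_eq_prod (x : L) :
    algebraMap K L (Algebra.norm K x) = ∏ g : L ≃ₐ[K] L, g x :=
  Algebra.norm_eq_prod_automorphisms K x

/-- norm surjectivity onto a fixed field. -/
theorem exists_prod_eq (H : Subgroup (L ≃ₐ[K] L)) [Fintype H]
    (hC : Curves.IsCr (IntermediateField.fixedField H) 1) (z : L)
    (hz : ∀ h ∈ H, h z = z) : ∃ w : L, ∏ h : H, (h : L ≃ₐ[K] L) w = z := by
  have hzM : z ∈ IntermediateField.fixedField H := fun h => hz h.1 h.2
  obtain ⟨w, hw⟩ := norm_surjective_of_isCr_one (IntermediateField.fixedField H) L hC ⟨z, hzM⟩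
  refine ⟨w, ?_⟩
  rw [← norm_fixedField, hw]
  rfl

theorem IG_le_of_intermediate (M : IntermediateField K L) : IG M L ≤ IG K L := by
  apply Subgroup.closure_mono
  rintro v ⟨w, g, hv⟩
  exact ⟨w, g.restrictScalars K, hv⟩

end Groth.Agent.Lib.helper1.NormSurj

namespace Groth.Agent.Lib.helper1.NormSurj

open Finset

/-- Kernel of the norm in the `p`-group case. -/
theorem mem_IG_of_pgroup (p : ℕ) [Fact p.Prime] : ∀ (n : ℕ) (K L : Type u) [Field K] [Field L]
    [Algebra K L] [FiniteDimensional K L] [IsGalois K L],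
    (∀ M : IntermediateField K L, Curves.IsCr M 1) → Nat.card (L ≃ₐ[K] L) = p ^ n →
    ∀ u : Lˣ, Algebra.norm K (u : L) = 1 → u ∈ IG K L := by
  intro n
  induction n with
  | zero =>
    intro K L _ _ _ _ _ hC hcard u hu
    rw [pow_zero, Nat.card_eq_one_iff_unique] at hcard
    obtain ⟨hs, _⟩ := hcard
    have h1 := norm_eq_prod (K := K) (u : L)
    rw [hu, map_one, Fintype.prod_subsingleton _ (1 : L ≃ₐ[K] L)] at h1
    have : u = 1 := Units.ext (by simpa using h1.symm)
    rw [this]
    exact Subgroup.one_mem _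
  | succ n ih =>
    intro K L _ _ _ _ _ hC hcard u hu
    classical
    have hp : p.Prime := Fact.out
    obtain ⟨H', hH'⟩ := Sylow.exists_subgroup_card_pow_prime (G := L ≃ₐ[K] L) p (n := n)
      (by rw [hcard]; exact pow_dvd_pow p (Nat.le_succ n))
    have hidx : H'.index = p := by
      have h1 := H'.index_mul_card
      rw [hH', hcard, pow_succ] at h1
      have h2 : H'.index * p ^ n = p * p ^ n := by rw [h1, mul_comm]
      exact Nat.eq_of_mul_eq_mul_right (pow_pos hp.pos n) h2
    haveI : H'.Normal := Subgroup.normal_of_index_eq_minFac_card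
      (by rw [hidx, hcard, Nat.Prime.pow_minFac hp (Nat.succ_ne_zero n)])
    obtain ⟨τ, hτ⟩ : ∃ τ : L ≃ₐ[K] L, τ ∉ H' := by
      by_contra hcon
      push Not at hcon
      have h1 : H' = ⊤ := (Subgroup.eq_top_iff' H').2 hcon
      rw [h1, Subgroup.index_top] at hidx
      exact hp.one_lt.ne hidx
    set q : (L ≃ₐ[K] L) ⧸ H' := (τ : (L ≃ₐ[K] L) ⧸ H') with hq
    have hq1 : q ≠ 1 := by
      rw [Ne, hq, QuotientGroup.eq_one_iff]; exact hτ
    have hcardQ : Nat.card ((L ≃ₐ[K] L) ⧸ H') = p := hidx
    have hqp : q ^ p = 1 := by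
      rw [← hcardQ]; exact pow_card_eq_one'
    have hord : orderOf q = p := orderOf_eq_prime hqp hq1
    have hpow : τ ^ p ∈ H' := by
      rw [← QuotientGroup.eq_one_iff, QuotientGroup.mk_pow]; exact hqp
    have hmin : ∀ m, 0 < m → m < p → τ ^ m ∉ H' := by
      intro m hm0 hmp hmem
      have h1 : q ^ m = 1 := by
        rw [hq, ← QuotientGroup.mk_pow]; exact (QuotientGroup.eq_one_iff _).2 hmem
      have h2 := orderOf_dvd_of_pow_eq_one h1
      rw [hord] at h2
      exact absurd (Nat.le_of_dvd hm0 h2) (not_le.2 hmp)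
    have hnorm : ∀ h ∈ H', τ⁻¹ * h * τ ∈ H' := by
      intro h hh
      have := (inferInstance : H'.Normal).conj_mem h hh τ⁻¹
      simpa using this
    haveI : Fintype H' := Fintype.ofFinite _
    have hdecomp : ∀ x : L, ∏ g : L ≃ₐ[K] L, g x =
        ∏ j ∈ range p, (τ ^ j) (∏ h : H', (h : L ≃ₐ[K] L) x) := by
      intro x
      let f : Fin p × H' → (L ≃ₐ[K] L) := fun jh => τ ^ (jh.1 : ℕ) * jh.2
      have hf : Function.Bijective f := by
        rw [Fintype.bijective_iff_injective_and_card]
        constructor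
        · rintro ⟨i, h⟩ ⟨j, h'⟩ heq
          simp only [f] at heq
          have hqq : q ^ (i : ℕ) = q ^ (j : ℕ) := by
            have h1 := congrArg (QuotientGroup.mk (s := H')) heq
            rw [QuotientGroup.mk_mul, QuotientGroup.mk_mul, QuotientGroup.mk_pow,
              QuotientGroup.mk_pow, (QuotientGroup.eq_one_iff (h : L ≃ₐ[K] L)).2 h.2,
              (QuotientGroup.eq_one_iff (h' : L ≃ₐ[K] L)).2 h'.2, mul_one, mul_one] at h1
            exact h1
          have hij : (i : ℕ) = j :=
            pow_injOn_Iio_orderOf (by rw [Set.mem_Iio, hord]; exact i.2)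
              (by rw [Set.mem_Iio, hord]; exact j.2) hqq
          have hij' : i = j := Fin.ext hij
          subst hij'
          have : (h : L ≃ₐ[K] L) = h' := mul_left_cancel heq
          rw [Subtype.ext this]
        · rw [Fintype.card_prod, Fintype.card_fin, ← Nat.card_eq_fintype_card (α := H'), hH',
            ← Nat.card_eq_fintype_card, hcard, pow_succ, mul_comm]
      rw [← Fintype.prod_bijective f hf (fun jh => (f jh) x) (fun g => g x) (fun _ => rfl)]
      rw [Fintype.prod_prod_type]
      rw [← Fin.prod_univ_eq_prod_range (fun j => (τ ^ j) (∏ h : H', (h : L ≃ₐ[K] L) x)) p]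
      apply Finset.prod_congr rfl
      intro j _
      rw [map_prod]
      rfl
    set y : L := ∏ h : H', (h : L ≃ₐ[K] L) (u : L) with hy
    have hfix : ∀ x : L, ∀ h ∈ H', h (∏ h' : H', (h' : L ≃ₐ[K] L) x) =
        ∏ h' : H', (h' : L ≃ₐ[K] L) x := by
      intro x h hh
      rw [map_prod]
      exact Fintype.prod_bijective (fun h' : H' => (⟨h, hh⟩ : H') * h')
        (Group.mulLeft_bijective _) _ _ (fun h' => rfl)
    have hNy : ∏ j ∈ range p, (τ ^ j) y = 1 := by
      rw [hy, ← hdecomp, ← norm_eq_prod, hu, map_one]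
    obtain ⟨z, hzfix, hyz⟩ := h90 H' τ p hp.pos hnorm hpow hmin y (hfix _) hNy
    obtain ⟨w, hw⟩ := exists_prod_eq H' (hC _) (z : L) hzfix
    have hw0 : w ≠ 0 := by
      rintro rfl
      have h1 : (z : L) = 0 := by
        rw [← hw]
        exact Finset.prod_eq_zero (Finset.mem_univ (1 : H')) (by simp)
      exact z.ne_zero h1
    have hτw : ∏ h : H', (h : L ≃ₐ[K] L) (τ w) = τ (z : L) := by
      rw [← hw, map_prod]
      refine Fintype.prod_bijective (fun h : H' => (⟨τ⁻¹ * h * τ, hnorm h h.2⟩ : H')) ?_ _ _ ?_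
      · apply Finite.injective_iff_bijective.mp
        intro h h' heq
        have h1 : τ⁻¹ * (h : L ≃ₐ[K] L) * τ = τ⁻¹ * (h' : L ≃ₐ[K] L) * τ :=
          congrArg Subtype.val heq
        exact Subtype.ext (mul_left_cancel (mul_right_cancel h1))
      · intro h
        simp [AlgEquiv.mul_apply]
    have hτw0 : τ w ≠ 0 := by simpa using hw0
    let v : Lˣ := Units.mk0 (w / τ w) (div_ne_zero hw0 hτw0)
    have hv : v ∈ IG K L := div_mem_IG (Units.mk0 w hw0) τ v (by simp [v])
    set M' : IntermediateField K L := IntermediateField.fixedField H' with hM'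
    have hu' : Algebra.norm M' ((u * v⁻¹ : Lˣ) : L) = 1 := by
      apply (algebraMap M' L).injective
      rw [norm_fixedField, map_one]
      have h1 : ∀ h : H', (h : L ≃ₐ[K] L) ((u * v⁻¹ : Lˣ) : L) =
          (h : L ≃ₐ[K] L) (u : L) * ((h : L ≃ₐ[K] L) w)⁻¹ * (h : L ≃ₐ[K] L) (τ w) := by
        intro h
        simp only [Units.val_mul, Units.val_inv_eq_inv_val, v, Units.val_mk0, map_mul, map_inv₀,
          map_div₀, inv_div]
        rw [div_eq_mul_inv]
        ring
      rw [Finset.prod_congr rfl (fun h _ => h1 h), Finset.prod_mul_distrib,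
        Finset.prod_mul_distrib, Finset.prod_inv_distrib, hτw, hw, ← hy, hyz]
      have hz0 : (z : L) ≠ 0 := z.ne_zero
      have hτz0 : τ (z : L) ≠ 0 := by simpa using hz0
      field_simp
    have hC' : ∀ M'' : IntermediateField M' L, Curves.IsCr M'' 1 := by
      intro M''
      exact hC (M''.restrictScalars K)
    have hcard' : Nat.card (L ≃ₐ[M'] L) = p ^ n := by
      rw [IsGalois.card_aut_eq_finrank, IntermediateField.finrank_fixedField_eq_card, hH']
    have h3 := ih M' L hC' hcard' (u * v⁻¹) hu'
    have h4 : u = (u * v⁻¹) * v := by simp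
    rw [h4]
    exact Subgroup.mul_mem _ (IG_le_of_intermediate M' h3) hv

end Groth.Agent.Lib.helper1.NormSurj
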