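import Mathlib
import Groth.Prelude
import Groth.Agent.Lib.helper1.NormSurj3

/-!
# Kernel of the norm: Sylow reduction (helper library of seat helper1)
-/

set_option autoImplicit false
set_option linter.unusedSectionVars false
set_option linter.dupNamespace false
universe u v w

namespace Groth.Agent.Lib.helper1.NormSurj

open Finset

variable (K L : Type u) [Field K] [Field L] [Algebra K L] [FiniteDimensional K L] [IsGalois K L]

theorem exists_pow_mem_IG (hC : ∀ M : IntermediateField K L, Curves.IsCr M 1) (u : Lˣ)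
    (hu : Algebra.norm K (u : L) = 1) (p : ℕ) [Fact p.Prime] :
    ∃ t : ℕ, ¬ p ∣ t ∧ u ^ t ∈ IG K L := by
  classical
  let P : Sylow p (L ≃ₐ[K] L) := default
  obtain ⟨T, hT, -⟩ := Subgroup.exists_isComplement_right (P : Subgroup (L ≃ₐ[K] L)) 1
  haveI : Fintype T := Fintype.ofFinite _
  haveI : Fintype (P : Subgroup (L ≃ₐ[K] L)) := Fintype.ofFinite _
  refine ⟨Fintype.card T, ?_, ?_⟩
  · have h1 := hT.card_mul_card
    have h2 := (P : Subgroup (L ≃ₐ[K] L)).index_mul_card
    have h3 : Nat.card T = (P : Subgroup (L ≃ₐ[K] L)).index := by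
      have hpos : 0 < Nat.card (P : Subgroup (L ≃ₐ[K] L)) := Nat.card_pos
      apply Nat.eq_of_mul_eq_mul_left hpos
      rw [mul_comm _ (P : Subgroup (L ≃ₐ[K] L)).index, h2]
      exact h1
    rw [← Nat.card_eq_fintype_card, h3]
    exact P.not_dvd_index
  · let ru : Lˣ := ∏ t : T, Units.map (((t : L ≃ₐ[K] L) : L →* L)) u
    have hcoe : (ru : L) = ∏ t : T, (t : L ≃ₐ[K] L) (u : L) := by
      simp [ru, Units.coe_prod]
    set M : IntermediateField K L := IntermediateField.fixedField (P : Subgroup (L ≃ₐ[K] L)) with hM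
    have hru : Algebra.norm M (ru : L) = 1 := by
      apply (algebraMap M L).injective
      rw [norm_fixedField, map_one, hcoe]
      have h1 : ∀ h : (P : Subgroup (L ≃ₐ[K] L)), (h : L ≃ₐ[K] L) (∏ t : T, (t : L ≃ₐ[K] L) (u : L)) =
          ∏ t : T, ((h : L ≃ₐ[K] L) * (t : L ≃ₐ[K] L)) (u : L) := by
        intro h; rw [map_prod]; rfl
      rw [Finset.prod_congr rfl (fun h _ => h1 h)]
      rw [← Fintype.prod_prod_type' (f := fun (h : (P : Subgroup (L ≃ₐ[K] L))) (t : T) =>
        ((h : L ≃ₐ[K] L) * (t : L ≃ₐ[K] L)) (u : L))]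
      rw [Fintype.prod_bijective (fun x : ↥(P : Subgroup (L ≃ₐ[K] L)) × ↥T => (x.1 : L ≃ₐ[K] L) * x.2.1) hT
        (fun x => ((x.1 : L ≃ₐ[K] L) * x.2.1) (u : L)) (fun g => g (u : L)) (fun _ => rfl)]
      rw [← norm_eq_prod, hu, map_one]
    have hC' : ∀ M'' : IntermediateField M L, Curves.IsCr M'' 1 := by
      intro M''
      exact hC (M''.restrictScalars K)
    have hcard' : Nat.card (L ≃ₐ[M] L) = p ^ (Nat.card (L ≃ₐ[K] L)).factorization p := by
      rw [IsGalois.card_aut_eq_finrank, IntermediateField.finrank_fixedField_eq_card,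
        P.card_eq_multiplicity]
    have hru' : ru ∈ IG K L :=
      IG_le_of_intermediate M (mem_IG_of_pgroup p _ M L hC' hcard' ru hru)
    have hprod : u ^ Fintype.card T =
        ru * ∏ t : T, (u * (Units.map (((t : L ≃ₐ[K] L) : L →* L)) u)⁻¹) := by
      rw [Finset.prod_mul_distrib, Finset.prod_inv_distrib, Finset.prod_const, Finset.card_univ]
      rw [mul_comm (u ^ Fintype.card T), ← mul_assoc, mul_inv_cancel, one_mul]
    rw [hprod]
    refine Subgroup.mul_mem _ hru' (Subgroup.prod_mem _ fun t _ => ?_)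
    exact div_mem_IG u t.1 _ (by simp [div_eq_mul_inv])

/-- The kernel of the norm is generated by the `w / g w`. -/
theorem mem_IG_of_norm_eq_one (hC : ∀ M : IntermediateField K L, Curves.IsCr M 1) (u : Lˣ)
    (hu : Algebra.norm K (u : L) = 1) : u ∈ IG K L := by
  by_contra hnot
  let a : Lˣ ⧸ IG K L := (u : Lˣ ⧸ IG K L)
  have ha1 : a ≠ 1 := by
    rw [Ne, QuotientGroup.eq_one_iff]; exact hnot
  have hpow : ∀ (p : ℕ) [Fact p.Prime], ∃ t : ℕ, ¬ p ∣ t ∧ a ^ t = 1 := by
    intro p _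
    obtain ⟨t, ht, hmem⟩ := exists_pow_mem_IG K L hC u hu p
    refine ⟨t, ht, ?_⟩
    rw [← QuotientGroup.mk_pow]
    exact (QuotientGroup.eq_one_iff _).2 hmem
  have hd1 : orderOf a ≠ 1 := by
    rw [Ne, orderOf_eq_one_iff]; exact ha1
  set q := (orderOf a).minFac with hq
  have hqp : q.Prime := Nat.minFac_prime hd1
  haveI : Fact q.Prime := ⟨hqp⟩
  obtain ⟨t, ht, hat⟩ := hpow q
  apply ht
  exact (Nat.minFac_dvd (orderOf a)).trans (orderOf_dvd_of_pow_eq_one hat)

end Groth.Agent.Lib.helper1.NormSurj
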