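import Mathlib

/-!
# PBW faithful representation, part 1: the staged definition of the action on the polynomial ring
-/

namespace Groth.Agent.Lib.helper1.PBW

open MvPolynomial

universe u v w
variable {R : Type u} [CommRing R] {L : Type v} [LieRing L] [LieAlgebra R L]
variable {ι : Type w} [LinearOrder ι] (b : Module.Basis ι R L)

/-- `i` is at most every index occurring in `m`. -/
def low (i : ι) (m : ι →₀ ℕ) : Prop := ∀ j ∈ m.support, i ≤ j

theorem supp_nonempty {i : ι} {m : ι →₀ ℕ} (h : ¬ low i m) : m.support.Nonempty := by
  unfold low at h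
  push Not at h
  obtain ⟨j, hj, _⟩ := h
  exact ⟨j, hj⟩

/-- bilinear extension of a function on basis pairs -/
noncomputable def lift (F : ι → (ι →₀ ℕ) → MvPolynomial ι R) :
    L →ₗ[R] MvPolynomial ι R →ₗ[R] MvPolynomial ι R :=
  b.constr R (fun i => (basisMonomials ι R).constr R (F i))

theorem lift_apply (F : ι → (ι →₀ ℕ) → MvPolynomial ι R) (i : ι) (m : ι →₀ ℕ) :
    lift b F (b i) (monomial m 1) = F i m := by
  have : (monomial m (1:R)) = basisMonomials ι R m := by simp
  rw [lift, Module.Basis.constr_basis, this, Module.Basis.constr_basis]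

open Classical in
/-- staged definition -/
noncomputable def stage : ℕ → ι → (ι →₀ ℕ) → MvPolynomial ι R
  | 0 => fun i m => if m = 0 then X i else 0
  | (n+1) => fun i m =>
      if m.degree ≤ n then stage n i m
      else if m.degree = n + 1 then
        (if h : low i m then monomial (m + Finsupp.single i 1) 1
         else
          monomial (m + Finsupp.single i 1) 1
            + lift b (stage n) (b (m.support.min' (supp_nonempty h)))
                (stage n i (m - Finsupp.single (m.support.min' (supp_nonempty h)) 1)
                  - monomial ((m - Finsupp.single (m.support.min' (supp_nonempty h)) 1)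
                      + Finsupp.single i 1) 1)
            + lift b (stage n) ⁅b i, b (m.support.min' (supp_nonempty h))⁆
                (monomial (m - Finsupp.single (m.support.min' (supp_nonempty h)) 1) 1))
      else 0

theorem stage_zero (i : ι) : stage b 0 i 0 = X i := by
  simp [stage]

theorem stage_succ_of_le {n : ℕ} {i : ι} {m : ι →₀ ℕ} (h : m.degree ≤ n) :
    stage b (n+1) i m = stage b n i m := by
  simp only [stage]; rw [if_pos h]

theorem stage_of_le {n : ℕ} {i : ι} {m : ι →₀ ℕ} (h : m.degree ≤ n) :
    stage b n i m = stage b m.degree i m := by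
  induction n with
  | zero =>
    have : m.degree = 0 := Nat.le_zero.mp h
    rw [this]
  | succ n ih =>
    by_cases h' : m.degree ≤ n
    · rw [stage_succ_of_le b h', ih h']
    · have : m.degree = n + 1 := by omega
      rw [this]

theorem stage_succ_low {n : ℕ} {i : ι} {m : ι →₀ ℕ} (hd : m.degree = n + 1) (h : low i m) :
    stage b (n+1) i m = monomial (m + Finsupp.single i 1) 1 := by
  simp only [stage]
  rw [if_neg (by omega), if_pos hd, dif_pos h]

theorem stage_succ_notlow {n : ℕ} {i : ι} {m : ι →₀ ℕ} (hd : m.degree = n + 1) (h : ¬ low i m) :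
    stage b (n+1) i m = monomial (m + Finsupp.single i 1) 1
            + lift b (stage b n) (b (m.support.min' (supp_nonempty h)))
                (stage b n i (m - Finsupp.single (m.support.min' (supp_nonempty h)) 1)
                  - monomial ((m - Finsupp.single (m.support.min' (supp_nonempty h)) 1)
                      + Finsupp.single i 1) 1)
            + lift b (stage b n) ⁅b i, b (m.support.min' (supp_nonempty h))⁆
                (monomial (m - Finsupp.single (m.support.min' (supp_nonempty h)) 1) 1) := by
  simp only [stage]
  rw [if_neg (by omega), if_pos hd, dif_neg h]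

/-- polynomials supported in degrees `≤ d` -/
noncomputable def Mle (d : ℕ) : Submodule R (MvPolynomial ι R) := restrictSupport R {m | m.degree ≤ d}

theorem mon_mem_Mle {m : ι →₀ ℕ} {d : ℕ} (h : m.degree ≤ d) : monomial m (1:R) ∈ Mle (R := R) d := by
  unfold Mle
  rw [monomial_mem_restrictSupport]
  exact Or.inl h

theorem Mle_mono {d e : ℕ} (h : d ≤ e) : Mle (R := R) (ι := ι) d ≤ Mle e := by
  unfold Mle
  apply restrictSupport_mono
  intro m hm
  exact le_trans hm h

theorem Mle_induction {P : MvPolynomial ι R → Prop} (d : ℕ) (h0 : P 0)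
    (hadd : ∀ u v, P u → P v → P (u + v)) (hsmul : ∀ (c : R) u, P u → P (c • u))
    (hmon : ∀ m : ι →₀ ℕ, m.degree ≤ d → P (monomial m 1)) :
    ∀ u ∈ Mle (R := R) d, P u := by
  intro u hu
  unfold Mle at hu
  rw [restrictSupport_eq_span] at hu
  induction hu using Submodule.span_induction with
  | mem x hx =>
    obtain ⟨m, hm, rfl⟩ := hx
    exact hmon m hm
  | zero => exact h0
  | add x y _ _ hx hy => exact hadd x y hx hy
  | smul c x _ hx => exact hsmul c x hx

theorem basis_induction {P : L → Prop} (hb : ∀ i, P (b i)) (h0 : P 0)
    (hadd : ∀ x y, P x → P y → P (x + y)) (hsmul : ∀ (c : R) x, P x → P (c • x)) :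
    ∀ x, P x := by
  intro x
  have hx : x ∈ Submodule.span R (Set.range b) := by rw [b.span_eq]; trivial
  induction hx using Submodule.span_induction with
  | mem x hx =>
    obtain ⟨i, rfl⟩ := hx
    exact hb i
  | zero => exact h0
  | add x y _ _ hx hy => exact hadd x y hx hy
  | smul c x _ hx => exact hsmul c x hx

theorem degree_add_single (m : ι →₀ ℕ) (i : ι) : (m + Finsupp.single i 1).degree = m.degree + 1 := by
  rw [map_add, Finsupp.degree_single]

theorem sub_add_cancel_of_mem {m : ι →₀ ℕ} {j : ι} (hj : j ∈ m.support) :
    m - Finsupp.single j 1 + Finsupp.single j 1 = m :=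
  Finsupp.sub_add_single_one_cancel (Finsupp.mem_support_iff.mp hj)

theorem degree_sub_single {m : ι →₀ ℕ} {j : ι} (hj : j ∈ m.support) :
    (m - Finsupp.single j 1).degree + 1 = m.degree := by
  conv_rhs => rw [← sub_add_cancel_of_mem hj]
  rw [degree_add_single]

end Groth.Agent.Lib.helper1.PBW
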