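import Groth.Agent.Lib.helper1.PBW1

/-!
# PBW faithful representation, part 2: filtration property, coherence, the limit action `Rho`
-/

namespace Groth.Agent.Lib.helper1.PBW

open MvPolynomial

universe u v w
variable {R : Type u} [CommRing R] {L : Type v} [LieRing L] [LieAlgebra R L]
variable {ι : Type w} [LinearOrder ι] (b : Module.Basis ι R L)

/-- property (B) at stage `n` -/
def PB (n : ℕ) : Prop :=
  ∀ (i : ι) (m : ι →₀ ℕ), m.degree ≤ n →
    stage b n i m - monomial (m + Finsupp.single i 1) 1 ∈ Mle (R := R) m.degree

theorem stage_mem_of_PB {n : ℕ} (h : PB b n) (i : ι) {m : ι →₀ ℕ} (hm : m.degree ≤ n) :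
    stage b n i m ∈ Mle (R := R) (m.degree + 1) := by
  have h1 := h i m hm
  have h2 : monomial (m + Finsupp.single i 1) (1:R) ∈ Mle (R := R) (m.degree + 1) :=
    mon_mem_Mle (by rw [degree_add_single])
  have h3 := Submodule.add_mem _ (Mle_mono (R := R) (ι := ι) (Nat.le_succ m.degree) h1) h2
  simpa using h3

theorem lift_mem_of_PB {n : ℕ} (h : PB b n) (x : L) {d : ℕ} (hd : d ≤ n)
    {u : MvPolynomial ι R} (hu : u ∈ Mle (R := R) d) :
    lift b (stage b n) x u ∈ Mle (R := R) (d + 1) := by
  suffices key : ∀ x, ∀ u ∈ Mle (R := R) d,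
      lift b (stage b n) x u ∈ Mle (R := R) (d + 1) from key x u hu
  clear hu u x
  refine basis_induction b (P := fun x => ∀ u ∈ Mle (R := R) d,
    lift b (stage b n) x u ∈ Mle (R := R) (d + 1)) ?_ ?_ ?_ ?_
  · intro i
    refine Mle_induction d ?_ ?_ ?_ ?_
    · simp
    · intro u v hu hv
      rw [map_add]; exact Submodule.add_mem _ hu hv
    · intro c u hu
      rw [map_smul]; exact Submodule.smul_mem _ c hu
    · intro m hm
      rw [lift_apply]
      exact Mle_mono (by omega) (stage_mem_of_PB b h i (le_trans hm hd))
  · intro u _; simp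
  · intro x y hx hy u hu
    rw [map_add, LinearMap.add_apply]; exact Submodule.add_mem _ (hx u hu) (hy u hu)
  · intro c x hx u hu
    rw [map_smul, LinearMap.smul_apply]; exact Submodule.smul_mem _ c (hx u hu)

theorem PB_all : ∀ n, PB b n := by
  intro n
  induction n with
  | zero =>
    intro i m hm
    have hm0 : m = 0 := by
      have : m.degree = 0 := Nat.le_zero.mp hm
      exact (Finsupp.degree_eq_zero_iff m).mp this
    subst hm0
    rw [stage_zero]
    simp [X]
  | succ n ih =>
    intro i m hm
    by_cases h' : m.degree ≤ n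
    · rw [stage_succ_of_le b h']; exact ih i m h'
    · have hd : m.degree = n + 1 := by omega
      by_cases hl : low i m
      · rw [stage_succ_low b hd hl]; simp
      · rw [stage_succ_notlow b hd hl]
        set j := m.support.min' (supp_nonempty hl) with hj
        have hjm : j ∈ m.support := Finset.min'_mem _ _
        have hk : (m - Finsupp.single j 1).degree = n := by
          have := degree_sub_single hjm; omega
        have e1 : monomial (m + Finsupp.single i 1) (1:R)
            + lift b (stage b n) (b j)
                (stage b n i (m - Finsupp.single j 1)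
                  - monomial ((m - Finsupp.single j 1) + Finsupp.single i 1) 1)
            + lift b (stage b n) ⁅b i, b j⁆ (monomial (m - Finsupp.single j 1) 1)
            - monomial (m + Finsupp.single i 1) 1
            = lift b (stage b n) (b j)
                (stage b n i (m - Finsupp.single j 1)
                  - monomial ((m - Finsupp.single j 1) + Finsupp.single i 1) 1)
            + lift b (stage b n) ⁅b i, b j⁆ (monomial (m - Finsupp.single j 1) 1) := by abel
        rw [e1, hd]
        apply Submodule.add_mem
        · apply lift_mem_of_PB b ih _ (le_refl n)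
          have := ih i (m - Finsupp.single j 1) (le_of_eq hk)
          rwa [hk] at this
        · apply lift_mem_of_PB b ih _ (le_refl n)
          exact mon_mem_Mle (le_of_eq hk)

/-- the limit action on basis elements and monomials -/
noncomputable def rho (i : ι) (m : ι →₀ ℕ) : MvPolynomial ι R := stage b m.degree i m

/-- the limit action -/
noncomputable def Rho : L →ₗ[R] MvPolynomial ι R →ₗ[R] MvPolynomial ι R := lift b (rho b)

theorem Rho_apply (i : ι) (m : ι →₀ ℕ) : Rho b (b i) (monomial m 1) = stage b m.degree i m := by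
  rw [Rho, lift_apply, rho]

theorem lift_stage_eq_Rho {n : ℕ} (x : L) {u : MvPolynomial ι R} (hu : u ∈ Mle (R := R) n) :
    lift b (stage b n) x u = Rho b x u := by
  suffices key : ∀ x, ∀ u ∈ Mle (R := R) n,
      lift b (stage b n) x u = Rho b x u from key x u hu
  clear hu u x
  refine basis_induction b (P := fun x => ∀ u ∈ Mle (R := R) n,
    lift b (stage b n) x u = Rho b x u) ?_ ?_ ?_ ?_
  · intro i
    refine Mle_induction n ?_ ?_ ?_ ?_
    · simp
    · intro u v hu hv
      rw [map_add, map_add, hu, hv]
    · intro c u hu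
      rw [map_smul, map_smul, hu]
    · intro m hm
      rw [lift_apply, Rho_apply, stage_of_le b hm]
  · intro u _; simp
  · intro x y hx hy u hu
    rw [map_add, map_add, LinearMap.add_apply, LinearMap.add_apply, hx u hu, hy u hu]
  · intro c x hx u hu
    rw [map_smul, map_smul, LinearMap.smul_apply, LinearMap.smul_apply, hx u hu]

theorem Rho_low {i : ι} {m : ι →₀ ℕ} (h : low i m) :
    Rho b (b i) (monomial m 1) = monomial (m + Finsupp.single i 1) 1 := by
  rw [Rho_apply]
  rcases Nat.eq_zero_or_pos m.degree with h0 | hpos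
  · have hm0 : m = 0 := (Finsupp.degree_eq_zero_iff m).mp h0
    subst hm0
    rw [h0, stage_zero]; simp [X]
  · obtain ⟨n, hn⟩ : ∃ n, m.degree = n + 1 := ⟨m.degree - 1, by omega⟩
    rw [hn, stage_succ_low b hn h]

theorem Rho_B (i : ι) (m : ι →₀ ℕ) :
    Rho b (b i) (monomial m 1) - monomial (m + Finsupp.single i 1) 1 ∈ Mle (R := R) m.degree := by
  rw [Rho_apply]
  exact PB_all b m.degree i m (le_refl _)

theorem Rho_notlow {i : ι} {m : ι →₀ ℕ} (h : ¬ low i m) :
    Rho b (b i) (monomial m 1) = monomial (m + Finsupp.single i 1) 1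
      + Rho b (b (m.support.min' (supp_nonempty h)))
          (Rho b (b i) (monomial (m - Finsupp.single (m.support.min' (supp_nonempty h)) 1) 1)
            - monomial ((m - Finsupp.single (m.support.min' (supp_nonempty h)) 1)
                + Finsupp.single i 1) 1)
      + Rho b ⁅b i, b (m.support.min' (supp_nonempty h))⁆
          (monomial (m - Finsupp.single (m.support.min' (supp_nonempty h)) 1) 1) := by
  set j := m.support.min' (supp_nonempty h) with hj
  have hjm : j ∈ m.support := Finset.min'_mem _ _
  have hpos : 0 < m.degree := by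
    have := degree_sub_single hjm; omega
  obtain ⟨n, hn⟩ : ∃ n, m.degree = n + 1 := ⟨m.degree - 1, by omega⟩
  have hk : (m - Finsupp.single j 1).degree = n := by
    have := degree_sub_single hjm; omega
  rw [Rho_apply, hn, stage_succ_notlow b hn h]
  have e1 : stage b n i (m - Finsupp.single j 1)
      = Rho b (b i) (monomial (m - Finsupp.single j 1) 1) := by
    rw [Rho_apply, hk]
  have hw : Rho b (b i) (monomial (m - Finsupp.single j 1) 1)
      - monomial ((m - Finsupp.single j 1) + Finsupp.single i 1) 1 ∈ Mle (R := R) n := by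
    have := Rho_B b i (m - Finsupp.single j 1)
    rwa [hk] at this
  rw [← hj, e1, lift_stage_eq_Rho b _ hw, lift_stage_eq_Rho b _ (mon_mem_Mle (le_of_eq hk))]

theorem Rho_basis_mem (i : ι) {d : ℕ} {u : MvPolynomial ι R} (hu : u ∈ Mle (R := R) d) :
    Rho b (b i) u ∈ Mle (R := R) (d + 1) := by
  suffices key : ∀ u ∈ Mle (R := R) d, Rho b (b i) u ∈ Mle (R := R) (d + 1) from key u hu
  clear hu u
  refine Mle_induction d ?_ ?_ ?_ ?_
  · simp
  · intro u v hu hv
    rw [map_add]; exact Submodule.add_mem _ hu hv
  · intro c u hu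
    rw [map_smul]; exact Submodule.smul_mem _ c hu
  · intro m hm
    have h1 := Rho_B b i m
    have h2 : monomial (m + Finsupp.single i 1) (1:R) ∈ Mle (R := R) (d + 1) :=
      mon_mem_Mle (by rw [degree_add_single]; omega)
    have h3 := Submodule.add_mem _ (Mle_mono (R := R) (ι := ι) (by omega : m.degree ≤ d + 1) h1) h2
    simpa using h3

theorem Rho_mem (x : L) {d : ℕ} {u : MvPolynomial ι R} (hu : u ∈ Mle (R := R) d) :
    Rho b x u ∈ Mle (R := R) (d + 1) := by
  suffices key : ∀ x, ∀ u ∈ Mle (R := R) d, Rho b x u ∈ Mle (R := R) (d + 1) from key x u hu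
  clear hu u x
  refine basis_induction b (P := fun x => ∀ u ∈ Mle (R := R) d,
    Rho b x u ∈ Mle (R := R) (d + 1)) ?_ ?_ ?_ ?_
  · intro i u hu; exact Rho_basis_mem b i hu
  · intro u _; simp
  · intro x y hx hy u hu
    rw [map_add, LinearMap.add_apply]; exact Submodule.add_mem _ (hx u hu) (hy u hu)
  · intro c x hx u hu
    rw [map_smul, LinearMap.smul_apply]; exact Submodule.smul_mem _ c (hx u hu)

end Groth.Agent.Lib.helper1.PBW
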