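import Groth.Agent.Lib.helper1.PBW2

/-!
# PBW faithful representation, part 3: the commutation relation
-/

namespace Groth.Agent.Lib.helper1.PBW

open MvPolynomial

universe u v w
variable {R : Type u} [CommRing R] {L : Type v} [LieRing L] [LieAlgebra R L]
variable {ι : Type w} [LinearOrder ι] (b : Module.Basis ι R L)

/-- the commutation relation on `u` -/
def Comm (x y : L) (u : MvPolynomial ι R) : Prop :=
  Rho b x (Rho b y u) - Rho b y (Rho b x u) = Rho b ⁅x, y⁆ u

theorem Comm_zero (x y : L) : Comm b x y 0 := by simp [Comm]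

theorem Comm_add {x y : L} {u v : MvPolynomial ι R} (hu : Comm b x y u) (hv : Comm b x y v) :
    Comm b x y (u + v) := by
  unfold Comm at *
  simp only [map_add]
  linear_combination hu + hv

theorem Comm_sub {x y : L} {u v : MvPolynomial ι R} (hu : Comm b x y u) (hv : Comm b x y v) :
    Comm b x y (u - v) := by
  unfold Comm at *
  simp only [map_sub]
  linear_combination hu - hv

theorem Comm_smul {x y : L} (c : R) {u : MvPolynomial ι R} (hu : Comm b x y u) :
    Comm b x y (c • u) := by
  unfold Comm at *
  simp only [map_smul]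
  rw [← smul_sub, hu]

theorem Comm_swap {x y : L} {u : MvPolynomial ι R} (h : Comm b x y u) : Comm b y x u := by
  unfold Comm at *
  rw [← lie_skew, map_neg, LinearMap.neg_apply, ← h]
  abel

theorem Comm_self (x : L) (u : MvPolynomial ι R) : Comm b x x u := by
  unfold Comm
  rw [lie_self, map_zero, LinearMap.zero_apply, sub_self]

theorem Comm_of_basis (d : ℕ)
    (h : ∀ (i j : ι) (m : ι →₀ ℕ), m.degree ≤ d → Comm b (b i) (b j) (monomial m 1)) :
    ∀ x y, ∀ u ∈ Mle (R := R) d, Comm b x y u := by
  have h1 : ∀ i j, ∀ u ∈ Mle (R := R) d, Comm b (b i) (b j) u := by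
    intro i j
    refine Mle_induction d (Comm_zero b _ _) ?_ ?_ ?_
    · intro u v hu hv; exact Comm_add b hu hv
    · intro c u hu; exact Comm_smul b c hu
    · intro m hm; exact h i j m hm
  have h2 : ∀ x, ∀ j, ∀ u ∈ Mle (R := R) d, Comm b x (b j) u := by
    refine basis_induction b (P := fun x => ∀ j, ∀ u ∈ Mle (R := R) d, Comm b x (b j) u)
      ?_ ?_ ?_ ?_
    · intro i j u hu; exact h1 i j u hu
    · intro j u _
      unfold Comm; simp
    · intro x y hx hy j u hu
      have hx' := hx j u hu
      have hy' := hy j u hu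
      unfold Comm at *
      simp only [map_add, LinearMap.add_apply, add_lie]
      linear_combination hx' + hy'
    · intro c x hx j u hu
      have hx' := hx j u hu
      unfold Comm at *
      simp only [map_smul, LinearMap.smul_apply, smul_lie]
      rw [← smul_sub, hx']
  refine fun x y => basis_induction b (P := fun y => ∀ x, ∀ u ∈ Mle (R := R) d, Comm b x y u)
      ?_ ?_ ?_ ?_ y x
  · intro j x u hu; exact h2 x j u hu
  · intro x u _
    unfold Comm; simp
  · intro y y' hy hy' x u hu
    have h3 := hy x u hu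
    have h4 := hy' x u hu
    unfold Comm at *
    simp only [map_add, LinearMap.add_apply, lie_add]
    linear_combination h3 + h4
  · intro c y hy x u hu
    have h3 := hy x u hu
    unfold Comm at *
    simp only [map_smul, LinearMap.smul_apply, lie_smul]
    rw [← smul_sub, h3]

theorem low_add_single {j i : ι} {k : ι →₀ ℕ} (hjk : low j k) (hji : j ≤ i) :
    low j (k + Finsupp.single i 1) := by
  intro l hl
  have := Finsupp.support_add hl
  rw [Finset.mem_union] at this
  rcases this with h | h
  · exact hjk l h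
  · have : l = i := by
      have := Finsupp.support_single_subset h
      simpa using this
    rw [this]; exact hji

theorem mem_support_add_single (k : ι →₀ ℕ) (j : ι) : j ∈ (k + Finsupp.single j 1).support := by
  rw [Finsupp.mem_support_iff]
  simp

theorem min'_add_single {j : ι} {k : ι →₀ ℕ} (hjk : low j k)
    (hne : (k + Finsupp.single j 1).support.Nonempty) :
    (k + Finsupp.single j 1).support.min' hne = j := by
  apply le_antisymm
  · exact Finset.min'_le _ _ (mem_support_add_single k j)
  · apply Finset.le_min'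
    intro l hl
    exact low_add_single hjk (le_refl j) l hl

/-- Case 1: `j ≤ k`, `j < i`. -/
theorem comm_case1 {i j : ι} {k : ι →₀ ℕ} (hjk : low j k) (hji : j < i) :
    Comm b (b i) (b j) (monomial k 1) := by
  unfold Comm
  have hnl : ¬ low i (k + Finsupp.single j 1) := by
    intro h
    have := h j (mem_support_add_single k j)
    exact absurd hji (not_lt.mpr this)
  have e1 := Rho_notlow b hnl
  have hmin : (k + Finsupp.single j 1).support.min' (supp_nonempty hnl) = j :=
    min'_add_single hjk _
  rw [hmin] at e1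
  have hk : k + Finsupp.single j 1 - Finsupp.single j 1 = k := add_tsub_cancel_right _ _
  rw [hk] at e1
  have e2 : Rho b (b j) (monomial k 1) = monomial (k + Finsupp.single j 1) 1 := Rho_low b hjk
  have e3 : Rho b (b j) (monomial (k + Finsupp.single i 1) 1)
      = monomial (k + Finsupp.single i 1 + Finsupp.single j 1) 1 :=
    Rho_low b (low_add_single hjk (le_of_lt hji))
  rw [e2, e1, map_sub, e3]
  have e4 : k + Finsupp.single j 1 + Finsupp.single i 1
      = k + Finsupp.single i 1 + Finsupp.single j 1 := by abel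
  rw [e4]
  abel

theorem low_sub_min' {k : ι →₀ ℕ} (hne : k.support.Nonempty) :
    low (k.support.min' hne) (k - Finsupp.single (k.support.min' hne) 1) := by
  intro l hl
  apply Finset.min'_le
  rw [Finsupp.mem_support_iff] at hl ⊢
  intro h0
  apply hl
  rw [Finsupp.tsub_apply, h0]
  simp

/-- Case 4: the minimal index `ν` of `k` is below both `i` and `j`. -/
theorem comm_case4 {d : ℕ} (IH : ∀ x y, ∀ u ∈ Mle (R := R) d, Comm b x y u)
    {i j : ι} {k : ι →₀ ℕ} (hne : k.support.Nonempty) (hd : k.degree = d + 1)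
    (hi : k.support.min' hne < i) (hj : k.support.min' hne < j) :
    Comm b (b i) (b j) (monomial k 1) := by
  set ν := k.support.min' hne with hν
  have hνk : ν ∈ k.support := Finset.min'_mem _ _
  set Ψ := k - Finsupp.single ν 1 with hΨ
  have hΨk : Ψ + Finsupp.single ν 1 = k := sub_add_cancel_of_mem hνk
  have hΨd : Ψ.degree = d := by
    have := degree_sub_single hνk; rw [← hΨ] at this; omega
  have hlow : low ν Ψ := low_sub_min' hne
  have hXk : Rho b (b ν) (monomial Ψ 1) = monomial k 1 := by
    rw [Rho_low b hlow, hΨk]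
  have hΨm : monomial Ψ (1:R) ∈ Mle (R := R) d := mon_mem_Mle (le_of_eq hΨd)
  -- abbreviations
  set P := Rho b (b j) (monomial Ψ 1) with hP
  set Q := Rho b (b i) (monomial Ψ 1) with hQ
  -- Comm (b i) (b ν) P and Comm (b j) (b ν) Q
  have hcP : Comm b (b i) (b ν) P := by
    have h1 : P = monomial (Ψ + Finsupp.single j 1) 1
        + (P - monomial (Ψ + Finsupp.single j 1) 1) := by abel
    rw [h1]
    apply Comm_add
    · exact comm_case1 b (low_add_single hlow (le_of_lt hj)) hi
    · apply IH
      have := Rho_B b j Ψ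
      rwa [hΨd] at this
  have hcQ : Comm b (b j) (b ν) Q := by
    have h1 : Q = monomial (Ψ + Finsupp.single i 1) 1
        + (Q - monomial (Ψ + Finsupp.single i 1) 1) := by abel
    rw [h1]
    apply Comm_add
    · exact comm_case1 b (low_add_single hlow (le_of_lt hi)) hj
    · apply IH
      have := Rho_B b i Ψ
      rwa [hΨd] at this
  have hA1 : Rho b (b j) (monomial k 1)
      = Rho b (b ν) P + Rho b ⁅b j, b ν⁆ (monomial Ψ 1) := by
    have := IH (b j) (b ν) _ hΨm
    unfold Comm at this
    rw [hXk] at this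
    rw [hP]
    linear_combination this
  have hA1' : Rho b (b i) (monomial k 1)
      = Rho b (b ν) Q + Rho b ⁅b i, b ν⁆ (monomial Ψ 1) := by
    have := IH (b i) (b ν) _ hΨm
    unfold Comm at this
    rw [hXk] at this
    rw [hQ]
    linear_combination this
  have hA2 : Rho b (b i) (Rho b (b ν) P)
      = Rho b (b ν) (Rho b (b i) P) + Rho b ⁅b i, b ν⁆ P := by
    unfold Comm at hcP
    linear_combination hcP
  have hA2' : Rho b (b j) (Rho b (b ν) Q)
      = Rho b (b ν) (Rho b (b j) Q) + Rho b ⁅b j, b ν⁆ Q := by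
    unfold Comm at hcQ
    linear_combination hcQ
  have hA3 : Rho b (b i) (Rho b ⁅b j, b ν⁆ (monomial Ψ 1))
      = Rho b ⁅b j, b ν⁆ Q + Rho b ⁅b i, ⁅b j, b ν⁆⁆ (monomial Ψ 1) := by
    have := IH (b i) ⁅b j, b ν⁆ _ hΨm
    unfold Comm at this
    rw [hQ]
    linear_combination this
  have hA3' : Rho b (b j) (Rho b ⁅b i, b ν⁆ (monomial Ψ 1))
      = Rho b ⁅b i, b ν⁆ P + Rho b ⁅b j, ⁅b i, b ν⁆⁆ (monomial Ψ 1) := by
    have := IH (b j) ⁅b i, b ν⁆ _ hΨm
    unfold Comm at this
    rw [hP]
    linear_combination this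
  have hA4 : Rho b (b i) P - Rho b (b j) Q = Rho b ⁅b i, b j⁆ (monomial Ψ 1) := by
    have := IH (b i) (b j) _ hΨm
    unfold Comm at this
    exact this
  have hA5 : Rho b (b ν) (Rho b ⁅b i, b j⁆ (monomial Ψ 1))
      = Rho b ⁅b i, b j⁆ (monomial k 1) + Rho b ⁅b ν, ⁅b i, b j⁆⁆ (monomial Ψ 1) := by
    have := IH (b ν) ⁅b i, b j⁆ _ hΨm
    unfold Comm at this
    rw [hXk] at this
    linear_combination this
  have g1 : Rho b (b ν) (Rho b (b i) P) - Rho b (b ν) (Rho b (b j) Q)
      = Rho b ⁅b i, b j⁆ (monomial k 1) + Rho b ⁅b ν, ⁅b i, b j⁆⁆ (monomial Ψ 1) := by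
    rw [← map_sub, hA4, hA5]
  have hJ : Rho b ⁅b ν, ⁅b i, b j⁆⁆ (monomial Ψ 1) + Rho b ⁅b i, ⁅b j, b ν⁆⁆ (monomial Ψ 1)
      - Rho b ⁅b j, ⁅b i, b ν⁆⁆ (monomial Ψ 1) = 0 := by
    rw [← LinearMap.add_apply, ← LinearMap.sub_apply, ← map_add, ← map_sub]
    have : ⁅b ν, ⁅b i, b j⁆⁆ + ⁅b i, ⁅b j, b ν⁆⁆ - ⁅b j, ⁅b i, b ν⁆⁆ = 0 := by
      have h1 := lie_jacobi (b ν) (b i) (b j)
      have h2 : ⁅b j, ⁅b i, b ν⁆⁆ = - ⁅b j, ⁅b ν, b i⁆⁆ := by
        rw [← lie_skew (b ν) (b i), lie_neg, neg_neg]
      rw [h2, sub_neg_eq_add]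
      exact h1
    rw [this, map_zero, LinearMap.zero_apply]
  unfold Comm
  rw [hA1, hA1', map_add, map_add, hA2, hA2', hA3, hA3']
  linear_combination g1 + hJ

theorem not_low_lt {i : ι} {k : ι →₀ ℕ} (h : ¬ low i k) :
    k.support.min' (supp_nonempty h) < i := by
  unfold low at h
  push Not at h
  obtain ⟨l, hl, hli⟩ := h
  exact lt_of_le_of_lt (Finset.min'_le _ _ hl) hli

theorem Comm_all : ∀ d, ∀ x y, ∀ u ∈ Mle (R := R) d, Comm b x y u := by
  intro d
  induction d with
  | zero =>
    apply Comm_of_basis
    intro i j m hm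
    have hm0 : m = 0 := (Finsupp.degree_eq_zero_iff m).mp (Nat.le_zero.mp hm)
    subst hm0
    have hl : ∀ l : ι, low l (0 : ι →₀ ℕ) := by
      intro l a ha; simp at ha
    rcases lt_trichotomy i j with h | h | h
    · exact Comm_swap b (comm_case1 b (hl i) h)
    · rw [h]; exact Comm_self b _ _
    · exact comm_case1 b (hl j) h
  | succ d ih =>
    apply Comm_of_basis
    intro i j m hm
    by_cases hm' : m.degree ≤ d
    · exact ih _ _ _ (mon_mem_Mle hm')
    · have hd : m.degree = d + 1 := by omega
      rcases lt_trichotomy i j with h | h | h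
      · by_cases hl : low i m
        · exact Comm_swap b (comm_case1 b hl h)
        · have h1 := not_low_lt hl
          exact comm_case4 b ih (supp_nonempty hl) hd h1 (lt_trans h1 h)
      · rw [h]; exact Comm_self b _ _
      · by_cases hl : low j m
        · exact comm_case1 b hl h
        · have h1 := not_low_lt hl
          exact comm_case4 b ih (supp_nonempty hl) hd (lt_trans h1 h) h1

/-- the action of `L` on the polynomial ring satisfies the Lie module axiom -/
theorem Rho_lie (x y : L) (u : MvPolynomial ι R) :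
    Rho b ⁅x, y⁆ u = Rho b x (Rho b y u) - Rho b y (Rho b x u) := by
  have hu : u ∈ Mle (R := R) u.totalDegree := by
    unfold Mle
    rw [mem_restrictSupport_iff]
    intro m hm
    have := le_totalDegree (Finset.mem_coe.mp hm)
    simpa [Finsupp.degree, Finsupp.sum] using this
  exact (Comm_all b _ x y u hu).symm

theorem Rho_one (i : ι) : Rho b (b i) 1 = X i := by
  have : (1 : MvPolynomial ι R) = monomial 0 1 := rfl
  rw [this, Rho_low b (by intro l hl; simp at hl)]
  simp [X]

theorem Rho_injective : Function.Injective (Rho b) := by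
  rw [← LinearMap.ker_eq_bot, LinearMap.ker_eq_bot']
  intro x hx
  have h1 : Rho b x 1 = 0 := by rw [hx]; rfl
  have h2 : Rho b x 1 = ∑ i ∈ (b.repr x).support, (b.repr x i) • (X i : MvPolynomial ι R) := by
    conv_lhs => rw [← b.linearCombination_repr x, Finsupp.linearCombination_apply, Finsupp.sum]
    rw [map_sum, LinearMap.sum_apply]
    apply Finset.sum_congr rfl
    intro i _
    rw [map_smul, LinearMap.smul_apply, Rho_one]
  rw [h2] at h1
  have h3 : b.repr x = 0 := by
    ext i
    have h4 := congrArg (MvPolynomial.coeff (Finsupp.single i 1)) h1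
    rw [coeff_sum] at h4
    simp only [coeff_smul, coeff_X, coeff_zero] at h4
    by_cases hi : i ∈ (b.repr x).support
    · rw [Finset.sum_eq_single i] at h4
      · simpa using h4
      · intro j _ hji
        have : ¬ (Finsupp.single j 1 = Finsupp.single i 1) := by
          intro h
          apply hji
          have := Finsupp.single_left_injective (one_ne_zero) h
          exact this
        simp [this]
      · intro h; exact absurd hi h
    · simpa using Finsupp.notMem_support_iff.mp hi
  exact b.repr.map_eq_zero_iff.mp h3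

end Groth.Agent.Lib.helper1.PBW
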