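import Mathlib
import Groth.Agent.Lib.helper10.ModColim

set_option autoImplicit false
universe u
open CategoryTheory CategoryTheory.Limits AlgebraicGeometry TopologicalSpace Opposite

namespace Groth.Agent.Lib.helper1.PC

variable {N X : Scheme.{u}} (p : N ⟶ X) (q : X ⟶ N)

/-- The adjunction between inverse image functors on opens for mutually inverse maps. -/
noncomputable def opensAdj (h1 : q ≫ p = 𝟙 X) (h2 : Function.Surjective q) :
    Opens.map p.base ⊣ Opens.map q.base :=
  Adjunction.mkOfUnitCounit
    { unit :=
        { app := fun U => homOfLE (by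
            intro x hx
            change p (q x) ∈ U
            have : p (q x) = x := by
              rw [← Scheme.Hom.comp_apply, h1]; rfl
            rw [this]; exact hx)
          naturality := by intros; apply Subsingleton.elim }
      counit :=
        { app := fun V => homOfLE (by
            intro y hy
            change q (p y) ∈ V at hy
            obtain ⟨x, rfl⟩ := h2 y
            have : p (q x) = x := by
              rw [← Scheme.Hom.comp_apply, h1]; rfl
            rw [this] at hy; exact hy)
          naturality := by intros; apply Subsingleton.elim }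
      left_triangle := by ext; apply Subsingleton.elim
      right_triangle := by ext; apply Subsingleton.elim }

instance reflIso_toSheaf : (SheafOfModules.toSheaf.{u} X.ringCatSheaf).ReflectsIsomorphisms := by
  refine ⟨fun {A B} f hf => ?_⟩
  have : IsIso ((SheafOfModules.toSheaf.{u} X.ringCatSheaf ⋙
      sheafToPresheaf _ AddCommGrpCat.{u}).map f) := by
    rw [Functor.comp_map]; infer_instance
  have h2 : IsIso ((SheafOfModules.forget X.ringCatSheaf ⋙
      PresheafOfModules.toPresheaf X.ringCatSheaf.obj).map f) := this
  exact isIso_of_reflects_iso f (SheafOfModules.forget X.ringCatSheaf ⋙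
      PresheafOfModules.toPresheaf X.ringCatSheaf.obj)

theorem pushforward_preservesColimits (h1 : q ≫ p = 𝟙 X) (h2 : Function.Surjective q) :
    PreservesColimitsOfSize.{u, u} (Scheme.Modules.pushforward p) := by
  let A := (Opens.map p.base).sheafPushforwardContinuous AddCommGrpCat.{u}
    (Opens.grothendieckTopology X) (Opens.grothendieckTopology N)
  have adjS := Adjunction.sheafPushforwardContinuous (E := AddCommGrpCat.{u}) (opensAdj p q h1 h2)
    (Opens.grothendieckTopology X) (Opens.grothendieckTopology N)
  haveI : PreservesColimitsOfSize.{u, u} A := adjS.leftAdjoint_preservesColimits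
  haveI : PreservesColimitsOfSize.{u, u} (SheafOfModules.toSheaf.{u} N.ringCatSheaf) :=
    Groth.Agent.Lib.helper10.ModColim.toSheaf_preservesColimits _
  haveI : PreservesColimitsOfSize.{u, u} (SheafOfModules.toSheaf.{u} X.ringCatSheaf) :=
    Groth.Agent.Lib.helper10.ModColim.toSheaf_preservesColimits _
  haveI : HasColimitsOfSize.{u, u} (SheafOfModules.{u} X.ringCatSheaf) :=
    inferInstanceAs (HasColimitsOfSize.{u, u} X.Modules)
  have hrefl : ReflectsColimitsOfSize.{u, u} (SheafOfModules.toSheaf.{u} X.ringCatSheaf) :=
    reflectsColimits_of_reflectsIsomorphisms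
  have hcomp : PreservesColimitsOfSize.{u, u} (SheafOfModules.toSheaf.{u} N.ringCatSheaf ⋙ A) :=
    comp_preservesColimits _ _
  have h3 : PreservesColimitsOfSize.{u, u}
      (Scheme.Modules.pushforward p ⋙ SheafOfModules.toSheaf.{u} X.ringCatSheaf) := hcomp
  exact @preservesColimits_of_reflects_of_preserves _ _ _ _ _ _ (Scheme.Modules.pushforward p)
    (SheafOfModules.toSheaf.{u} X.ringCatSheaf) h3 hrefl

end Groth.Agent.Lib.helper1.PC
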