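import Groth.Prelude.Def_PLie
import Groth.Agent.Lib.helper1.PBW3
import Groth.Agent.Lib.helper1.JF3

/-!
# Jacobson's theorem on the existence of `p`-mappings
-/

namespace Groth.Agent.Lib.helper1.PLieLib

open Groth.Agent.Lib.helper1.JF Groth.Agent.Lib.helper1.PBW

universe u v w
variable {R : Type u} [CommRing R] (p : ℕ) [hp : Fact p.Prime] [CharP R p]
variable {L : Type v} [LieRing L] [LieAlgebra R L]
variable {A : Type w} [Ring A] [Algebra R A]

section Bridge
variable (e : L →ₗ[R] A) (he : ∀ x y : L, e ⁅x, y⁆ = e x * e y - e y * e x)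
include he

omit [Fact p.Prime] [CharP R p] in
theorem bracketWord_map (x : Bool → L) (x₁ : L) (w : List Bool) :
    e (PLie.bracketWord x x₁ w) = cword (fun t => e (x t)) (e x₁) w := by
  induction w with
  | nil => rfl
  | cons t w ih =>
    rw [PLie.bracketWord_cons, he, ih]
    rfl

omit [Fact p.Prime] [CharP R p] in
theorem pair_map (x₀ x₁ : L) :
    (fun t => e (PLie.pair x₀ x₁ t)) = pairA (e x₀) (e x₁) := by
  funext t
  cases t <;> simp [PLie.pair, pairA]

theorem jacobson_map (x₀ x₁ : L) :
    e (PLie.jacobson R p x₀ x₁) = jac (R := R) p (e x₀) (e x₁) := by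
  unfold PLie.jacobson jac
  rw [map_sum]
  apply Finset.sum_congr rfl
  intro t _
  rw [map_smul, bracketWord_map e he, pair_map e he]

omit [Fact p.Prime] [CharP R p] in
theorem ad_pow_map (x w : L) (n : ℕ) :
    e ((LieAlgebra.ad R L x ^ n) w) = (adf (e x))^[n] (e w) := by
  induction n generalizing w with
  | zero => simp
  | succ n ih =>
    rw [pow_succ', Module.End.mul_apply, LieAlgebra.ad_apply, he, Function.iterate_succ_apply', ih]
    rfl

end Bridge

omit [CharP R p] in
/-- in characteristic `p`, `(ad a)^p = ad (a^p)` -/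
theorem adf_iterate_p (hA : (p : A) = 0) (a c : A) :
    (adf a)^[p] c = adf (a ^ p) c := by
  have hpos := hp.out.pos
  have hp1 : p = (p - 1) + 1 := by omega
  conv_lhs => rw [hp1]
  rw [Function.iterate_succ_apply', ← sum_pow_mul_pow p hA]
  unfold adf
  rw [Finset.mul_sum, Finset.sum_mul, ← Finset.sum_sub_distrib]
  have h1 : ∀ j ∈ Finset.range p, a * (a ^ j * c * a ^ (p - 1 - j)) - a ^ j * c * a ^ (p - 1 - j) * a
      = (fun j => a ^ j * c * a ^ (p - j)) (j + 1) - (fun j => a ^ j * c * a ^ (p - j)) j := by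
    intro j hj
    have hj' := Finset.mem_range.mp hj
    simp only
    have e1 : p - (j + 1) = p - 1 - j := by omega
    have e2 : p - j = (p - 1 - j) + 1 := by omega
    rw [e1, e2, pow_succ a j, pow_succ a (p - 1 - j)]
    simp only [mul_assoc]
    rw [← mul_assoc a (a^j), ← pow_succ', pow_succ a j]
    simp only [mul_assoc]
  rw [Finset.sum_congr rfl h1, Finset.sum_range_sub (fun j => a ^ j * c * a ^ (p - j))]
  simp

end Groth.Agent.Lib.helper1.PLieLib
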