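import Groth.Agent.Lib.helper1.PLie1

/-!
# Jacobson's theorem on the existence of `p`-mappings: main construction
-/

namespace Groth.Agent.Lib.helper1.PLieLib

open Groth.Agent.Lib.helper1.JF Groth.Agent.Lib.helper1.PBW

universe u v w w'
variable {R : Type u} [CommRing R] (p : ℕ) [hp : Fact p.Prime] [CharP R p]
variable {L : Type v} [LieRing L] [LieAlgebra R L]

section adf
variable {A : Type w} [Ring A] [Algebra R A]

omit hp [CharP R p] in
theorem adf_sub_left (a a' c : A) : adf (a - a') c = adf a c - adf a' c := by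
  unfold adf; noncomm_ring

omit hp [CharP R p] in
theorem adf_smul_left (r : R) (a c : A) : adf (r • a) c = r • adf a c := by
  unfold adf; rw [smul_mul_assoc, mul_smul_comm, smul_sub]

omit hp [CharP R p] in
theorem adf_sum_left {κ : Type*} (s : Finset κ) (g : κ → A) (c : A) :
    adf (∑ i ∈ s, g i) c = ∑ i ∈ s, adf (g i) c := by
  unfold adf
  rw [Finset.sum_mul, Finset.mul_sum, Finset.sum_sub_distrib]

end adf

omit hp [CharP R p] in
theorem basis_induction' {ι : Type w'} (b : Module.Basis ι R L) {P : L → Prop}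
    (hb : ∀ i, P (b i)) (h0 : P 0)
    (hadd : ∀ x y, P x → P y → P (x + y)) (hsmul : ∀ (c : R) x, P x → P (c • x)) :
    ∀ x, P x := by
  intro x
  have hx : x ∈ Submodule.span R (Set.range b) := by rw [b.span_eq]; trivial
  induction hx using Submodule.span_induction with
  | mem x hx =>
    obtain ⟨i, rfl⟩ := hx
    exact hb i
  | zero => exact h0
  | add x y _ _ hx hy => exact hadd x y hx hy
  | smul c x _ hx => exact hsmul c x hx

section main
variable {A : Type w} [Ring A] [Algebra R A] (e : L →ₗ[R] A)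
  {ι : Type w'} (b : Module.Basis ι R L) (y : ι → L)

/-- the central elements `b_i^p - y_i` -/
noncomputable def zc (i : ι) : A := e (b i) ^ p - e (y i)

omit hp in
theorem zc_central [hp' : Fact p.Prime] (he : ∀ x y : L, e ⁅x, y⁆ = e x * e y - e y * e x)
    (hy : ∀ i, LieAlgebra.ad R L (b i) ^ p = LieAlgebra.ad R L (y i))
    (i : ι) (w : L) : adf (zc p e b y i) (e w) = 0 := by
  unfold zc
  rw [adf_sub_left, ← adf_iterate_p p (natCast_eq_zero_of_algebra R p), ← ad_pow_map e he, hy,
    LieAlgebra.ad_apply, he]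
  unfold adf
  rw [sub_self]

/-- the `p`-semilinear map -/
noncomputable def fc (x : L) : A := (b.repr x).sum (fun i c => c ^ p • zc p e b y i)

theorem fc_add (x x' : L) : fc p e b y (x + x') = fc p e b y x + fc p e b y x' := by
  unfold fc
  rw [map_add, Finsupp.sum_add_index']
  · intro i
    rw [zero_pow hp.out.ne_zero, zero_smul]
  · intro i c d
    rw [add_pow_char c d p, add_smul]

theorem fc_smul (c : R) (x : L) : fc p e b y (c • x) = c ^ p • fc p e b y x := by
  unfold fc
  rw [map_smul, Finsupp.sum_smul_index', Finsupp.smul_sum]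
  · apply Finsupp.sum_congr
    intro i _
    rw [smul_eq_mul, mul_pow, mul_smul]
  · intro i
    rw [zero_pow hp.out.ne_zero, zero_smul]

theorem fc_basis (i : ι) : fc p e b y (b i) = zc p e b y i := by
  unfold fc
  rw [b.repr_self, Finsupp.sum_single_index]
  · rw [one_pow, one_smul]
  · rw [zero_pow hp.out.ne_zero, zero_smul]

theorem fc_central (he : ∀ x y : L, e ⁅x, y⁆ = e x * e y - e y * e x)
    (hy : ∀ i, LieAlgebra.ad R L (b i) ^ p = LieAlgebra.ad R L (y i))
    (x w : L) : adf (fc p e b y x) (e w) = 0 := by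
  unfold fc Finsupp.sum
  rw [adf_sum_left]
  apply Finset.sum_eq_zero
  intro i _
  rw [adf_smul_left, zc_central p e b y he hy, smul_zero]

theorem key (he : ∀ x y : L, e ⁅x, y⁆ = e x * e y - e y * e x)
    (x : L) : ∃ y' : L, e y' = e x ^ p - fc p e b y x := by
  refine basis_induction' b (P := fun x => ∃ y' : L, e y' = e x ^ p - fc p e b y x) ?_ ?_ ?_ ?_ x
  · intro i
    refine ⟨y i, ?_⟩
    rw [fc_basis]
    unfold zc
    abel
  · refine ⟨0, ?_⟩
    have : fc p e b y 0 = 0 := by
      have := fc_smul p e b y 0 0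
      rwa [zero_smul, zero_pow hp.out.ne_zero, zero_smul] at this
    rw [map_zero, this, zero_pow hp.out.ne_zero, sub_zero]
  · rintro x x' ⟨y₁, h₁⟩ ⟨y₂, h₂⟩
    refine ⟨y₁ + y₂ - PLie.jacobson R p x x', ?_⟩
    rw [map_sub, map_add, jacobson_map p e he, h₁, h₂, map_add, add_pow_eq (R := R) p, fc_add]
    abel
  · rintro c x ⟨y₁, h₁⟩
    refine ⟨c ^ p • y₁, ?_⟩
    rw [map_smul, h₁, map_smul, smul_pow, fc_smul, smul_sub]

/-- the value of the `p`-map -/
noncomputable def phi (he : ∀ x y : L, e ⁅x, y⁆ = e x * e y - e y * e x) (x : L) : L :=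
  Classical.choose (key p e b y he x)

theorem phi_spec (he : ∀ x y : L, e ⁅x, y⁆ = e x * e y - e y * e x) (x : L) :
    e (phi p e b y he x) = e x ^ p - fc p e b y x :=
  Classical.choose_spec (key p e b y he x)

/-- **Jacobson's theorem**, given a faithful associative envelope. -/
theorem exists_pmap_of_faithful (hinj : Function.Injective e)
    (he : ∀ x y : L, e ⁅x, y⁆ = e x * e y - e y * e x)
    (hy : ∀ i, LieAlgebra.ad R L (b i) ^ p = LieAlgebra.ad R L (y i)) :
    ∃ φ : PLie.PMap R p L, ∀ i, φ (b i) = y i := by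
  refine ⟨⟨phi p e b y he, ?_, ?_, ?_⟩, ?_⟩
  · intro c x
    apply hinj
    rw [phi_spec, map_smul, map_smul, phi_spec, smul_pow, fc_smul, smul_sub]
  · intro x
    apply LinearMap.ext
    intro w
    apply hinj
    rw [LieAlgebra.ad_apply, he, phi_spec, ad_pow_map e he]
    have h2 := fc_central p e b y he hy x w
    unfold adf at h2
    rw [adf_iterate_p p (natCast_eq_zero_of_algebra R p)]
    unfold adf
    rw [sub_mul, mul_sub]
    have h3 : fc p e b y x * e w = e w * fc p e b y x := by
      rw [← sub_eq_zero]; exact h2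
    rw [h3]
    abel
  · intro x₀ x₁
    apply hinj
    rw [phi_spec, map_sub, map_add, map_add, phi_spec, phi_spec, jacobson_map p e he,
      add_pow_eq (R := R) p, fc_add]
    abel
  · intro i
    apply hinj
    show e (phi p e b y he (b i)) = e (y i)
    rw [phi_spec, fc_basis]
    unfold zc
    abel

end main

/-- **Jacobson's theorem** for Lie algebras which are free as modules. -/
theorem exists_pmap {ι : Type w'} (b : Module.Basis ι R L) (y : ι → L)
    (hy : ∀ i, LieAlgebra.ad R L (b i) ^ p = LieAlgebra.ad R L (y i)) :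
    ∃ φ : PLie.PMap R p L, ∀ i, φ (b i) = y i := by
  classical
  letI : LinearOrder ι := linearOrderOfSTO WellOrderingRel
  refine exists_pmap_of_faithful p (A := Module.End R (MvPolynomial ι R)) (Rho b) b y
    (Rho_injective b) ?_ hy
  intro x x'
  apply LinearMap.ext
  intro u
  rw [Rho_lie, LinearMap.sub_apply, Module.End.mul_apply, Module.End.mul_apply]

end Groth.Agent.Lib.helper1.PLieLib
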