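import Groth.Agent.Lib.helper1.PLie2

/-!
# Uniqueness of `p`-mappings with given values on a basis; extensionality
-/

namespace Groth.Agent.Lib.helper1.PLieLib

universe u v w w'
variable {R : Type u} [CommRing R] (p : ℕ) [hp : Fact p.Prime] [CharP R p]
variable {L : Type v} [LieRing L] [LieAlgebra R L]

omit hp in
theorem PMap_ext {φ ψ : PLie.PMap R p L} (h : ∀ x, φ x = ψ x) : φ = ψ := by
  cases φ with
  | mk f a1 a2 a3 =>
    cases ψ with
    | mk g b1 b2 b3 =>
      have : f = g := funext h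
      subst this
      rfl

theorem PMap_zero (φ : PLie.PMap R p L) : φ 0 = 0 := by
  have := φ.map_smul 0 0
  rw [zero_smul, zero_pow hp.out.ne_zero, zero_smul] at this
  exact this

theorem PMap_eq_of_basis {ι : Type w'} (b : Module.Basis ι R L) (φ ψ : PLie.PMap R p L)
    (h : ∀ i, φ (b i) = ψ (b i)) : φ = ψ := by
  apply PMap_ext
  refine basis_induction' b (P := fun x => φ x = ψ x) h ?_ ?_ ?_
  · rw [PMap_zero, PMap_zero]
  · intro x y hx hy
    show φ.toFun (x + y) = ψ.toFun (x + y)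
    rw [φ.map_add, ψ.map_add]
    show φ x + φ y - _ = ψ x + ψ y - _
    rw [hx, hy]
  · intro c x hx
    show φ.toFun (c • x) = ψ.toFun (c • x)
    rw [φ.map_smul, ψ.map_smul]
    show c ^ p • φ x = c ^ p • ψ x
    rw [hx]

/-- **Jacobson's theorem**: existence and uniqueness. -/
theorem existsUnique_pmap {ι : Type w'} (b : Module.Basis ι R L) (y : ι → L)
    (hy : ∀ i, LieAlgebra.ad R L (b i) ^ p = LieAlgebra.ad R L (y i)) :
    ∃! φ : PLie.PMap R p L, ∀ i, φ (b i) = y i := by
  obtain ⟨φ, hφ⟩ := exists_pmap p b y hy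
  refine ⟨φ, hφ, ?_⟩
  intro ψ hψ
  apply PMap_eq_of_basis p b
  intro i
  rw [hψ, hφ]

end Groth.Agent.Lib.helper1.PLieLib
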