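import Groth.Prelude.Def_OmegaPn

set_option autoImplicit false
universe u
open CategoryTheory CategoryTheory.Limits AlgebraicGeometry TopologicalSpace Opposite

namespace Groth.Agent.Lib.helper1.PP

/-- Pulling sections back along an isomorphism is an isomorphism. -/
theorem isIso_pullSect_of_isIso {X' X : Scheme.{u}} (h : X' ⟶ X) [IsIso h] (M : X.Modules)
    (U : X.Opens) : IsIso (OmegaSh.pullSect h M U) := by
  have key := Adjunction.unit_leftAdjointUniq_hom_app (Scheme.Modules.restrictAdjunction h)
    (Scheme.Modules.pullbackPushforwardAdjunction h) M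
  have e : OmegaSh.pullSect h M U =
      ((Scheme.Modules.restrictAdjunction h).unit.app M).app U ≫
        ((Scheme.Modules.pushforward h).map
          (((Scheme.Modules.restrictAdjunction h).leftAdjointUniq
            (Scheme.Modules.pullbackPushforwardAdjunction h)).hom.app M)).app U := by
    rw [← Scheme.Modules.Hom.comp_app, key]
  rw [e]
  have h1 : IsIso (((Scheme.Modules.restrictAdjunction h).unit.app M).app U) := by
    rw [Scheme.Modules.restrictAdjunction_unit_app_app]
    have heq : h ''ᵁ h ⁻¹ᵁ U = U := by
      apply le_antisymm (h.image_preimage_le U)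
      intro x hx
      obtain ⟨y, rfl⟩ := h.surjective x
      exact ⟨y, hx, rfl⟩
    have i1 : IsIso (homOfLE (h.image_preimage_le U)) :=
      ⟨⟨homOfLE heq.ge, by subsingleton, by subsingleton⟩⟩
    have i2 : IsIso (homOfLE (h.image_preimage_le U)).op := inferInstance
    exact Functor.map_isIso M.presheaf _
  have h2 : IsIso ((Scheme.Modules.pushforward h).map
          (((Scheme.Modules.restrictAdjunction h).leftAdjointUniq
            (Scheme.Modules.pullbackPushforwardAdjunction h)).hom.app M)) := inferInstance
  have h3 : IsIso (((Scheme.Modules.pushforward h).map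
          (((Scheme.Modules.restrictAdjunction h).leftAdjointUniq
            (Scheme.Modules.pullbackPushforwardAdjunction h)).hom.app M)).app U) :=
    Scheme.Modules.Hom.isIso_iff_isIso_app.mp h2 _
  exact IsIso.comp_isIso' h1 h3

end Groth.Agent.Lib.helper1.PP

namespace Groth.Agent.Lib.helper1.PP

theorem isIso_toInfNbhd_zero {X Y : Scheme.{u}} (i : Y ⟶ X) [IsClosedImmersion i] :
    IsIso (PrinPart.toInfNbhd i 0) := by
  have hle : i.ker ≤ i.ker ^ (0 + 1) := by rw [zero_add, pow_one]
  have h1 : IsIso (Scheme.IdealSheafData.inclusion (PrinPart.ker_pow_succ_le i 0)) :=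
    ⟨⟨Scheme.IdealSheafData.inclusion hle, by
      rw [Scheme.IdealSheafData.inclusion_comp, Scheme.IdealSheafData.inclusion_id], by
      rw [Scheme.IdealSheafData.inclusion_comp, Scheme.IdealSheafData.inclusion_id]⟩⟩
  unfold PrinPart.toInfNbhd
  infer_instance

theorem isIso_pr2_zero {X S : Scheme.{u}} (f : X ⟶ S) : IsIso (PrinPart.pr2 f 0) := by
  have h1 : IsIso (PrinPart.toNbhd f 0) := isIso_toInfNbhd_zero _
  have h2 : IsIso (PrinPart.toNbhd f 0 ≫ PrinPart.pr2 f 0) := by
    rw [PrinPart.toNbhd_pr2]; infer_instance
  exact IsIso.of_isIso_comp_left (PrinPart.toNbhd f 0) (PrinPart.pr2 f 0)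

end Groth.Agent.Lib.helper1.PP
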