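import Groth.Agent.Lib.helper1.PP1

set_option autoImplicit false
universe u
open CategoryTheory CategoryTheory.Limits AlgebraicGeometry TopologicalSpace Opposite

namespace Groth.Agent.Lib.helper1.PP

variable {X S : Scheme.{u}} (f : X ⟶ S)

theorem pr1_eq_pr2_zero : PrinPart.pr1 f 0 = PrinPart.pr2 f 0 := by
  haveI : IsIso (PrinPart.toNbhd f 0) := isIso_toInfNbhd_zero _
  exact (cancel_epi (PrinPart.toNbhd f 0)).mp (by rw [PrinPart.toNbhd_pr1, PrinPart.toNbhd_pr2])

theorem app_congr {X' : Scheme.{u}} (p q : X' ⟶ X) (h : p = q) (U : X.Opens)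
    (e : p ⁻¹ᵁ U ≤ q ⁻¹ᵁ U) (a : Γ(X, U)) :
    X'.presheaf.map (homOfLE e).op (q.app U a) = p.app U a := by
  subst h
  have : homOfLE e = 𝟙 _ := rfl
  rw [this]
  simp

/-- `d^0` is `O_X`-linear. -/
theorem dP_zero_smul (F : X.Modules) (U : X.Opens) (a : Γ(X, U)) (t : Γ(F, U)) :
    PrinPart.dP f 0 F U (a • t) = a • PrinPart.dP f 0 F U t := by
  rw [PrinPart.dP_apply, PrinPart.dP_apply, OmegaSh.pullSect_smul, Scheme.Modules.map_smul,
    app_congr _ _ (pr1_eq_pr2_zero f)]
  rfl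

end Groth.Agent.Lib.helper1.PP

namespace Groth.Agent.Lib.helper1.PP

variable {X S : Scheme.{u}} (f : X ⟶ S)

/-- A linear morphism of abelian presheaves between `O_X`-modules comes from a morphism of modules. -/
noncomputable def homOfLinear {F G : X.Modules} (v : F.presheaf ⟶ G.presheaf)
    (hv : ∀ (U : X.Opens) (a : Γ(X, U)) (t : Γ(F, U)), v.app (op U) (a • t) = a • v.app (op U) t) :
    F ⟶ G :=
  ⟨PresheafOfModules.homMk (M₁ := F.val) (M₂ := G.val) v (fun U a t => hv U.unop a t)⟩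

theorem homOfLinear_app {F G : X.Modules} (v : F.presheaf ⟶ G.presheaf)
    (hv : ∀ (U : X.Opens) (a : Γ(X, U)) (t : Γ(F, U)), v.app (op U) (a • t) = a • v.app (op U) t)
    (U : X.Opens) (t : Γ(F, U)) : (homOfLinear v hv).app U t = v.app (op U) t := rfl

theorem isIso_dPHom_zero (F : X.Modules) : IsIso (PrinPart.dPHom f 0 F) := by
  rw [NatTrans.isIso_iff_isIso_app]
  intro U
  rw [ConcreteCategory.isIso_iff_bijective]
  have i0 := isIso_pr2_zero f
  have h1 := isIso_pullSect_of_isIso (PrinPart.pr2 f 0) F U.unop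
  have i1 : IsIso (homOfLE (PrinPart.preimage_pr1 f 0 U.unop).le) :=
    ⟨⟨homOfLE (PrinPart.preimage_pr1 f 0 U.unop).ge, by subsingleton, by subsingleton⟩⟩
  have i2 : IsIso (homOfLE (PrinPart.preimage_pr1 f 0 U.unop).le).op := inferInstance
  have h2 : IsIso (((Scheme.Modules.pullback (PrinPart.pr2 f 0)).obj F).presheaf.map
      (homOfLE (PrinPart.preimage_pr1 f 0 U.unop).le).op) := Functor.map_isIso _ _
  have b1 := ConcreteCategory.bijective_of_isIso (OmegaSh.pullSect (PrinPart.pr2 f 0) F U.unop)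
  have b2 := ConcreteCategory.bijective_of_isIso
    (((Scheme.Modules.pullback (PrinPart.pr2 f 0)).obj F).presheaf.map
      (homOfLE (PrinPart.preimage_pr1 f 0 U.unop).le).op)
  exact b2.comp b1

end Groth.Agent.Lib.helper1.PP
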