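import Groth.Agent.Lib.helper1.PP1

set_option autoImplicit false
universe u
open CategoryTheory CategoryTheory.Limits AlgebraicGeometry TopologicalSpace Opposite

namespace Groth.Agent.Lib.helper1.PP

theorem pow_le_map_pow {W : Scheme.{u}} (K : W.IdealSheafData) (t : W ⟶ W) [IsIso t]
    (h : K.map t = K) (m : ℕ) : K ^ m ≤ (K ^ m).map t := by
  intro U
  rw [Scheme.IdealSheafData.ideal_map_of_isAffineHom]
  change (K.ideal U) ^ m ≤ Ideal.comap _ ((K.ideal _) ^ m)
  have h2 : K.ideal U = (K.map t).ideal U := by rw [h]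
  rw [h2, Scheme.IdealSheafData.ideal_map_of_isAffineHom]
  exact Ideal.le_comap_pow _ _

variable {X S : Scheme.{u}} (f : X ⟶ S)

theorem symm_diag : pullback.diagonal f ≫ (pullbackSymmetry f f).hom = pullback.diagonal f := by
  apply pullback.hom_ext <;> simp

theorem symm_symm : (pullbackSymmetry f f).hom ≫ (pullbackSymmetry f f).hom = 𝟙 _ := by
  apply pullback.hom_ext <;> simp

theorem coborder_le :
    (pullback.diagonal f).coborderRange ≤
      (pullbackSymmetry f f).hom ⁻¹ᵁ (pullback.diagonal f).coborderRange := by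
  have hpre : (pullbackSymmetry f f).hom ⁻¹' (Set.range (pullback.diagonal f)) =
      Set.range (pullback.diagonal f) := by
    ext x
    constructor
    · rintro ⟨y, hy⟩
      refine ⟨y, ?_⟩
      have h1 : (pullbackSymmetry f f).hom ((pullbackSymmetry f f).hom x) = x := by
        rw [← Scheme.Hom.comp_apply, symm_symm]; rfl
      rw [← h1, ← hy, ← Scheme.Hom.comp_apply, symm_diag]
    · rintro ⟨y, rfl⟩
      refine ⟨y, ?_⟩
      rw [← Scheme.Hom.comp_apply, symm_diag]
  intro x hx
  change (pullbackSymmetry f f).hom x ∈ coborder (Set.range (pullback.diagonal f))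
  have h3 := coborder_preimage (f := (pullbackSymmetry f f).hom)
    ((pullbackSymmetry f f).hom.homeomorph.isOpenMap) ((pullbackSymmetry f f).hom.continuous)
    (Set.range (pullback.diagonal f))
  rw [hpre] at h3
  have : x ∈ (pullbackSymmetry f f).hom ⁻¹' coborder (Set.range (pullback.diagonal f)) := by
    rw [← h3]; exact hx
  exact this

/-- The symmetry restricted to the coborder open of the diagonal. -/
noncomputable def tau' : ((pullback.diagonal f).coborderRange : Scheme.{u}) ⟶
    ((pullback.diagonal f).coborderRange : Scheme.{u}) :=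
  (pullbackSymmetry f f).hom.resLE _ _ (coborder_le f)

theorem tau'_ι : tau' f ≫ (pullback.diagonal f).coborderRange.ι =
    (pullback.diagonal f).coborderRange.ι ≫ (pullbackSymmetry f f).hom :=
  Scheme.Hom.resLE_comp_ι _ _

theorem tau'_tau' : tau' f ≫ tau' f = 𝟙 _ := by
  rw [← cancel_mono (pullback.diagonal f).coborderRange.ι, Category.assoc, tau'_ι,
    reassoc_of% (tau'_ι f), symm_symm]
  simp

instance : IsIso (tau' f) := ⟨tau' f, tau'_tau' f, tau'_tau' f⟩

theorem diagCl_tau' : PrinPart.diagCl f ≫ tau' f = PrinPart.diagCl f := by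
  rw [← cancel_mono (pullback.diagonal f).coborderRange.ι, Category.assoc, tau'_ι,
    Scheme.Hom.liftCoborder_ι_assoc, symm_diag, Scheme.Hom.liftCoborder_ι]

theorem ker_map : (PrinPart.diagCl f).ker.map (tau' f) = (PrinPart.diagCl f).ker := by
  rw [Scheme.IdealSheafData.map_ker, diagCl_tau']

/-- The symmetry of the infinitesimal neighbourhood of the diagonal. -/
noncomputable def sigma (n : ℕ) : PrinPart.nbhd f n ⟶ PrinPart.nbhd f n :=
  Scheme.IdealSheafData.subschemeMap _ _ (tau' f) (pow_le_map_pow _ _ (ker_map f) (n + 1))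

theorem sigma_ι (n : ℕ) : sigma f n ≫ PrinPart.nbhdι f n =
    PrinPart.nbhdι f n ≫ (pullbackSymmetry f f).hom := by
  rw [PrinPart.nbhdι, PrinPart.infNbhdι, sigma,
    Scheme.IdealSheafData.subschemeMap_subschemeι_assoc, tau'_ι, Category.assoc]

theorem mono_nbhdι (n : ℕ) : Mono (PrinPart.nbhdι f n) := by
  rw [PrinPart.nbhdι, PrinPart.infNbhdι]
  infer_instance

end Groth.Agent.Lib.helper1.PP
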