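import Mathlib
import Groth.Agent.Lib.helper1.Cyclic12
import Groth.Agent.Lib.helper1.Cyclic3
import Groth.Agent.Lib.helper1.CSA10
import Groth.Agent.Lib.helper17.CSA

/-!
# Degree-two division algebras are quaternion algebras; algebras with an anti-automorphism
(helper library of seat helper1)
-/

set_option autoImplicit false
set_option linter.unusedSectionVars false
universe u v w

namespace Groth.Agent.Lib.helper1.Quat

open TensorProduct Groth.Agent.Lib.helper1.CSA Groth.Agent.Lib.helper1.Cyclic
open scoped Quaternion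

/-- A central simple algebra isomorphic to its opposite has split tensor square. -/
theorem splits_tensor_self_of_algEquiv_op (k : Type u) [Field k] (X : Type v) [Ring X]
    [Algebra k X] [Algebra.IsCentral k X] [IsSimpleRing X] [FiniteDimensional k X]
    (s : X ≃ₐ[k] Xᵐᵒᵖ) : Curves.Splits k (X ⊗[k] X) k := by
  classical
  let μ : (X ⊗[k] Xᵐᵒᵖ) ≃ₐ[k] Module.End k X :=
    AlgEquiv.ofBijective (AlgHom.mulLeftRight k X)
      (Groth.Agent.Lib.helper17.CSA.mulLeftRight_bijective k X)
  let b := Module.finBasis k X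
  have hpos : 0 < Module.finrank k X := Module.finrank_pos
  refine ⟨Module.finrank k X, hpos.ne', ⟨?_⟩⟩
  exact (Algebra.TensorProduct.lid k (X ⊗[k] X)).trans <|
    (Algebra.TensorProduct.congr AlgEquiv.refl s).trans <| μ.trans (LinearMap.toMatrixAlgEquiv b)

/-- A central division algebra of dimension 4 over a field in which `2 ≠ 0` is a quaternion
algebra. -/
theorem exists_quaternion_of_degree_two (k : Type u) [Field k] (h2 : (2 : k) ≠ 0)
    (D : Type v) [DivisionRing D] [Algebra k D] [Algebra.IsCentral k D] [FiniteDimensional k D]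
    (hD : Module.finrank k D = 4) :
    ∃ a b : k, Nonempty (ℍ[k, a, 0, b] ≃ₐ[k] D) := by
  classical
  obtain ⟨L, hcomm, hmax, hsep⟩ := exists_separable_maximal_comm k D
  letI : Field L := fieldOfComm L hcomm
  have hdim : Module.finrank k D = Module.finrank k L ^ 2 := Groth.Agent.S0196.result k D L hcomm hmax
  have hL : Module.finrank k L = 2 := by
    have : Module.finrank k L ^ 2 = 2 ^ 2 := by rw [← hdim, hD]; norm_num
    exact Nat.pow_left_injective (n := 2) (by norm_num) this
  haveI : Algebra.IsQuadraticExtension k L := ⟨hL⟩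
  haveI : IsGalois k L := inferInstance
  obtain ⟨σ, hσ⟩ := IsCyclic.exists_generator (α := L ≃ₐ[k] L)
  have hdim' : Module.finrank k D = Module.finrank k L ^ 2 := hdim
  obtain ⟨b, hb⟩ := isCyclicAlg_of_algHom k L σ hσ D L.val hdim'
  -- σ has order 2 and is nontrivial
  have hσ2 : σ ^ 2 = 1 := by
    have := sigma_pow_finrank σ hσ
    rwa [hL] at this
  have hσne : σ ≠ 1 := by
    intro h1
    have hcard : Nat.card (L ≃ₐ[k] L) = 2 := by rw [IsGalois.card_aut_eq_finrank, hL]
    have hsub : Subsingleton (L ≃ₐ[k] L) := ⟨fun x y => by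
      have hx := hσ x
      have hy := hσ y
      rw [h1, Subgroup.zpowers_one_eq_bot, Subgroup.mem_bot] at hx hy
      rw [hx, hy]⟩
    have : Nat.card (L ≃ₐ[k] L) ≤ 1 := Finite.card_le_one_iff_subsingleton.2 hsub
    omega
  obtain ⟨x₀, hx₀⟩ : ∃ x₀ : L, σ x₀ ≠ x₀ := by
    by_contra hcon
    push Not at hcon
    exact hσne (AlgEquiv.ext hcon)
  set α : L := x₀ - σ x₀ with hα
  have hσσ : ∀ x : L, σ (σ x) = x := by
    intro x
    have : (σ ^ 2) x = x := by rw [hσ2]; rfl
    rwa [pow_two] at this
  have hσα : σ α = -α := by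
    rw [hα, map_sub, hσσ]; ring
  have hα0 : α ≠ 0 := by
    rw [hα]; intro h; exact hx₀ (sub_eq_zero.1 h).symm
  -- α ∉ k, so `k(α) = L`
  have hαk : α ∉ (⊥ : IntermediateField k L) := by
    intro hmem
    rw [IntermediateField.mem_bot] at hmem
    obtain ⟨r, hr⟩ := hmem
    have : σ α = α := by rw [← hr, AlgEquiv.commutes]
    rw [hσα] at this
    have h2α : (2 : L) * α = 0 := by
      have : α + α = 0 := by nth_rewrite 1 [← this]; ring
      rw [two_mul]; exact this
    rcases mul_eq_zero.1 h2α with h | h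
    · apply h2
      have : algebraMap k L 2 = 0 := by rw [map_ofNat]; exact h
      exact (map_eq_zero (algebraMap k L)).1 this
    · exact hα0 h
  have hgen : IntermediateField.adjoin k ({α} : Set L) = ⊤ := by
    haveI := IntermediateField.isSimpleOrder_of_finrank_prime (F := k) (E := L)
      (by rw [hL]; exact Nat.prime_two)
    rcases eq_bot_or_eq_top (IntermediateField.adjoin k ({α} : Set L)) with h | h
    · exfalso; apply hαk; rw [← h]; exact IntermediateField.mem_adjoin_simple_self k α
    · exact h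
  -- α² ∈ k
  obtain ⟨a, ha⟩ : α ^ 2 ∈ Set.range (algebraMap k L) :=
    mem_range_of_sigma_fixed σ hσ (α ^ 2) (by rw [map_pow, hσα]; ring)
  obtain ⟨ι, y, hy, hrel, hadj, -⟩ := exists_generators_of_isCyclicAlg σ b α hgen hb
  rw [hL] at hy
  -- the quaternion basis
  let q : QuaternionAlgebra.Basis D a 0 (b : k) :=
    { i := ι α
      j := y
      k := ι α * y
      i_mul_i := by
        rw [zero_smul, add_zero, ← map_mul, ← pow_two, ← ha, AlgHom.commutes,
          Algebra.algebraMap_eq_smul_one]
      j_mul_j := by rw [← pow_two, hy, Algebra.algebraMap_eq_smul_one]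
      i_mul_j := rfl
      j_mul_i := by
        rw [zero_smul, zero_sub, hrel, hσα, map_neg, mul_neg, neg_neg] }
  let f : ℍ[k, a, 0, b] →ₐ[k] D := q.liftHom
  have hfi : f ⟨0, 1, 0, 0⟩ = ι α := by
    simp [f, QuaternionAlgebra.Basis.liftHom, QuaternionAlgebra.Basis.lift]; rfl
  have hfj : f ⟨0, 0, 1, 0⟩ = y := by
    simp [f, QuaternionAlgebra.Basis.liftHom, QuaternionAlgebra.Basis.lift]; rfl
  have hsurj : Function.Surjective f := by
    rw [← AlgHom.range_eq_top, eq_top_iff, ← hadj]
    refine Algebra.adjoin_le ?_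
    rintro z (rfl | rfl)
    · exact ⟨_, hfi⟩
    · exact ⟨_, hfj⟩
  have hbij : Function.Bijective f := by
    refine ⟨?_, hsurj⟩
    exact (LinearMap.injective_iff_surjective_of_finrank_eq_finrank
      (f := f.toLinearMap) (by rw [QuaternionAlgebra.finrank_eq_four, hD])).2 hsurj
  exact ⟨a, b, ⟨AlgEquiv.ofBijective f hbij⟩⟩

end Groth.Agent.Lib.helper1.Quat
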