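import Mathlib
import Groth.Prelude.Def_ModelsG

/-! A section through a point: `Spec V ⟶ X` over `Spec R` gives a local homomorphism
`O_{X,y} → V` compatible with `R`. -/

open AlgebraicGeometry CategoryTheory IsLocalRing

universe u

namespace Groth.Agent.Lib.helper1.RG

variable (R : Type u) [CommRing R] [IsDomain R] [IsDiscreteValuationRing R]
  (YR : Over (Spec (CommRingCat.of R)))
  (V : Type u) [CommRing V] [IsLocalRing V] [Algebra R V]
  (σ : Spec (CommRingCat.of V) ⟶ YR.left)
  (hσ : σ ≫ YR.hom = Spec.map (CommRingCat.ofHom (algebraMap R V)))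

include hσ in
lemma stalkClosedPointTo_stalkHom (r : R) :
    (Scheme.stalkClosedPointTo σ).hom
      (Models.stalkHom R YR (σ.base (closedPoint V)) r) = algebraMap R V r := by
  have h1 := Scheme.germ_stalkClosedPointTo σ ⊤ trivial
  have h2 : (Scheme.stalkClosedPointTo σ).hom
      ((YR.left.presheaf.germ ⊤ (σ.base (closedPoint V)) trivial).hom
        (Coh.toGlobal YR.hom r)) = _ := congr(($h1).hom (Coh.toGlobal YR.hom r))
  change (Scheme.stalkClosedPointTo σ).hom
      ((YR.left.presheaf.germ ⊤ (σ.base (closedPoint V)) trivial).hom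
        (Coh.toGlobal YR.hom r)) = _
  rw [h2]
  have h3 : (σ ≫ YR.hom).appTop = (Spec.map (CommRingCat.ofHom (algebraMap R V))).appTop := by
    rw [hσ]
  have h4 := Scheme.ΓSpecIso_naturality (CommRingCat.ofHom (algebraMap R V))
  have h5 : (Scheme.ΓSpecIso (CommRingCat.of V)).hom.hom
      ((Spec.map (CommRingCat.ofHom (algebraMap R V))).appTop.hom
        ((Scheme.ΓSpecIso (CommRingCat.of R)).inv.hom r)) = algebraMap R V r := by
    have := congr(($h4).hom ((Scheme.ΓSpecIso (CommRingCat.of R)).inv.hom r))
    simp only [CommRingCat.hom_comp, RingHom.coe_comp, Function.comp_apply] at this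
    rw [this]
    have e : (Scheme.ΓSpecIso (CommRingCat.of R)).hom.hom
        ((Scheme.ΓSpecIso (CommRingCat.of R)).inv.hom r) = r := by
      have := congr(($((Scheme.ΓSpecIso (CommRingCat.of R)).inv_hom_id)).hom r)
      simpa using this
    rw [e]
    rfl
  rw [← h5, ← h3]
  simp [Coh.toGlobal]
  rfl

end Groth.Agent.Lib.helper1.RG
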