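import Groth.Prelude.Def_RegImm
import Groth.Agent.S15821

set_option autoImplicit false
universe u
open CategoryTheory AlgebraicGeometry

namespace Groth.Agent.Lib.helper1.RI

/-- kinds regular and koszul give Koszul-regular sequences -/
theorem seq_koszul_of {R : Type u} [CommRing R] (k : RegImm.Kind)
    (hk : k = RegImm.Kind.regular ∨ k = RegImm.Kind.koszul) (rs : List R) (h : k.Seq R rs) :
    RegImm.Kind.koszul.Seq R rs := by
  rcases hk with rfl | rfl
  · exact (Groth.Agent.S15821.result R rs h.toIsWeaklyRegular).1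
  · exact h

theorem isRegularImmersionAt_comp_iso {Z' Z X : Scheme.{u}} (k : RegImm.Kind)
    (hk : k = RegImm.Kind.regular ∨ k = RegImm.Kind.koszul)
    (j : Z' ⟶ Z) [IsIso j] (i : Z ⟶ X) (z' : Z')
    (h : RegImm.IsRegularImmersionAt k i (j z')) :
    RegImm.IsRegularImmersionAt RegImm.Kind.koszul (j ≫ i) z' := by
  obtain ⟨U, hzU, hcl, rs, hrs, hker⟩ := h
  refine ⟨U, ?_, ?_, rs, seq_koszul_of k hk rs hrs, ?_⟩
  · simpa using hzU
  · rw [morphismRestrict_comp]
    haveI : IsIso (j ∣_ i ⁻¹ᵁ U.1) := inferInstance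
    haveI : IsClosedImmersion (j ∣_ i ⁻¹ᵁ U.1) := inferInstance
    exact IsClosedImmersion.comp (j ∣_ i ⁻¹ᵁ U.1) (i ∣_ U.1)
  · rw [← hker]
    have e : ∀ x, ((j ≫ i).app U.1).hom x = (j.app (i ⁻¹ᵁ U.1)).hom ((i.app U.1).hom x) :=
      fun x => by rw [Scheme.Hom.comp_app]; rfl
    have hinj : Function.Injective (j.app (i ⁻¹ᵁ U.1)).hom :=
      (ConcreteCategory.bijective_of_isIso (j.app (i ⁻¹ᵁ U.1))).injective
    ext x
    rw [RingHom.mem_ker, RingHom.mem_ker, e]
    constructor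
    · intro h0
      exact hinj (h0.trans (map_zero _).symm)
    · intro h0
      rw [h0]
      exact map_zero _

theorem isRegularImmersion_comp_iso {Z' Z X : Scheme.{u}} (k : RegImm.Kind)
    (hk : k = RegImm.Kind.regular ∨ k = RegImm.Kind.koszul)
    (j : Z' ⟶ Z) [IsIso j] (i : Z ⟶ X) (h : RegImm.IsRegularImmersion k i) :
    RegImm.IsRegularImmersion RegImm.Kind.koszul (j ≫ i) := by
  have := h.1
  exact ⟨inferInstance, fun z' => isRegularImmersionAt_comp_iso k hk j i z' (h.2 (j z'))⟩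

end Groth.Agent.Lib.helper1.RI
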