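import Groth.Agent.Lib.helper1.PLie3

/-!
# Restricted PBW, part 1: the central operators `z_i` on the PBW module and their leading terms
-/

namespace Groth.Agent.Lib.helper1.RPBW

open MvPolynomial Groth.Agent.Lib.helper1.PBW Groth.Agent.Lib.helper1.JF
  Groth.Agent.Lib.helper1.PLieLib

universe u v w
variable {R : Type u} [CommRing R] (p : ℕ) [hp : Fact p.Prime] [CharP R p]
variable {L : Type v} [LieRing L] [LieAlgebra R L]
variable {ι : Type w} [LinearOrder ι] (b : Module.Basis ι R L) (φ : PLie.PMap R p L)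

/-- the PBW representation as a map into the endomorphism algebra -/
noncomputable def e₀ : L →ₗ[R] Module.End R (MvPolynomial ι R) := Rho b

omit hp [CharP R p] in
theorem e₀_lie (x y : L) : e₀ b ⁅x, y⁆ = e₀ b x * e₀ b y - e₀ b y * e₀ b x := by
  apply LinearMap.ext
  intro u
  simp only [e₀, LinearMap.sub_apply, Module.End.mul_apply]
  exact Rho_lie b x y u

/-- the central operators `z_i = ρ(b_i)^p - ρ(b_i^[p])` -/
noncomputable def z (i : ι) : Module.End R (MvPolynomial ι R) :=
  zc p (e₀ b) b (fun i => φ (b i)) i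

theorem z_def (i : ι) : z p b φ i = e₀ b (b i) ^ p - e₀ b (φ (b i)) := rfl

theorem z_comm_e₀ (i : ι) (w : L) : z p b φ i * e₀ b w = e₀ b w * z p b φ i := by
  have h := zc_central p (e₀ b) b (fun i => φ (b i)) (e₀_lie b) (fun i => (φ.ad_map (b i)).symm) i w
  unfold adf at h
  exact sub_eq_zero.mp h

theorem z_comm (i j : ι) : z p b φ i * z p b φ j = z p b φ j * z p b φ i := by
  have h1 : Commute (z p b φ i) (e₀ b (b j)) := z_comm_e₀ p b φ i (b j)
  have h2 : Commute (z p b φ i) (e₀ b (φ (b j))) := z_comm_e₀ p b φ i (φ (b j))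
  rw [z_def p b φ j]
  exact (h1.pow_right p).sub_right h2

end Groth.Agent.Lib.helper1.RPBW
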