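import Groth.Agent.Lib.helper1.RPBW1

/-!
# Restricted PBW, part 2: the commutative action of `R[Z_i]` and leading terms
-/

namespace Groth.Agent.Lib.helper1.RPBW

open MvPolynomial Groth.Agent.Lib.helper1.PBW Groth.Agent.Lib.helper1.JF
  Groth.Agent.Lib.helper1.PLieLib

universe u v w
variable {R : Type u} [CommRing R] (p : ℕ) [hp : Fact p.Prime] [CharP R p]
variable {L : Type v} [LieRing L] [LieAlgebra R L]
variable {ι : Type w} [LinearOrder ι] (b : Module.Basis ι R L) (φ : PLie.PMap R p L)

/-- the set of the `z_i` -/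
def Zs : Set (Module.End R (MvPolynomial ι R)) := Set.range (z p b φ)

theorem Zs_comm : ∀ a ∈ Zs p b φ, ∀ c ∈ Zs p b φ, a * c = c * a := by
  rintro _ ⟨i, rfl⟩ _ ⟨j, rfl⟩
  exact z_comm p b φ i j

open scoped IsMulCommutative in
noncomputable instance instCommRingAdjoin : CommRing (Algebra.adjoin R (Zs p b φ)) :=
  have := Algebra.isMulCommutative_adjoin R (Zs_comm p b φ)
  inferInstance

/-- `z_i` as an element of the commutative subalgebra -/
noncomputable def zs (i : ι) : Algebra.adjoin R (Zs p b φ) :=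
  ⟨z p b φ i, Algebra.subset_adjoin ⟨i, rfl⟩⟩

/-- the action of `R[Z_i : i ∈ ι]` on the PBW module through `Z_i ↦ z_i` -/
noncomputable def act : MvPolynomial ι R →ₐ[R] Module.End R (MvPolynomial ι R) :=
  (Algebra.adjoin R (Zs p b φ)).val.comp (aeval (zs p b φ))

theorem act_X (i : ι) : act p b φ (X i) = z p b φ i := by
  simp [act, zs]

theorem act_monomial_add_single (γ : ι →₀ ℕ) (i : ι) :
    act p b φ (monomial (γ + Finsupp.single i 1) 1) = z p b φ i * act p b φ (monomial γ 1) := by
  have h : (monomial (γ + Finsupp.single i 1) (1 : R)) = X i * monomial γ 1 := by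
    rw [X, monomial_mul, one_mul, add_comm]
  rw [h, map_mul, act_X]

theorem act_one : act p b φ (monomial 0 1) = 1 := by
  have : (monomial (0 : ι →₀ ℕ) (1 : R)) = 1 := rfl
  rw [this, map_one]

end Groth.Agent.Lib.helper1.RPBW
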