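import Groth.Agent.Lib.helper1.RPBW2

/-!
# Restricted PBW, part 3: leading terms of the `z_i` with respect to the degree filtration
-/

namespace Groth.Agent.Lib.helper1.RPBW

open MvPolynomial Groth.Agent.Lib.helper1.PBW Groth.Agent.Lib.helper1.JF
  Groth.Agent.Lib.helper1.PLieLib

universe u v w
variable {R : Type u} [CommRing R] (p : ℕ) [hp : Fact p.Prime] [CharP R p]
variable {L : Type v} [LieRing L] [LieAlgebra R L]
variable {ι : Type w} [LinearOrder ι] (b : Module.Basis ι R L) (φ : PLie.PMap R p L)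

section filt

/-- polynomials supported in degrees `< d` -/
noncomputable def Mlt (d : ℕ) : Submodule R (MvPolynomial ι R) :=
  restrictSupport R {m | m.degree < d}

theorem Mlt_succ (d : ℕ) : Mlt (R := R) (ι := ι) (d + 1) = Mle d := by
  unfold Mlt Mle
  congr 1
  ext m
  exact Nat.lt_succ_iff

theorem Mlt_zero : Mlt (R := R) (ι := ι) 0 = ⊥ := by
  unfold Mlt
  have : {m : ι →₀ ℕ | m.degree < 0} = ∅ := by ext m; simp
  rw [this, restrictSupport_eq_span, Set.image_empty, Submodule.span_empty]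

theorem Mle_le_Mlt {d e : ℕ} (h : d < e) : Mle (R := R) (ι := ι) d ≤ Mlt e := by
  unfold Mle Mlt
  apply restrictSupport_mono
  intro m hm
  exact lt_of_le_of_lt hm h

theorem Mlt_le_Mle {d e : ℕ} (h : d ≤ e + 1) : Mlt (R := R) (ι := ι) d ≤ Mle e := by
  unfold Mle Mlt
  apply restrictSupport_mono
  intro m hm
  have : m.degree < d := hm
  show m.degree ≤ e
  omega

theorem Mlt_induction {P : MvPolynomial ι R → Prop} (d : ℕ) (h0 : P 0)
    (hadd : ∀ u v, P u → P v → P (u + v)) (hsmul : ∀ (c : R) u, P u → P (c • u))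
    (hmon : ∀ m : ι →₀ ℕ, m.degree < d → P (monomial m 1)) :
    ∀ u ∈ Mlt (R := R) d, P u := by
  intro u hu
  unfold Mlt at hu
  rw [restrictSupport_eq_span] at hu
  induction hu using Submodule.span_induction with
  | mem x hx =>
    obtain ⟨m, hm, rfl⟩ := hx
    exact hmon m hm
  | zero => exact h0
  | add x y _ _ hx hy => exact hadd x y hx hy
  | smul c x _ hx => exact hsmul c x hx

theorem monomial_mul_mem (m : ι →₀ ℕ) {d : ℕ} {u : MvPolynomial ι R} (hu : u ∈ Mle (R := R) d) :
    monomial m 1 * u ∈ Mle (R := R) (d + m.degree) := by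
  suffices key : ∀ u ∈ Mle (R := R) d, monomial m 1 * u ∈ Mle (R := R) (d + m.degree) from key u hu
  refine Mle_induction d ?_ ?_ ?_ ?_
  · simp
  · intro u v hu hv
    rw [mul_add]; exact Submodule.add_mem _ hu hv
  · intro c u hu
    rw [mul_smul_comm]; exact Submodule.smul_mem _ c hu
  · intro m' hm'
    rw [monomial_mul, one_mul]
    apply mon_mem_Mle
    rw [map_add]
    omega

theorem X_pow_mul_mem (i : ι) (r : ℕ) {d : ℕ} {u : MvPolynomial ι R} (hu : u ∈ Mle (R := R) d) :
    X i ^ r * u ∈ Mle (R := R) (d + r) := by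
  have h := monomial_mul_mem (Finsupp.single i r) hu
  rw [Finsupp.degree_single] at h
  rwa [X_pow_eq_monomial]

end filt

omit hp [CharP R p] in
/-- leading term of `ρ(b_i)` -/
theorem LT1 (i : ι) {d : ℕ} {u : MvPolynomial ι R} (hu : u ∈ Mle (R := R) d) :
    Rho b (b i) u - X i * u ∈ Mle (R := R) d := by
  suffices key : ∀ u ∈ Mle (R := R) d, Rho b (b i) u - X i * u ∈ Mle (R := R) d from key u hu
  refine Mle_induction d ?_ ?_ ?_ ?_
  · simp
  · intro u v hu hv
    have : Rho b (b i) (u + v) - X i * (u + v) =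
        (Rho b (b i) u - X i * u) + (Rho b (b i) v - X i * v) := by
      rw [map_add]; ring
    rw [this]; exact Submodule.add_mem _ hu hv
  · intro c u hu
    have : Rho b (b i) (c • u) - X i * (c • u) = c • (Rho b (b i) u - X i * u) := by
      rw [map_smul, mul_smul_comm, smul_sub]
    rw [this]; exact Submodule.smul_mem _ c hu
  · intro m hm
    have h1 := Rho_B b i m
    have h2 : (X i : MvPolynomial ι R) * monomial m 1 = monomial (m + Finsupp.single i 1) 1 := by
      rw [X, monomial_mul, one_mul, add_comm]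
    rw [h2]
    exact Mle_mono hm h1

omit hp [CharP R p] in
/-- leading term of `ρ(b_i)^(r+1)` -/
theorem LTpow (i : ι) (r : ℕ) {d : ℕ} {u : MvPolynomial ι R} (hu : u ∈ Mle (R := R) d) :
    (e₀ b (b i) ^ (r + 1)) u - X i ^ (r + 1) * u ∈ Mle (R := R) (d + r) := by
  induction r with
  | zero =>
    simp only [zero_add, pow_one, add_zero]
    exact LT1 b i hu
  | succ r ih =>
    rw [pow_succ' (e₀ b (b i)), Module.End.mul_apply]
    set w := (e₀ b (b i) ^ (r + 1)) u - X i ^ (r + 1) * u with hw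
    have h1 : (e₀ b (b i) ^ (r + 1)) u = X i ^ (r + 1) * u + w := by rw [hw]; ring
    rw [h1, map_add]
    have h2 : X i ^ (r + 1) * u ∈ Mle (R := R) (d + (r + 1)) := X_pow_mul_mem i (r + 1) hu
    have h3 := LT1 b i h2
    have h4 : (e₀ b (b i)) w ∈ Mle (R := R) (d + r + 1) := Rho_mem b (b i) ih
    have h5 : (e₀ b (b i)) (X i ^ (r + 1) * u) + (e₀ b (b i)) w - X i ^ (r + 1 + 1) * u =
        (Rho b (b i) (X i ^ (r + 1) * u) - X i * (X i ^ (r + 1) * u)) + (e₀ b (b i)) w := by
      simp only [e₀]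
      ring
    rw [h5]
    exact Submodule.add_mem _ h3 h4

/-- leading term of `z_i` -/
theorem LTz (i : ι) {d : ℕ} {u : MvPolynomial ι R} (hu : u ∈ Mle (R := R) d) :
    z p b φ i u - X i ^ p * u ∈ Mle (R := R) (d + (p - 1)) := by
  have hp1 : p - 1 + 1 = p := Nat.sub_add_cancel hp.out.one_le
  have h1 := LTpow b i (p - 1) hu
  rw [hp1] at h1
  have h2 : (e₀ b (φ (b i))) u ∈ Mle (R := R) (d + (p - 1)) := by
    have := Rho_mem b (φ (b i)) hu
    have h2le : 2 ≤ p := hp.out.two_le
    exact Mle_mono (by omega) this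
  have h3 : z p b φ i u - X i ^ p * u =
      ((e₀ b (b i) ^ p) u - X i ^ p * u) - (e₀ b (φ (b i))) u := by
    rw [z_def, LinearMap.sub_apply]; ring
  rw [h3]
  exact Submodule.sub_mem _ h1 h2

theorem z_mem (i : ι) {d : ℕ} {u : MvPolynomial ι R} (hu : u ∈ Mle (R := R) d) :
    z p b φ i u ∈ Mle (R := R) (d + p) := by
  have h1 := LTz p b φ i hu
  have h2 : X i ^ p * u ∈ Mle (R := R) (d + p) := X_pow_mul_mem i p hu
  have h3 : z p b φ i u = (z p b φ i u - X i ^ p * u) + X i ^ p * u := by ring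
  rw [h3]
  exact Submodule.add_mem _ (Mle_mono (by omega) h1) h2

theorem z_mem_lt (i : ι) {d : ℕ} {u : MvPolynomial ι R} (hu : u ∈ Mlt (R := R) d) :
    z p b φ i u ∈ Mlt (R := R) (d + p) := by
  suffices key : ∀ u ∈ Mlt (R := R) d, z p b φ i u ∈ Mlt (R := R) (d + p) from key u hu
  refine Mlt_induction d ?_ ?_ ?_ ?_
  · simp
  · intro u v hu hv
    rw [map_add]; exact Submodule.add_mem _ hu hv
  · intro c u hu
    rw [map_smul]; exact Submodule.smul_mem _ c hu
  · intro m hm
    have := z_mem p b φ i (mon_mem_Mle (R := R) (le_refl m.degree))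
    exact Mle_le_Mlt (by omega) this

end Groth.Agent.Lib.helper1.RPBW
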