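import Groth.Agent.Lib.helper1.RPBW3

/-!
# Restricted PBW, part 4: the unitriangular map `T`
-/

namespace Groth.Agent.Lib.helper1.RPBW

open MvPolynomial Groth.Agent.Lib.helper1.PBW Groth.Agent.Lib.helper1.JF
  Groth.Agent.Lib.helper1.PLieLib

universe u v w
variable {R : Type u} [CommRing R] (p : ℕ) [hp : Fact p.Prime] [CharP R p]
variable {L : Type v} [LieRing L] [LieAlgebra R L]
variable {ι : Type w} [LinearOrder ι] (b : Module.Basis ι R L) (φ : PLie.PMap R p L)

/-- leading term of `z^γ` -/
theorem LTact : ∀ (N : ℕ) (γ : ι →₀ ℕ), γ.degree = N → ∀ (d : ℕ) (u : MvPolynomial ι R),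
    u ∈ Mle (R := R) d →
    act p b φ (monomial γ 1) u - monomial (p • γ) 1 * u ∈ Mlt (R := R) (d + p * N) := by
  intro N
  induction N with
  | zero =>
    intro γ hγ d u _
    have h0 : γ = 0 := (Finsupp.degree_eq_zero_iff γ).mp hγ
    subst h0
    rw [act_one, smul_zero]
    have : (monomial (0 : ι →₀ ℕ) (1 : R)) = 1 := rfl
    rw [this, one_mul, Module.End.one_apply, sub_self]
    exact zero_mem _
  | succ N ih =>
    intro γ hγ d u hu
    have hne : γ ≠ 0 := by
      intro h0
      rw [h0, map_zero] at hγ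
      omega
    obtain ⟨i, hi⟩ : ∃ i, i ∈ γ.support := by
      by_contra hcon
      push Not at hcon
      exact hne (Finsupp.support_eq_empty.mp (Finset.eq_empty_of_forall_notMem hcon))
    set γ' := γ - Finsupp.single i 1 with hγ'
    have hγeq : γ' + Finsupp.single i 1 = γ := sub_add_cancel_of_mem hi
    have hdeg' : γ'.degree = N := by
      have := degree_sub_single hi
      rw [← hγ'] at this
      omega
    rw [← hγeq, act_monomial_add_single, Module.End.mul_apply]
    set w := act p b φ (monomial γ' 1) u - monomial (p • γ') 1 * u with hw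
    have hwm : w ∈ Mlt (R := R) (d + p * N) := ih γ' hdeg' d u hu
    have h1 : act p b φ (monomial γ' 1) u = monomial (p • γ') 1 * u + w := by rw [hw]; ring
    rw [h1, map_add]
    have h2 : monomial (p • γ') (1 : R) * u ∈ Mle (R := R) (d + p * N) := by
      have := monomial_mul_mem (p • γ') hu
      rwa [map_nsmul, hdeg', smul_eq_mul] at this
    have h3 := LTz p b φ i h2
    have h4 := z_mem_lt p b φ i hwm
    have h5 : (monomial (p • (γ' + Finsupp.single i 1)) (1 : R)) =
        X i ^ p * monomial (p • γ') 1 := by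
      rw [X_pow_eq_monomial, monomial_mul, one_mul, smul_add, Finsupp.smul_single, smul_eq_mul,
        mul_one, add_comm]
    have h6 : z p b φ i (monomial (p • γ') 1 * u) + z p b φ i w
        - monomial (p • (γ' + Finsupp.single i 1)) 1 * u =
        (z p b φ i (monomial (p • γ') 1 * u) - X i ^ p * (monomial (p • γ') 1 * u))
          + z p b φ i w := by
      rw [h5]; ring
    rw [h6]
    have hp1 : 1 ≤ p := hp.out.one_le
    refine Submodule.add_mem _ (Mle_le_Mlt (by rw [Nat.mul_succ]; omega) h3) ?_
    have : d + p * N + p = d + p * (N + 1) := by rw [Nat.mul_succ]; ring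
    rwa [this] at h4


section T

/-- pointwise quotient by `p` -/
noncomputable def qt (δ : ι →₀ ℕ) : ι →₀ ℕ := δ.mapRange (· / p) (Nat.zero_div p)

/-- pointwise remainder mod `p` -/
noncomputable def rm (δ : ι →₀ ℕ) : ι →₀ ℕ := δ.mapRange (· % p) (Nat.zero_mod p)

omit hp [LinearOrder ι] in
theorem qt_add_rm (δ : ι →₀ ℕ) : p • qt p δ + rm p δ = δ := by
  ext i
  simp [qt, rm, Nat.div_add_mod]

omit hp [LinearOrder ι] in
theorem degree_qt_rm (δ : ι →₀ ℕ) : (rm p δ).degree + p * (qt p δ).degree = δ.degree := by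
  have := congrArg Finsupp.degree (qt_add_rm p δ)
  rw [map_add, map_nsmul, smul_eq_mul] at this
  omega

/-- the unitriangular comparison map: `X^δ ↦ z^(δ/p) X^(δ%p)` -/
noncomputable def T : MvPolynomial ι R →ₗ[R] MvPolynomial ι R :=
  (basisMonomials ι R).constr R
    (fun δ => act p b φ (monomial (qt p δ) 1) (monomial (rm p δ) 1))

theorem T_monomial (δ : ι →₀ ℕ) :
    T p b φ (monomial δ 1) = act p b φ (monomial (qt p δ) 1) (monomial (rm p δ) 1) := by
  have := (basisMonomials ι R).constr_basis R
    (fun δ => act p b φ (monomial (qt p δ) 1) (monomial (rm p δ) 1)) δ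
  rwa [coe_basisMonomials] at this

theorem T_sub_mem (δ : ι →₀ ℕ) :
    T p b φ (monomial δ 1) - monomial δ 1 ∈ Mlt (R := R) δ.degree := by
  have h := LTact p b φ (qt p δ).degree (qt p δ) rfl (rm p δ).degree (monomial (rm p δ) 1)
    (mon_mem_Mle (le_refl _))
  rw [monomial_mul, one_mul, qt_add_rm, degree_qt_rm] at h
  rw [T_monomial]
  exact h

omit hp [CharP R p] in
theorem Mlt_mono {d e : ℕ} (h : d ≤ e) : Mlt (R := R) (ι := ι) d ≤ Mlt e := by
  unfold Mlt
  apply restrictSupport_mono
  intro m hm
  exact lt_of_lt_of_le hm h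

theorem T_sub_id_mem {d : ℕ} {u : MvPolynomial ι R} (hu : u ∈ Mle (R := R) d) :
    T p b φ u - u ∈ Mlt (R := R) d := by
  suffices key : ∀ u ∈ Mle (R := R) d, T p b φ u - u ∈ Mlt (R := R) d from key u hu
  refine Mle_induction d ?_ ?_ ?_ ?_
  · simp
  · intro u v hu hv
    have : T p b φ (u + v) - (u + v) = (T p b φ u - u) + (T p b φ v - v) := by
      rw [map_add]; ring
    rw [this]; exact Submodule.add_mem _ hu hv
  · intro c u hu
    have : T p b φ (c • u) - c • u = c • (T p b φ u - u) := by
      rw [map_smul, smul_sub]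
    rw [this]; exact Submodule.smul_mem _ c hu
  · intro m hm
    exact Mlt_mono hm (T_sub_mem p b φ m)

omit hp [CharP R p] in
theorem mem_Mle_totalDegree (u : MvPolynomial ι R) : u ∈ Mle (R := R) u.totalDegree := by
  unfold Mle
  rw [mem_restrictSupport_iff]
  intro m hm
  show m.degree ≤ u.totalDegree
  rw [Finsupp.degree_apply]
  exact le_totalDegree (Finset.mem_coe.mp hm)

theorem T_injective : Function.Injective (T p b φ) := by
  rw [injective_iff_map_eq_zero]
  have key : ∀ d, ∀ u ∈ Mle (R := R) d, T p b φ u = 0 → u = 0 := by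
    intro d
    induction d with
    | zero =>
      intro u hu h
      have h1 := T_sub_id_mem p b φ hu
      rw [h, zero_sub, Mlt_zero, Submodule.mem_bot, neg_eq_zero] at h1
      exact h1
    | succ d ih =>
      intro u hu h
      have h1 := T_sub_id_mem p b φ hu
      rw [h, zero_sub, Mlt_succ] at h1
      have h2 : u ∈ Mle (R := R) d := by
        have := Submodule.neg_mem _ h1
        rwa [neg_neg] at this
      exact ih u h2 h
  intro u hu
  exact key _ u (mem_Mle_totalDegree u) hu

theorem T_surjective : Function.Surjective (T p b φ) := by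
  have key : ∀ d, ∀ u ∈ Mle (R := R) d, u ∈ LinearMap.range (T p b φ) := by
    intro d
    induction d with
    | zero =>
      intro u hu
      have h1 := T_sub_id_mem p b φ hu
      rw [Mlt_zero, Submodule.mem_bot, sub_eq_zero] at h1
      exact ⟨u, h1⟩
    | succ d ih =>
      intro u hu
      have h1 := T_sub_id_mem p b φ hu
      rw [Mlt_succ] at h1
      obtain ⟨v, hv⟩ := ih _ h1
      refine ⟨u - v, ?_⟩
      rw [map_sub, hv]
      ring
  intro u
  exact key _ u (mem_Mle_totalDegree u)

end T

end Groth.Agent.Lib.helper1.RPBW
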