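import Groth.Agent.Lib.helper1.RPBW4

/-!
# Restricted PBW, part 5: the submodule `W = Σ z_i M` and the restricted monomials
-/

namespace Groth.Agent.Lib.helper1.RPBW

open MvPolynomial Groth.Agent.Lib.helper1.PBW Groth.Agent.Lib.helper1.JF
  Groth.Agent.Lib.helper1.PLieLib

universe u v w
variable {R : Type u} [CommRing R] (p : ℕ) [hp : Fact p.Prime] [CharP R p]
variable {L : Type v} [LieRing L] [LieAlgebra R L]
variable {ι : Type w} [LinearOrder ι] (b : Module.Basis ι R L) (φ : PLie.PMap R p L)

/-- `W = Σ_i z_i(M)` -/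
noncomputable def W : Submodule R (MvPolynomial ι R) := ⨆ i, LinearMap.range (z p b φ i)

/-- non-restricted part -/
noncomputable def Nr : Submodule R (MvPolynomial ι R) :=
  restrictSupport R {δ : ι →₀ ℕ | ∃ i, p ≤ δ i}

/-- restricted part -/
noncomputable def Res : Submodule R (MvPolynomial ι R) :=
  restrictSupport R {δ : ι →₀ ℕ | ∀ i, δ i < p}

omit [LinearOrder ι] in
theorem qt_add_single (δ : ι →₀ ℕ) (i : ι) :
    qt p (δ + Finsupp.single i p) = qt p δ + Finsupp.single i 1 := by
  classical
  ext j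
  simp only [qt, Finsupp.mapRange_apply, Finsupp.coe_add, Pi.add_apply, Finsupp.single_apply]
  by_cases hj : i = j
  · simp only [hj, if_true]
    exact Nat.add_div_right _ hp.out.pos
  · simp [hj]

omit hp [LinearOrder ι] in
theorem rm_add_single (δ : ι →₀ ℕ) (i : ι) :
    rm p (δ + Finsupp.single i p) = rm p δ := by
  classical
  ext j
  simp only [rm, Finsupp.mapRange_apply, Finsupp.coe_add, Pi.add_apply, Finsupp.single_apply]
  by_cases hj : i = j
  · simp only [hj, if_true]
    exact Nat.add_mod_right _ _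
  · simp [hj]

theorem z_T (i : ι) (δ : ι →₀ ℕ) :
    z p b φ i (T p b φ (monomial δ 1)) = T p b φ (monomial (δ + Finsupp.single i p) 1) := by
  rw [T_monomial, T_monomial, qt_add_single, rm_add_single, act_monomial_add_single,
    Module.End.mul_apply]

theorem range_z_le (i : ι) : LinearMap.range (z p b φ i) ≤ (Nr (R := R) (ι := ι) p).map (T p b φ) := by
  rintro _ ⟨f, rfl⟩
  obtain ⟨g, rfl⟩ := T_surjective p b φ f
  induction g using MvPolynomial.induction_on' with
  | monomial δ c =>
    have h1 : monomial δ c = c • monomial δ (1 : R) := by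
      rw [smul_monomial, smul_eq_mul, mul_one]
    rw [h1, map_smul, map_smul, z_T]
    apply Submodule.smul_mem
    apply Submodule.mem_map_of_mem
    unfold Nr
    rw [monomial_mem_restrictSupport]
    left
    exact ⟨i, by simp⟩
  | add f g hf hg =>
    rw [map_add, map_add]
    exact Submodule.add_mem _ hf hg

theorem W_le : W p b φ ≤ (Nr (R := R) (ι := ι) p).map (T p b φ) :=
  iSup_le (range_z_le p b φ)

theorem map_T_Nr_le : (Nr (R := R) (ι := ι) p).map (T p b φ) ≤ W p b φ := by
  unfold Nr
  rw [restrictSupport_eq_span, Submodule.map_span, Submodule.span_le]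
  rintro _ ⟨_, ⟨δ, ⟨i, hi⟩, rfl⟩, rfl⟩
  have hδ : δ = (δ - Finsupp.single i p) + Finsupp.single i p := by
    ext j
    classical
    simp only [Finsupp.coe_add, Finsupp.coe_tsub, Pi.add_apply, Pi.sub_apply,
      Finsupp.single_apply]
    by_cases hj : i = j
    · subst hj; simp only [if_true]; omega
    · simp [hj]
  show T p b φ (monomial δ 1) ∈ W p b φ
  rw [hδ, ← z_T]
  exact (le_iSup (fun i => LinearMap.range (z p b φ i)) i) ⟨_, rfl⟩

theorem T_restricted {α : ι →₀ ℕ} (hα : ∀ i, α i < p) : T p b φ (monomial α 1) = monomial α 1 := by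
  have h1 : qt p α = 0 := by
    ext i
    simp only [qt, Finsupp.mapRange_apply, Finsupp.coe_zero, Pi.zero_apply]
    exact Nat.div_eq_of_lt (hα i)
  have h2 : rm p α = α := by
    ext i
    simp only [rm, Finsupp.mapRange_apply]
    exact Nat.mod_eq_of_lt (hα i)
  rw [T_monomial, h1, h2, act_one, Module.End.one_apply]

theorem T_Res {u : MvPolynomial ι R} (hu : u ∈ Res (R := R) (ι := ι) p) : T p b φ u = u := by
  unfold Res at hu
  rw [restrictSupport_eq_span] at hu
  induction hu using Submodule.span_induction with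
  | mem x hx =>
    obtain ⟨α, hα, rfl⟩ := hx
    exact T_restricted p b φ hα
  | zero => simp
  | add x y _ _ hx hy => rw [map_add, hx, hy]
  | smul c x _ hx => rw [map_smul, hx]

theorem W_sup_Res : W p b φ ⊔ Res (R := R) (ι := ι) p = ⊤ := by
  rw [eq_top_iff]
  intro f hf'
  clear hf'
  obtain ⟨g, rfl⟩ := T_surjective p b φ f
  induction g using MvPolynomial.induction_on' with
  | monomial δ c =>
    have h1 : monomial δ c = c • monomial δ (1 : R) := by
      rw [smul_monomial, smul_eq_mul, mul_one]
    rw [h1, map_smul]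
    apply Submodule.smul_mem
    by_cases hδ : ∀ i, δ i < p
    · rw [T_restricted p b φ hδ]
      apply Submodule.mem_sup_right
      unfold Res
      rw [monomial_mem_restrictSupport]
      exact Or.inl hδ
    · push Not at hδ
      apply Submodule.mem_sup_left
      apply map_T_Nr_le p b φ
      apply Submodule.mem_map_of_mem
      unfold Nr
      rw [monomial_mem_restrictSupport]
      exact Or.inl hδ
  | add f g hf hg =>
    rw [map_add]
    exact Submodule.add_mem _ hf hg

omit hp [CharP R p] [LinearOrder ι] in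
theorem Nr_inf_Res : Nr (R := R) (ι := ι) p ⊓ Res (R := R) (ι := ι) p = ⊥ := by
  rw [eq_bot_iff]
  rintro u ⟨h1, h2⟩
  unfold Nr at h1
  unfold Res at h2
  rw [SetLike.mem_coe, mem_restrictSupport_iff] at h1 h2
  rw [Submodule.mem_bot, ← support_eq_empty]
  apply Finset.eq_empty_of_forall_notMem
  intro m hm
  obtain ⟨i, hi⟩ := h1 (Finset.mem_coe.mpr hm)
  have := h2 (Finset.mem_coe.mpr hm) i
  omega

/-- `W` meets the restricted part trivially -/
theorem W_inf_Res : W p b φ ⊓ Res (R := R) (ι := ι) p = ⊥ := by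
  rw [eq_bot_iff]
  rintro u ⟨h1, h2⟩
  obtain ⟨g, hg, hgu⟩ := W_le p b φ h1
  have h3 : T p b φ u = u := T_Res p b φ h2
  have h4 : g = u := T_injective p b φ (by rw [hgu, h3])
  rw [h4] at hg
  have : u ∈ Nr (R := R) (ι := ι) p ⊓ Res (R := R) (ι := ι) p := ⟨hg, h2⟩
  rwa [Nr_inf_Res] at this

end Groth.Agent.Lib.helper1.RPBW
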