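import Groth.Agent.Lib.helper1.RPBW5

/-!
# Restricted PBW, part 6: the quotient representation on `M / W`
-/

namespace Groth.Agent.Lib.helper1.RPBW

open MvPolynomial Groth.Agent.Lib.helper1.PBW Groth.Agent.Lib.helper1.JF
  Groth.Agent.Lib.helper1.PLieLib

universe u v w
variable {R : Type u} [CommRing R] (p : ℕ) [hp : Fact p.Prime] [CharP R p]
variable {L : Type v} [LieRing L] [LieAlgebra R L]
variable {ι : Type w} [LinearOrder ι] (b : Module.Basis ι R L) (φ : PLie.PMap R p L)

theorem W_stable (x : L) : W p b φ ≤ (W p b φ).comap (e₀ b x) := by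
  unfold W
  apply iSup_le
  intro i
  rintro _ ⟨f, rfl⟩
  rw [Submodule.mem_comap]
  have h := z_comm_e₀ p b φ i x
  have h2 : e₀ b x (z p b φ i f) = z p b φ i (e₀ b x f) := by
    have := LinearMap.congr_fun h f
    simp only [Module.End.mul_apply] at this
    exact this.symm
  rw [h2]
  exact (le_iSup (fun i => LinearMap.range (z p b φ i)) i) ⟨_, rfl⟩

/-- the quotient representation on `M / W` -/
noncomputable def rbar : L →ₗ[R] Module.End R (MvPolynomial ι R ⧸ W p b φ) where
  toFun x := (W p b φ).mapQ (W p b φ) (e₀ b x) (W_stable p b φ x)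
  map_add' x y := by
    apply Submodule.linearMap_qext
    ext u
    simp [Submodule.mapQ_apply]
  map_smul' c x := by
    apply Submodule.linearMap_qext
    ext u
    simp [Submodule.mapQ_apply]

theorem rbar_mk (x : L) (u : MvPolynomial ι R) :
    rbar p b φ x (Submodule.Quotient.mk u) = Submodule.Quotient.mk (e₀ b x u) := rfl

theorem rbar_lie (x y : L) :
    rbar p b φ ⁅x, y⁆ = rbar p b φ x * rbar p b φ y - rbar p b φ y * rbar p b φ x := by
  apply Submodule.linearMap_qext
  ext u
  simp only [LinearMap.comp_apply, Submodule.mkQ_apply, rbar_mk, LinearMap.sub_apply,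
    Module.End.mul_apply, e₀_lie]
  rfl

theorem rbar_pow_mk (x : L) (r : ℕ) (u : MvPolynomial ι R) :
    (rbar p b φ x ^ r) (Submodule.Quotient.mk u) = Submodule.Quotient.mk ((e₀ b x ^ r) u) := by
  induction r generalizing u with
  | zero => simp
  | succ r ih =>
    rw [pow_succ, Module.End.mul_apply, rbar_mk, ih, pow_succ, Module.End.mul_apply]

theorem rbar_basis (i : ι) : rbar p b φ (φ (b i)) = rbar p b φ (b i) ^ p := by
  apply Submodule.linearMap_qext
  apply LinearMap.ext
  intro u
  simp only [LinearMap.comp_apply, Submodule.mkQ_apply, rbar_mk, rbar_pow_mk]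
  symm
  rw [← sub_eq_zero, ← Submodule.Quotient.mk_sub, Submodule.Quotient.mk_eq_zero]
  have : (e₀ b (b i) ^ p) u - (e₀ b (φ (b i))) u = z p b φ i u := by
    rw [z_def, LinearMap.sub_apply]
  rw [this]
  exact (le_iSup (fun i => LinearMap.range (z p b φ i)) i) ⟨_, rfl⟩

/-- the quotient representation is restricted -/
theorem rbar_pmap (x : L) : rbar p b φ (φ x) = rbar p b φ x ^ p := by
  refine basis_induction' b (P := fun x => rbar p b φ (φ x) = rbar p b φ x ^ p) ?_ ?_ ?_ ?_ x
  · exact rbar_basis p b φ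
  · rw [PMap_zero, map_zero, zero_pow hp.out.ne_zero]
  · intro x y hx hy
    rw [φ.map_add, map_sub, map_add, hx, hy, jacobson_map p (rbar p b φ) (rbar_lie p b φ),
      map_add, add_pow_eq (R := R) p]
  · intro c x hx
    rw [φ.map_smul, map_smul, hx, map_smul, smul_pow]

end Groth.Agent.Lib.helper1.RPBW
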