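import Groth.Agent.Lib.helper1.RPBW6

/-!
# Restricted PBW, part 7: faithfulness and finiteness of the quotient representation
-/

namespace Groth.Agent.Lib.helper1.RPBW

open MvPolynomial Groth.Agent.Lib.helper1.PBW Groth.Agent.Lib.helper1.JF
  Groth.Agent.Lib.helper1.PLieLib

universe u v w
variable {R : Type u} [CommRing R] (p : ℕ) [hp : Fact p.Prime] [CharP R p]
variable {L : Type v} [LieRing L] [LieAlgebra R L]
variable {ι : Type w} [LinearOrder ι] (b : Module.Basis ι R L) (φ : PLie.PMap R p L)

/-- `x ↦ ρ(x)·1` -/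
noncomputable def ell : L →ₗ[R] MvPolynomial ι R := (Rho b).flip 1

omit hp [CharP R p] in
theorem ell_basis (i : ι) : ell b (b i) = X i := Rho_one b i

theorem ell_mem_Res (x : L) : ell b x ∈ Res (R := R) (ι := ι) p := by
  refine basis_induction' b (P := fun x => ell b x ∈ Res (R := R) (ι := ι) p) ?_ ?_ ?_ ?_ x
  · intro i
    rw [ell_basis]
    unfold Res
    rw [X, monomial_mem_restrictSupport]
    left
    intro j
    classical
    rw [Finsupp.single_apply]
    have := hp.out.two_le
    split_ifs <;> omega
  · rw [map_zero]; exact zero_mem _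
  · intro x y hx hy
    rw [map_add]; exact Submodule.add_mem _ hx hy
  · intro c x hx
    rw [map_smul]; exact Submodule.smul_mem _ c hx

omit hp [CharP R p] in
theorem coeff_ell (x : L) (j : ι) : coeff (Finsupp.single j 1) (ell b x) = b.repr x j := by
  classical
  have h : (lcoeff R (Finsupp.single j 1)).comp (ell b) = b.coord j := by
    apply b.ext
    intro i
    rw [LinearMap.comp_apply, ell_basis, lcoeff_apply, X, coeff_monomial, Module.Basis.coord_apply,
      b.repr_self, Finsupp.single_apply]
    by_cases hij : i = j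
    · subst hij; simp
    · rw [if_neg hij, if_neg]
      intro h
      exact hij (Finsupp.single_left_injective one_ne_zero h)
  have := LinearMap.congr_fun h x
  simpa using this


/-- the quotient representation is faithful -/
theorem rbar_injective : Function.Injective (rbar p b φ) := by
  rw [injective_iff_map_eq_zero]
  intro x hx
  have h1 : rbar p b φ x (Submodule.Quotient.mk 1) = 0 := by rw [hx]; rfl
  rw [rbar_mk, Submodule.Quotient.mk_eq_zero] at h1
  have h2 : ell b x ∈ W p b φ ⊓ Res (R := R) (ι := ι) p := ⟨h1, ell_mem_Res p b x⟩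
  rw [W_inf_Res, Submodule.mem_bot] at h2
  apply b.repr.injective
  ext j
  rw [← coeff_ell, h2, map_zero]
  simp

omit hp [CharP R p] [LinearOrder ι] in
theorem finite_restricted [Finite ι] : {δ : ι →₀ ℕ | ∀ i, δ i < p}.Finite := by
  have h : {f : ι → ℕ | ∀ i, f i ∈ Set.Iio p}.Finite :=
    Set.Finite.pi' (fun _ => Set.finite_Iio p)
  have h2 := h.preimage (f := (Finsupp.equivFunOnFinite (α := ι) (M := ℕ)))
    (Finsupp.equivFunOnFinite.injective.injOn)
  refine h2.subset ?_
  intro δ hδ
  simp only [Set.mem_preimage, Set.mem_setOf_eq, Set.mem_Iio]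
  intro i
  exact hδ i

theorem finite_quotient [Finite ι] : Module.Finite R (MvPolynomial ι R ⧸ W p b φ) := by
  rw [Module.finite_def]
  have h1 : (Res (R := R) (ι := ι) p).FG := by
    unfold Res
    rw [restrictSupport_eq_span]
    exact Submodule.fg_span ((finite_restricted p).image _)
  have h2 : (Res (R := R) (ι := ι) p).map (W p b φ).mkQ = ⊤ := by
    rw [eq_top_iff]
    rintro v -
    obtain ⟨u, rfl⟩ := Submodule.Quotient.mk_surjective _ v
    have hu : u ∈ W p b φ ⊔ Res (R := R) (ι := ι) p := by rw [W_sup_Res]; trivial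
    obtain ⟨w, hw, r, hr, rfl⟩ := Submodule.mem_sup.mp hu
    refine ⟨r, hr, ?_⟩
    rw [Submodule.mkQ_apply]
    symm
    rw [Submodule.Quotient.mk_add, (Submodule.Quotient.mk_eq_zero _).mpr hw, zero_add]
  rw [← h2]
  exact h1.map _

end Groth.Agent.Lib.helper1.RPBW
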