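import Mathlib
import Groth.Prelude.Def_RegImm

set_option autoImplicit false
universe u
open CategoryTheory CategoryTheory.Limits AlgebraicGeometry TopologicalSpace Opposite

namespace Groth.Agent.Lib.helper1.RS

variable {Z X : Scheme.{u}} (i : Z ⟶ X)

theorem app_surjective_of_restrict (U : X.Opens) (hU : IsAffineOpen U)
    [IsClosedImmersion (i ∣_ U)] : Function.Surjective (i.app U) := by
  have h1 : Function.Surjective ((i ∣_ U).appTop) :=
    Scheme.Hom.app_surjective (i ∣_ U) ⊤ (by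
      haveI : IsAffine (↑U : Scheme.{u}) := hU
      exact isAffineOpen_top _)
  rw [morphismRestrict_appTop] at h1
  have h2 : Function.Surjective (i.app (U.ι ''ᵁ ⊤)) := by
    intro b
    obtain ⟨a, ha⟩ := h1 (Z.presheaf.map (eqToHom (image_morphismRestrict_preimage i U ⊤)).op b)
    refine ⟨a, ?_⟩
    have hinj : Function.Injective
        (Z.presheaf.map (eqToHom (image_morphismRestrict_preimage i U ⊤)).op) := by
      have : IsIso (Z.presheaf.map (eqToHom (image_morphismRestrict_preimage i U ⊤)).op) :=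
        inferInstance
      exact ((ConcreteCategory.isIso_iff_bijective _).mp this).1
    apply hinj
    exact ha
  have h3 : U.ι ''ᵁ ⊤ = U := by simp
  rw [h3] at h2
  exact h2

theorem ker_stalkMap_eq (U : X.Opens) (hU : IsAffineOpen U) (hV : IsAffineOpen (i ⁻¹ᵁ U))
    (hsurj : Function.Surjective (i.app U)) (z : Z) (hz : i z ∈ U) :
    RingHom.ker (i.stalkMap z).hom =
      Ideal.map (X.presheaf.germ U (i z) hz).hom (RingHom.ker (i.app U).hom) := by
  apply le_antisymm
  · intro s hs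
    letI : Algebra Γ(X, U) (X.presheaf.stalk (i z)) :=
      TopCat.Presheaf.algebra_section_stalk X.presheaf ⟨i z, hz⟩
    letI : Algebra Γ(Z, i ⁻¹ᵁ U) (Z.presheaf.stalk z) :=
      TopCat.Presheaf.algebra_section_stalk Z.presheaf ⟨z, hz⟩
    haveI := hU.isLocalization_stalk ⟨i z, hz⟩
    haveI := hV.isLocalization_stalk ⟨z, hz⟩
    obtain ⟨⟨a, t⟩, hat⟩ :=
      IsLocalization.surj (hU.primeIdealOf ⟨i z, hz⟩).asIdeal.primeCompl s
    have hgerm : ∀ r : Γ(X, U), algebraMap Γ(X, U) (X.presheaf.stalk (i z)) r =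
        X.presheaf.germ U (i z) hz r := fun _ => rfl
    have hgermZ : ∀ r : Γ(Z, i ⁻¹ᵁ U), algebraMap Γ(Z, i ⁻¹ᵁ U) (Z.presheaf.stalk z) r =
        Z.presheaf.germ (i ⁻¹ᵁ U) z hz r := fun _ => rfl
    have hcomm : ∀ r : Γ(X, U), i.stalkMap z (X.presheaf.germ U (i z) hz r) =
        Z.presheaf.germ (i ⁻¹ᵁ U) z hz (i.app U r) :=
      fun r => Scheme.Hom.germ_stalkMap_apply i U z hz r
    have hs0 : i.stalkMap z s = 0 := hs
    have h0 : Z.presheaf.germ (i ⁻¹ᵁ U) z hz (i.app U a) = 0 := by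
      rw [← hcomm, ← hgerm, ← hat, map_mul, hs0, zero_mul]
    rw [← hgermZ, IsLocalization.map_eq_zero_iff
      (hV.primeIdealOf ⟨z, hz⟩).asIdeal.primeCompl] at h0
    obtain ⟨t', ht'⟩ := h0
    obtain ⟨t'', ht''⟩ := hsurj t'.1
    have hunitZ : IsUnit (Z.presheaf.germ (i ⁻¹ᵁ U) z hz (i.app U t'')) := by
      rw [ht'']; exact IsLocalization.map_units (Z.presheaf.stalk z) t'
    rw [← hcomm] at hunitZ
    have hunit : IsUnit (X.presheaf.germ U (i z) hz t'') :=
      isUnit_of_map_unit (i.stalkMap z).hom _ hunitZ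
    have hmem : t'' * a ∈ RingHom.ker (i.app U).hom := by
      rw [RingHom.mem_ker, map_mul]
      change i.app U t'' * i.app U a = 0
      rw [ht'']; exact ht'
    have hunit_t : IsUnit (algebraMap Γ(X, U) (X.presheaf.stalk (i z)) t.1) :=
      IsLocalization.map_units _ t
    have h4 : X.presheaf.germ U (i z) hz (t'' * a) ∈
        Ideal.map (X.presheaf.germ U (i z) hz).hom (RingHom.ker (i.app U).hom) :=
      Ideal.mem_map_of_mem _ hmem
    rw [map_mul] at h4
    have h5 := (Ideal.unit_mul_mem_iff_mem _ hunit).mp h4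
    rw [← hgerm, ← hat] at h5
    exact (Ideal.mul_unit_mem_iff_mem _ hunit_t).mp h5
  · rw [Ideal.map_le_iff_le_comap]
    intro a ha
    rw [Ideal.mem_comap, RingHom.mem_ker]
    change i.stalkMap z (X.presheaf.germ U (i z) hz a) = 0
    have ha0 : i.app U a = 0 := ha
    rw [Scheme.Hom.germ_stalkMap_apply, ha0]
    exact map_zero _

theorem main (h : RegImm.IsRegularImmersion RegImm.Kind.regular i) (z : Z) :
    ∃ rs : List (X.presheaf.stalk (i z)),
      RingTheory.Sequence.IsRegular (X.presheaf.stalk (i z)) rs ∧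
        RingHom.ker (i.stalkMap z).hom = Ideal.ofList rs := by
  obtain ⟨U, hzU, hcl, rs, hrs, hker⟩ := h.2 z
  haveI := hcl
  have hU : IsAffineOpen U.1 := U.2
  have hV : IsAffineOpen (i ⁻¹ᵁ U.1) := by
    haveI : IsAffine (↑U.1 : Scheme.{u}) := hU
    have : IsAffine (↑(i ⁻¹ᵁ U.1) : Scheme.{u}) := isAffine_of_isAffineHom (i ∣_ U.1)
    exact this
  have hsurj := app_surjective_of_restrict i U.1 hU
  have hk := ker_stalkMap_eq i U.1 hU hV hsurj z hzU
  letI : Algebra Γ(X, U.1) (X.presheaf.stalk (i z)) :=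
    TopCat.Presheaf.algebra_section_stalk X.presheaf ⟨i z, hzU⟩
  haveI := hU.isLocalization_stalk ⟨i z, hzU⟩
  have hrs' : RingTheory.Sequence.IsRegular Γ(X, U.1) rs := hrs
  have heq : RingHom.ker (i.stalkMap z).hom =
      Ideal.ofList (rs.map (algebraMap Γ(X, U.1) (X.presheaf.stalk (i z)))) := by
    rw [hk, hker, Ideal.map_ofList]; rfl
  refine ⟨rs.map (algebraMap Γ(X, U.1) (X.presheaf.stalk (i z))), ⟨?_, ?_⟩, heq⟩
  · exact hrs'.toIsWeaklyRegular.of_isLocalization (X.presheaf.stalk (i z))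
      (hU.primeIdealOf ⟨i z, hzU⟩).asIdeal.primeCompl
  · rw [← heq, smul_eq_mul, Ideal.mul_top]
    exact (RingHom.ker_ne_top _).symm

end Groth.Agent.Lib.helper1.RS
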