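import Groth.Agent.Lib.lead.Restore.H1RS1

/-!
# The ideal `(f_j x_j : j ∈ U)` of `R[x_1, …, x_r]` by coefficients
-/

open RingTheory.Sequence MvPolynomial

set_option linter.unusedSimpArgs false

namespace Groth.Agent.Lib.helper1.RS

variable {R : Type*} [CommRing R] {r : ℕ} (f : Fin r → R)

/-- the sequence `f_i x_i` -/
noncomputable def gseq : Fin r → MvPolynomial (Fin r) R := fun i => C (f i) * X i

/-- indices of `U` occurring in the monomial `m` -/
def occ (m : Fin r →₀ ℕ) (U : Set (Fin r)) : Set (Fin r) := {j | j ∈ U ∧ m j ≠ 0}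

/-- coefficientwise condition -/
def CoeffCond (U : Set (Fin r)) (p : MvPolynomial (Fin r) R) : Prop :=
  ∀ m, coeff m p ∈ Ideal.span (f '' occ m U)

lemma coeffCond_X_mul (U : Set (Fin r)) (k : Fin r) {p : MvPolynomial (Fin r) R}
    (hp : CoeffCond f U p) : CoeffCond f U (X k * p) := by
  intro m
  rw [coeff_X_mul']
  split_ifs with h
  · refine Ideal.span_mono (Set.image_mono ?_) (hp _)
    rintro j ⟨hjU, hj⟩
    refine ⟨hjU, fun h0 => hj ?_⟩
    simp [h0]
  · exact Submodule.zero_mem _

lemma coeffCond_mul (U : Set (Fin r)) (a : MvPolynomial (Fin r) R) :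
    ∀ p : MvPolynomial (Fin r) R, CoeffCond f U p → CoeffCond f U (a * p) := by
  induction a using MvPolynomial.induction_on with
  | C c =>
    intro p hp m
    rw [coeff_C_mul]
    exact Ideal.mul_mem_left _ _ (hp m)
  | add a b ha hb =>
    intro p hp m
    rw [add_mul, coeff_add]
    exact Ideal.add_mem _ (ha p hp m) (hb p hp m)
  | mul_X a k ha =>
    intro p hp
    rw [mul_assoc]
    exact ha _ (coeffCond_X_mul f U k hp)

lemma coeffCond_of_mem (U : Set (Fin r)) {p : MvPolynomial (Fin r) R}
    (hp : p ∈ Ideal.span (gseq f '' U)) : CoeffCond f U p := by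
  induction hp using Submodule.span_induction with
  | mem x hx =>
    obtain ⟨j, hj, rfl⟩ := hx
    intro m
    simp only [gseq, coeff_C_mul, coeff_X]
    split_ifs with h
    · rw [mul_one]
      refine Ideal.subset_span ⟨j, ⟨hj, ?_⟩, rfl⟩
      rw [← h]; simp
    · rw [mul_zero]; exact Submodule.zero_mem _
  | zero => intro m; rw [coeff_zero]; exact Submodule.zero_mem _
  | add x y _ _ hx hy => intro m; rw [coeff_add]; exact Ideal.add_mem _ (hx m) (hy m)
  | smul a x _ hx => exact coeffCond_mul f U a x hx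

lemma monomial_mem (U : Set (Fin r)) (m : Fin r →₀ ℕ) {c : R}
    (hc : c ∈ Ideal.span (f '' occ m U)) : monomial m c ∈ Ideal.span (gseq f '' U) := by
  induction hc using Submodule.span_induction with
  | mem x hx =>
    obtain ⟨j, ⟨hjU, hj⟩, rfl⟩ := hx
    have h1 : monomial m (f j) = monomial (m - Finsupp.single j 1) 1 * gseq f j := by
      have hm : m - Finsupp.single j 1 + Finsupp.single j 1 = m := by
        apply tsub_add_cancel_of_le
        rw [Finsupp.single_le_iff]
        omega
      simp only [gseq]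
      rw [← mul_assoc, mul_comm (monomial _ _) (C _), C_mul_monomial, mul_one,
        X, monomial_mul, mul_one, hm]
    rw [h1]
    exact Ideal.mul_mem_left _ _ (Ideal.subset_span ⟨j, hjU, rfl⟩)
  | zero => rw [map_zero]; exact Submodule.zero_mem _
  | add x y _ _ hx hy => rw [map_add]; exact Ideal.add_mem _ hx hy
  | smul a x _ hx =>
    rw [smul_eq_mul, ← C_mul_monomial]
    exact Ideal.mul_mem_left _ _ hx

lemma mem_of_coeffCond (U : Set (Fin r)) {p : MvPolynomial (Fin r) R}
    (hp : CoeffCond f U p) : p ∈ Ideal.span (gseq f '' U) := by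
  rw [← support_sum_monomial_coeff p]
  exact Ideal.sum_mem _ fun m _ => monomial_mem f U m (hp m)

lemma mem_iff_coeffCond (U : Set (Fin r)) (p : MvPolynomial (Fin r) R) :
    p ∈ Ideal.span (gseq f '' U) ↔ CoeffCond f U p :=
  ⟨coeffCond_of_mem f U, mem_of_coeffCond f U⟩

end Groth.Agent.Lib.helper1.RS
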