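import Groth.Agent.Lib.helper1.RS2

/-!
# `f_1 x_1, …, f_r x_r` is regular iff every permutation of `f` is
-/

open RingTheory.Sequence MvPolynomial

set_option linter.unusedSimpArgs false

namespace Groth.Agent.Lib.helper1.RS

variable {R : Type*} [CommRing R] {r : ℕ} (f : Fin r → R)

lemma occ_add_single (m : Fin r →₀ ℕ) (i : Fin r) :
    occ (Finsupp.single i 1 + m) {j | j < i} = occ m {j | j < i} := by
  ext j
  simp only [occ, Set.mem_ofPred_eq, Finsupp.coe_add, Pi.add_apply]
  constructor
  · rintro ⟨hj, h⟩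
    refine ⟨hj, ?_⟩
    rwa [Finsupp.single_eq_of_ne (ne_of_lt hj), zero_add] at h
  · rintro ⟨hj, h⟩
    refine ⟨hj, ?_⟩
    rwa [Finsupp.single_eq_of_ne (ne_of_lt hj), zero_add]

lemma coeff_gseq_mul (i : Fin r) (p : MvPolynomial (Fin r) R) (m : Fin r →₀ ℕ) :
    coeff (Finsupp.single i 1 + m) (gseq f i * p) = f i * coeff m p := by
  simp only [gseq]
  rw [mul_assoc, coeff_C_mul, coeff_X_mul]

/-- the condition (C) gives weak regularity of `f_i x_i` -/
lemma weaklyRegular_gseq_of_nzd
    (hC : ∀ i (T : Finset (Fin r)), (∀ j ∈ T, j < i) → NZD f i T) :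
    IsWeaklyRegular (MvPolynomial (Fin r) R) (List.ofFn (gseq f)) := by
  classical
  rw [isWeaklyRegular_ofFn_iff]
  intro i p hp
  rw [mem_iff_coeffCond] at hp ⊢
  intro m
  have h1 := hp (Finsupp.single i 1 + m)
  rw [coeff_gseq_mul, occ_add_single] at h1
  have hfin : (occ m {j | j < i}).Finite := Set.toFinite _
  have h2 := hC i hfin.toFinset (by
    intro j hj
    rw [Set.Finite.mem_toFinset] at hj
    exact hj.1)
  rw [Set.Finite.coe_toFinset] at h2
  exact h2 _ h1

/-- indicator monomial of a finset -/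
noncomputable def ind (T : Finset (Fin r)) : Fin r →₀ ℕ :=
  Finsupp.equivFunOnFinite.symm (fun j => if j ∈ T then 1 else 0)

lemma ind_apply (T : Finset (Fin r)) (j : Fin r) [Decidable (j ∈ T)] :
    ind T j = if j ∈ T then 1 else 0 := by
  unfold ind
  rw [Finsupp.equivFunOnFinite_symm_apply_apply]
  congr

lemma occ_ind (T : Finset (Fin r)) (i : Fin r) (hT : ∀ j ∈ T, j < i) :
    occ (ind T) {j | j < i} = (T : Set (Fin r)) := by
  classical
  ext j
  simp only [occ, Set.mem_ofPred_eq, Finset.mem_coe, ind_apply]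
  constructor
  · rintro ⟨_, h⟩
    by_contra hj
    simp [hj] at h
  · intro hj
    exact ⟨hT j hj, by simp [hj]⟩

lemma nzd_of_weaklyRegular_gseq
    (h : IsWeaklyRegular (MvPolynomial (Fin r) R) (List.ofFn (gseq f)))
    (i : Fin r) (T : Finset (Fin r)) (hT : ∀ j ∈ T, j < i) : NZD f i T := by
  classical
  rw [isWeaklyRegular_ofFn_iff] at h
  intro x hx
  set m := ind T with hm
  have h1 : gseq f i * monomial m x ∈ Ideal.span (gseq f '' {j | j < i}) := by
    rw [mem_iff_coeffCond]
    intro m'
    have e1 : gseq f i * monomial m x = monomial (Finsupp.single i 1 + m) (f i * x) := by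
      simp only [gseq]
      rw [mul_assoc, X, monomial_mul, one_mul, C_mul_monomial]
    rw [e1, coeff_monomial]
    split_ifs with h'
    · rw [← h', occ_add_single, hm, occ_ind T i hT]
      exact hx
    · exact Submodule.zero_mem _
  have h2 := h i _ h1
  rw [mem_iff_coeffCond] at h2
  have h3 := h2 m
  rwa [coeff_monomial, if_pos rfl, hm, occ_ind T i hT] at h3

lemma ofList_ofFn {S : Type*} [CommRing S] (g : Fin r → S) :
    Ideal.ofList (List.ofFn g) = Ideal.span (Set.range g) := by
  unfold Ideal.ofList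
  congr 1
  ext x
  simp [List.mem_ofFn]

theorem main (hf : Ideal.span (Set.range f) ≠ ⊤) :
    (∀ σ : Equiv.Perm (Fin r), IsRegular R (List.ofFn (f ∘ σ))) ↔
      IsRegular (MvPolynomial (Fin r) R)
        (List.ofFn fun i => MvPolynomial.C (f i) * MvPolynomial.X i) := by
  change _ ↔ IsRegular (MvPolynomial (Fin r) R) (List.ofFn (gseq f))
  constructor
  · intro h
    have hC' := nzd_of_weaklyRegular_perm f (fun σ => (h σ).toIsWeaklyRegular)
    refine ⟨weaklyRegular_gseq_of_nzd f (fun i T hT => hC' i T (fun hi => lt_irrefl i (hT i hi))), ?_⟩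
    rw [smul_eq_mul, Ideal.mul_top, ofList_ofFn]
    intro htop
    have h1 : (1 : MvPolynomial (Fin r) R) ∈ Ideal.span (gseq f '' Set.univ) := by
      rw [Set.image_univ, ← htop]; trivial
    have h2 := (mem_iff_coeffCond f Set.univ 1).mp h1 0
    have h3 : occ (0 : Fin r →₀ ℕ) Set.univ = ∅ := by
      ext j; simp [occ]
    rw [h3, Set.image_empty, Ideal.span_empty, Ideal.mem_bot, coeff_one, if_pos rfl] at h2
    apply hf
    rw [Ideal.eq_top_iff_one, h2]
    exact Submodule.zero_mem _
  · intro h σ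
    have hC := nzd_of_weaklyRegular_gseq f h.toIsWeaklyRegular
    have hC' := nzd_of_lt' f hC
    refine ⟨weaklyRegular_perm_of_nzd f hC' σ, ?_⟩
    rw [smul_eq_mul, Ideal.mul_top, ofList_ofFn]
    have : Set.range (f ∘ σ) = Set.range f := by
      rw [Set.range_comp, σ.surjective.range_eq, Set.image_univ]
    rw [this]
    exact fun h' => hf h'.symm

end Groth.Agent.Lib.helper1.RS
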