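import Mathlib
import Groth.Prelude.Def_PLie

/-! Restricted enveloping algebra `u(L)`: definition, universal property, induction. -/

namespace Groth.Agent.Lib.helper1.RU

universe u v w

variable (k : Type u) [CommRing k] (p : ℕ) {L : Type v} [LieRing L] [LieAlgebra k L] (φ : L → L)

/-- relations of the restricted enveloping algebra -/
inductive Rel : TensorAlgebra k L → TensorAlgebra k L → Prop
  | lie (x y : L) : Rel (TensorAlgebra.ι k ⁅x, y⁆)
      (TensorAlgebra.ι k x * TensorAlgebra.ι k y - TensorAlgebra.ι k y * TensorAlgebra.ι k x)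
  | pow (x : L) : Rel (TensorAlgebra.ι k (φ x)) (TensorAlgebra.ι k x ^ p)

/-- the restricted enveloping algebra -/
def U : Type (max u v) := RingQuot (Rel k p φ)

noncomputable instance instRingU : Ring (U k p φ) := inferInstanceAs (Ring (RingQuot (Rel k p φ)))

noncomputable instance instAlgebraU : Algebra k (U k p φ) :=
  inferInstanceAs (Algebra k (RingQuot (Rel k p φ)))

/-- the quotient map -/
noncomputable def mkU : TensorAlgebra k L →ₐ[k] U k p φ := RingQuot.mkAlgHom k (Rel k p φ)

theorem mkU_surjective : Function.Surjective (mkU k p φ) := RingQuot.mkAlgHom_surjective k (Rel k p φ)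

theorem mkU_rel {a c : TensorAlgebra k L} (h : Rel k p φ a c) : mkU k p φ a = mkU k p φ c :=
  RingQuot.mkAlgHom_rel k h

/-- the canonical map `L → u(L)` -/
noncomputable def iota : L →ₗ[k] U k p φ :=
  (mkU k p φ).toLinearMap ∘ₗ TensorAlgebra.ι k

theorem iota_def (x : L) : iota k p φ x = mkU k p φ (TensorAlgebra.ι k x) := rfl

theorem iota_lie (x y : L) :
    iota k p φ ⁅x, y⁆ = iota k p φ x * iota k p φ y - iota k p φ y * iota k p φ x := by
  simp only [iota_def]
  rw [mkU_rel k p φ (Rel.lie (p := p) (φ := φ) x y)]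
  simp

theorem iota_pow (x : L) : iota k p φ (φ x) = iota k p φ x ^ p := by
  simp only [iota_def]
  rw [mkU_rel k p φ (Rel.pow (p := p) (φ := φ) x)]
  simp

variable {k p φ}
variable {B : Type w} [Ring B] [Algebra k B]

/-- universal property -/
noncomputable def lift (ρ : L →ₗ[k] B) (hlie : ∀ x y, ρ ⁅x, y⁆ = ρ x * ρ y - ρ y * ρ x)
    (hpow : ∀ x, ρ (φ x) = ρ x ^ p) : U k p φ →ₐ[k] B :=
  (RingQuot.liftAlgHom k ⟨TensorAlgebra.lift k ρ, by
    intro a c h
    induction h with
    | lie x y => simp [hlie]
    | pow x => simp [hpow]⟩ : RingQuot (Rel k p φ) →ₐ[k] B)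

@[simp] theorem lift_iota (ρ : L →ₗ[k] B) (hlie : ∀ x y, ρ ⁅x, y⁆ = ρ x * ρ y - ρ y * ρ x)
    (hpow : ∀ x, ρ (φ x) = ρ x ^ p) (x : L) : lift ρ hlie hpow (iota k p φ x) = ρ x := by
  rw [iota_def, lift, mkU]
  erw [RingQuot.liftAlgHom_mkAlgHom_apply]
  rw [TensorAlgebra.lift_ι_apply]

theorem hom_ext {F G : U k p φ →ₐ[k] B} (h : ∀ x, F (iota k p φ x) = G (iota k p φ x)) : F = G := by
  have h1 : F.comp (mkU k p φ) = G.comp (mkU k p φ) := by
    apply TensorAlgebra.hom_ext
    apply LinearMap.ext
    intro x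
    exact h x
  apply AlgHom.ext
  intro w
  obtain ⟨a, rfl⟩ := mkU_surjective k p φ w
  exact congrArg (fun H => H a) h1

/-- induction: a subspace containing `1` and stable under left multiplication by `L` is everything -/
theorem left_induction (S : Submodule k (U k p φ)) (h1 : (1 : U k p φ) ∈ S)
    (h : ∀ x w, w ∈ S → iota k p φ x * w ∈ S) (w : U k p φ) : w ∈ S := by
  obtain ⟨a, rfl⟩ := mkU_surjective k p φ w
  suffices key : ∀ s ∈ S, mkU k p φ a * s ∈ S by
    simpa using key 1 h1
  induction a using TensorAlgebra.induction with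
  | algebraMap r =>
    intro s hs
    rw [AlgHom.commutes, Algebra.algebraMap_eq_smul_one, smul_mul_assoc, one_mul]
    exact S.smul_mem r hs
  | ι x => intro s hs; exact h x s hs
  | mul a c ha hc =>
    intro s hs
    rw [map_mul, mul_assoc]
    exact ha _ (hc s hs)
  | add a c ha hc =>
    intro s hs
    rw [map_add, add_mul]
    exact S.add_mem (ha s hs) (hc s hs)

/-- induction: a subspace containing `1` and stable under right multiplication by `L` is everything -/
theorem right_induction (S : Submodule k (U k p φ)) (h1 : (1 : U k p φ) ∈ S)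
    (h : ∀ x w, w ∈ S → w * iota k p φ x ∈ S) (w : U k p φ) : w ∈ S := by
  obtain ⟨a, rfl⟩ := mkU_surjective k p φ w
  suffices key : ∀ s ∈ S, s * mkU k p φ a ∈ S by
    simpa using key 1 h1
  induction a using TensorAlgebra.induction with
  | algebraMap r =>
    intro s hs
    rw [AlgHom.commutes, Algebra.algebraMap_eq_smul_one, mul_smul_comm, mul_one]
    exact S.smul_mem r hs
  | ι x => intro s hs; exact h x s hs
  | mul a c ha hc =>
    intro s hs
    rw [map_mul, ← mul_assoc]
    exact hc _ (ha s hs)
  | add a c ha hc =>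
    intro s hs
    rw [map_add, mul_add]
    exact S.add_mem (ha s hs) (hc s hs)

end Groth.Agent.Lib.helper1.RU
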