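import Mathlib
import Groth.Agent.Lib.helper1.PBW3
import Groth.Agent.Lib.helper1.PLie2
import Groth.Agent.Lib.helper1.RPBW7

/-! Ordered monomials in an algebra receiving a Lie map, and the comparison map from the
polynomial ring. -/

namespace Groth.Agent.Lib.helper1.RU

open MvPolynomial Groth.Agent.Lib.helper1.PBW

universe u v w w'

variable {R : Type u} [CommRing R] {L : Type v} [LieRing L] [LieAlgebra R L]
variable {ι : Type w} [LinearOrder ι] (b : Module.Basis ι R L)
variable {B : Type w'} [Ring B] [Algebra R B] (ρ : L →ₗ[R] B)

theorem low_zero (j : ι) : low j (0 : ι →₀ ℕ) := by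
  intro l hl; simp at hl

theorem low_of_add_left {j : ι} {m c : ι →₀ ℕ} (h : low j (m + c)) : low j m := by
  intro l hl
  apply h l
  rw [Finsupp.mem_support_iff] at hl ⊢
  simp only [Finsupp.coe_add, Pi.add_apply]
  omega

theorem low_of_add_right {j : ι} {m c : ι →₀ ℕ} (h : low j (m + c)) : low j c := by
  rw [add_comm] at h; exact low_of_add_left h

theorem low_sub {j : ι} {m c : ι →₀ ℕ} (h : low j m) : low j (m - c) := by
  intro l hl
  apply h l
  rw [Finsupp.mem_support_iff] at hl ⊢
  simp only [Finsupp.coe_tsub, Pi.sub_apply] at hl
  omega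

theorem low_induction {P : (ι →₀ ℕ) → Prop} (h0 : P 0)
    (hstep : ∀ (j : ι) (m : ι →₀ ℕ), low j m → P m → P (m + Finsupp.single j 1)) :
    ∀ m, P m := by
  suffices key : ∀ n (m : ι →₀ ℕ), m.degree = n → P m from fun m => key _ m rfl
  intro n
  induction n with
  | zero =>
    intro m hm
    have : m = 0 := (Finsupp.degree_eq_zero_iff m).mp hm
    rw [this]; exact h0
  | succ n ih =>
    intro m hm
    have hne : m.support.Nonempty := by
      rw [Finset.nonempty_iff_ne_empty]
      intro h
      rw [Finsupp.support_eq_empty] at h
      rw [h] at hm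
      simp at hm
    set j := m.support.min' hne with hj
    have hjm : j ∈ m.support := Finset.min'_mem _ _
    have h1 := degree_sub_single hjm
    have h2 := sub_add_cancel_of_mem hjm
    rw [← h2]
    apply hstep
    · apply low_sub
      intro l hl
      exact Finset.min'_le _ _ hl
    · apply ih
      omega

/-- auxiliary: ordered monomial with fuel -/
noncomputable def monAux : ℕ → (ι →₀ ℕ) → B
  | 0, _ => 1
  | n + 1, m =>
    if h : m.support.Nonempty then
      ρ (b (m.support.min' h)) * monAux n (m - Finsupp.single (m.support.min' h) 1)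
    else 1

/-- ordered monomial `∏ ρ(b i)^(m i)` (increasing order) -/
noncomputable def mon (m : ι →₀ ℕ) : B := monAux b ρ m.degree m

@[simp] theorem mon_zero : mon b ρ 0 = 1 := by
  simp [mon, monAux]

theorem mon_add_single {j : ι} {m : ι →₀ ℕ} (h : low j m) :
    mon b ρ (m + Finsupp.single j 1) = ρ (b j) * mon b ρ m := by
  unfold mon
  rw [degree_add_single, monAux]
  have hne : (m + Finsupp.single j 1).support.Nonempty := ⟨j, mem_support_add_single m j⟩
  rw [dif_pos hne]
  have := min'_add_single h hne
  rw [this, add_tsub_cancel_right]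

theorem mon_single (j : ι) : mon b ρ (Finsupp.single j 1) = ρ (b j) := by
  have := mon_add_single b ρ (low_zero j)
  rw [zero_add] at this
  rw [this, mon_zero, mul_one]

/-- naturality of ordered monomials -/
theorem map_mon {B' : Type*} [Ring B'] [Algebra R B'] (F : B →ₐ[R] B') (m : ι →₀ ℕ) :
    F (mon b ρ m) = mon b (F.toLinearMap ∘ₗ ρ) m := by
  induction m using low_induction with
  | h0 => simp
  | hstep j m hlow ih =>
    rw [mon_add_single b ρ hlow, mon_add_single b _ hlow, map_mul, ih]
    rfl

/-- the comparison map `X^m ↦ mon m` -/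
noncomputable def sig : MvPolynomial ι R →ₗ[R] B :=
  (basisMonomials ι R).constr R (fun m => mon b ρ m)

theorem sig_monomial (m : ι →₀ ℕ) : sig b ρ (monomial m 1) = mon b ρ m := by
  have := (basisMonomials ι R).constr_basis R (fun m => mon b ρ m) m
  rwa [coe_basisMonomials] at this

theorem sig_one : sig b ρ 1 = 1 := by
  have : (1 : MvPolynomial ι R) = monomial 0 1 := rfl
  rw [this, sig_monomial, mon_zero]

theorem sig_X (i : ι) : sig b ρ (X i) = ρ (b i) := by
  have : (X i : MvPolynomial ι R) = monomial (Finsupp.single i 1) 1 := rfl
  rw [this, sig_monomial, mon_single]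

/-- the comparison map intertwines the PBW action with left multiplication -/
theorem sig_Rho (hlie : ∀ x y, ρ ⁅x, y⁆ = ρ x * ρ y - ρ y * ρ x) :
    ∀ (d : ℕ) (x : L) (u : MvPolynomial ι R), u ∈ Mle (R := R) d →
      sig b ρ (Rho b x u) = ρ x * sig b ρ u := by
  intro d
  induction d using Nat.strong_induction_on with
  | _ d IH =>
    intro x
    refine Groth.Agent.Lib.helper1.PLieLib.basis_induction' b (P := fun x => ∀ u ∈ Mle (R := R) d,
      sig b ρ (Rho b x u) = ρ x * sig b ρ u) ?_ ?_ ?_ ?_ x
    · intro i
      refine Mle_induction d ?_ ?_ ?_ ?_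
      · simp
      · intro u v hu hv
        rw [map_add, map_add, hu, hv, map_add, mul_add]
      · intro c u hu
        rw [map_smul, map_smul, hu, map_smul, mul_smul_comm]
      · intro m hm
        by_cases hlow : low i m
        · rw [Rho_low b hlow, sig_monomial, sig_monomial, mon_add_single b ρ hlow]
        · have hne := supp_nonempty hlow
          rw [Rho_notlow b hlow]
          set j := m.support.min' hne with hj
          have hjm : j ∈ m.support := Finset.min'_mem _ _
          set m' := m - Finsupp.single j 1 with hm'
          have hdeg : m'.degree + 1 = m.degree := degree_sub_single hjm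
          have hmm' : m' + Finsupp.single j 1 = m := sub_add_cancel_of_mem hjm
          have hlowj : low j m' := by
            apply low_sub
            intro l hl
            exact Finset.min'_le _ _ hl
          have hji : j < i := by
            unfold low at hlow
            push Not at hlow
            obtain ⟨l, hl, hli⟩ := hlow
            exact lt_of_le_of_lt (Finset.min'_le _ _ hl) hli
          have hd : m'.degree < d := by omega
          have hw : Rho b (b i) (monomial m' 1) - monomial (m' + Finsupp.single i 1) 1
              ∈ Mle (R := R) m'.degree := Rho_B b i m'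
          have hm'mem : monomial m' (1 : R) ∈ Mle (R := R) m'.degree := mon_mem_Mle (le_refl _)
          rw [map_add, map_add, IH _ hd _ _ hw, IH _ hd _ _ hm'mem, map_sub,
            IH _ hd _ _ hm'mem, sig_monomial, sig_monomial, sig_monomial, sig_monomial, hlie]
          have e1 : mon b ρ (m + Finsupp.single i 1)
              = ρ (b j) * mon b ρ (m' + Finsupp.single i 1) := by
            have : m + Finsupp.single i 1 = (m' + Finsupp.single i 1) + Finsupp.single j 1 := by
              rw [← hmm']; abel
            rw [this, mon_add_single b ρ (low_add_single hlowj (le_of_lt hji))]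
          have e2 : mon b ρ m = ρ (b j) * mon b ρ m' := by
            conv_lhs => rw [← hmm']
            rw [mon_add_single b ρ hlowj]
          rw [e1, e2]
          noncomm_ring
    · intro u _; simp
    · intro x y hx hy u hu
      rw [map_add, LinearMap.add_apply, map_add, hx u hu, hy u hu, map_add, add_mul]
    · intro c x hx u hu
      rw [map_smul, LinearMap.smul_apply, map_smul, hx u hu, map_smul, smul_mul_assoc]

theorem sig_Rho' (hlie : ∀ x y, ρ ⁅x, y⁆ = ρ x * ρ y - ρ y * ρ x) (x : L)
    (u : MvPolynomial ι R) : sig b ρ (Rho b x u) = ρ x * sig b ρ u :=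
  sig_Rho b ρ hlie _ x u (Groth.Agent.Lib.helper1.RPBW.mem_Mle_totalDegree u)

end Groth.Agent.Lib.helper1.RU
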