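import Mathlib
import Groth.Agent.Lib.helper1.RU1
import Groth.Agent.Lib.helper1.RU2
import Groth.Agent.Lib.helper1.RPBW7

/-! PBW theorem for the restricted enveloping algebra. -/

namespace Groth.Agent.Lib.helper1.RU

open MvPolynomial Groth.Agent.Lib.helper1.PBW Groth.Agent.Lib.helper1.RPBW

universe u v w

variable {R : Type u} [CommRing R] (p : ℕ) [hp : Fact p.Prime] [CharP R p]
variable {L : Type v} [LieRing L] [LieAlgebra R L]
variable {ι : Type w} [LinearOrder ι] (b : Module.Basis ι R L) (φ : PLie.PMap R p L)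

/-- the restricted enveloping algebra of `(L, φ)` -/
abbrev Uφ : Type (max u v) := U R p (⇑φ)

/-- the canonical map -/
noncomputable abbrev io : L →ₗ[R] Uφ p φ := iota R p (⇑φ)

/-- the comparison map `M → u(L)` -/
noncomputable def sg : MvPolynomial ι R →ₗ[R] Uφ p φ := sig b (io p φ)

theorem sg_monomial (m : ι →₀ ℕ) : sg p b φ (monomial m 1) = mon b (io p φ) m := sig_monomial _ _ _

theorem sg_one : sg p b φ 1 = 1 := sig_one _ _

theorem sg_X (i : ι) : sg p b φ (X i) = io p φ (b i) := sig_X _ _ _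

theorem sg_Rho (x : L) (g : MvPolynomial ι R) :
    sg p b φ (Rho b x g) = io p φ x * sg p b φ g :=
  sig_Rho' b (io p φ) (iota_lie R p (⇑φ)) x g

theorem sg_e₀_pow (x : L) (n : ℕ) (g : MvPolynomial ι R) :
    sg p b φ ((e₀ b x ^ n) g) = io p φ x ^ n * sg p b φ g := by
  induction n generalizing g with
  | zero => simp
  | succ n ih =>
    rw [pow_succ, Module.End.mul_apply, ih, pow_succ, mul_assoc]
    congr 1
    exact sg_Rho p b φ x g

theorem sg_surjective : Function.Surjective (sg p b φ) := by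
  intro w
  have := left_induction (LinearMap.range (sg p b φ)) ⟨1, sg_one p b φ⟩ ?_ w
  · exact this
  · rintro x _ ⟨g, rfl⟩
    exact ⟨Rho b x g, sg_Rho p b φ x g⟩

theorem sg_z (i : ι) (g : MvPolynomial ι R) : sg p b φ (z p b φ i g) = 0 := by
  rw [z_def, LinearMap.sub_apply, map_sub, sg_e₀_pow]
  have : e₀ b (φ (b i)) g = Rho b (φ (b i)) g := rfl
  rw [this, sg_Rho, ← sub_mul]
  have h := iota_pow R p (⇑φ) (b i)
  rw [h, sub_self, zero_mul]

theorem W_le_ker : W p b φ ≤ LinearMap.ker (sg p b φ) := by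
  unfold W
  apply iSup_le
  rintro i _ ⟨g, rfl⟩
  exact sg_z p b φ i g

/-- the induced map `M/W → u(L)` -/
noncomputable def sgbar : (MvPolynomial ι R ⧸ W p b φ) →ₗ[R] Uφ p φ :=
  (W p b φ).liftQ (sg p b φ) (W_le_ker p b φ)

theorem sgbar_mk (g : MvPolynomial ι R) : sgbar p b φ (Submodule.Quotient.mk g) = sg p b φ g := rfl

/-- the action of `u(L)` on `M/W` -/
noncomputable def rb : Uφ p φ →ₐ[R] Module.End R (MvPolynomial ι R ⧸ W p b φ) :=
  lift (rbar p b φ) (rbar_lie p b φ) (rbar_pmap p b φ)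

theorem rb_io (x : L) : rb p b φ (io p φ x) = rbar p b φ x := lift_iota _ _ _ _

/-- orbit map of `1` -/
noncomputable def alpha : Uφ p φ →ₗ[R] (MvPolynomial ι R ⧸ W p b φ) :=
  (LinearMap.applyₗ (Submodule.Quotient.mk 1)) ∘ₗ (rb p b φ).toLinearMap

theorem alpha_apply (w : Uφ p φ) : alpha p b φ w = rb p b φ w (Submodule.Quotient.mk 1) := rfl

theorem alpha_mul (a w : Uφ p φ) : alpha p b φ (a * w) = rb p b φ a (alpha p b φ w) := by
  rw [alpha_apply, map_mul, Module.End.mul_apply, alpha_apply]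

theorem alpha_mon (m : ι →₀ ℕ) :
    alpha p b φ (mon b (io p φ) m) = Submodule.Quotient.mk (monomial m 1) := by
  induction m using low_induction with
  | h0 =>
    rw [mon_zero, alpha_apply, map_one]
    rfl
  | hstep j m hlow ih =>
    rw [mon_add_single b _ hlow, alpha_mul, ih, rb_io, rbar_mk]
    have : e₀ b (b j) (monomial m 1) = Rho b (b j) (monomial m 1) := rfl
    rw [this, Rho_low b hlow]

theorem alpha_sg (g : MvPolynomial ι R) : alpha p b φ (sg p b φ g) = Submodule.Quotient.mk g := by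
  induction g using MvPolynomial.induction_on' with
  | monomial m a =>
    have : monomial m a = a • monomial m (1 : R) := by
      rw [smul_monomial, smul_eq_mul, mul_one]
    rw [this, map_smul, map_smul, sg_monomial, alpha_mon, Submodule.Quotient.mk_smul]
  | add g g' hg hg' =>
    rw [map_add, map_add, hg, hg', Submodule.Quotient.mk_add]

theorem alpha_sgbar (n : MvPolynomial ι R ⧸ W p b φ) : alpha p b φ (sgbar p b φ n) = n := by
  obtain ⟨g, rfl⟩ := Submodule.Quotient.mk_surjective _ n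
  rw [sgbar_mk, alpha_sg]

theorem sgbar_surjective : Function.Surjective (sgbar p b φ) := by
  intro w
  obtain ⟨g, rfl⟩ := sg_surjective p b φ w
  exact ⟨Submodule.Quotient.mk g, rfl⟩

theorem sgbar_injective : Function.Injective (sgbar p b φ) :=
  Function.LeftInverse.injective (alpha_sgbar p b φ)

theorem sgbar_alpha (w : Uφ p φ) : sgbar p b φ (alpha p b φ w) = w := by
  obtain ⟨n, rfl⟩ := sgbar_surjective p b φ w
  rw [alpha_sgbar]

/-- PBW: `M/W ≃ u(L)` -/
noncomputable def pbwEquiv : (MvPolynomial ι R ⧸ W p b φ) ≃ₗ[R] Uφ p φ :=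
  LinearEquiv.ofLinearMap (sgbar p b φ) (alpha p b φ)
    (LinearMap.ext (sgbar_alpha p b φ)) (LinearMap.ext (alpha_sgbar p b φ))

include b in
theorem finite_U [Finite ι] : Module.Finite R (Uφ p φ) :=
  haveI := finite_quotient p b φ
  Module.Finite.of_surjective (sgbar p b φ) (sgbar_surjective p b φ)

include b in
theorem io_injective : Function.Injective (io p φ) := by
  intro x y h
  apply rbar_injective p b φ
  rw [← rb_io, ← rb_io, h]

theorem sg_eq_zero_of_mem_Res {g : MvPolynomial ι R} (hg : g ∈ Res (R := R) (ι := ι) p)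
    (h : sg p b φ g = 0) : g = 0 := by
  have h1 : (Submodule.Quotient.mk g : MvPolynomial ι R ⧸ W p b φ) = 0 := by
    rw [← alpha_sg, h, map_zero]
  rw [Submodule.Quotient.mk_eq_zero] at h1
  have h2 : g ∈ W p b φ ⊓ Res (R := R) (ι := ι) p := ⟨h1, hg⟩
  rw [W_inf_Res] at h2
  exact h2

theorem sg_inj_of_mem_Res {g g' : MvPolynomial ι R} (hg : g ∈ Res (R := R) (ι := ι) p)
    (hg' : g' ∈ Res (R := R) (ι := ι) p) (h : sg p b φ g = sg p b φ g') : g = g' := by
  have := sg_eq_zero_of_mem_Res p b φ (Submodule.sub_mem _ hg hg') (by rw [map_sub, h, sub_self])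
  exact sub_eq_zero.mp this

theorem exists_Res_rep (w : Uφ p φ) : ∃ g ∈ Res (R := R) (ι := ι) p, sg p b φ g = w := by
  obtain ⟨g, rfl⟩ := sg_surjective p b φ w
  have hg : g ∈ W p b φ ⊔ Res (R := R) (ι := ι) p := by rw [W_sup_Res]; trivial
  obtain ⟨g₁, hg₁, g₂, hg₂, rfl⟩ := Submodule.mem_sup.mp hg
  refine ⟨g₂, hg₂, ?_⟩
  rw [map_add, W_le_ker p b φ hg₁, zero_add]

end Groth.Agent.Lib.helper1.RU
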