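import Mathlib
import Groth.Agent.Lib.helper1.RU1

/-! Hopf algebra structure on the restricted enveloping algebra. -/

namespace Groth.Agent.Lib.helper1.RU

open TensorProduct

universe u v w

theorem add_pow_of_commute_of_charP {k : Type u} [CommRing k] (p : ℕ) [hp : Fact p.Prime] [CharP k p]
    {B : Type w} [Ring B] [Algebra k B] {a c : B} (h : Commute a c) :
    (a + c) ^ p = a ^ p + c ^ p := by
  rcases subsingleton_or_nontrivial B with hB | hB
  · exact Subsingleton.elim _ _
  · have h0 : (p : B) = 0 := by
      have : (p : B) = algebraMap k B (p : k) := (map_natCast (algebraMap k B) p).symm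
      rw [this, CharP.cast_eq_zero, map_zero]
    haveI : CharP B p := (CharP.charP_iff_prime_eq_zero hp.out).mpr h0
    exact add_pow_char_of_commute p h

theorem neg_pow_of_charP {k : Type u} [CommRing k] (p : ℕ) [hp : Fact p.Prime] [CharP k p]
    {B : Type w} [Ring B] [Algebra k B] (a : B) : (-a) ^ p = -(a ^ p) := by
  rcases subsingleton_or_nontrivial B with hB | hB
  · exact Subsingleton.elim _ _
  · have h0 : (p : B) = 0 := by
      have : (p : B) = algebraMap k B (p : k) := (map_natCast (algebraMap k B) p).symm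
      rw [this, CharP.cast_eq_zero, map_zero]
    haveI : CharP B p := (CharP.charP_iff_prime_eq_zero hp.out).mpr h0
    rw [neg_pow, neg_one_pow_char B p, neg_one_mul]

variable (k : Type u) [CommRing k] (p : ℕ) [hp : Fact p.Prime] [CharP k p]
variable {L : Type v} [LieRing L] [LieAlgebra k L] (φ : L → L)

/-- `x ↦ x ⊗ 1 + 1 ⊗ x` -/
noncomputable def rho2 : L →ₗ[k] U k p φ ⊗[k] U k p φ :=
  ((TensorProduct.mk k (U k p φ) (U k p φ)).flip 1) ∘ₗ iota k p φ
    + (TensorProduct.mk k (U k p φ) (U k p φ) 1) ∘ₗ iota k p φ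

theorem rho2_apply (x : L) : rho2 k p φ x = iota k p φ x ⊗ₜ 1 + 1 ⊗ₜ iota k p φ x := rfl

theorem rho2_lie (x y : L) :
    rho2 k p φ ⁅x, y⁆ = rho2 k p φ x * rho2 k p φ y - rho2 k p φ y * rho2 k p φ x := by
  simp only [rho2_apply, iota_lie, add_mul, mul_add, Algebra.TensorProduct.tmul_mul_tmul, mul_one,
    one_mul, TensorProduct.sub_tmul, TensorProduct.tmul_sub]
  abel

theorem rho2_pow (x : L) : rho2 k p φ (φ x) = rho2 k p φ x ^ p := by
  rw [rho2_apply, rho2_apply, add_pow_of_commute_of_charP (k := k) p (B := U k p φ ⊗[k] U k p φ), Algebra.TensorProduct.tmul_pow,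
    Algebra.TensorProduct.tmul_pow, one_pow, iota_pow]
  unfold Commute SemiconjBy
  rw [Algebra.TensorProduct.tmul_mul_tmul, Algebra.TensorProduct.tmul_mul_tmul]
  simp

/-- comultiplication as an algebra map -/
noncomputable def comulA : U k p φ →ₐ[k] U k p φ ⊗[k] U k p φ :=
  lift (B := U k p φ ⊗[k] U k p φ) (rho2 k p φ) (rho2_lie k p φ) (rho2_pow k p φ)

theorem comulA_iota (x : L) :
    comulA k p φ (iota k p φ x) = iota k p φ x ⊗ₜ 1 + 1 ⊗ₜ iota k p φ x := by
  rw [comulA, lift_iota, rho2_apply]

/-- counit as an algebra map -/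
noncomputable def counitA : U k p φ →ₐ[k] k :=
  lift (0 : L →ₗ[k] k) (by intro x y; simp) (by intro x; simp [hp.out.ne_zero])

theorem counitA_iota (x : L) : counitA k p φ (iota k p φ x) = 0 := by
  rw [counitA, lift_iota]; rfl

noncomputable instance instBialgebra : Bialgebra k (U k p φ) :=
  Bialgebra.ofAlgHom (comulA k p φ) (counitA k p φ)
    (by
      apply hom_ext (B := U k p φ ⊗[k] (U k p φ ⊗[k] U k p φ))
      intro x
      simp only [AlgHom.comp_apply, comulA_iota, map_add, Algebra.TensorProduct.map_tmul,
        AlgHom.id_apply, map_one, AlgHom.coe_coe,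
        TensorProduct.add_tmul, Algebra.TensorProduct.assoc_tmul, Algebra.TensorProduct.one_def,
        TensorProduct.tmul_add]
      abel)
    (by
      apply hom_ext (B := k ⊗[k] U k p φ)
      intro x
      simp [comulA_iota, counitA_iota])
    (by
      apply hom_ext (B := U k p φ ⊗[k] k)
      intro x
      simp [comulA_iota, counitA_iota])

theorem comul_eq (w : U k p φ) : Coalgebra.comul (R := k) w = comulA k p φ w := rfl

theorem counit_eq (w : U k p φ) : Coalgebra.counit (R := k) w = counitA k p φ w := rfl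

@[simp] theorem comul_iota (x : L) :
    Coalgebra.comul (R := k) (iota k p φ x) = iota k p φ x ⊗ₜ[k] 1 + 1 ⊗ₜ[k] iota k p φ x :=
  comulA_iota k p φ x

@[simp] theorem counit_iota (x : L) : Coalgebra.counit (R := k) (iota k p φ x) = 0 :=
  counitA_iota k p φ x

theorem comul_mul (a c : U k p φ) :
    Coalgebra.comul (R := k) (a * c) = Coalgebra.comul (R := k) a * Coalgebra.comul (R := k) c :=
  map_mul (comulA k p φ) a c

theorem counit_mul (a c : U k p φ) :
    Coalgebra.counit (R := k) (a * c) = Coalgebra.counit (R := k) a * Coalgebra.counit (R := k) c :=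
  map_mul (counitA k p φ) a c

instance instIsCocomm : Coalgebra.IsCocomm k (U k p φ) where
  comm_comp_comul := by
    have h : (Algebra.TensorProduct.comm k (U k p φ) (U k p φ)).toAlgHom.comp (comulA k p φ)
        = comulA k p φ := by
      apply hom_ext (B := U k p φ ⊗[k] U k p φ)
      intro x
      rw [AlgHom.comp_apply, comulA_iota, map_add]
      change Algebra.TensorProduct.comm k _ _ (_ ⊗ₜ[k] _) + Algebra.TensorProduct.comm k _ _ (_ ⊗ₜ[k] _) = _
      rw [Algebra.TensorProduct.comm_tmul, Algebra.TensorProduct.comm_tmul, add_comm]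
    apply LinearMap.ext
    intro w
    exact congrArg (fun F => F w) h

/-- antipode as an algebra map to the opposite algebra -/
noncomputable def antiA : U k p φ →ₐ[k] (U k p φ)ᵐᵒᵖ :=
  lift (-((MulOpposite.opLinearEquiv k).toLinearMap ∘ₗ iota k p φ))
    (by
      intro x y
      simp only [LinearMap.neg_apply, LinearMap.comp_apply, LinearEquiv.coe_coe,
        MulOpposite.coe_opLinearEquiv, iota_lie, neg_mul_neg, ← MulOpposite.op_mul,
        MulOpposite.op_sub, neg_sub])
    (by
      intro x
      simp only [LinearMap.neg_apply, LinearMap.comp_apply, LinearEquiv.coe_coe,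
        MulOpposite.coe_opLinearEquiv, iota_pow]
      rw [neg_pow_of_charP (k := k) p, MulOpposite.op_pow])

theorem antiA_iota (x : L) : antiA k p φ (iota k p φ x) = MulOpposite.op (-(iota k p φ x)) := by
  rw [antiA, lift_iota]
  simp

/-- the antipode -/
noncomputable def anti : U k p φ →ₗ[k] U k p φ :=
  (MulOpposite.opLinearEquiv k).symm.toLinearMap ∘ₗ (antiA k p φ).toLinearMap

theorem anti_apply (w : U k p φ) : anti k p φ w = MulOpposite.unop (antiA k p φ w) := rfl

theorem anti_iota (x : L) : anti k p φ (iota k p φ x) = -(iota k p φ x) := by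
  rw [anti_apply, antiA_iota]; rfl

theorem anti_mul (a c : U k p φ) : anti k p φ (a * c) = anti k p φ c * anti k p φ a := by
  rw [anti_apply, map_mul, MulOpposite.unop_mul]; rfl

theorem anti_one : anti k p φ 1 = 1 := by
  rw [anti_apply, map_one]; rfl

theorem anti_left_aux (x : L) (t : U k p φ ⊗[k] U k p φ) :
    LinearMap.mul' k (U k p φ) ((anti k p φ).rTensor (U k p φ)
      ((iota k p φ x ⊗ₜ 1 + 1 ⊗ₜ iota k p φ x) * t)) = 0 := by
  induction t using TensorProduct.induction_on with
  | zero => simp
  | tmul a c =>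
    rw [add_mul, Algebra.TensorProduct.tmul_mul_tmul, Algebra.TensorProduct.tmul_mul_tmul, map_add,
      map_add, LinearMap.rTensor_tmul, LinearMap.rTensor_tmul, LinearMap.mul'_apply,
      LinearMap.mul'_apply]
    simp only [one_mul, anti_mul, anti_iota, mul_neg, neg_mul, mul_assoc, neg_add_cancel]
  | add t t' ht ht' =>
    rw [mul_add, map_add, map_add, ht, ht', add_zero]

theorem anti_right_aux (x : L) (t : U k p φ ⊗[k] U k p φ) :
    LinearMap.mul' k (U k p φ) ((anti k p φ).lTensor (U k p φ)
      (t * (iota k p φ x ⊗ₜ 1 + 1 ⊗ₜ iota k p φ x))) = 0 := by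
  induction t using TensorProduct.induction_on with
  | zero => simp
  | tmul a c =>
    rw [mul_add, Algebra.TensorProduct.tmul_mul_tmul, Algebra.TensorProduct.tmul_mul_tmul, map_add,
      map_add, LinearMap.lTensor_tmul, LinearMap.lTensor_tmul, LinearMap.mul'_apply,
      LinearMap.mul'_apply]
    simp only [mul_one, anti_mul, anti_iota, mul_neg, neg_mul, mul_assoc, add_neg_cancel]
  | add t t' ht ht' =>
    rw [add_mul, map_add, map_add, ht, ht', add_zero]

noncomputable instance instHopfAlgebra : HopfAlgebra k (U k p φ) where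
  antipode := anti k p φ
  mul_antipode_rTensor_comul := by
    apply LinearMap.ext
    intro w
    refine left_induction (LinearMap.eqLocus
      (LinearMap.mul' k (U k p φ) ∘ₗ (anti k p φ).rTensor (U k p φ) ∘ₗ Coalgebra.comul)
      (Algebra.linearMap k (U k p φ) ∘ₗ Coalgebra.counit)) ?_ ?_ w
    · rw [LinearMap.mem_eqLocus]
      simp only [LinearMap.comp_apply, Bialgebra.comul_one, Bialgebra.counit_one,
        Algebra.TensorProduct.one_def, LinearMap.rTensor_tmul, LinearMap.mul'_apply, anti_one]
      simp
    · intro x a _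
      rw [LinearMap.mem_eqLocus]
      simp only [LinearMap.comp_apply]
      rw [comul_mul, comul_iota, anti_left_aux, counit_mul, counit_iota, zero_mul, map_zero]
  mul_antipode_lTensor_comul := by
    apply LinearMap.ext
    intro w
    refine right_induction (LinearMap.eqLocus
      (LinearMap.mul' k (U k p φ) ∘ₗ (anti k p φ).lTensor (U k p φ) ∘ₗ Coalgebra.comul)
      (Algebra.linearMap k (U k p φ) ∘ₗ Coalgebra.counit)) ?_ ?_ w
    · rw [LinearMap.mem_eqLocus]
      simp only [LinearMap.comp_apply, Bialgebra.comul_one, Bialgebra.counit_one,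
        Algebra.TensorProduct.one_def, LinearMap.lTensor_tmul, LinearMap.mul'_apply, anti_one]
      simp
    · intro x a _
      rw [LinearMap.mem_eqLocus]
      simp only [LinearMap.comp_apply]
      rw [comul_mul, comul_iota, anti_right_aux, counit_mul, counit_iota, mul_zero, map_zero]

end Groth.Agent.Lib.helper1.RU
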