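import Mathlib
import Groth.Agent.Lib.helper1.RU3
import Groth.Agent.Lib.helper1.RU4

/-! Primitive elements of the restricted enveloping algebra are exactly `L`. -/

namespace Groth.Agent.Lib.helper1.RU

open MvPolynomial TensorProduct Groth.Agent.Lib.helper1.PBW Groth.Agent.Lib.helper1.RPBW

universe u v w

variable {K : Type u} [Field K] (p : ℕ) [hp : Fact p.Prime] [CharP K p]
variable {L : Type v} [LieRing L] [LieAlgebra K L]
variable {ι : Type w} [LinearOrder ι] (b : Module.Basis ι K L) (φ : PLie.PMap K p L)

theorem Res_induction {P : MvPolynomial ι K → Prop} (h0 : P 0)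
    (hadd : ∀ u v, P u → P v → P (u + v)) (hsmul : ∀ (c : K) u, P u → P (c • u))
    (hmon : ∀ m : ι →₀ ℕ, (∀ l, m l < p) → P (monomial m 1)) :
    ∀ u ∈ Res (R := K) (ι := ι) p, P u := by
  intro u hu
  unfold Res at hu
  rw [restrictSupport_eq_span] at hu
  induction hu using Submodule.span_induction with
  | mem x hx =>
    obtain ⟨m, hm, rfl⟩ := hx
    exact hmon m hm
  | zero => exact h0
  | add x y _ _ hx hy => exact hadd x y hx hy
  | smul c x _ hx => exact hsmul c x hx

theorem monomial_mem_Res {m : ι →₀ ℕ} (hm : ∀ l, m l < p) (c : K) :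
    monomial m c ∈ Res (R := K) (ι := ι) p := by
  unfold Res
  rw [mem_restrictSupport_iff]
  intro n hn
  have := support_monomial_subset hn
  rw [Finset.mem_singleton] at this
  rw [this]
  exact hm

theorem isCompl_W_Res : IsCompl (W p b φ) (Res (R := K) (ι := ι) p) :=
  IsCompl.of_eq (W_inf_Res p b φ) (W_sup_Res p b φ)

/-- linear section of `sg` with image `Res` -/
noncomputable def sec : Uφ p φ →ₗ[K] MvPolynomial ι K :=
  (Res (R := K) (ι := ι) p).subtype ∘ₗ
    (Submodule.quotientEquivOfIsCompl _ _ (isCompl_W_Res p b φ)).toLinearMap ∘ₗ alpha p b φ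

theorem sec_sg {g : MvPolynomial ι K} (hg : g ∈ Res (R := K) (ι := ι) p) :
    sec p b φ (sg p b φ g) = g := by
  unfold sec
  simp only [LinearMap.comp_apply, LinearEquiv.coe_coe, alpha_sg]
  have := Submodule.quotientEquivOfIsCompl_apply_mk_right (isCompl_W_Res p b φ) ⟨g, hg⟩
  rw [this]
  rfl

/-- coefficient functional of `x_i` -/
noncomputable def tau (i : ι) : Uφ p φ →ₗ[K] K :=
  (lcoeff K (Finsupp.single i 1)) ∘ₗ sec p b φ

theorem tau_mon (i : ι) {m : ι →₀ ℕ} (hm : ∀ l, m l < p) :
    tau p b φ i (mon b (io p φ) m) = if m = Finsupp.single i 1 then 1 else 0 := by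
  unfold tau
  rw [LinearMap.comp_apply, ← sg_monomial, sec_sg p b φ (monomial_mem_Res p hm 1), lcoeff_apply,
    coeff_monomial]

theorem counit_mon (m : ι →₀ ℕ) :
    Coalgebra.counit (R := K) (mon b (io p φ) m) = if m = 0 then 1 else 0 := by
  induction m using low_induction with
  | h0 => rw [mon_zero, if_pos rfl]; exact Bialgebra.counit_one
  | hstep j m hlow _ =>
    rw [mon_add_single b _ hlow, counit_mul, counit_iota, zero_mul, if_neg]
    intro h
    have := congrArg (fun f => f j) h
    simp at this

/-- span of `mon c ⊗ mon d`, `c + d = m` -/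
noncomputable def Tm (m : ι →₀ ℕ) : Submodule K (Uφ p φ ⊗[K] Uφ p φ) :=
  Submodule.span K {t | ∃ c d : ι →₀ ℕ, c + d = m ∧ t = mon b (io p φ) c ⊗ₜ[K] mon b (io p φ) d}

theorem mul_mem_Tm {j : ι} {m : ι →₀ ℕ} (hlow : low j m) {t : Uφ p φ ⊗[K] Uφ p φ}
    (ht : t ∈ Tm p b φ m) :
    (io p φ (b j) ⊗ₜ[K] 1 + 1 ⊗ₜ[K] io p φ (b j)) * t ∈ Tm p b φ (m + Finsupp.single j 1) := by
  unfold Tm at ht
  induction ht using Submodule.span_induction with
  | mem t ht =>
    obtain ⟨c, d, hcd, rfl⟩ := ht
    rw [add_mul, Algebra.TensorProduct.tmul_mul_tmul, Algebra.TensorProduct.tmul_mul_tmul, one_mul,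
      one_mul]
    have hc : low j c := low_of_add_left (hcd ▸ hlow)
    have hd : low j d := low_of_add_right (hcd ▸ hlow)
    rw [← mon_add_single b _ hc, ← mon_add_single b _ hd]
    apply Submodule.add_mem
    · apply Submodule.subset_span
      exact ⟨c + Finsupp.single j 1, d, by rw [← hcd]; abel, rfl⟩
    · apply Submodule.subset_span
      exact ⟨c, d + Finsupp.single j 1, by rw [← hcd]; abel, rfl⟩
  | zero => rw [mul_zero]; exact Submodule.zero_mem _
  | add x y _ _ hx hy => rw [mul_add]; exact Submodule.add_mem _ hx hy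
  | smul c x _ hx => rw [mul_smul_comm]; exact Submodule.smul_mem _ c hx

theorem comul_mon_mem (m : ι →₀ ℕ) :
    Coalgebra.comul (R := K) (mon b (io p φ) m) ∈ Tm p b φ m := by
  induction m using low_induction with
  | h0 =>
    rw [mon_zero, Bialgebra.comul_one]
    apply Submodule.subset_span
    exact ⟨0, 0, by simp, by simp [Algebra.TensorProduct.one_def]⟩
  | hstep j m hlow ih =>
    rw [mon_add_single b _ hlow, comul_mul, comul_iota]
    exact mul_mem_Tm p b φ hlow ih

/-- contraction with a functional in the first factor -/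
noncomputable def contr (f : Uφ p φ →ₗ[K] K) : Uφ p φ ⊗[K] Uφ p φ →ₗ[K] Uφ p φ :=
  (TensorProduct.lid K (Uφ p φ)).toLinearMap ∘ₗ f.rTensor (Uφ p φ)

theorem contr_tmul (f : Uφ p φ →ₗ[K] K) (a c : Uφ p φ) : contr p φ f (a ⊗ₜ c) = f a • c := by
  simp [contr]

theorem contr_one_tmul_mul (f : Uφ p φ →ₗ[K] K) (a : Uφ p φ) (t : Uφ p φ ⊗[K] Uφ p φ) :
    contr p φ f ((1 ⊗ₜ[K] a) * t) = a * contr p φ f t := by
  induction t using TensorProduct.induction_on with
  | zero => simp
  | tmul c d =>
    rw [Algebra.TensorProduct.tmul_mul_tmul, one_mul, contr_tmul, contr_tmul, mul_smul_comm]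
  | add t t' ht ht' => rw [mul_add, map_add, map_add, ht, ht', mul_add]

theorem contr_counit_comul (w : Uφ p φ) :
    contr p φ (Coalgebra.counit (R := K)) (Coalgebra.comul (R := K) w) = w := by
  have := Coalgebra.rTensor_counit_comul (R := K) w
  unfold contr
  rw [LinearMap.comp_apply, this]
  simp

theorem contr_tau_mul {i j : ι} {m : ι →₀ ℕ} (hlow : low j m)
    (hres : ∀ l, (m + Finsupp.single j 1 : ι →₀ ℕ) l < p) {t : Uφ p φ ⊗[K] Uφ p φ}
    (ht : t ∈ Tm p b φ m) :
    contr p φ (tau p b φ i) ((io p φ (b j) ⊗ₜ[K] 1) * t)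
      = (if i = j then (1 : K) else 0) • contr p φ (Coalgebra.counit (R := K)) t := by
  unfold Tm at ht
  induction ht using Submodule.span_induction with
  | mem t ht =>
    obtain ⟨c, d, hcd, rfl⟩ := ht
    have hc : low j c := low_of_add_left (hcd ▸ hlow)
    rw [Algebra.TensorProduct.tmul_mul_tmul, one_mul, ← mon_add_single b _ hc, contr_tmul,
      contr_tmul, counit_mon, tau_mon, smul_smul]
    · congr 1
      by_cases hij : i = j
      · subst hij
        by_cases hc0 : c = 0
        · subst hc0; simp
        · rw [if_neg hc0, mul_zero, if_neg]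
          intro h
          apply hc0
          have : c + Finsupp.single i 1 = 0 + Finsupp.single i 1 := by rw [h, zero_add]
          exact add_right_cancel this
      · rw [if_neg hij, zero_mul, if_neg]
        intro h
        have h1 := congrArg Finsupp.degree h
        rw [degree_add_single, Finsupp.degree_single] at h1
        have hc0 : c = 0 := (Finsupp.degree_eq_zero_iff c).mp (by omega)
        rw [hc0, zero_add] at h
        have := Finsupp.single_left_injective (one_ne_zero) h
        exact hij this.symm
    · intro l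
      have h1 := hres l
      have h2 : (c + Finsupp.single j 1 : ι →₀ ℕ) l ≤ (m + Finsupp.single j 1 : ι →₀ ℕ) l := by
        rw [← hcd]
        simp only [Finsupp.coe_add, Pi.add_apply]
        omega
      omega
  | zero => simp
  | add x y _ _ hx hy => rw [mul_add, map_add, map_add, hx, hy, smul_add]
  | smul c x _ hx => rw [mul_smul_comm, map_smul, map_smul, hx, smul_comm]

/-- the "partial derivative" operators on `u(L)` -/
noncomputable def Dop (i : ι) : Uφ p φ →ₗ[K] Uφ p φ :=
  contr p φ (tau p b φ i) ∘ₗ Coalgebra.comul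

theorem Dop_apply (i : ι) (w : Uφ p φ) :
    Dop p b φ i w = contr p φ (tau p b φ i) (Coalgebra.comul (R := K) w) := rfl

theorem tau_one (i : ι) : tau p b φ i 1 = 0 := by
  have := tau_mon p b φ i (m := 0) (fun l => by simpa using hp.out.pos)
  rw [mon_zero] at this
  rw [this, if_neg]
  intro h
  have := congrArg (fun f => f i) h
  simp at this

theorem Dop_mul_mon {i j : ι} {m : ι →₀ ℕ} (hlow : low j m)
    (hres : ∀ l, (m + Finsupp.single j 1 : ι →₀ ℕ) l < p) :
    Dop p b φ i (io p φ (b j) * mon b (io p φ) m)
      = (if i = j then (1 : K) else 0) • mon b (io p φ) m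
        + io p φ (b j) * Dop p b φ i (mon b (io p φ) m) := by
  rw [Dop_apply, comul_mul, comul_iota, add_mul, map_add,
    contr_tau_mul p b φ hlow hres (comul_mon_mem p b φ m), contr_counit_comul,
    contr_one_tmul_mul, Dop_apply]

theorem Dop_mon (i : ι) : ∀ (m : ι →₀ ℕ), (∀ l, m l < p) →
    Dop p b φ i (mon b (io p φ) m) = (m i : K) • mon b (io p φ) (m - Finsupp.single i 1) := by
  intro m
  induction m using low_induction with
  | h0 =>
    intro _
    rw [mon_zero, Dop_apply, Bialgebra.comul_one, Algebra.TensorProduct.one_def, contr_tmul, tau_one]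
    simp
  | hstep j m hlow ih =>
    intro hres
    have hres' : ∀ l, m l < p := by
      intro l
      have := hres l
      simp only [Finsupp.coe_add, Pi.add_apply] at this
      omega
    rw [mon_add_single b _ hlow, Dop_mul_mon p b φ hlow hres, ih hres', mul_smul_comm]
    by_cases hij : i = j
    · subst hij
      rw [if_pos rfl, one_smul, add_tsub_cancel_right]
      by_cases hmi : m i = 0
      · simp [hmi]
      · have hle : Finsupp.single i 1 ≤ m := by
          rw [Finsupp.single_le_iff]
          omega
        rw [← mon_add_single b _ (low_sub hlow), tsub_add_cancel_of_le hle]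
        simp only [Finsupp.coe_add, Pi.add_apply, Finsupp.single_eq_same, Nat.cast_add, Nat.cast_one]
        rw [add_smul, one_smul, add_comm]
    · rw [if_neg hij, zero_smul, zero_add]
      have h1 : (m + Finsupp.single j 1 : ι →₀ ℕ) i = m i := by
        simp [Finsupp.single_eq_of_ne (Ne.symm hij), Finsupp.single_eq_of_ne hij]
      rw [h1]
      by_cases hmi : m i = 0
      · simp [hmi]
      · have hle : Finsupp.single i 1 ≤ m := by
          rw [Finsupp.single_le_iff]
          omega
        rw [← mon_add_single b _ (low_sub hlow), tsub_add_eq_add_tsub hle]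

theorem pderiv_mem_Res (i : ι) {g : MvPolynomial ι K} (hg : g ∈ Res (R := K) (ι := ι) p) :
    pderiv i g ∈ Res (R := K) (ι := ι) p := by
  refine Res_induction p (P := fun g => pderiv i g ∈ Res (R := K) (ι := ι) p) ?_ ?_ ?_ ?_ g hg
  · simp
  · intro u v hu hv; rw [map_add]; exact Submodule.add_mem _ hu hv
  · intro c u hu; rw [Derivation.map_smul]; exact Submodule.smul_mem _ c hu
  · intro m hm
    rw [pderiv_monomial]
    apply monomial_mem_Res
    intro l
    have := hm l
    simp only [Finsupp.coe_tsub, Pi.sub_apply]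
    omega

theorem Dop_sg (i : ι) {g : MvPolynomial ι K} (hg : g ∈ Res (R := K) (ι := ι) p) :
    Dop p b φ i (sg p b φ g) = sg p b φ (pderiv i g) := by
  refine Res_induction p (P := fun g => Dop p b φ i (sg p b φ g) = sg p b φ (pderiv i g))
    ?_ ?_ ?_ ?_ g hg
  · simp
  · intro u v hu hv; rw [map_add, map_add, map_add, map_add, hu, hv]
  · intro c u hu; rw [map_smul, map_smul, Derivation.map_smul, map_smul, hu]
  · intro m hm
    rw [sg_monomial, Dop_mon p b φ i m hm, pderiv_monomial, one_mul]
    have : monomial (m - Finsupp.single i 1) (m i : K)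
        = (m i : K) • monomial (m - Finsupp.single i 1) (1 : K) := by
      rw [smul_monomial, smul_eq_mul, mul_one]
    rw [this, map_smul, sg_monomial]

theorem counit_sg (g : MvPolynomial ι K) :
    Coalgebra.counit (R := K) (sg p b φ g) = coeff 0 g := by
  induction g using MvPolynomial.induction_on' with
  | monomial m a =>
    have : monomial m a = a • monomial m (1 : K) := by
      rw [smul_monomial, smul_eq_mul, mul_one]
    rw [this, map_smul, map_smul, sg_monomial, counit_mon, coeff_smul, coeff_monomial]
  | add g g' hg hg' => rw [map_add, map_add, hg, hg', coeff_add]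

include b in
/-- primitive elements lie in `L` -/
theorem primitive_mem_range (w : Uφ p φ)
    (hw : Coalgebra.comul (R := K) w = w ⊗ₜ[K] 1 + 1 ⊗ₜ[K] w) :
    w ∈ LinearMap.range (io p φ) := by
  obtain ⟨g, hg, rfl⟩ := exists_Res_rep p b φ w
  -- counit vanishes
  have hε : Coalgebra.counit (R := K) (sg p b φ g) = 0 := by
    have h1 := contr_counit_comul p φ (sg p b φ g)
    rw [hw, map_add, contr_tmul, contr_tmul, Bialgebra.counit_one, one_smul] at h1
    have h2 : Coalgebra.counit (R := K) (sg p b φ g) • (1 : Uφ p φ) = 0 := by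
      have := h1
      rwa [add_eq_right] at this
    have h3 := congrArg (Coalgebra.counit (R := K)) h2
    rw [map_smul, Bialgebra.counit_one, smul_eq_mul, mul_one, map_zero] at h3
    exact h3
  have hc0 : coeff 0 g = 0 := by rw [← counit_sg p b φ g, hε]
  -- partial derivatives are constant
  have hpd : ∀ i, pderiv i g = C (tau p b φ i (sg p b φ g)) := by
    intro i
    have h1 := Dop_sg p b φ i hg
    rw [Dop_apply, hw, map_add, contr_tmul, contr_tmul, tau_one, zero_smul, add_zero] at h1
    apply sg_inj_of_mem_Res p b φ (pderiv_mem_Res p i hg)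
    · rw [C_apply]; exact monomial_mem_Res p (fun l => by simpa using hp.out.pos) _
    · rw [← h1, C_apply]
      have : monomial (0 : ι →₀ ℕ) (tau p b φ i (sg p b φ g))
          = tau p b φ i (sg p b φ g) • monomial 0 (1 : K) := by
        rw [smul_monomial, smul_eq_mul, mul_one]
      rw [this, map_smul, sg_monomial, mon_zero]
  -- support consists of degree-one monomials
  have hsupp : ∀ m ∈ g.support, ∃ i, m = Finsupp.single i 1 := by
    intro m hm
    have hcm : coeff m g ≠ 0 := mem_support_iff.mp hm
    have hmres : ∀ l, m l < p := by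
      unfold Res at hg
      rw [mem_restrictSupport_iff] at hg
      exact hg hm
    have hm0 : m ≠ 0 := by
      intro h; rw [h] at hcm; exact hcm hc0
    obtain ⟨i, hi⟩ : ∃ i, m i ≠ 0 := by
      by_contra hcon
      push Not at hcon
      apply hm0
      ext l; simp [hcon l]
    refine ⟨i, ?_⟩
    by_contra hne
    have hle : Finsupp.single i 1 ≤ m := by
      rw [Finsupp.single_le_iff]
      omega
    have h1 := coeff_pderiv g (m - Finsupp.single i 1) (i := i)
    rw [tsub_add_cancel_of_le hle, hpd i, coeff_C, if_neg] at h1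
    · have h2 : (((m - Finsupp.single i 1 : ι →₀ ℕ) i : ℕ) : K) + 1 = (m i : K) := by
        simp only [Finsupp.coe_tsub, Pi.sub_apply, Finsupp.single_eq_same]
        have : m i - 1 + 1 = m i := by omega
        rw [← Nat.cast_add_one, this]
      rw [h2] at h1
      have h3 : (m i : K) ≠ 0 := by
        intro h
        rw [CharP.cast_eq_zero_iff K p] at h
        have := Nat.le_of_dvd (by omega) h
        have := hmres i
        omega
      exact hcm ((mul_eq_zero.mp h1.symm).resolve_right h3)
    · intro h
      apply hne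
      have := tsub_add_cancel_of_le hle
      rw [← h, zero_add] at this
      exact this.symm
  rw [← support_sum_monomial_coeff g, map_sum]
  apply Submodule.sum_mem
  intro m hm
  obtain ⟨i, rfl⟩ := hsupp m hm
  refine ⟨coeff (Finsupp.single i 1) g • b i, ?_⟩
  rw [map_smul]
  have : monomial (Finsupp.single i 1) (coeff (Finsupp.single i 1) g)
      = coeff (Finsupp.single i 1) g • (X i : MvPolynomial ι K) := by
    rw [X, smul_monomial, smul_eq_mul, mul_one]
  rw [this, map_smul, sg_X]

end Groth.Agent.Lib.helper1.RU
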