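import Mathlib
import Groth.Prelude.Def_CartDual
import Groth.Agent.Lib.helper1.RU5

/-! The dual of the restricted enveloping algebra: an infinitesimal group of height ≤ 1 with Lie
algebra `L`. -/

namespace Groth.Agent.Lib.helper1.RU

open TensorProduct CartDual

universe u

variable {K : Type u} [Field K] (p : ℕ) [hp : Fact p.Prime] [CharP K p]
variable {L : Type u} [LieRing L] [LieAlgebra K L] (φ : PLie.PMap K p L)

/-- the dual algebra -/
abbrev Ad : Type u := CartDual.D K (Uφ p φ)

/-- right translation -/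
noncomputable def Rt (w : Uφ p φ) : Ad p φ →ₗ[K] Ad p φ where
  toFun f := WithConv.toConv (f.ofConv ∘ₗ LinearMap.mulRight K w)
  map_add' f g := by
    apply WithConv.ext; apply LinearMap.ext; intro v
    simp
  map_smul' c f := by
    apply WithConv.ext; apply LinearMap.ext; intro v
    simp

theorem Rt_apply (w : Uφ p φ) (f : Ad p φ) (v : Uφ p φ) : Rt p φ w f v = f (v * w) := rfl

theorem Ad_ext {f g : Ad p φ} (h : ∀ v, f v = g v) : f = g := by
  apply WithConv.ext; apply LinearMap.ext; exact h

/-- right translation as an algebra map into endomorphisms -/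
noncomputable def RtAlg : Uφ p φ →ₐ[K] Module.End K (Ad p φ) :=
  AlgHom.ofLinearMap
    { toFun := Rt p φ
      map_add' := by
        intro w w'
        apply LinearMap.ext; intro f
        apply Ad_ext; intro v
        simp [Rt_apply, CartDual.coe_apply, mul_add]
      map_smul' := by
        intro c w
        apply LinearMap.ext; intro f
        apply Ad_ext; intro v
        simp [Rt_apply, CartDual.coe_apply] }
    (by
      apply LinearMap.ext; intro f
      apply Ad_ext; intro v
      simp [Rt_apply])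
    (by
      intro w w'
      apply LinearMap.ext; intro f
      apply Ad_ext; intro v
      simp [Rt_apply, Module.End.mul_apply, mul_assoc])

theorem RtAlg_apply (w : Uφ p φ) : RtAlg p φ w = Rt p φ w := rfl

theorem conv_apply (f g : Ad p φ) (v : Uφ p φ) :
    (f * g) v = LinearMap.mul' K K (TensorProduct.map f.ofConv g.ofConv (Coalgebra.comul (R := K) v)) :=
  rfl

theorem map_mul_tmul_one (f g : Ad p φ) (a : Uφ p φ) (t : Uφ p φ ⊗[K] Uφ p φ) :
    TensorProduct.map f.ofConv g.ofConv (t * (a ⊗ₜ[K] 1))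
      = TensorProduct.map (Rt p φ a f).ofConv g.ofConv t := by
  induction t using TensorProduct.induction_on with
  | zero => simp
  | tmul c d =>
    rw [Algebra.TensorProduct.tmul_mul_tmul, mul_one, TensorProduct.map_tmul, TensorProduct.map_tmul]
    rfl
  | add t t' ht ht' => rw [add_mul, map_add, map_add, ht, ht']

theorem map_mul_one_tmul (f g : Ad p φ) (a : Uφ p φ) (t : Uφ p φ ⊗[K] Uφ p φ) :
    TensorProduct.map f.ofConv g.ofConv (t * (1 ⊗ₜ[K] a))
      = TensorProduct.map f.ofConv (Rt p φ a g).ofConv t := by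
  induction t using TensorProduct.induction_on with
  | zero => simp
  | tmul c d =>
    rw [Algebra.TensorProduct.tmul_mul_tmul, mul_one, TensorProduct.map_tmul, TensorProduct.map_tmul]
    rfl
  | add t t' ht ht' => rw [add_mul, map_add, map_add, ht, ht']

theorem Rt_leibniz (x : L) (f g : Ad p φ) :
    Rt p φ (io p φ x) (f * g) = Rt p φ (io p φ x) f * g + f * Rt p φ (io p φ x) g := by
  apply Ad_ext; intro v
  rw [Rt_apply, conv_apply, comul_mul, comul_iota, mul_add, map_add, map_mul_tmul_one,
    map_mul_one_tmul, map_add]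
  rfl

theorem Rt_one (x : L) : Rt p φ (io p φ x) 1 = 0 := by
  apply Ad_ext; intro v
  rw [Rt_apply]
  change algebraMap K K (Coalgebra.counit (R := K) (v * io p φ x)) = 0
  rw [counit_mul, counit_iota, mul_zero, map_zero]


/-- the derivation attached to `x ∈ L` -/
noncomputable def eD (x : L) : Derivation K (Ad p φ) (Ad p φ) where
  toLinearMap := Rt p φ (io p φ x)
  map_one_eq_zero' := Rt_one p φ x
  leibniz' f g := by
    change Rt p φ (io p φ x) (f * g) = f • Rt p φ (io p φ x) g + g • Rt p φ (io p φ x) f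
    rw [Rt_leibniz, smul_eq_mul, smul_eq_mul, mul_comm (Rt p φ (io p φ x) f) g, add_comm]

theorem eD_apply (x : L) (f : Ad p φ) : eD p φ x f = Rt p φ (io p φ x) f := rfl

theorem eD_toLinearMap (x : L) : (eD p φ x).toLinearMap = RtAlg p φ (io p φ x) := rfl

/-- `L → Der(A)` -/
noncomputable def eLin : L →ₗ[K] Derivation K (Ad p φ) (Ad p φ) where
  toFun := eD p φ
  map_add' x y := by
    apply Derivation.ext; intro f
    rw [Derivation.add_apply, eD_apply, eD_apply, eD_apply, map_add, ← RtAlg_apply, map_add]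
    rfl
  map_smul' c x := by
    apply Derivation.ext; intro f
    rw [Derivation.smul_apply, eD_apply, eD_apply, map_smul, ← RtAlg_apply, map_smul]
    rfl

theorem eLin_apply (x : L) : eLin p φ x = eD p φ x := rfl

theorem eLin_lie (x y : L) : eLin p φ ⁅x, y⁆ = ⁅eLin p φ x, eLin p φ y⁆ := by
  apply Derivation.ext; intro f
  rw [Derivation.commutator_apply, eLin_apply, eLin_apply, eLin_apply, eD_apply, eD_apply, eD_apply,
    eD_apply, eD_apply, iota_lie, ← RtAlg_apply, map_sub, map_mul, map_mul]
  rfl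

theorem eLin_pow (x : L) : (eLin p φ (φ x)).toLinearMap = (eLin p φ x).toLinearMap ^ p := by
  rw [eLin_apply, eLin_apply, eD_toLinearMap, eD_toLinearMap]
  have := iota_pow K p (⇑φ) x
  rw [this, map_pow]

theorem pow_apply_one (f : Ad p φ) (n : ℕ) : (f ^ n) 1 = (f 1) ^ n := by
  induction n with
  | zero =>
    rw [pow_zero, pow_zero]
    exact CartDual.counit_one' K (Uφ p φ)
  | succ n ih =>
    rw [pow_succ, pow_succ, ← ih]
    exact CartDual.counit_mul' K (Uφ p φ) (f ^ n) f

/-- augmentation ideal consists of `p`-nilpotent elements -/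
theorem pow_p_eq_zero (f : Ad p φ) (hf : f 1 = 0) : f ^ p = 0 := by
  apply Ad_ext; intro v
  refine right_induction (LinearMap.ker (f ^ p).ofConv) ?_ ?_ v
  · rw [LinearMap.mem_ker]
    change (f ^ p) 1 = 0
    rw [pow_apply_one, hf, zero_pow hp.out.ne_zero]
  · intro x w _
    rw [LinearMap.mem_ker]
    change (f ^ p) (w * io p φ x) = 0
    rw [← Rt_apply, ← eD_apply, Derivation.leibniz_pow]
    have : (p : K) • (f ^ (p - 1) • eD p φ x f) = 0 := by
      rw [CharP.cast_eq_zero, zero_smul]
    rw [Nat.cast_smul_eq_nsmul] at this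
    rw [this]
    rfl


section Finite

variable [Module.Finite K L]

theorem finite_U' : Module.Finite K (Uφ p φ) := finite_U p (Module.finBasis K L) φ

theorem eLin_injective : Function.Injective (eLin p φ) := by
  rw [injective_iff_map_eq_zero]
  intro x hx
  have h1 : ∀ f : Ad p φ, f (io p φ x) = 0 := by
    intro f
    have : eD p φ x f 1 = 0 := by rw [← eLin_apply, hx]; rfl
    rw [eD_apply, Rt_apply, one_mul] at this
    exact this
  have h2 : io p φ x = 0 := by
    rw [← Module.forall_dual_apply_eq_zero_iff K]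
    intro g
    exact h1 (WithConv.toConv g)
  exact io_injective p (Module.finBasis K L) φ (h2.trans (map_zero _).symm)

variable [Module.Finite K (Uφ p φ)]

theorem ev₂_lTensor_Rt (w : Uφ p φ) (t : Ad p φ ⊗[K] Ad p φ) (v v' : Uφ p φ) :
    ev₂ K (Uφ p φ) (LinearMap.lTensor (Ad p φ) (Rt p φ w) t) (v ⊗ₜ[K] v')
      = ev₂ K (Uφ p φ) t (v ⊗ₜ[K] (v' * w)) := by
  induction t using TensorProduct.induction_on with
  | zero => simp
  | tmul g h => rw [LinearMap.lTensor_tmul, ev₂_tmul, ev₂_tmul, Rt_apply]
  | add t t' ht ht' => simp only [map_add, LinearMap.add_apply, ht, ht']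

theorem Rt_leftInv (w : Uφ p φ) :
    CoalgebraStruct.comul (R := K) (A := Ad p φ) ∘ₗ Rt p φ w
      = LinearMap.lTensor (Ad p φ) (Rt p φ w) ∘ₗ CoalgebraStruct.comul (R := K) (A := Ad p φ) := by
  apply LinearMap.ext; intro f
  apply (ev₂ K (Uφ p φ)).injective
  apply TensorProduct.ext'
  intro v v'
  rw [LinearMap.comp_apply, LinearMap.comp_apply, ev₂_coalgebra_comul_tmul, ev₂_lTensor_Rt,
    ev₂_coalgebra_comul_tmul, Rt_apply, mul_assoc]

theorem ev₂_tmul_comul (g h : Ad p φ) (w : Uφ p φ) :
    ev₂ K (Uφ p φ) (g ⊗ₜ[K] h) (Coalgebra.comul (R := K) w) = (g * h) w := by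
  rw [ev₂_tmul_eq', conv_apply]
  rfl

theorem exists_of_leftInv (D : Derivation K (Ad p φ) (Ad p φ))
    (hD : CoalgebraStruct.comul (R := K) (A := Ad p φ) ∘ₗ D.toLinearMap
      = LinearMap.lTensor (Ad p φ) D.toLinearMap ∘ₗ CoalgebraStruct.comul (R := K) (A := Ad p φ)) :
    ∃ x : L, eLin p φ x = D := by
  -- the functional `f ↦ (D f) 1` is evaluation at some `w`
  let lam : Module.Dual K (Module.Dual K (Uφ p φ)) :=
    (CartDual.counit K (Uφ p φ)) ∘ₗ D.toLinearMap ∘ₗ (toDual K (Uφ p φ)).symm.toLinearMap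
  let w : Uφ p φ := (Module.evalEquiv K (Uφ p φ)).symm lam
  have hw : ∀ f : Ad p φ, (D f) 1 = f w := by
    intro f
    have h1 := Module.apply_evalEquiv_symm_apply (R := K) (M := Uφ p φ) f.ofConv lam
    change f w = lam f.ofConv at h1
    rw [h1]
    rfl
  have key : ∀ (t : Ad p φ ⊗[K] Ad p φ) (v : Uφ p φ),
      ev₂ K (Uφ p φ) (LinearMap.lTensor (Ad p φ) D.toLinearMap t) (v ⊗ₜ[K] 1)
        = ev₂ K (Uφ p φ) t (v ⊗ₜ[K] w) := by
    intro t v
    induction t using TensorProduct.induction_on with
    | zero => simp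
    | tmul g h =>
      rw [LinearMap.lTensor_tmul, ev₂_tmul, ev₂_tmul]
      congr 1
      exact hw h
    | add t t' ht ht' => simp only [map_add, LinearMap.add_apply, ht, ht']
  have hD' : ∀ (f : Ad p φ) (v : Uφ p φ), (D f) v = f (v * w) := by
    intro f v
    have h1 : (D f) v = ev₂ K (Uφ p φ) (Coalgebra.comul (R := K) (D f)) (v ⊗ₜ[K] 1) := by
      rw [ev₂_coalgebra_comul_tmul, mul_one]
    have h2 : Coalgebra.comul (R := K) (D f)
        = LinearMap.lTensor (Ad p φ) D.toLinearMap (Coalgebra.comul (R := K) f) :=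
      LinearMap.congr_fun hD f
    rw [h1, h2, key, ev₂_coalgebra_comul_tmul]
  -- `w` is primitive
  have hprim : Coalgebra.comul (R := K) w = w ⊗ₜ[K] 1 + 1 ⊗ₜ[K] w := by
    rw [← sub_eq_zero, ← Module.forall_dual_apply_eq_zero_iff K]
    intro ψ
    obtain ⟨t, rfl⟩ := (ev₂ K (Uφ p φ)).surjective ψ
    induction t using TensorProduct.induction_on with
    | zero => simp
    | tmul g h =>
      rw [map_sub, map_add, ev₂_tmul_comul, ev₂_tmul, ev₂_tmul, ← hw (g * h), Derivation.leibniz]
      have e1 : (g • D h + h • D g) 1 = g 1 * (D h) 1 + h 1 * (D g) 1 := by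
        have h3 : (g • D h + h • D g) 1 = (g * D h) 1 + (h * D g) 1 := rfl
        rw [h3]
        have h4 := CartDual.counit_mul' K (Uφ p φ) g (D h)
        have h5 := CartDual.counit_mul' K (Uφ p φ) h (D g)
        simp only [CartDual.counit_apply] at h4 h5
        rw [h4, h5]
      rw [e1, hw, hw]
      ring
    | add t t' ht ht' =>
      rw [map_add, LinearMap.add_apply, ht, ht', add_zero]
  obtain ⟨x, hx⟩ := primitive_mem_range p (Module.finBasis K L) φ w hprim
  refine ⟨x, ?_⟩
  apply Derivation.ext; intro f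
  apply Ad_ext; intro v
  rw [hD', eLin_apply, eD_apply, Rt_apply, hx]

end Finite

/-- main theorem: every finite-dimensional restricted Lie algebra is the Lie algebra of an
infinitesimal group scheme of height ≤ 1 -/
theorem main [Module.Finite K L] :
    ∃ (A : Type u) (_ : CommRing A) (_ : HopfAlgebra K A), Module.Finite K A ∧
      (∀ f : A, Bialgebra.counitAlgHom K A f = 0 → f ^ p = 0) ∧
      ∃ e : L →ₗ[K] Derivation K A A, Function.Injective e ∧
        Set.range e = {D : Derivation K A A |
          CoalgebraStruct.comul (R := K) (A := A) ∘ₗ D.toLinearMap =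
          LinearMap.lTensor A D.toLinearMap ∘ₗ CoalgebraStruct.comul (R := K) (A := A)} ∧
        (∀ x y : L, e ⁅x, y⁆ = ⁅e x, e y⁆) ∧
        (∀ x : L, (e (φ x)).toLinearMap = (e x).toLinearMap ^ p) := by
  haveI := finite_U' p φ
  refine ⟨Ad p φ, inferInstance, CartDual.instHopfAlgebra K (Uφ p φ), inferInstance, ?_,
    eLin p φ, eLin_injective p φ, ?_, eLin_lie p φ, eLin_pow p φ⟩
  · intro f hf
    exact pow_p_eq_zero p φ f hf
  · ext D
    constructor
    · rintro ⟨x, rfl⟩
      exact Rt_leftInv p φ (io p φ x)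
    · intro hD
      exact exists_of_leftInv p φ D hD

end Groth.Agent.Lib.helper1.RU
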