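import Mathlib
import Groth.Prelude.Def_RedSub

namespace Groth.Agent.Lib.helper1.RW

open RedSub

variable {idx M N : Type} [AddCommGroup M] [AddCommGroup N]

section
variable (P : RootPairing idx ℤ M N) (b : P.Base)

/-- the cone of non-negative combinations of simple roots -/
abbrev cone : AddSubmonoid M := AddSubmonoid.closure (P.root '' (b.support : Set idx))

lemma mem_pos_iff (a : idx) : a ∈ posRoots P b ↔ P.root a ∈ cone P b := Iff.rfl
lemma mem_neg_iff (a : idx) : a ∈ negRoots P b ↔ -P.root a ∈ cone P b := Iff.rfl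

lemma exists_nat_sum (m : M) (hm : m ∈ cone P b) :
    ∃ f : idx → ℕ, m = ∑ j ∈ b.support, f j • P.root j := by
  classical
  refine AddSubmonoid.closure_induction ?_ ⟨0, by simp⟩ ?_ hm
  · rintro - ⟨j, hj, rfl⟩
    refine ⟨Pi.single j 1, ?_⟩
    rw [Finset.sum_eq_single_of_mem j hj]
    · simp
    · intro k _ hk
      simp [Pi.single_apply, hk]
  · intro _ _ _ _ ⟨f, hf'⟩ ⟨g, hg'⟩
    exact ⟨f + g, by simp [hf', hg', add_smul, Finset.sum_add_distrib]⟩

lemma height_pos_of_pos {a : idx} (ha : a ∈ posRoots P b) : 0 < b.height a := by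
  obtain ⟨f, hf⟩ := exists_nat_sum P b _ ha
  have h1 : P.root a = ∑ j ∈ b.support, ((f j : ℤ)) • P.root j := by
    rw [hf]
    exact Finset.sum_congr rfl fun j _ => (Nat.cast_smul_eq_nsmul ℤ (f j) (P.root j)).symm
  have h2 := RootPairing.Base.height_eq_sum h1
  have h3 := b.height_ne_zero a
  have h4 : 0 ≤ ∑ j ∈ b.support, ((f j : ℤ)) := Finset.sum_nonneg fun j _ => Int.natCast_nonneg _
  omega

lemma height_neg_of_neg {a : idx} (ha : a ∈ negRoots P b) : b.height a < 0 := by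
  obtain ⟨f, hf⟩ := exists_nat_sum P b _ ha
  have h1 : P.root a = ∑ j ∈ b.support, (-(f j : ℤ)) • P.root j := by
    rw [← neg_neg (P.root a), hf, ← Finset.sum_neg_distrib]
    refine Finset.sum_congr rfl fun j _ => ?_
    rw [neg_smul, Nat.cast_smul_eq_nsmul]
  have h2 := RootPairing.Base.height_eq_sum h1
  have h3 := b.height_ne_zero a
  have h4 : 0 ≤ ∑ j ∈ b.support, ((f j : ℤ)) := Finset.sum_nonneg fun j _ => Int.natCast_nonneg _
  rw [Finset.sum_neg_distrib] at h2
  omega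

lemma pos_or_neg (a : idx) : a ∈ posRoots P b ∨ a ∈ negRoots P b := b.root_mem_or_neg_mem a

lemma not_pos_and_neg {a : idx} (h1 : a ∈ posRoots P b) (h2 : a ∈ negRoots P b) : False := by
  have := height_pos_of_pos P b h1
  have := height_neg_of_neg P b h2
  omega

lemma neg_of_not_pos {a : idx} (h : a ∉ posRoots P b) : a ∈ negRoots P b :=
  (pos_or_neg P b a).resolve_left h

lemma pos_of_not_neg {a : idx} (h : a ∉ negRoots P b) : a ∈ posRoots P b :=
  (pos_or_neg P b a).resolve_right h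

/-- `a` is pos and `a'` has root = root a + z • root a₀ with z ≥ 0, a₀ pos, then a' pos. -/
lemma pos_of_add {a a₀ a' : idx} (ha : a ∈ posRoots P b) (ha₀ : a₀ ∈ posRoots P b) {z : ℤ}
    (hz : 0 ≤ z) (h : P.root a' = P.root a + z • P.root a₀) : a' ∈ posRoots P b := by
  rw [mem_pos_iff] at *
  rw [h]
  refine add_mem ha ?_
  obtain ⟨n, rfl⟩ := Int.eq_ofNat_of_zero_le hz
  rw [Nat.cast_smul_eq_nsmul]
  exact nsmul_mem ha₀ n

lemma neg_of_add {a a₀ a' : idx} (ha : a ∈ negRoots P b) (ha₀ : a₀ ∈ posRoots P b) {z : ℤ}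
    (hz : z ≤ 0) (h : P.root a' = P.root a + z • P.root a₀) : a' ∈ negRoots P b := by
  rw [mem_pos_iff] at ha₀
  rw [mem_neg_iff] at *
  rw [h, neg_add]
  refine add_mem ha ?_
  obtain ⟨n, hn⟩ := Int.eq_ofNat_of_zero_le (neg_nonneg.mpr hz)
  rw [← neg_smul, hn, Nat.cast_smul_eq_nsmul]
  exact nsmul_mem ha₀ n

end

end Groth.Agent.Lib.helper1.RW
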