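import Mathlib
import Groth.Prelude.Def_RedSub
import Groth.Agent.Lib.helper1.RW1

namespace Groth.Agent.Lib.helper1.RW

open RedSub

variable {idx M N : Type} [AddCommGroup M] [AddCommGroup N]

section
variable (P : RootPairing idx ℤ M N) (b : P.Base)

/-- A permutation of roots induced by a linear automorphism. -/
def IsLin (w : Equiv.Perm idx) : Prop :=
  ∃ W : M ≃ₗ[ℤ] M, ∀ a, P.root (w a) = W (P.root a)

lemma isLin_one : IsLin P (1 : Equiv.Perm idx) := ⟨LinearEquiv.refl ℤ M, fun _ => rfl⟩

lemma isLin_refl_mul (c : idx) {w : Equiv.Perm idx} (hw : IsLin P w) :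
    IsLin P (P.reflectionPerm c * w) := by
  obtain ⟨W, hW⟩ := hw
  refine ⟨W.trans (P.reflection c), fun a => ?_⟩
  rw [Equiv.Perm.mul_apply, P.root_reflectionPerm, hW]
  rfl

lemma isLin_wordPerm (l : List idx) : IsLin P (wordPerm P l) := by
  induction l with
  | nil => exact isLin_one P
  | cons c l ih =>
    have : wordPerm P (c :: l) = P.reflectionPerm c * wordPerm P l := by
      simp [wordPerm]
    rw [this]
    exact isLin_refl_mul P c ih

/-- the inversion set -/
def inv (w : Equiv.Perm idx) : Set idx := {a | a ∈ posRoots P b ∧ w a ∈ negRoots P b}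

variable [Finite idx]

lemma main_lt {w : Equiv.Perm idx} (hw : IsLin P w) (c : idx) (hc : c ∈ posRoots P b)
    (h0 : w⁻¹ c ∈ posRoots P b) :
    (inv P b w).ncard < (inv P b (P.reflectionPerm c * w)).ncard := by
  obtain ⟨W, hW⟩ := hw
  set a₀ := w⁻¹ c with ha₀
  have hwa₀ : w a₀ = c := by simp [ha₀]
  set S1 := inv P b w with hS1
  set S2 := inv P b (P.reflectionPerm c * w) with hS2
  have hrootc : P.root c = W (P.root a₀) := by rw [← hW, hwa₀]
  -- a₀ ∈ S2 \ S1
  have hσc : P.reflectionPerm c c ∈ negRoots P b := by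
    rw [mem_neg_iff, P.root_reflectionPerm, P.reflection_apply_self, neg_neg]
    exact hc
  have ha₀mem : a₀ ∈ S2 \ S1 := by
    refine ⟨⟨h0, ?_⟩, fun h => ?_⟩
    · rw [Equiv.Perm.mul_apply, hwa₀]
      exact hσc
    · have : w a₀ ∈ negRoots P b := h.2
      rw [hwa₀] at this
      exact not_pos_and_neg P b hc this
  -- the injection
  let φ : Equiv.Perm idx := w⁻¹ * P.reflectionPerm c * w
  have hφ : ∀ a ∈ S1 \ S2, φ a ∈ (S2 \ S1) \ {a₀} := by
    rintro a ⟨⟨hapos, hwaneg⟩, haS2⟩
    have hσpos : P.reflectionPerm c (w a) ∈ posRoots P b := by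
      apply pos_of_not_neg
      intro h
      exact haS2 ⟨hapos, h⟩
    have hwφ : w (φ a) = P.reflectionPerm c (w a) := by
      simp [φ]
    have hroot : P.root (P.reflectionPerm c (w a)) =
        P.root (w a) + (-P.pairing (w a) c) • P.root c := by
      rw [P.root_reflectionPerm, P.reflection_apply_root, neg_smul, sub_eq_add_neg]
    have hn : P.pairing (w a) c < 0 := by
      by_contra hcon
      push Not at hcon
      have := neg_of_add P b hwaneg hc (neg_nonpos.mpr hcon) hroot
      exact not_pos_and_neg P b hσpos this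
    have hrootφ : P.root (φ a) = P.root a + (-P.pairing (w a) c) • P.root a₀ := by
      apply W.injective
      rw [← hW, hwφ, hroot, map_add, map_smul, hW, hrootc]
    have hφpos : φ a ∈ posRoots P b :=
      pos_of_add P b hapos h0 (by omega) hrootφ
    refine ⟨⟨⟨hφpos, ?_⟩, fun h => ?_⟩, fun h => ?_⟩
    · rw [Equiv.Perm.mul_apply, hwφ, P.reflectionPerm_self]
      exact hwaneg
    · have : w (φ a) ∈ negRoots P b := h.2
      rw [hwφ] at this
      exact not_pos_and_neg P b hσpos this
    · have h1 : φ a = a₀ := h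
      have h2 : P.reflectionPerm c (w a) = c := by rw [← hwφ, h1, hwa₀]
      have h3 : w a = P.reflectionPerm c c := by
        have h2' := congrArg (P.reflectionPerm c) h2
        rw [P.reflectionPerm_self] at h2'
        exact h2'
      rw [h3] at hwaneg hσpos
      rw [P.reflectionPerm_self] at hσpos
      rw [← h3] at hσc
      -- root (w a) = - root c, so root a = - root a₀
      have h4 : P.root a = - P.root a₀ := by
        apply W.injective
        rw [← hW, h3, P.root_reflectionPerm, P.reflection_apply_self, map_neg, hrootc]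
      have : a₀ ∈ negRoots P b := by
        rw [mem_neg_iff, ← h4]
        exact hapos
      exact not_pos_and_neg P b h0 this
  have hfin : ∀ s : Set idx, s.Finite := fun s => Set.toFinite s
  have hle : (S1 \ S2).ncard ≤ ((S2 \ S1) \ {a₀}).ncard :=
    Set.ncard_le_ncard_of_injOn φ hφ (φ.injective.injOn) (hfin _)
  have hlt : ((S2 \ S1) \ {a₀}).ncard < (S2 \ S1).ncard :=
    Set.ncard_sdiff_singleton_lt_of_mem ha₀mem (hfin _)
  have e1 := Set.ncard_inter_add_ncard_sdiff_eq_ncard S1 S2 (hfin _)
  have e2 := Set.ncard_inter_add_ncard_sdiff_eq_ncard S2 S1 (hfin _)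
  rw [Set.inter_comm] at e2
  omega

theorem main {w : Equiv.Perm idx} (hw : IsLin P w) (c : idx) (hc : c ∈ posRoots P b) :
    (inv P b w).ncard < (inv P b (P.reflectionPerm c * w)).ncard ↔ w⁻¹ c ∈ posRoots P b := by
  refine ⟨fun h => ?_, main_lt P b hw c hc⟩
  by_contra hcon
  have hneg := neg_of_not_pos P b hcon
  obtain ⟨W, hW⟩ := hw
  have hw' : IsLin P (P.reflectionPerm c * w) := isLin_refl_mul P c ⟨W, hW⟩
  have h0' : (P.reflectionPerm c * w)⁻¹ c ∈ posRoots P b := by
    rw [mul_inv_rev, P.reflectionPerm_inv, Equiv.Perm.mul_apply]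
    rw [mem_pos_iff]
    have hwa₀ : w (w⁻¹ c) = c := by simp
    have : P.root (w⁻¹ (P.reflectionPerm c c)) = - P.root (w⁻¹ c) := by
      apply W.injective
      rw [← hW, map_neg, ← hW, hwa₀]
      simp
    rw [this]
    exact hneg
  have := main_lt P b hw' c hc h0'
  have e : P.reflectionPerm c * (P.reflectionPerm c * w) = w := by
    ext a
    simp [P.reflectionPerm_self]
  rw [e] at this
  omega

end

end Groth.Agent.Lib.helper1.RW
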