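import Mathlib
import Groth.Prelude.Def_RedSub
import Groth.Agent.Lib.helper1.RW2

namespace Groth.Agent.Lib.helper1.RW

open RedSub

variable {idx M N : Type} [AddCommGroup M] [AddCommGroup N]

section
variable (P : RootPairing idx ℤ M N) (b : P.Base)

lemma isPos_of_pos {a : idx} (h : a ∈ posRoots P b) : b.IsPos a := height_pos_of_pos P b h

lemma pos_of_isPos {a : idx} (h : b.IsPos a) : a ∈ posRoots P b := by
  by_contra hcon
  have := height_neg_of_neg P b (neg_of_not_pos P b hcon)
  have h' : 0 < b.height a := h
  omega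

/-- conjugation formula for a single reflection -/
lemma reflectionPerm_reflectionPerm (i j : idx) :
    P.reflectionPerm (P.reflectionPerm j i) =
      P.reflectionPerm j * P.reflectionPerm i * P.reflectionPerm j := by
  ext k
  apply P.root.injective
  simp only [Equiv.Perm.mul_apply, P.root_reflectionPerm]
  rw [P.reflection_reflectionPerm]
  rfl

/-- perms generated by reflections -/
def IsW (w : Equiv.Perm idx) : Prop :=
  ∀ a, P.reflectionPerm (w a) = w * P.reflectionPerm a * w⁻¹

lemma isW_one : IsW P 1 := fun a => by simp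

lemma isW_mul_refl {w : Equiv.Perm idx} (hw : IsW P w) (c : idx) :
    IsW P (w * P.reflectionPerm c) := by
  intro a
  rw [Equiv.Perm.mul_apply, hw, reflectionPerm_reflectionPerm, mul_inv_rev, P.reflectionPerm_inv]
  simp only [mul_assoc]

lemma wordPerm_append (l l' : List idx) :
    wordPerm P (l ++ l') = wordPerm P l * wordPerm P l' := by
  simp [wordPerm]

lemma wordPerm_singleton (c : idx) : wordPerm P [c] = P.reflectionPerm c := by
  simp [wordPerm]

lemma wordPerm_take_succ (l : List idx) {i : ℕ} (hi : i < l.length) :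
    wordPerm P (l.take (i + 1)) = wordPerm P (l.take i) * P.reflectionPerm l[i] := by
  rw [List.take_succ_eq_append_getElem hi, wordPerm_append, wordPerm_singleton]

lemma isW_wordPerm (l : List idx) : IsW P (wordPerm P l) := by
  induction l using List.reverseRecOn with
  | nil => exact isW_one P
  | append_singleton l c ih =>
    rw [wordPerm_append, wordPerm_singleton]
    exact isW_mul_refl P ih c

/-- discrete IVT -/
lemma exists_switch (p : ℕ → Prop) (n : ℕ) (h0 : p 0) (hn : ¬ p n) :
    ∃ i < n, p i ∧ ¬ p (i + 1) := by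
  induction n with
  | zero => exact absurd h0 hn
  | succ n ih =>
    by_cases h : p n
    · exact ⟨n, Nat.lt_succ_self n, h, hn⟩
    · obtain ⟨i, hi, h1, h2⟩ := ih h
      exact ⟨i, Nat.lt_succ_of_lt hi, h1, h2⟩

variable [Finite idx] [P.IsReduced]

lemma pos_reflectionPerm {a j : idx} (ha : a ∈ posRoots P b) (hj : j ∈ b.support) (hne : a ≠ j) :
    P.reflectionPerm j a ∈ posRoots P b :=
  pos_of_isPos P b ((isPos_of_pos P b ha).reflectionPerm hj hne)

theorem exchange (l : List idx) (hl : ∀ a ∈ l, a ∈ b.support)
    (c : idx) (hc : c ∈ posRoots P b) (hneg : (wordPerm P l).symm c ∈ negRoots P b) :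
    ∃ i : ℕ, i < l.length ∧
      P.reflectionPerm c * wordPerm P (l.take (i + 1)) = wordPerm P (l.take i) := by
  obtain ⟨i, hi, h1, h2⟩ := exists_switch (fun j => (wordPerm P (l.take j))⁻¹ c ∈ posRoots P b)
    l.length (by simpa [wordPerm] using hc) (by
      intro h
      rw [List.take_length] at h
      exact not_pos_and_neg P b h hneg)
  refine ⟨i, hi, ?_⟩
  rw [wordPerm_take_succ P l hi, mul_inv_rev, P.reflectionPerm_inv, Equiv.Perm.mul_apply] at h2
  have hmem : l[i] ∈ b.support := hl _ (List.getElem_mem hi)
  have heq : (wordPerm P (l.take i))⁻¹ c = l[i] := by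
    by_contra hne
    exact h2 (pos_reflectionPerm P b h1 hmem hne)
  have hc' : c = wordPerm P (l.take i) l[i] := by
    rw [← heq]; simp
  rw [wordPerm_take_succ P l hi]
  conv_lhs => rw [hc']
  rw [isW_wordPerm P (l.take i) l[i]]
  have := P.reflectionPerm_sq l[i]
  rw [sq] at this
  simp only [mul_assoc, inv_mul_cancel_left, this, mul_one]

end

end Groth.Agent.Lib.helper1.RW
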