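import Mathlib
import Groth.Agent.S5802
import Groth.Agent.Lib.helper5.RegLoc3

/-!
# The order function of a regular local ring (helper1)

For a regular local ring `A` with maximal ideal `m`, the `m`-adic order `ord` is additive on
products (because `gr_m A` is a polynomial ring, i.e. a regular system of parameters is
quasi-regular).
-/

set_option autoImplicit false
universe u
open IsLocalRing MvPolynomial

namespace Groth.Agent.Lib.helper1.RegOrd

section general
variable {A : Type u} [CommRing A]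

theorem prod_pow_mem {d : ℕ} (x : Fin d → A) (α : Fin d →₀ ℕ) :
    ∏ i, x i ^ α i ∈ Ideal.span (Set.range x) ^ α.degree := by
  have h1 : ∀ i ∈ (Finset.univ : Finset (Fin d)), x i ^ α i ∈ Ideal.span (Set.range x) ^ α i :=
    fun i _ => Ideal.pow_mem_pow (Ideal.subset_span (Set.mem_range_self i)) _
  have h2 := Ideal.prod_mem_prod h1
  rw [Finset.prod_pow_eq_pow_sum] at h2
  have h3 : α.degree = ∑ i, α i := by
    rw [Finsupp.degree_eq_sum]
  rw [h3]
  exact h2

/-- a homogeneous form of degree `i` with coefficients in `J` has value in `J * I^i` -/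
theorem eval_mem_mul {d : ℕ} (x : Fin d → A) (J : Ideal A) {i : ℕ} (F : MvPolynomial (Fin d) A)
    (hF : F.IsHomogeneous i) (hc : ∀ α, coeff α F ∈ J) :
    eval x F ∈ J * Ideal.span (Set.range x) ^ i := by
  rw [eval_eq']
  apply Ideal.sum_mem
  intro α hα
  apply Ideal.mul_mem_mul (hc α)
  have hdeg : α.degree = i := by
    have := hF (mem_support_iff.mp hα)
    rw [Finsupp.degree_eq_weight_one]
    exact this
  rw [← hdeg]
  exact prod_pow_mem x α

end general

section regular
variable {A : Type u} [CommRing A] [IsRegularLocalRing A]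

theorem exists_qr : ∃ (d : ℕ) (x : Fin d → A), ringKrullDim A = d ∧
    Ideal.span (Set.range x) = maximalIdeal A ∧ CAlgX.IsQuasiRegular x := by
  obtain ⟨d, hd⟩ := Groth.Agent.H5.RegLoc.exists_nat_dim A
  have hsf := Groth.Agent.H5.RegLoc.spanFinrank_eq_of_dim hd
  obtain ⟨x, hx⟩ := Groth.Agent.H5.RegLoc.exists_fin_generators A d hsf
  refine ⟨d, x, hd, hx, ?_⟩
  have hreg := Groth.Agent.H5.RegLoc.isRegular_of_generators d A hd x hx
  exact Groth.Agent.S5802.result A d x hreg.toIsWeaklyRegular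

theorem mul_not_mem {a b : A} {i j : ℕ}
    (ha : a ∈ maximalIdeal A ^ i) (ha' : a ∉ maximalIdeal A ^ (i + 1))
    (hb : b ∈ maximalIdeal A ^ j) (hb' : b ∉ maximalIdeal A ^ (j + 1)) :
    a * b ∉ maximalIdeal A ^ (i + j + 1) := by
  obtain ⟨d, x, -, hx, hq⟩ := exists_qr (A := A)
  rw [← hx] at ha hb
  obtain ⟨F, hF, rfl⟩ := (Ideal.mem_span_pow_iff_exists_isHomogeneous x a).1 ha
  obtain ⟨G, hG, rfl⟩ := (Ideal.mem_span_pow_iff_exists_isHomogeneous x b).1 hb
  intro hab
  have hc := hq (i + j) (F * G) (hF.mul hG) (by rw [map_mul, hx]; exact hab)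
  have hmap : map (residue A) (F * G) = 0 := by
    ext α
    rw [coeff_map, coeff_zero]
    exact (residue_eq_zero_iff _).2 (hx ▸ hc α)
  rw [map_mul] at hmap
  have key : ∀ (i : ℕ) (F : MvPolynomial (Fin d) A), F.IsHomogeneous i → map (residue A) F = 0 →
      eval x F ∈ maximalIdeal A ^ (i + 1) := by
    intro i F hF h
    have hcm : ∀ α, coeff α F ∈ maximalIdeal A := by
      intro α
      have := congrArg (coeff α) h
      rw [coeff_map, coeff_zero] at this
      exact (residue_eq_zero_iff _).1 this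
    have := eval_mem_mul x _ F hF hcm
    rwa [hx, ← pow_succ'] at this
  rcases mul_eq_zero.1 hmap with h | h
  · exact ha' (key i F hF h)
  · exact hb' (key j G hG h)

theorem exists_not_mem (a : A) (ha : a ≠ 0) : ∃ n, a ∉ maximalIdeal A ^ (n + 1) := by
  by_contra h
  push Not at h
  apply ha
  have h1 : a ∈ ⨅ i, maximalIdeal A ^ i := by
    rw [Submodule.mem_iInf]
    intro i
    cases i with
    | zero => simp
    | succ n => exact h n
  rwa [Ideal.iInf_pow_eq_bot_of_isLocalRing _ (Ideal.IsPrime.ne_top inferInstance),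
    Ideal.mem_bot] at h1

open Classical in
/-- the `m`-adic order (junk value `0` at `0`) -/
noncomputable def ord (a : A) : ℕ := if h : a = 0 then 0 else Nat.find (exists_not_mem a h)

theorem ord_spec {a : A} (ha : a ≠ 0) :
    a ∈ maximalIdeal A ^ ord a ∧ a ∉ maximalIdeal A ^ (ord a + 1) := by
  classical
  have h1 : ord a = Nat.find (exists_not_mem a ha) := by simp [ord, ha]
  rw [h1]
  refine ⟨?_, Nat.find_spec (exists_not_mem a ha)⟩
  rcases Nat.eq_zero_or_pos (Nat.find (exists_not_mem a ha)) with h0 | hpos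
  · rw [h0]; simp
  · have := Nat.find_min (exists_not_mem a ha) (Nat.sub_one_lt_of_lt hpos)
    rw [not_not, Nat.sub_add_cancel hpos] at this
    exact this

theorem ne_zero_of_not_mem {a : A} {n : ℕ} (h : a ∉ maximalIdeal A ^ n) : a ≠ 0 := by
  rintro rfl
  exact h (zero_mem _)

theorem le_ord {a : A} (ha : a ≠ 0) {n : ℕ} (h : a ∈ maximalIdeal A ^ n) : n ≤ ord a := by
  by_contra hlt
  push Not at hlt
  exact (ord_spec ha).2 (Ideal.pow_le_pow_right hlt h)

theorem ord_eq {a : A} {n : ℕ} (h : a ∈ maximalIdeal A ^ n) (h' : a ∉ maximalIdeal A ^ (n + 1)) :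
    ord a = n := by
  have ha := ne_zero_of_not_mem h'
  apply le_antisymm
  · by_contra hlt
    push Not at hlt
    exact h' (Ideal.pow_le_pow_right hlt (ord_spec ha).1)
  · exact le_ord ha h

theorem mem_pow_iff {a : A} (ha : a ≠ 0) (n : ℕ) : a ∈ maximalIdeal A ^ n ↔ n ≤ ord a :=
  ⟨le_ord ha, fun h => Ideal.pow_le_pow_right h (ord_spec ha).1⟩

theorem ord_mul {a b : A} (ha : a ≠ 0) (hb : b ≠ 0) : ord (a * b) = ord a + ord b := by
  apply ord_eq
  · rw [pow_add]
    exact Ideal.mul_mem_mul (ord_spec ha).1 (ord_spec hb).1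
  · exact mul_not_mem (ord_spec ha).1 (ord_spec ha).2 (ord_spec hb).1 (ord_spec hb).2

theorem ord_one : ord (1 : A) = 0 := by
  apply ord_eq
  · simp
  · rw [zero_add, pow_one]
    exact fun h => (Ideal.IsPrime.ne_top inferInstance) ((Ideal.eq_top_iff_one _).2 h)

theorem min_le_ord_add {a b : A} (ha : a ≠ 0) (hb : b ≠ 0) (hab : a + b ≠ 0) :
    min (ord a) (ord b) ≤ ord (a + b) := by
  apply le_ord hab
  exact Ideal.add_mem _ (Ideal.pow_le_pow_right (min_le_left _ _) (ord_spec ha).1)
    (Ideal.pow_le_pow_right (min_le_right _ _) (ord_spec hb).1)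

theorem ord_pos_iff {a : A} (ha : a ≠ 0) : 0 < ord a ↔ a ∈ maximalIdeal A := by
  rw [← pow_one (maximalIdeal A), mem_pow_iff ha]
  exact Nat.succ_le_iff.symm

end regular

end Groth.Agent.Lib.helper1.RegOrd
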