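import Groth.Agent.Lib.helper1.RegOrd1

/-!
# The order valuation of a regular local ring and its valuation ring (helper1)
-/

set_option autoImplicit false
universe u
open IsLocalRing WithZero

namespace Groth.Agent.Lib.helper1.RegOrd

variable {A : Type u} [CommRing A] [IsRegularLocalRing A]

attribute [local instance] Classical.propDecidable

theorem v₀_add_aux (a b : A) :
    (if a + b = 0 then (0 : ℤᵐ⁰) else exp (-(ord (a + b) : ℤ))) ≤
      max (if a = 0 then (0 : ℤᵐ⁰) else exp (-(ord a : ℤ)))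
        (if b = 0 then (0 : ℤᵐ⁰) else exp (-(ord b : ℤ))) := by
  by_cases hab : a + b = 0
  · simp [hab]
  by_cases ha : a = 0
  · subst ha
    simp only [zero_add] at hab ⊢
    simp [hab]
  by_cases hb : b = 0
  · subst hb
    simp only [add_zero] at hab ⊢
    simp [hab]
  simp only [hab, ha, hb, if_false]
  have h := min_le_ord_add ha hb hab
  rw [le_max_iff, exp_le_exp, exp_le_exp, neg_le_neg_iff, neg_le_neg_iff]
  rcases min_le_iff.1 h with h1 | h1
  · left; exact_mod_cast h1
  · right; exact_mod_cast h1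

/-- the order valuation on `A` -/
noncomputable def v₀ : Valuation A ℤᵐ⁰ where
  toFun a := if a = 0 then 0 else exp (-(ord a : ℤ))
  map_zero' := by simp
  map_one' := by simp [ord_one]
  map_mul' a b := by
    haveI := Groth.Agent.H5.RegLoc.isDomain A
    by_cases ha : a = 0
    · simp [ha]
    by_cases hb : b = 0
    · simp [hb]
    simp only [ha, hb, mul_ne_zero ha hb, if_false]
    rw [ord_mul ha hb]
    push_cast
    rw [neg_add, exp_add]
  map_add_le_max' a b := v₀_add_aux a b

theorem v₀_apply (a : A) : v₀ a = if a = 0 then 0 else exp (-(ord a : ℤ)) := rfl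

theorem v₀_of_ne {a : A} (ha : a ≠ 0) : v₀ a = exp (-(ord a : ℤ)) := by
  rw [v₀_apply, if_neg ha]

theorem v₀_le_one (a : A) : v₀ a ≤ 1 := by
  by_cases ha : a = 0
  · rw [ha, map_zero]; exact zero_le_one
  · rw [v₀_of_ne ha, ← exp_zero, exp_le_exp]
    omega

theorem v₀_lt_one_iff (a : A) : v₀ a < 1 ↔ a ∈ maximalIdeal A := by
  by_cases ha : a = 0
  · rw [ha, map_zero]
    simp
  · rw [v₀_of_ne ha, ← exp_zero, exp_lt_exp, ← ord_pos_iff ha]
    omega

theorem v₀_eq_zero_iff (a : A) : v₀ a = 0 ↔ a = 0 := by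
  constructor
  · intro h
    by_contra ha
    rw [v₀_of_ne ha] at h
    exact exp_ne_zero h
  · rintro rfl; exact map_zero _

theorem le_supp : nonZeroDivisors A ≤ (v₀ (A := A)).supp.primeCompl := by
  intro s hs h
  have h1 : v₀ s = 0 := (Valuation.mem_supp_iff _ _).1 h
  exact nonZeroDivisors.ne_zero hs ((v₀_eq_zero_iff s).1 h1)

section frac
variable (A) (K : Type u) [Field K] [Algebra A K] [IsFractionRing A K]

/-- the order valuation on the fraction field -/
noncomputable def v : Valuation K ℤᵐ⁰ := (v₀ (A := A)).extendToLocalization le_supp K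

theorem v_algebraMap (a : A) : v A K (algebraMap A K a) = v₀ a :=
  Valuation.extendToLocalization_apply_map_apply _ _ _ a

theorem v_div (a b : A) : v A K (algebraMap A K a / algebraMap A K b) = v₀ a / v₀ b := by
  rw [map_div₀, v_algebraMap, v_algebraMap]

theorem exists_frac (y : K) : ∃ a b : A, b ≠ 0 ∧ y = algebraMap A K a / algebraMap A K b := by
  obtain ⟨a, b, hb, h⟩ := IsFractionRing.div_surjective (A := A) y
  exact ⟨a, b, nonZeroDivisors.ne_zero hb, h.symm⟩

/-- every nonzero element has value `exp n` -/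
theorem exists_v_eq (y : K) (hy : y ≠ 0) : ∃ n : ℤ, v A K y = exp n := by
  obtain ⟨a, b, hb, rfl⟩ := exists_frac A K y
  have ha : a ≠ 0 := by
    rintro rfl
    simp at hy
  refine ⟨-(ord a : ℤ) - (-(ord b : ℤ)), ?_⟩
  rw [v_div, v₀_of_ne ha, v₀_of_ne hb, exp_sub]

/-- the valuation ring of the order valuation, as an `A`-subalgebra of `K` -/
noncomputable def V : Subalgebra A K :=
  { (v A K).valuationSubring.toSubring with
    algebraMap_mem' := fun a => by
      show v A K (algebraMap A K a) ≤ 1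
      rw [v_algebraMap]
      exact v₀_le_one a }

theorem mem_V (y : K) : y ∈ V A K ↔ v A K y ≤ 1 := Iff.rfl

theorem isUnit_iff (y : V A K) : IsUnit y ↔ v A K y = 1 := by
  constructor
  · rintro ⟨u, rfl⟩
    have h1 : v A K (u : V A K) ≤ 1 := (u : V A K).2
    have h2 : v A K ((u⁻¹ : (V A K)ˣ) : V A K) ≤ 1 :=
      ((u⁻¹ : (V A K)ˣ) : V A K).2
    have h3 : v A K (u : V A K) * v A K ((u⁻¹ : (V A K)ˣ) : V A K) = 1 := by
      rw [← map_mul, ← Subalgebra.coe_mul, Units.mul_inv, Subalgebra.coe_one, map_one]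
    by_contra hne
    have hlt : v A K (u : V A K) < 1 := lt_of_le_of_ne h1 hne
    have : v A K (u : V A K) * v A K ((u⁻¹ : (V A K)ˣ) : V A K) < 1 :=
      mul_lt_one_of_lt_of_le hlt h2
    rw [h3] at this
    exact lt_irrefl _ this
  · intro h
    have hy0 : (y : K) ≠ 0 := by
      intro h0
      rw [h0, map_zero] at h
      exact zero_ne_one h
    have hinv : (y : K)⁻¹ ∈ V A K := by
      rw [mem_V, map_inv₀, h, inv_one]
    refine ⟨⟨y, ⟨(y : K)⁻¹, hinv⟩, ?_, ?_⟩, rfl⟩
    · apply Subtype.ext
      simp [mul_inv_cancel₀ hy0]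
    · apply Subtype.ext
      simp [inv_mul_cancel₀ hy0]

end frac

end Groth.Agent.Lib.helper1.RegOrd
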