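import Groth.Agent.Lib.helper1.RegOrd2

/-!
# The valuation ring of the order valuation is a DVR dominating `A` (helper1)
-/

set_option autoImplicit false
universe u
open IsLocalRing WithZero

namespace Groth.Agent.Lib.helper1.RegOrd

variable (A : Type u) [CommRing A] [IsRegularLocalRing A]

theorem exists_unif (hA : ¬ IsField A) : ∃ π : A, ord π = 1 ∧ π ≠ 0 := by
  by_contra h
  push Not at h
  apply hA
  rw [IsLocalRing.isField_iff_maximalIdeal_eq]
  apply Submodule.eq_bot_of_le_smul_of_le_jacobson_bot (maximalIdeal A) _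
    (maximalIdeal A).fg_of_isNoetherianRing ?_
    (IsLocalRing.jacobson_eq_maximalIdeal _ bot_ne_top).ge
  intro π hπ
  rw [smul_eq_mul, ← pow_two]
  by_contra h2
  have h1 : ord π = 1 := ord_eq (by rwa [pow_one]) h2
  exact h2 (h π h1 ▸ zero_mem _)

variable (K : Type u) [Field K] [Algebra A K] [IsFractionRing A K]

theorem algebraMap_ne_zero {a : A} (ha : a ≠ 0) : algebraMap A K a ≠ 0 := by
  haveI := Groth.Agent.H5.RegLoc.isDomain A
  exact (map_ne_zero_iff _ (IsFractionRing.injective A K)).2 ha

theorem v_le_zero (y : V A K) {m : ℤ} (hm : v A K y = exp m) : m ≤ 0 := by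
  have := y.2
  rw [mem_V, hm, ← exp_zero, exp_le_exp] at this
  exact this

theorem hasUMP (hA : ¬ IsField A) :
    IsDiscreteValuationRing.HasUnitMulPowIrreducibleFactorization (V A K) := by
  obtain ⟨π, hπ1, hπ0⟩ := exists_unif A hA
  have hvπ : v A K (algebraMap A K π) = exp (-1) := by
    rw [v_algebraMap, v₀_of_ne hπ0, hπ1]
    rfl
  have hπK := algebraMap_ne_zero A K hπ0
  refine ⟨⟨algebraMap A K π, (V A K).algebraMap_mem π⟩, ?_, ?_⟩
  · rw [irreducible_iff]
    constructor
    · rw [isUnit_iff]
      show v A K (algebraMap A K π) ≠ 1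
      rw [hvπ, ← exp_zero]
      intro h
      have := exp_injective h
      omega
    · intro y z hyz
      have h1 : v A K y * v A K z = exp (-1) := by
        rw [← map_mul, ← Subalgebra.coe_mul, ← hyz]
        exact hvπ
      have hy0 : (y : K) ≠ 0 := by
        intro h0
        rw [h0, map_zero, zero_mul] at h1
        exact exp_ne_zero h1.symm
      have hz0 : (z : K) ≠ 0 := by
        intro h0
        rw [h0, map_zero, mul_zero] at h1
        exact exp_ne_zero h1.symm
      obtain ⟨m, hm⟩ := exists_v_eq A K y hy0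
      obtain ⟨n, hn⟩ := exists_v_eq A K z hz0
      have hm0 := v_le_zero A K y hm
      have hn0 := v_le_zero A K z hn
      rw [hm, hn, ← exp_add] at h1
      have h2 := exp_injective h1
      rcases (by omega : m = 0 ∨ n = 0) with h | h
      · left
        rw [isUnit_iff, hm, h, exp_zero]
      · right
        rw [isUnit_iff, hn, h, exp_zero]
  · intro y hy
    have hy0 : (y : K) ≠ 0 := fun h => hy (Subtype.ext h)
    obtain ⟨m, hm⟩ := exists_v_eq A K y hy0
    have hm0 := v_le_zero A K y hm
    obtain ⟨n, rfl⟩ : ∃ n : ℕ, m = -(n : ℤ) := ⟨m.natAbs, by omega⟩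
    refine ⟨n, ?_⟩
    have hu : v A K ((y : K) / (algebraMap A K π) ^ n) = 1 := by
      rw [map_div₀, map_pow, hvπ, hm, ← exp_nsmul, ← exp_sub, ← exp_zero]
      congr 1
      simp
    have hmem : (y : K) / (algebraMap A K π) ^ n ∈ V A K := by
      rw [mem_V, hu]
    obtain ⟨U, hU⟩ := (isUnit_iff A K ⟨_, hmem⟩).2 hu
    refine ⟨U, ?_⟩
    rw [hU]
    apply Subtype.ext
    simp only [Subalgebra.coe_mul, Subalgebra.coe_pow]
    field_simp

theorem isDVR (hA : ¬ IsField A) : IsDiscreteValuationRing (V A K) :=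
  IsDiscreteValuationRing.ofHasUnitMulPowIrreducibleFactorization (hasUMP A K hA)

theorem isFractionRing_V : IsFractionRing (V A K) K := by
  apply IsFractionRing.of_field
  intro z
  obtain ⟨a, b, hb, rfl⟩ := exists_frac A K z
  exact ⟨algebraMap A (V A K) a, algebraMap A (V A K) b, rfl⟩

theorem mem_maximalIdeal_V [IsLocalRing (V A K)] (y : V A K) :
    y ∈ maximalIdeal (V A K) ↔ v A K y < 1 := by
  rw [mem_maximalIdeal, mem_nonunits_iff, isUnit_iff]
  have := y.2
  rw [mem_V] at this
  constructor
  · intro h; exact lt_of_le_of_ne this h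
  · intro h; exact ne_of_lt h

theorem comap_maximalIdeal_V [IsLocalRing (V A K)] :
    (maximalIdeal (V A K)).comap (algebraMap A (V A K)) = maximalIdeal A := by
  ext a
  rw [Ideal.mem_comap, mem_maximalIdeal_V, ← v₀_lt_one_iff]
  show v A K (algebraMap A K a) < 1 ↔ _
  rw [v_algebraMap]

end Groth.Agent.Lib.helper1.RegOrd
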