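import Groth.Agent.Lib.helper1.RegOrd3

/-!
# Homogenisation tools and the key lemma on initial forms (helper1)
-/

set_option autoImplicit false
universe u
open IsLocalRing MvPolynomial

namespace Groth.Agent.Lib.helper1.RegOrd

section poly
variable {R : Type u} [CommRing R] {e : ℕ}

/-- dehomogenisation `X_0 ↦ 1`, `X_{j+1} ↦ T_j` -/
noncomputable def E (R : Type u) [CommRing R] (e : ℕ) :
    MvPolynomial (Fin (e + 1)) R →ₐ[R] MvPolynomial (Fin e) R :=
  aeval (Fin.cases (1 : MvPolynomial (Fin e) R) X)

@[simp] theorem E_X_zero : E R e (X 0) = 1 := by simp [E]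

@[simp] theorem E_X_succ (j : Fin e) : E R e (X j.succ) = X j := by simp [E]

theorem E_rename (G : MvPolynomial (Fin e) R) : E R e (rename Fin.succ G) = G := by
  rw [E, aeval_rename]
  have : (Fin.cases (1 : MvPolynomial (Fin e) R) X ∘ Fin.succ : Fin e → MvPolynomial (Fin e) R) = X := by
    funext j; simp
  rw [this, aeval_X_left, AlgHom.id_apply]

/-- homogenisation to degree `N` -/
noncomputable def hom (F : MvPolynomial (Fin e) R) (N : ℕ) : MvPolynomial (Fin (e + 1)) R :=
  ∑ k ∈ Finset.range (N + 1), X 0 ^ (N - k) * rename Fin.succ (homogeneousComponent k F)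

theorem hom_isHomogeneous (F : MvPolynomial (Fin e) R) (N : ℕ) : (hom F N).IsHomogeneous N := by
  apply IsHomogeneous.sum
  intro k hk
  have hk' : k ≤ N := Nat.lt_succ_iff.1 (Finset.mem_range.1 hk)
  have h1 : (X 0 ^ (N - k) * rename Fin.succ (homogeneousComponent k F) :
      MvPolynomial (Fin (e + 1)) R).IsHomogeneous ((N - k) + k) :=
    (isHomogeneous_X_pow 0 (N - k)).mul
      ((homogeneousComponent_isHomogeneous k F).rename_isHomogeneous)
  rwa [Nat.sub_add_cancel hk'] at h1

theorem E_hom (F : MvPolynomial (Fin e) R) : E R e (hom F F.totalDegree) = F := by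
  rw [hom, map_sum]
  conv_rhs => rw [← sum_homogeneousComponent F]
  apply Finset.sum_congr rfl
  intro k _
  rw [map_mul, map_pow, E_X_zero, one_pow, one_mul, E_rename]

theorem map_E {S : Type u} [CommRing S] (f : R →+* S) (G : MvPolynomial (Fin (e + 1)) R) :
    map f (E R e G) = E S e (map f G) := by
  have : (map f).comp (E R e).toRingHom = (E S e).toRingHom.comp (map f) := by
    apply ringHom_ext
    · intro r
      simp [E]
    · intro i
      refine Fin.cases ?_ (fun j => ?_) i
      · simp [E]
      · simp [E]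
  exact RingHom.congr_fun this G

theorem eval_mul_of_isHomogeneous {K : Type u} [CommRing K] {n : ℕ} {g : MvPolynomial (Fin n) K}
    {d : ℕ} (hg : g.IsHomogeneous d) (c : K) (y : Fin n → K) :
    eval (fun i => c * y i) g = c ^ d * eval y g := by
  rw [eval_eq', eval_eq', Finset.mul_sum]
  apply Finset.sum_congr rfl
  intro m hm
  have hdeg : ∑ i, m i = d := by
    have := hg (mem_support_iff.mp hm)
    rw [← Finsupp.degree_eq_sum, Finsupp.degree_eq_weight_one]
    exact this
  have h1 : ∏ i, (c * y i) ^ m i = c ^ d * ∏ i, y i ^ m i := by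
    simp_rw [mul_pow]
    rw [Finset.prod_mul_distrib, Finset.prod_pow_eq_pow_sum, hdeg]
  rw [h1]
  ring

end poly

section key
variable {A : Type u} [CommRing A] [IsRegularLocalRing A]

theorem eval_mem_iff {d : ℕ} (x : Fin d → A) (hx : Ideal.span (Set.range x) = maximalIdeal A)
    (hq : CAlgX.IsQuasiRegular x) {n : ℕ} (G : MvPolynomial (Fin d) A) (hG : G.IsHomogeneous n) :
    eval x G ∈ maximalIdeal A ^ (n + 1) ↔ map (residue A) G = 0 := by
  constructor
  · intro h
    have hc := hq n G hG (by rw [hx]; exact h)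
    ext α
    rw [coeff_map, coeff_zero]
    exact (residue_eq_zero_iff _).2 (hx ▸ hc α)
  · intro h
    have hcm : ∀ α, coeff α G ∈ maximalIdeal A := by
      intro α
      have := congrArg (coeff α) h
      rw [coeff_map, coeff_zero] at this
      exact (residue_eq_zero_iff _).1 this
    have := eval_mem_mul x _ G hG hcm
    rwa [hx, ← pow_succ'] at this

theorem ord_gen {d : ℕ} (x : Fin d → A) (hx : Ideal.span (Set.range x) = maximalIdeal A)
    (hq : CAlgX.IsQuasiRegular x) (i : Fin d) : ord (x i) = 1 := by
  apply ord_eq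
  · rw [pow_one, ← hx]
    exact Ideal.subset_span (Set.mem_range_self i)
  · intro h
    have h1 : eval x (X i : MvPolynomial (Fin d) A) ∈ maximalIdeal A ^ (1 + 1) := by
      rw [eval_X]; exact h
    have h2 := (eval_mem_iff x hx hq (X i) (isHomogeneous_X A i)).1 h1
    rw [map_X] at h2
    exact X_ne_zero i h2

end key

end Groth.Agent.Lib.helper1.RegOrd
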