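import Groth.Agent.Lib.helper1.RegOrd4

/-!
# The residue field of the order valuation ring is purely transcendental (helper1)
-/

set_option autoImplicit false
universe u
open IsLocalRing MvPolynomial

namespace Groth.Agent.Lib.helper1.RegOrd

variable (A : Type u) [CommRing A] [IsRegularLocalRing A]
variable (K : Type u) [Field K] [Algebra A K] [IsFractionRing A K]
variable {e : ℕ} (x : Fin (e + 1) → A)

/-- `τ_j = x_{j+1}/x_0` in `K` -/
noncomputable def tauK (j : Fin e) : K := algebraMap A K (x j.succ) / algebraMap A K (x 0)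

section
variable (hx : Ideal.span (Set.range x) = maximalIdeal A) (hq : CAlgX.IsQuasiRegular x)
include hx hq

theorem gen_ne_zero (i : Fin (e + 1)) : x i ≠ 0 := by
  intro h
  have h1 := ord_gen x hx hq i
  rw [h] at h1
  have h2 : ord (0 : A) = 0 := by simp [ord]
  omega

theorem v_gen (i : Fin (e + 1)) : v A K (algebraMap A K (x i)) = WithZero.exp (-1 : ℤ) := by
  rw [v_algebraMap, v₀_of_ne (gen_ne_zero A x hx hq i), ord_gen x hx hq i]
  rfl

theorem v_tauK (j : Fin e) : v A K (tauK A K x j) = 1 := by
  rw [tauK, map_div₀, v_gen A K x hx hq, v_gen A K x hx hq]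
  exact div_self WithZero.exp_ne_zero

theorem tauK_mem (j : Fin e) : tauK A K x j ∈ V A K := by
  rw [mem_V, v_tauK A K x hx hq]

/-- `τ_j` as an element of `V` -/
noncomputable def tauV (j : Fin e) : V A K := ⟨tauK A K x j, tauK_mem A K x hx hq j⟩

theorem coe_aeval_tauV (F : MvPolynomial (Fin e) A) :
    ((aeval (tauV A K x hx hq) F : V A K) : K) = aeval (tauK A K x) F := by
  have h := comp_aeval (R := A) (f := tauV A K x hx hq) (V A K).val
  have h2 := AlgHom.congr_fun h F
  simp only [AlgHom.comp_apply, Subalgebra.coe_val] at h2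
  rw [h2]
  rfl

/-- key identity in `K` -/
theorem eval_eq_mul {N : ℕ} (G : MvPolynomial (Fin (e + 1)) A) (hG : G.IsHomogeneous N) :
    algebraMap A K (eval x G) = algebraMap A K (x 0) ^ N * aeval (tauK A K x) (E A e G) := by
  have hx0 : algebraMap A K (x 0) ≠ 0 := algebraMap_ne_zero A K (gen_ne_zero A x hx hq 0)
  set y : Fin (e + 1) → K := Fin.cases 1 (tauK A K x) with hy
  have h1 : (fun i => algebraMap A K (x i)) = fun i => algebraMap A K (x 0) * y i := by
    funext i
    refine Fin.cases ?_ (fun j => ?_) i
    · simp [hy]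
    · simp only [hy, Fin.cases_succ, tauK]
      field_simp
  have h2 : algebraMap A K (eval x G) = eval (fun i => algebraMap A K (x i)) (map (algebraMap A K) G) := by
    rw [eval_map]
    exact eval₂_comp (algebraMap A K) x G
  have h3 : aeval (tauK A K x) (E A e G) = eval y (map (algebraMap A K) G) := by
    have h := comp_aeval (R := A) (f := (Fin.cases (1 : MvPolynomial (Fin e) A) X))
      (aeval (tauK A K x) : MvPolynomial (Fin e) A →ₐ[A] K)
    have h4 := AlgHom.congr_fun h G
    simp only [AlgHom.comp_apply] at h4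
    rw [E, h4, eval_map, aeval_def]
    congr 1
    funext i
    refine Fin.cases ?_ (fun j => ?_) i
    · simp [hy]
    · simp [hy]
  rw [h2, h1, eval_mul_of_isHomogeneous (hG.map _), h3]

section residue
variable [IsLocalRing (V A K)] (φ : ResidueField A →+* ResidueField (V A K))
  (hφ : φ.comp (residue A) = (residue (V A K)).comp (algebraMap A (V A K)))

/-- `t_j`, the residue class of `τ_j` -/
noncomputable def tRes (j : Fin e) : ResidueField (V A K) := residue (V A K) (tauV A K x hx hq j)

include hφ

theorem residue_aeval (F : MvPolynomial (Fin e) A) :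
    residue (V A K) (aeval (tauV A K x hx hq) F) =
      eval₂ φ (tRes A K x hx hq) (map (residue A) F) := by
  rw [eval₂_map, hφ, aeval_def, eval₂_comp_left]
  rfl

theorem injective_eval₂ :
    Function.Injective (eval₂ φ (tRes A K x hx hq) :
      MvPolynomial (Fin e) (ResidueField A) → ResidueField (V A K)) := by
  have hinj : Function.Injective (eval₂Hom φ (tRes A K x hx hq)) := by
    rw [injective_iff_map_eq_zero]
    intro P hP
    obtain ⟨F, rfl⟩ := map_surjective (residue A) residue_surjective P
    have hGh := hom_isHomogeneous F F.totalDegree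
    have hEG := E_hom F
    set N := F.totalDegree
    set G := hom F N
    have h1 : residue (V A K) (aeval (tauV A K x hx hq) F) = 0 := by
      rw [residue_aeval A K x hx hq φ hφ]; exact hP
    have h2 : v A K (aeval (tauV A K x hx hq) F : V A K) < 1 :=
      (mem_maximalIdeal_V A K _).1 ((residue_eq_zero_iff _).1 h1)
    rw [coe_aeval_tauV] at h2
    have h4 : algebraMap A K (eval x G) = algebraMap A K (x 0) ^ N * aeval (tauK A K x) F := by
      rw [eval_eq_mul A K x hx hq G hGh, hEG]
    have h5 : v₀ (eval x G) < WithZero.exp (-(N : ℤ)) := by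
      rw [← v_algebraMap A K, h4, map_mul, map_pow, v_gen A K x hx hq, ← WithZero.exp_nsmul]
      have e1 : N • (-1 : ℤ) = -(N : ℤ) := by simp
      rw [e1]
      have := mul_lt_mul_of_pos_left h2 (WithZero.exp_pos (a := -(N : ℤ)))
      rwa [mul_one] at this
    have h6 : eval x G ∈ maximalIdeal A ^ (N + 1) := by
      by_cases h0 : eval x G = 0
      · rw [h0]; exact zero_mem _
      · rw [v₀_of_ne h0, WithZero.exp_lt_exp] at h5
        rw [mem_pow_iff h0]
        omega
    have h7 := (eval_mem_iff x hx hq G hGh).1 h6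
    rw [← hEG, map_E, h7, map_zero]
  exact hinj

/-- the subfield generated by the image of `k` and the `t_j` -/
noncomputable def L : Subfield (ResidueField (V A K)) :=
  Subfield.closure (Set.range φ ∪ Set.range (tRes A K x hx hq))

omit hφ in
theorem eval₂_mem_L (P : MvPolynomial (Fin e) (ResidueField A)) :
    eval₂ φ (tRes A K x hx hq) P ∈ L A K x hx hq φ := by
  induction P using MvPolynomial.induction_on with
  | C a =>
    rw [eval₂_C]
    exact Subfield.subset_closure (Or.inl ⟨a, rfl⟩)
  | add p q hp hq' =>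
    rw [eval₂_add]
    exact add_mem hp hq'
  | mul_X p j hp =>
    rw [eval₂_mul, eval₂_X]
    exact mul_mem hp (Subfield.subset_closure (Or.inr ⟨j, rfl⟩))

theorem residue_mem_L (y : V A K) : residue (V A K) y ∈ L A K x hx hq φ := by
  by_cases hy : y ∈ maximalIdeal (V A K)
  · rw [(residue_eq_zero_iff _).2 hy]
    exact zero_mem _
  have hvy : v A K y = 1 := by
    rw [mem_maximalIdeal_V] at hy
    exact le_antisymm y.2 (not_lt.1 hy)
  obtain ⟨a, b, hb, hab⟩ := exists_frac A K (y : K)
  have ha : a ≠ 0 := by
    rintro rfl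
    rw [hab] at hvy
    simp at hvy
  -- orders agree
  have hord : ord a = ord b := by
    rw [hab, v_div, v₀_of_ne ha, v₀_of_ne hb, div_eq_one_iff_eq WithZero.exp_ne_zero] at hvy
    have := WithZero.exp_injective hvy
    omega
  set n := ord b with hn
  have ham : a ∈ Ideal.span (Set.range x) ^ n := by rw [hx, ← hord]; exact (ord_spec ha).1
  have hbm : b ∈ Ideal.span (Set.range x) ^ n := by rw [hx]; exact (ord_spec hb).1
  obtain ⟨F, hF, hFa⟩ := (Ideal.mem_span_pow_iff_exists_isHomogeneous x a).1 ham
  obtain ⟨G, hG, hGb⟩ := (Ideal.mem_span_pow_iff_exists_isHomogeneous x b).1 hbm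
  have hx0 : algebraMap A K (x 0) ≠ 0 := algebraMap_ne_zero A K (gen_ne_zero A x hx hq 0)
  have hbK : algebraMap A K b ≠ 0 := algebraMap_ne_zero A K hb
  have e1 := eval_eq_mul A K x hx hq F hF
  have e2 := eval_eq_mul A K x hx hq G hG
  rw [hFa] at e1
  rw [hGb] at e2
  set f : V A K := aeval (tauV A K x hx hq) (E A e F) with hf
  set g : V A K := aeval (tauV A K x hx hq) (E A e G) with hg
  have hfK : (f : K) = aeval (tauK A K x) (E A e F) := coe_aeval_tauV A K x hx hq _
  have hgK : (g : K) = aeval (tauK A K x) (E A e G) := coe_aeval_tauV A K x hx hq _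
  have hgne : (g : K) ≠ 0 := by
    intro h0
    rw [← hgK, h0, mul_zero] at e2
    exact hbK e2
  have hyg : y * g = f := by
    apply Subtype.ext
    rw [Subalgebra.coe_mul, hab, e1, e2, ← hfK, ← hgK]
    field_simp
  have hgu : IsUnit g := by
    rw [isUnit_iff]
    have : v A K (algebraMap A K b) = WithZero.exp (-(n : ℤ)) := by
      rw [v_algebraMap, v₀_of_ne hb]
    rw [e2, map_mul, map_pow, v_gen A K x hx hq, ← WithZero.exp_nsmul, ← hgK] at this
    have e3 : n • (-1 : ℤ) = -(n : ℤ) := by simp
    rw [e3] at this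
    have hpos : WithZero.exp (-(n : ℤ)) ≠ 0 := WithZero.exp_ne_zero
    exact mul_left_cancel₀ hpos (by rw [this, mul_one])
  have hrg : residue (V A K) g ≠ 0 := by
    intro h0
    exact ((residue_eq_zero_iff _).1 h0) hgu
  have hres : residue (V A K) y = residue (V A K) f / residue (V A K) g := by
    rw [eq_div_iff hrg, ← map_mul, hyg]
  rw [hres]
  apply div_mem
  · rw [hf, residue_aeval A K x hx hq φ hφ]
    exact eval₂_mem_L A K x hx hq φ _
  · rw [hg, residue_aeval A K x hx hq φ hφ]
    exact eval₂_mem_L A K x hx hq φ _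

end residue
end

end Groth.Agent.Lib.helper1.RegOrd
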