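import Mathlib
import Groth.Agent.Lib.lead.Restore.H1NN1
import Groth.Agent.Lib.lead.Restore.H1NN2
import Groth.Agent.Lib.helper1.NN5

set_option autoImplicit false

namespace Groth.Agent.Lib.helper1.NN

open IntermediateField

/-- Abstract version of `exists_invariant_basis`. -/
theorem exists_invariant_basis' {k L : Type*} [Field k] [Field L] [Algebra k L] {ι : Type*} {m : ℕ}
    (G : Subgroup (L ≃ₐ[k] L)) [Finite G] (xs : ι → L) (ys : Fin m → L)
    (hx : ∀ σ ∈ G, ∀ i, σ (xs i) ∈ IntermediateField.adjoin k (Set.range xs))
    (hy : ∀ σ ∈ G, ∀ j, σ (ys j) ∈ Submodule.span k (Set.range ys))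
    (hfaith : ∀ σ ∈ G, (∀ i, σ (xs i) = xs i) → σ = 1)
    (hind : AlgebraicIndependent (IntermediateField.adjoin k (Set.range xs)) ys) :
    (∀ (g : G) (e : L), e ∈ IntermediateField.adjoin k (Set.range xs) →
      g • e ∈ IntermediateField.adjoin k (Set.range xs)) ∧
    ∃ (t : Fin m → L) (M N : Matrix (Fin m) (Fin m) (IntermediateField.adjoin k (Set.range xs))),
      (∀ (g : G) j, g • t j = t j) ∧
      (∀ j, t j = ∑ i, M j i • ys i) ∧
      (∀ i, ys i = ∑ l, N i l • t l) := by
  classical
  haveI : Fintype G := Fintype.ofFinite G
  set E : IntermediateField k L := IntermediateField.adjoin k (Set.range xs) with hEdef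
  have hE : ∀ (g : G) (e : L), e ∈ E → g • e ∈ E := by
    intro g e he
    have h1 : E.map ((g : L ≃ₐ[k] L) : L →ₐ[k] L) ≤ E := by
      rw [hEdef, IntermediateField.adjoin_map]
      apply IntermediateField.adjoin_le_iff.2
      rintro _ ⟨_, ⟨i, rfl⟩, rfl⟩
      exact hx g g.2 i
    exact h1 ⟨e, he, rfl⟩
  refine ⟨hE, ?_⟩
  have hfaith' : ∀ g : G, (∀ e ∈ E, g • e = e) → g = 1 := by
    intro g hg
    apply Subtype.ext
    exact hfaith g g.2 fun i => hg _ (IntermediateField.subset_adjoin k _ ⟨i, rfl⟩)
  set W : Submodule E L := Submodule.span E (Set.range ys) with hWdef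
  have hspanW : ∀ z : L, z ∈ Submodule.span k (Set.range ys) → z ∈ W :=
    fun z hz => Submodule.span_le_restrictScalars k E (Set.range ys) hz
  have hW : ∀ (g : G) (w : L), w ∈ W → g • w ∈ W := by
    intro g w hw
    induction hw using Submodule.span_induction with
    | mem w hw =>
      obtain ⟨j, rfl⟩ := hw
      exact hspanW _ (hy g g.2 j)
    | zero => rw [smul_zero]; exact zero_mem _
    | add a b _ _ ha hb => rw [smul_add]; exact add_mem ha hb
    | smul e w _ hw =>
      have : g • (e • w) = (⟨g • (e : L), hE g e e.2⟩ : E) • (g • w) := by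
        show g • ((e : L) * w) = (g • (e : L)) * (g • w)
        exact smul_mul' g _ _
      rw [this]
      exact W.smul_mem _ hw
  have hsp := speiser (G := G) E hE hfaith' W hW
  let Inv' : Set W := {w | ∀ g : G, g • (w : L) = w}
  have hInv'top : Submodule.span E Inv' = ⊤ := by
    apply Submodule.map_injective_of_injective W.injective_subtype
    rw [Submodule.map_span, Submodule.map_subtype_top]
    refine (congrArg (Submodule.span E) ?_).trans hsp
    ext w
    constructor
    · rintro ⟨w', hw', rfl⟩
      exact ⟨w'.2, hw'⟩
    · rintro ⟨hw, hw'⟩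
      exact ⟨⟨w, hw⟩, hw', rfl⟩
  obtain ⟨b, hbI, hbspan, hbli⟩ := exists_linearIndependent E Inv'
  have hbtop : ⊤ ≤ Submodule.span E (Set.range (Subtype.val : b → W)) := by
    rw [Subtype.range_coe, hbspan, hInv'top]
  let bb : Module.Basis b E W := Module.Basis.mk hbli hbtop
  have hli_ys : LinearIndependent E ys := hind.linearIndependent
  have hfr : Module.finrank E W = m := by
    rw [hWdef, finrank_span_eq_card hli_ys, Fintype.card_fin]
  haveI : Module.Finite E W := Module.Finite.span_of_finite E (Set.finite_range ys)
  haveI : Fintype b := FiniteDimensional.fintypeBasisIndex bb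
  have hcard : Fintype.card b = m := by
    rw [← Module.finrank_eq_card_basis bb, hfr]
  let eqv : b ≃ Fin m := Fintype.equivFinOfCardEq hcard
  let t' : Fin m → W := fun j => ((eqv.symm j : b) : W)
  have ht'span : Submodule.span E (Set.range t') = ⊤ := by
    have : Set.range t' = Set.range (Subtype.val : b → W) := by
      ext w
      constructor
      · rintro ⟨j, rfl⟩; exact ⟨eqv.symm j, rfl⟩
      · rintro ⟨c, rfl⟩; exact ⟨eqv c, by simp [t']⟩
    rw [this]
    exact top_le_iff.1 hbtop
  have ht'inv : ∀ (g : G) j, g • ((t' j : W) : L) = t' j := by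
    intro g j
    exact hbI (eqv.symm j).2 g
  have hM : ∀ j, ∃ c : Fin m → E, ∑ i, c i • ys i = (t' j : L) := by
    intro j
    have : ((t' j : W) : L) ∈ Submodule.span E (Set.range ys) := (t' j).2
    exact (Submodule.mem_span_range_iff_exists_fun E).1 this
  have hN : ∀ i, ∃ c : Fin m → E, ∑ l, c l • (t' l : L) = ys i := by
    intro i
    have hmem : (⟨ys i, Submodule.subset_span ⟨i, rfl⟩⟩ : W) ∈ Submodule.span E (Set.range t') := by
      rw [ht'span]; trivial
    obtain ⟨c, hc⟩ := (Submodule.mem_span_range_iff_exists_fun E).1 hmem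
    refine ⟨c, ?_⟩
    have := congrArg (Subtype.val : W → L) hc
    simpa using this
  choose M hM using hM
  choose N hN using hN
  exact ⟨fun j => (t' j : L), Matrix.of M, Matrix.of N, ht'inv, fun j => (hM j).symm,
    fun i => (hN i).symm⟩

/-- Abstract no-name lemma. -/
theorem main' {k L : Type*} [Field k] [Field L] [Algebra k L] {ι : Type*} {m : ℕ}
    (G : Subgroup (L ≃ₐ[k] L)) [Finite G] (xs : ι → L) (ys : Fin m → L)
    (hx : ∀ σ ∈ G, ∀ i, σ (xs i) ∈ IntermediateField.adjoin k (Set.range xs))
    (hy : ∀ σ ∈ G, ∀ j, σ (ys j) ∈ Submodule.span k (Set.range ys))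
    (hfaith : ∀ σ ∈ G, (∀ i, σ (xs i) = xs i) → σ = 1)
    (hind : AlgebraicIndependent (IntermediateField.adjoin k (Set.range xs)) ys)
    (hgen : IntermediateField.adjoin k (Set.range xs ∪ Set.range ys) = ⊤) :
    ∃ t : Fin m → L,
      AlgebraicIndependent (↥(IntermediateField.adjoin k (Set.range xs) ⊓
        IntermediateField.fixedField G)) t ∧
      IntermediateField.restrictScalars k (IntermediateField.adjoin
        (↥(IntermediateField.adjoin k (Set.range xs) ⊓ IntermediateField.fixedField G))
        (Set.range t)) = IntermediateField.fixedField G := by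
  classical
  haveI : Fintype G := Fintype.ofFinite G
  have key := exists_invariant_basis' G xs ys hx hy hfaith hind
  set E : IntermediateField k L := IntermediateField.adjoin k (Set.range xs) with hEdef
  set Fix : IntermediateField k L := IntermediateField.fixedField G with hFix
  set F : IntermediateField k L := E ⊓ Fix with hF
  obtain ⟨hE, t, M, N, htinv, htM, htN⟩ := key
  refine ⟨t, ?_, ?_⟩
  · have h1 : AlgebraicIndependent E t := algInd_of_matrix ys t hind M N htM htN
    letI : Algebra F E := (IntermediateField.inclusion (inf_le_left : F ≤ E)).toRingHom.toAlgebra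
    haveI : IsScalarTower F E L := IsScalarTower.of_algebraMap_eq (fun x => rfl)
    exact h1.restrictScalars (K := E) (IntermediateField.inclusion (inf_le_left : F ≤ E)).injective
  · set M' : IntermediateField F L := IntermediateField.adjoin F (Set.range t) with hM'
    have hle : M'.restrictScalars k ≤ Fix := by
      have : M' ≤ IntermediateField.extendScalars (inf_le_right : F ≤ Fix) := by
        apply IntermediateField.adjoin_le_iff.2
        rintro _ ⟨j, rfl⟩
        show t j ∈ Fix
        rw [hFix, IntermediateField.mem_fixedField_iff]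
        intro g hg
        exact htinv ⟨g, hg⟩ j
      intro z hz
      exact this hz
    let EF : IntermediateField F L := IntermediateField.extendScalars (inf_le_left : F ≤ E)
    have hrank1 : Module.rank F EF ≤ (Fintype.card G : Cardinal) := rank_le_card G E hE
    haveI : Module.Finite F EF := by
      rw [← Module.rank_lt_aleph0_iff]
      exact lt_of_le_of_lt hrank1 (Cardinal.natCast_lt_aleph0)
    have hrank2 := IntermediateField.adjoin_rank_le_of_isAlgebraic M' EF
      (Or.inr (Algebra.IsAlgebraic.of_finite F EF))
    have htop : IntermediateField.adjoin M' (EF : Set L) = ⊤ := by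
      rw [eq_top_iff]
      intro z _
      have hxmem : ∀ i, xs i ∈ IntermediateField.adjoin M' (EF : Set L) := fun i =>
        IntermediateField.subset_adjoin _ _
          (show xs i ∈ E from IntermediateField.subset_adjoin k _ ⟨i, rfl⟩)
      have htmem : ∀ j, t j ∈ IntermediateField.adjoin M' (EF : Set L) := fun j => by
        have : t j ∈ M' := IntermediateField.subset_adjoin _ _ ⟨j, rfl⟩
        exact IntermediateField.algebraMap_mem _ (⟨t j, this⟩ : M')
      have hymem : ∀ i, ys i ∈ IntermediateField.adjoin M' (EF : Set L) := fun i => by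
        rw [show ys i = ∑ l, N i l • t l from htN i]
        refine sum_mem fun l _ => ?_
        show ((N i l : E) : L) * t l ∈ _
        exact mul_mem (IntermediateField.subset_adjoin _ _ (N i l).2) (htmem l)
      have hk : ∀ c : k, algebraMap k L c ∈
          (IntermediateField.adjoin M' (EF : Set L)).toSubfield := fun c => by
        have : algebraMap k L c = algebraMap M' L (algebraMap F M' (algebraMap k F c)) := rfl
        rw [this]
        exact IntermediateField.algebraMap_mem _ _
      have hall : (⊤ : IntermediateField k L) ≤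
          (IntermediateField.adjoin M' (EF : Set L)).toSubfield.toIntermediateField hk := by
        rw [← hgen]
        apply IntermediateField.adjoin_le_iff.2
        rintro _ (⟨i, rfl⟩ | ⟨i, rfl⟩)
        · exact hxmem i
        · exact hymem i
      exact hall trivial
    have hrank3 : Module.rank M' L ≤ (Fintype.card G : Cardinal) := by
      have := hrank2.trans hrank1
      rw [htop] at this
      rwa [IntermediateField.rank_top'] at this
    haveI hfinM : Module.Finite M' L := by
      rw [← Module.rank_lt_aleph0_iff]
      exact lt_of_le_of_lt hrank3 (Cardinal.natCast_lt_aleph0)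
    haveI : FiniteDimensional (M'.restrictScalars k) L := hfinM
    apply IntermediateField.eq_of_le_of_finrank_le' hle
    have h4 : Module.finrank Fix L = Fintype.card G := FixedPoints.finrank_eq_card G L
    rw [h4]
    have h5 : Module.finrank (M'.restrictScalars k) L = Module.finrank M' L := rfl
    rw [h5]
    have h6 : (Module.finrank M' L : Cardinal) ≤ (Fintype.card G : Cardinal) := by
      rw [Module.finrank_eq_rank]
      exact hrank3
    exact_mod_cast h6

end Groth.Agent.Lib.helper1.NN
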