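import Mathlib
import Groth.Prelude.Def_W4c2brnrinvarInvFld
import Groth.Agent.Lib.lead.Restore.H1NN3

set_option autoImplicit false

namespace Groth.Agent.Lib.helper1.SE

open IntermediateField

universe u v

variable {k : Type u} [Field k]

/-- `k`-algebra homs out of a rational function field are determined by the variables. -/
theorem algHom_ext {σ : Type*} {A : Type*} [CommRing A] [Algebra k A]
    (f g : InvFld.Fld σ k →ₐ[k] A) (h : ∀ i, f (InvFld.X i) = g (InvFld.X i)) : f = g := by
  have h1 : f.comp (IsScalarTower.toAlgHom k (MvPolynomial σ k) (InvFld.Fld σ k)) =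
      g.comp (IsScalarTower.toAlgHom k (MvPolynomial σ k) (InvFld.Fld σ k)) := by
    apply MvPolynomial.algHom_ext
    intro i
    exact h i
  have h2 : (f : InvFld.Fld σ k →+* A) = (g : InvFld.Fld σ k →+* A) := by
    apply IsLocalization.ringHom_ext (nonZeroDivisors (MvPolynomial σ k))
    apply RingHom.ext
    intro p
    exact congrArg (fun φ : MvPolynomial σ k →ₐ[k] A => φ p) h1
  apply AlgHom.ext
  intro z
  exact congrArg (fun φ : InvFld.Fld σ k →+* A => φ z) h2

theorem algEquiv_ext {σ : Type*} (f g : InvFld.Fld σ k ≃ₐ[k] InvFld.Fld σ k)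
    (h : ∀ i, f (InvFld.X i) = g (InvFld.X i)) : f = g := by
  have := algHom_ext (f : InvFld.Fld σ k →ₐ[k] InvFld.Fld σ k) g h
  apply AlgEquiv.ext
  intro z
  exact congrArg (fun φ : InvFld.Fld σ k →ₐ[k] InvFld.Fld σ k => φ z) this

/-- The `k`-algebra hom out of a rational function field defined by an algebraically independent
family. -/
noncomputable def liftFld {σ : Type*} {L : Type*} [Field L] [Algebra k L] (w : σ → L)
    (hw : AlgebraicIndependent k w) : InvFld.Fld σ k →ₐ[k] L :=
  IsFractionRing.liftAlgHom (g := MvPolynomial.aeval w) hw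

@[simp] theorem liftFld_X {σ : Type*} {L : Type*} [Field L] [Algebra k L] (w : σ → L)
    (hw : AlgebraicIndependent k w) (i : σ) : liftFld w hw (InvFld.X i) = w i := by
  unfold liftFld InvFld.X
  rw [IsFractionRing.liftAlgHom_apply, IsFractionRing.lift_algebraMap]
  simp

theorem fieldRange_eq {σ : Type*} {L : Type*} [Field L] [Algebra k L]
    (j : InvFld.Fld σ k →ₐ[k] L) :
    j.fieldRange = IntermediateField.adjoin k (Set.range fun i : σ => j (InvFld.X i)) := by
  rw [AlgHom.fieldRange_eq_map, ← NN.adjoin_X_eq_top k σ, IntermediateField.adjoin_map]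
  congr 1
  ext z
  constructor
  · rintro ⟨_, ⟨i, rfl⟩, rfl⟩; exact ⟨i, rfl⟩
  · rintro ⟨i, rfl⟩; exact ⟨_, ⟨i, rfl⟩, rfl⟩


theorem isAlgebraic_of_adjoin_eq_top {L : Type*} [Field L] [Algebra k L] (S : Set L)
    (hS : IntermediateField.adjoin k S = ⊤) : Algebra.IsAlgebraic (Algebra.adjoin k S) L := by
  constructor
  intro z
  have hz : z ∈ IntermediateField.adjoin k S := by rw [hS]; trivial
  obtain ⟨r, hr, s, hs, rfl⟩ := IntermediateField.mem_adjoin_iff_div.1 hz
  have h1 : IsAlgebraic (Algebra.adjoin k S) r :=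
    isAlgebraic_algebraMap (⟨r, hr⟩ : Algebra.adjoin k S)
  have h2 : IsAlgebraic (Algebra.adjoin k S) s :=
    isAlgebraic_algebraMap (⟨s, hs⟩ : Algebra.adjoin k S)
  rw [div_eq_mul_inv]
  exact h1.mul h2.inv

theorem isTranscendenceBasis_X (σ : Type*) :
    IsTranscendenceBasis k (fun i : σ => (InvFld.X i : InvFld.Fld σ k)) := by
  rw [(NN.algInd_X k σ).isTranscendenceBasis_iff_isAlgebraic]
  exact isAlgebraic_of_adjoin_eq_top _ (NN.adjoin_X_eq_top k σ)

/-- A generating family of the right cardinality in a rational function field is algebraically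
independent. -/
theorem algInd_of_adjoin_eq_top {τ : Type*} [Finite τ] (w : τ → InvFld.Fld τ k)
    (hw : IntermediateField.adjoin k (Set.range w) = ⊤) : AlgebraicIndependent k w := by
  haveI := isAlgebraic_of_adjoin_eq_top _ hw
  have h := (isTranscendenceBasis_X (k := k) τ).lift_cardinalMk_eq_trdeg
  exact (Algebra.IsAlgebraic.isTranscendenceBasis_of_lift_le_trdeg_of_finite k w (le_of_eq h)).1

end Groth.Agent.Lib.helper1.SE
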