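import Mathlib
import Groth.Prelude.Def_W4c2brnrinvarInvFld
import Groth.Agent.Lib.helper1.SE1
import Groth.Agent.Lib.helper1.SE2

set_option autoImplicit false

namespace Groth.Agent.Lib.helper1.SE

open IntermediateField

universe u

/-- **Lemma B**: the fixed field of `Γ` on `L` is a rational function field over the fixed
field of `G` on `k(xs)`. -/
theorem lemmaB {k : Type u} [Field k] {L : Type u} [Field L] [Algebra k L] {ι : Type} {m : ℕ}
    (Γ : Subgroup (L ≃ₐ[k] L)) [Finite Γ] (xs : ι → L) (ys : Fin m → L)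
    (G : Subgroup (InvFld.Fld ι k ≃ₐ[k] InvFld.Fld ι k))
    (j : InvFld.Fld ι k →ₐ[k] L) (hj : ∀ i, j (InvFld.X i) = xs i)
    (hcompat : ∀ γ ∈ Γ, ∃ g ∈ G, ∀ z, γ (j z) = j (g z))
    (hsurj : ∀ g ∈ G, ∃ γ ∈ Γ, ∀ z, γ (j z) = j (g z))
    (hy : ∀ σ ∈ Γ, ∀ j, σ (ys j) ∈ Submodule.span k (Set.range ys))
    (hfaith : ∀ σ ∈ Γ, (∀ i, σ (xs i) = xs i) → σ = 1)
    (hind : AlgebraicIndependent (IntermediateField.adjoin k (Set.range xs)) ys)
    (hgen : IntermediateField.adjoin k (Set.range xs ∪ Set.range ys) = ⊤) :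
    Nonempty (InvFld.Fld (Fin m) (IntermediateField.fixedField G) ≃ₐ[k]
      IntermediateField.fixedField Γ) := by
  classical
  have hE : j.fieldRange = IntermediateField.adjoin k (Set.range xs) := by
    rw [fieldRange_eq]
    congr 2
    funext i
    exact hj i
  have hx : ∀ σ ∈ Γ, ∀ i, σ (xs i) ∈ IntermediateField.adjoin k (Set.range xs) := by
    intro σ hσ i
    obtain ⟨g, -, hg⟩ := hcompat σ hσ
    rw [← hj i, hg, ← hE]
    exact ⟨_, rfl⟩
  obtain ⟨t, htind, htgen⟩ := NN.main' Γ xs ys hx hy hfaith hind hgen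
  set E : IntermediateField k L := IntermediateField.adjoin k (Set.range xs) with hEdef
  set Fix : IntermediateField k L := IntermediateField.fixedField Γ with hFix
  set F : IntermediateField k L := E ⊓ Fix with hF
  set FG : IntermediateField k (InvFld.Fld ι k) := IntermediateField.fixedField G with hFG
  -- the map Fix G → F
  have hρmem : ∀ z : FG, j (z : InvFld.Fld ι k) ∈ F := by
    intro z
    refine ⟨?_, ?_⟩
    · show j (z : InvFld.Fld ι k) ∈ E
      rw [← hE]; exact ⟨_, rfl⟩
    · show j (z : InvFld.Fld ι k) ∈ Fix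
      rw [hFix, IntermediateField.mem_fixedField_iff]
      intro γ hγ
      obtain ⟨g, hgG, hg⟩ := hcompat γ hγ
      rw [hg]
      congr 1
      exact (IntermediateField.mem_fixedField_iff _ _).1 z.2 g hgG
  let ρ : FG →ₐ[k] F := (j.comp FG.val).codRestrict F.toSubalgebra hρmem
  have hρinj : Function.Injective ρ := ρ.toRingHom.injective
  have hρsurj : ∀ w : L, w ∈ F → ∃ z : FG, j (z : InvFld.Fld ι k) = w := by
    intro w hw
    have hwE : w ∈ j.fieldRange := by rw [hE]; exact hw.1
    obtain ⟨z, rfl⟩ := hwE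
    refine ⟨⟨z, ?_⟩, rfl⟩
    rw [hFG, IntermediateField.mem_fixedField_iff]
    intro g hg
    obtain ⟨γ, hγΓ, hγ⟩ := hsurj g hg
    apply j.toRingHom.injective
    show j (g z) = j z
    rw [← hγ]
    exact (IntermediateField.mem_fixedField_iff _ _).1 hw.2 γ hγΓ
  -- the polynomial-level map
  let ψ0 : MvPolynomial (Fin m) FG →ₐ[k] L :=
    ((MvPolynomial.aeval t : MvPolynomial (Fin m) F →ₐ[F] L).restrictScalars k).comp
      (MvPolynomial.mapAlgHom ρ)
  have hψ0inj : Function.Injective ψ0 := by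
    have h1 : Function.Injective (MvPolynomial.mapAlgHom (σ := Fin m) ρ) :=
      MvPolynomial.map_injective _ hρinj
    have h2 : Function.Injective (MvPolynomial.aeval t : MvPolynomial (Fin m) F →ₐ[F] L) :=
      algebraicIndependent_iff_injective_aeval.1 htind
    exact h2.comp h1
  let ψ : InvFld.Fld (Fin m) FG →ₐ[k] L := IsFractionRing.liftAlgHom (g := ψ0) hψ0inj
  have hψalg : ∀ p : MvPolynomial (Fin m) FG,
      ψ (algebraMap (MvPolynomial (Fin m) FG) (InvFld.Fld (Fin m) FG) p) = ψ0 p := by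
    intro p
    show IsFractionRing.liftAlgHom (g := ψ0) hψ0inj _ = _
    rw [IsFractionRing.liftAlgHom_apply, IsFractionRing.lift_algebraMap]
    rfl
  set M' : IntermediateField F L := IntermediateField.adjoin F (Set.range t) with hM'
  have hψ0mem : ∀ p, ψ0 p ∈ M' := by
    intro p
    show MvPolynomial.aeval t (MvPolynomial.map (ρ : FG →+* F) p) ∈ M'
    generalize MvPolynomial.map (ρ : FG →+* F) p = q
    induction q using MvPolynomial.induction_on with
    | C c => rw [MvPolynomial.aeval_C]; exact IntermediateField.algebraMap_mem _ c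
    | add p q hp hq => rw [map_add]; exact add_mem hp hq
    | mul_X p i hp =>
      rw [map_mul, MvPolynomial.aeval_X]
      exact mul_mem hp (IntermediateField.subset_adjoin _ _ ⟨i, rfl⟩)
  have hmemFix : ∀ z, ψ z ∈ Fix := by
    intro z
    obtain ⟨a, b, hb, rfl⟩ := IsFractionRing.div_surjective (A := MvPolynomial (Fin m) FG) z
    rw [map_div₀, hψalg, hψalg, ← htgen]
    exact div_mem (hψ0mem a) (hψ0mem b)
  have hFsub : ∀ w : F, algebraMap F L w ∈ ψ.fieldRange.toSubfield := by
    intro w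
    obtain ⟨z, hz⟩ := hρsurj w w.2
    refine ⟨algebraMap (MvPolynomial (Fin m) FG) (InvFld.Fld (Fin m) FG) (MvPolynomial.C z), ?_⟩
    show ψ _ = _
    rw [hψalg]
    show MvPolynomial.aeval t (MvPolynomial.map (ρ : FG →+* F) (MvPolynomial.C z)) = _
    rw [MvPolynomial.map_C, MvPolynomial.aeval_C]
    show algebraMap F L (ρ z) = _
    congr 1
    exact Subtype.ext hz
  let T' : IntermediateField F L := ψ.fieldRange.toSubfield.toIntermediateField hFsub
  have hM'T' : M' ≤ T' := by
    apply IntermediateField.adjoin_le_iff.2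
    rintro _ ⟨i, rfl⟩
    refine ⟨algebraMap (MvPolynomial (Fin m) FG) (InvFld.Fld (Fin m) FG) (MvPolynomial.X i), ?_⟩
    show ψ _ = _
    rw [hψalg]
    show MvPolynomial.aeval t (MvPolynomial.map (ρ : FG →+* F) (MvPolynomial.X i)) = _
    rw [MvPolynomial.map_X, MvPolynomial.aeval_X]
  have hsurjψ : ∀ w : L, w ∈ Fix → ∃ z, ψ z = w := by
    intro w hw
    rw [← htgen] at hw
    exact hM'T' hw
  let ψc : InvFld.Fld (Fin m) FG →ₐ[k] Fix := ψ.codRestrict Fix.toSubalgebra hmemFix
  refine ⟨AlgEquiv.ofBijective ψc ⟨ψc.toRingHom.injective, ?_⟩⟩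
  intro w
  obtain ⟨z, hz⟩ := hsurjψ w w.2
  exact ⟨z, Subtype.ext hz⟩

end Groth.Agent.Lib.helper1.SE
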