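import Mathlib
import Groth.Prelude.Def_W4c2brnrinvarInvFld
import Groth.Agent.Lib.helper1.SE2

set_option autoImplicit false

namespace Groth.Agent.Lib.helper1.SE

open IntermediateField

universe u

variable (k : Type u) [Field k] (n m : ℕ)

/-- `k(x) → k(x,y)`. -/
noncomputable def j₁ : InvFld.Fld (Fin n) k →ₐ[k] InvFld.Fld (Fin n ⊕ Fin m) k :=
  liftFld (fun i : Fin n => (InvFld.X (Sum.inl i) : InvFld.Fld (Fin n ⊕ Fin m) k))
    ((NN.algInd_X k (Fin n ⊕ Fin m)).comp Sum.inl Sum.inl_injective)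

/-- `k(y) → k(x,y)`. -/
noncomputable def j₂ : InvFld.Fld (Fin m) k →ₐ[k] InvFld.Fld (Fin n ⊕ Fin m) k :=
  liftFld (fun i : Fin m => (InvFld.X (Sum.inr i) : InvFld.Fld (Fin n ⊕ Fin m) k))
    ((NN.algInd_X k (Fin n ⊕ Fin m)).comp Sum.inr Sum.inr_injective)

@[simp] theorem j₁_X (i : Fin n) : j₁ k n m (InvFld.X i) = InvFld.X (Sum.inl i) :=
  liftFld_X _ _ i

@[simp] theorem j₂_X (i : Fin m) : j₂ k n m (InvFld.X i) = InvFld.X (Sum.inr i) :=
  liftFld_X _ _ i

variable {k n m}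

theorem exists_algHom (g : InvFld.Fld (Fin n) k ≃ₐ[k] InvFld.Fld (Fin n) k)
    (h : InvFld.Fld (Fin m) k ≃ₐ[k] InvFld.Fld (Fin m) k)
    (hg : ∀ i, g.symm (InvFld.X i) ∈
      Submodule.span k (Set.range fun l : Fin n => (InvFld.X l : InvFld.Fld (Fin n) k)))
    (hh : ∀ i, h.symm (InvFld.X i) ∈
      Submodule.span k (Set.range fun l : Fin m => (InvFld.X l : InvFld.Fld (Fin m) k))) :
    ∃ Φ : InvFld.Fld (Fin n ⊕ Fin m) k →ₐ[k] InvFld.Fld (Fin n ⊕ Fin m) k,
      (∀ z, Φ (j₁ k n m z) = j₁ k n m (g z)) ∧ (∀ z, Φ (j₂ k n m z) = j₂ k n m (h z)) := by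
  set w : Fin n ⊕ Fin m → InvFld.Fld (Fin n ⊕ Fin m) k :=
    Sum.elim (fun i => j₁ k n m (g (InvFld.X i))) (fun i => j₂ k n m (h (InvFld.X i))) with hw
  have hgen : IntermediateField.adjoin k (Set.range w) = ⊤ := by
    rw [eq_top_iff, ← NN.adjoin_X_eq_top k (Fin n ⊕ Fin m)]
    apply IntermediateField.adjoin_le_iff.2
    rintro _ ⟨v, rfl⟩
    rcases v with i | i
    · have h1 := Submodule.apply_mem_span_image_of_mem_span
        ((j₁ k n m).comp (g : InvFld.Fld (Fin n) k →ₐ[k] InvFld.Fld (Fin n) k)).toLinearMap (hg i)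
      have h2 : Submodule.span k (((j₁ k n m).comp
          (g : InvFld.Fld (Fin n) k →ₐ[k] InvFld.Fld (Fin n) k)).toLinearMap ''
          (Set.range fun l : Fin n => (InvFld.X l : InvFld.Fld (Fin n) k))) ≤
          (IntermediateField.adjoin k (Set.range w)).toSubalgebra.toSubmodule := by
        apply Submodule.span_le.2
        rintro _ ⟨_, ⟨l, rfl⟩, rfl⟩
        exact IntermediateField.subset_adjoin _ _ ⟨Sum.inl l, rfl⟩
      have h3 := h2 h1
      simp only [AlgHom.toLinearMap_apply, AlgHom.comp_apply, AlgEquiv.coe_algHom,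
        AlgEquiv.apply_symm_apply, j₁_X] at h3
      exact h3
    · have h1 := Submodule.apply_mem_span_image_of_mem_span
        ((j₂ k n m).comp (h : InvFld.Fld (Fin m) k →ₐ[k] InvFld.Fld (Fin m) k)).toLinearMap (hh i)
      have h2 : Submodule.span k (((j₂ k n m).comp
          (h : InvFld.Fld (Fin m) k →ₐ[k] InvFld.Fld (Fin m) k)).toLinearMap ''
          (Set.range fun l : Fin m => (InvFld.X l : InvFld.Fld (Fin m) k))) ≤
          (IntermediateField.adjoin k (Set.range w)).toSubalgebra.toSubmodule := by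
        apply Submodule.span_le.2
        rintro _ ⟨_, ⟨l, rfl⟩, rfl⟩
        exact IntermediateField.subset_adjoin _ _ ⟨Sum.inr l, rfl⟩
      have h3 := h2 h1
      simp only [AlgHom.toLinearMap_apply, AlgHom.comp_apply, AlgEquiv.coe_algHom,
        AlgEquiv.apply_symm_apply, j₂_X] at h3
      exact h3
  have hind := algInd_of_adjoin_eq_top w hgen
  refine ⟨liftFld w hind, ?_, ?_⟩
  · intro z
    have : (liftFld w hind).comp (j₁ k n m) =
        (j₁ k n m).comp (g : InvFld.Fld (Fin n) k →ₐ[k] InvFld.Fld (Fin n) k) := by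
      apply algHom_ext
      intro i
      simp [hw]
    exact congrArg (fun φ : InvFld.Fld (Fin n) k →ₐ[k] InvFld.Fld (Fin n ⊕ Fin m) k => φ z) this
  · intro z
    have : (liftFld w hind).comp (j₂ k n m) =
        (j₂ k n m).comp (h : InvFld.Fld (Fin m) k →ₐ[k] InvFld.Fld (Fin m) k) := by
      apply algHom_ext
      intro i
      simp [hw]
    exact congrArg (fun φ : InvFld.Fld (Fin m) k →ₐ[k] InvFld.Fld (Fin n ⊕ Fin m) k => φ z) this

/-- Endomorphisms of `k(x,y)` agreeing on `k(x)` and `k(y)` are equal. -/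
theorem algHom_ext₂ {A : Type*} [CommRing A] [Algebra k A]
    (Φ Ψ : InvFld.Fld (Fin n ⊕ Fin m) k →ₐ[k] A)
    (h1 : ∀ z, Φ (j₁ k n m z) = Ψ (j₁ k n m z)) (h2 : ∀ z, Φ (j₂ k n m z) = Ψ (j₂ k n m z)) :
    Φ = Ψ := by
  apply algHom_ext
  rintro (i | i)
  · have := h1 (InvFld.X i); simpa using this
  · have := h2 (InvFld.X i); simpa using this

theorem exists_algEquiv (g : InvFld.Fld (Fin n) k ≃ₐ[k] InvFld.Fld (Fin n) k)
    (h : InvFld.Fld (Fin m) k ≃ₐ[k] InvFld.Fld (Fin m) k)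
    (hg : ∀ i, g (InvFld.X i) ∈
      Submodule.span k (Set.range fun l : Fin n => (InvFld.X l : InvFld.Fld (Fin n) k)))
    (hh : ∀ i, h (InvFld.X i) ∈
      Submodule.span k (Set.range fun l : Fin m => (InvFld.X l : InvFld.Fld (Fin m) k)))
    (hg' : ∀ i, g.symm (InvFld.X i) ∈
      Submodule.span k (Set.range fun l : Fin n => (InvFld.X l : InvFld.Fld (Fin n) k)))
    (hh' : ∀ i, h.symm (InvFld.X i) ∈
      Submodule.span k (Set.range fun l : Fin m => (InvFld.X l : InvFld.Fld (Fin m) k))) :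
    ∃ Φ : InvFld.Fld (Fin n ⊕ Fin m) k ≃ₐ[k] InvFld.Fld (Fin n ⊕ Fin m) k,
      (∀ z, Φ (j₁ k n m z) = j₁ k n m (g z)) ∧ (∀ z, Φ (j₂ k n m z) = j₂ k n m (h z)) := by
  obtain ⟨Φ, hΦ1, hΦ2⟩ := exists_algHom g h hg' hh'
  obtain ⟨Ψ, hΨ1, hΨ2⟩ := exists_algHom g.symm h.symm (by simpa using hg) (by simpa using hh)
  have h12 : Φ.comp Ψ = AlgHom.id k _ := by
    apply algHom_ext₂
    · intro z; simp [hΨ1, hΦ1]
    · intro z; simp [hΨ2, hΦ2]
  have h21 : Ψ.comp Φ = AlgHom.id k _ := by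
    apply algHom_ext₂
    · intro z; simp [hΨ1, hΦ1]
    · intro z; simp [hΨ2, hΦ2]
  exact ⟨AlgEquiv.ofAlgHom Φ Ψ h12 h21, hΦ1, hΦ2⟩

end Groth.Agent.Lib.helper1.SE
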