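import Mathlib
import Groth.Prelude.Def_W4c2brnrinvarInvFld
import Groth.Agent.Lib.helper1.SE3
import Groth.Agent.Lib.helper1.SE4

set_option autoImplicit false

namespace Groth.Agent.Lib.helper1.SE

open IntermediateField

universe u

variable {k : Type u} [Field k] {n m : ℕ}

attribute [local irreducible] j₁ j₂

theorem algEquiv_ext₂ (Φ Ψ : InvFld.Fld (Fin n ⊕ Fin m) k ≃ₐ[k] InvFld.Fld (Fin n ⊕ Fin m) k)
    (h1 : ∀ z, Φ (j₁ k n m z) = Ψ (j₁ k n m z)) (h2 : ∀ z, Φ (j₂ k n m z) = Ψ (j₂ k n m z)) :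
    Φ = Ψ := by
  have := algHom_ext₂ (Φ : InvFld.Fld (Fin n ⊕ Fin m) k →ₐ[k] InvFld.Fld (Fin n ⊕ Fin m) k) Ψ h1 h2
  apply AlgEquiv.ext
  intro z
  exact congrArg (fun φ : InvFld.Fld (Fin n ⊕ Fin m) k →ₐ[k] InvFld.Fld (Fin n ⊕ Fin m) k => φ z) this

/-- The diagonal group acting on `k(x,y)`. -/
def diag (G : Subgroup (InvFld.Fld (Fin n) k ≃ₐ[k] InvFld.Fld (Fin n) k))
    (H : Subgroup (InvFld.Fld (Fin m) k ≃ₐ[k] InvFld.Fld (Fin m) k)) (e : G ≃* H) :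
    Subgroup (InvFld.Fld (Fin n ⊕ Fin m) k ≃ₐ[k] InvFld.Fld (Fin n ⊕ Fin m) k) where
  carrier := {γ | ∃ g : G, (∀ z, γ (j₁ k n m z) = j₁ k n m ((g : _ ≃ₐ[k] _) z)) ∧
    (∀ z, γ (j₂ k n m z) = j₂ k n m ((e g : _ ≃ₐ[k] _) z))}
  mul_mem' := by
    rintro a b ⟨g, hg1, hg2⟩ ⟨g', hg'1, hg'2⟩
    refine ⟨g * g', ?_, ?_⟩
    · intro z
      rw [AlgEquiv.mul_apply, hg'1, hg1, Subgroup.coe_mul, AlgEquiv.mul_apply]
    · intro z
      rw [AlgEquiv.mul_apply, hg'2, hg2, map_mul, Subgroup.coe_mul, AlgEquiv.mul_apply]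
  one_mem' := by
    refine ⟨1, ?_, ?_⟩
    · intro z
      rw [AlgEquiv.one_apply, Subgroup.coe_one, AlgEquiv.one_apply]
    · intro z
      rw [AlgEquiv.one_apply, map_one, Subgroup.coe_one, AlgEquiv.one_apply]
  inv_mem' := by
    rintro a ⟨g, hg1, hg2⟩
    refine ⟨g⁻¹, ?_, ?_⟩
    · intro z
      apply a.injective
      rw [hg1, Subgroup.coe_inv, ← AlgEquiv.mul_apply, ← AlgEquiv.mul_apply, mul_inv_cancel,
        mul_inv_cancel, AlgEquiv.one_apply, AlgEquiv.one_apply]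
    · intro z
      apply a.injective
      rw [hg2, map_inv, Subgroup.coe_inv, ← AlgEquiv.mul_apply, ← AlgEquiv.mul_apply,
        mul_inv_cancel, mul_inv_cancel, AlgEquiv.one_apply, AlgEquiv.one_apply]

theorem mem_diag (G : Subgroup (InvFld.Fld (Fin n) k ≃ₐ[k] InvFld.Fld (Fin n) k))
    (H : Subgroup (InvFld.Fld (Fin m) k ≃ₐ[k] InvFld.Fld (Fin m) k)) (e : G ≃* H)
    (γ : InvFld.Fld (Fin n ⊕ Fin m) k ≃ₐ[k] InvFld.Fld (Fin n ⊕ Fin m) k) :
    γ ∈ diag G H e ↔ ∃ g : G, (∀ z, γ (j₁ k n m z) = j₁ k n m ((g : _ ≃ₐ[k] _) z)) ∧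
    (∀ z, γ (j₂ k n m z) = j₂ k n m ((e g : _ ≃ₐ[k] _) z)) := Iff.rfl

instance (G : Subgroup (InvFld.Fld (Fin n) k ≃ₐ[k] InvFld.Fld (Fin n) k)) [Finite G]
    (H : Subgroup (InvFld.Fld (Fin m) k ≃ₐ[k] InvFld.Fld (Fin m) k)) (e : G ≃* H) :
    Finite (diag G H e) := by
  apply Finite.of_injective (fun γ : diag G H e => Classical.choose γ.2)
  intro γ γ' hγ
  have h := Classical.choose_spec γ.2
  have h' := Classical.choose_spec γ'.2
  simp only at hγ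
  rw [← hγ] at h'
  apply Subtype.ext
  apply algEquiv_ext₂
  · intro z; rw [h.1, h'.1]
  · intro z; rw [h.2, h'.2]

theorem j_injective₁ : Function.Injective (j₁ k n m) := (j₁ k n m).toRingHom.injective
theorem j_injective₂ : Function.Injective (j₂ k n m) := (j₂ k n m).toRingHom.injective

open scoped IntermediateField.algebraAdjoinAdjoin in
theorem stable_equiv (k : Type u) [Field k] (n m : ℕ)
    (G : Subgroup (InvFld.Fld (Fin n) k ≃ₐ[k] InvFld.Fld (Fin n) k)) [Finite G]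
    (H : Subgroup (InvFld.Fld (Fin m) k ≃ₐ[k] InvFld.Fld (Fin m) k)) [Finite H] (e : G ≃* H)
    (hG : ∀ σ ∈ G, ∀ i : Fin n, σ (InvFld.X i) ∈ Submodule.span k
      (Set.range fun j : Fin n => (InvFld.X j : InvFld.Fld (Fin n) k)))
    (hH : ∀ τ ∈ H, ∀ i : Fin m, τ (InvFld.X i) ∈ Submodule.span k
      (Set.range fun j : Fin m => (InvFld.X j : InvFld.Fld (Fin m) k))) :
    Nonempty (InvFld.Fld (Fin m) (IntermediateField.fixedField G) ≃ₐ[k]
      InvFld.Fld (Fin n) (IntermediateField.fixedField H)) := by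
  classical
  set L := InvFld.Fld (Fin n ⊕ Fin m) k with hL
  set Γ := diag G H e with hΓ
  -- existence of lifts
  have hlift : ∀ g : G, ∃ γ ∈ Γ, (∀ z, γ (j₁ k n m z) = j₁ k n m ((g : _ ≃ₐ[k] _) z)) ∧
      (∀ z, γ (j₂ k n m z) = j₂ k n m ((e g : _ ≃ₐ[k] _) z)) := by
    intro g
    obtain ⟨Φ, h1, h2⟩ := exists_algEquiv (g : InvFld.Fld (Fin n) k ≃ₐ[k] InvFld.Fld (Fin n) k)
      (e g : InvFld.Fld (Fin m) k ≃ₐ[k] InvFld.Fld (Fin m) k) (hG g g.2) (hH (e g) (e g).2)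
      (hG (g⁻¹ : G) (g⁻¹ : G).2) (by
        have := hH (e g)⁻¹ ((e g)⁻¹ : H).2
        exact this)
    exact ⟨Φ, ⟨g, h1, h2⟩, h1, h2⟩
  have hone : ∀ γ ∈ Γ, ∀ g : G, (∀ z, γ (j₁ k n m z) = j₁ k n m ((g : _ ≃ₐ[k] _) z)) →
      (∀ z, γ (j₂ k n m z) = j₂ k n m ((e g : _ ≃ₐ[k] _) z)) → g = 1 → γ = 1 := by
    intro γ _ g h1 h2 hg
    subst hg
    apply algEquiv_ext₂
    · intro z; rw [h1]; rfl
    · intro z; rw [h2, map_one]; rfl
  -- first application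
  have iso1 : Nonempty (InvFld.Fld (Fin m) (IntermediateField.fixedField G) ≃ₐ[k]
      IntermediateField.fixedField Γ) := by
    refine lemmaB Γ (fun i : Fin n => (InvFld.X (Sum.inl i) : L))
      (fun i : Fin m => (InvFld.X (Sum.inr i) : L)) G (j₁ k n m) (j₁_X k n m) ?_ ?_ ?_ ?_
      (NN.algInd_ys k n m) ?_
    · rintro γ ⟨g, h1, h2⟩
      exact ⟨g, g.2, h1⟩
    · intro g hg
      obtain ⟨γ, hγ, h1, -⟩ := hlift ⟨g, hg⟩
      exact ⟨γ, hγ, h1⟩
    · rintro γ ⟨g, h1, h2⟩ i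
      have h3 : γ (InvFld.X (Sum.inr i)) = j₂ k n m
          (((e g : H) : InvFld.Fld (Fin m) k ≃ₐ[k] InvFld.Fld (Fin m) k) (InvFld.X i)) := by
        rw [← h2, j₂_X]
      rw [h3]
      have h4 := Submodule.apply_mem_span_image_of_mem_span (j₂ k n m).toLinearMap
        (hH (e g) (e g).2 i)
      refine Submodule.span_mono ?_ h4
      rintro _ ⟨_, ⟨l, rfl⟩, rfl⟩
      exact ⟨l, (j₂_X k n m l).symm⟩
    · rintro γ ⟨g, h1, h2⟩ hfix
      refine hone γ ⟨g, h1, h2⟩ g h1 h2 ?_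
      apply Subtype.ext
      apply algEquiv_ext
      intro i
      apply j_injective₁ (k := k) (n := n) (m := m)
      rw [← h1, j₁_X, Subgroup.coe_one, AlgEquiv.one_apply, j₁_X]
      exact hfix i
    · rw [← NN.adjoin_X_eq_top k (Fin n ⊕ Fin m)]
      congr 1
      ext z
      constructor
      · rintro (⟨i, rfl⟩ | ⟨i, rfl⟩)
        · exact ⟨Sum.inl i, rfl⟩
        · exact ⟨Sum.inr i, rfl⟩
      · rintro ⟨i | i, rfl⟩
        · exact Or.inl ⟨i, rfl⟩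
        · exact Or.inr ⟨i, rfl⟩
  have hind2 : AlgebraicIndependent
      (IntermediateField.adjoin k (Set.range fun i : Fin m => (InvFld.X (Sum.inr i) : L)))
      (fun i : Fin n => (InvFld.X (Sum.inl i) : L)) := by
    have h0 := NN.algInd_X k (Fin n ⊕ Fin m)
    have h1 : AlgebraicIndependent k (Sum.elim
        (fun i : Fin n => (InvFld.X (Sum.inl i) : L))
        (fun i : Fin m => (InvFld.X (Sum.inr i) : L))) := by
      convert h0 using 1
      funext i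
      cases i <;> rfl
    have h2 := (AlgebraicIndependent.sumElim_iff.1 h1).2
    exact h2.extendScalars _
  have iso2 : Nonempty (InvFld.Fld (Fin n) (IntermediateField.fixedField H) ≃ₐ[k]
      IntermediateField.fixedField Γ) := by
    refine lemmaB Γ (fun i : Fin m => (InvFld.X (Sum.inr i) : L))
      (fun i : Fin n => (InvFld.X (Sum.inl i) : L)) H (j₂ k n m) (j₂_X k n m) ?_ ?_ ?_ ?_
      hind2 ?_
    · rintro γ ⟨g, h1, h2⟩
      exact ⟨e g, (e g).2, h2⟩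
    · intro h hh
      obtain ⟨γ, hγ, -, h2⟩ := hlift (e.symm ⟨h, hh⟩)
      refine ⟨γ, hγ, ?_⟩
      intro z
      rw [h2, MulEquiv.apply_symm_apply]
    · rintro γ ⟨g, h1, h2⟩ i
      have h3 : γ (InvFld.X (Sum.inl i)) = j₁ k n m
          (((g : G) : InvFld.Fld (Fin n) k ≃ₐ[k] InvFld.Fld (Fin n) k) (InvFld.X i)) := by
        rw [← h1, j₁_X]
      rw [h3]
      have h4 := Submodule.apply_mem_span_image_of_mem_span (j₁ k n m).toLinearMap
        (hG g g.2 i)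
      refine Submodule.span_mono ?_ h4
      rintro _ ⟨_, ⟨l, rfl⟩, rfl⟩
      exact ⟨l, (j₁_X k n m l).symm⟩
    · rintro γ ⟨g, h1, h2⟩ hfix
      refine hone γ ⟨g, h1, h2⟩ g h1 h2 ?_
      have : e g = 1 := by
        apply Subtype.ext
        apply algEquiv_ext
        intro i
        apply j_injective₂ (k := k) (n := n) (m := m)
        rw [← h2, j₂_X, Subgroup.coe_one, AlgEquiv.one_apply, j₂_X]
        exact hfix i
      exact e.injective (this.trans (map_one e).symm)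
    · rw [← NN.adjoin_X_eq_top k (Fin n ⊕ Fin m)]
      congr 1
      ext z
      constructor
      · rintro (⟨i, rfl⟩ | ⟨i, rfl⟩)
        · exact ⟨Sum.inr i, rfl⟩
        · exact ⟨Sum.inl i, rfl⟩
      · rintro ⟨i | i, rfl⟩
        · exact Or.inr ⟨i, rfl⟩
        · exact Or.inl ⟨i, rfl⟩
  obtain ⟨f1⟩ := iso1
  obtain ⟨f2⟩ := iso2
  exact ⟨f1.trans f2.symm⟩

end Groth.Agent.Lib.helper1.SE
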