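import Mathlib
import Groth.Prelude.Def_W4c2brnrinvarInvFld
import Groth.Agent.Lib.helper1.SE1
import Groth.Agent.Lib.helper1.SE2

set_option autoImplicit false

namespace Groth.Agent.Lib.helper1.SE

open IntermediateField

universe u

/-- Variant of Lemma B exposing the generators. -/
theorem lemmaB' {k : Type u} [Field k] {L : Type u} [Field L] [Algebra k L] {ι : Type} {m : ℕ}
    (Γ : Subgroup (L ≃ₐ[k] L)) [Finite Γ] (xs : ι → L) (ys : Fin m → L)
    (G : Subgroup (InvFld.Fld ι k ≃ₐ[k] InvFld.Fld ι k))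
    (j : InvFld.Fld ι k →ₐ[k] L) (hj : ∀ i, j (InvFld.X i) = xs i)
    (hcompat : ∀ γ ∈ Γ, ∃ g ∈ G, ∀ z, γ (j z) = j (g z))
    (hsurj : ∀ g ∈ G, ∃ γ ∈ Γ, ∀ z, γ (j z) = j (g z))
    (hy : ∀ σ ∈ Γ, ∀ j, σ (ys j) ∈ Submodule.span k (Set.range ys))
    (hfaith : ∀ σ ∈ Γ, (∀ i, σ (xs i) = xs i) → σ = 1)
    (hind : AlgebraicIndependent (IntermediateField.adjoin k (Set.range xs)) ys)
    (hgen : IntermediateField.adjoin k (Set.range xs ∪ Set.range ys) = ⊤) :
    ∃ t : Fin m → L,
      AlgebraicIndependent ↥((IntermediateField.fixedField G).map j) t ∧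
      IntermediateField.restrictScalars k (IntermediateField.adjoin
        ↥((IntermediateField.fixedField G).map j) (Set.range t)) =
        IntermediateField.fixedField Γ := by
  classical
  have hE : j.fieldRange = IntermediateField.adjoin k (Set.range xs) := by
    rw [fieldRange_eq]
    congr 2
    funext i
    exact hj i
  have hx : ∀ σ ∈ Γ, ∀ i, σ (xs i) ∈ IntermediateField.adjoin k (Set.range xs) := by
    intro σ hσ i
    obtain ⟨g, -, hg⟩ := hcompat σ hσ
    rw [← hj i, hg, ← hE]
    exact ⟨_, rfl⟩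
  have key := NN.main' Γ xs ys hx hy hfaith hind hgen
  have hFeq : IntermediateField.adjoin k (Set.range xs) ⊓ IntermediateField.fixedField Γ =
      (IntermediateField.fixedField G).map j := by
    apply le_antisymm
    · intro w hw
      have hwE : w ∈ j.fieldRange := by rw [hE]; exact hw.1
      obtain ⟨z, rfl⟩ := hwE
      refine ⟨z, ?_, rfl⟩
      show z ∈ IntermediateField.fixedField G
      rw [IntermediateField.mem_fixedField_iff]
      intro g hg
      obtain ⟨γ, hγΓ, hγ⟩ := hsurj g hg
      apply j.toRingHom.injective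
      show j (g z) = j z
      rw [← hγ]
      exact (IntermediateField.mem_fixedField_iff _ _).1 hw.2 γ hγΓ
    · rintro _ ⟨z, hz, rfl⟩
      refine ⟨?_, ?_⟩
      · show j z ∈ IntermediateField.adjoin k (Set.range xs)
        rw [← hE]; exact ⟨_, rfl⟩
      · show j z ∈ IntermediateField.fixedField Γ
        rw [IntermediateField.mem_fixedField_iff]
        intro γ hγ
        obtain ⟨g, hgG, hg⟩ := hcompat γ hγ
        rw [hg]
        congr 1
        exact (IntermediateField.mem_fixedField_iff _ _).1 hz g hgG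
  rw [hFeq] at key
  exact key

end Groth.Agent.Lib.helper1.SE
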