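import Mathlib
import Groth.Prelude.Def_W4c2brnrinvarInvFld
import Groth.Agent.Lib.helper1.SE2

set_option autoImplicit false

namespace Groth.Agent.Lib.helper1.SE

open IntermediateField

universe u

variable (k : Type u) [Field k] (n : ℕ)

theorem X_injective (σ : Type*) :
    Function.Injective (fun i : σ => (InvFld.X i : InvFld.Fld σ k)) :=
  (NN.algInd_X k σ).injective

/-- The algebra endomorphism of `k(x)` permuting the variables. -/
noncomputable def permAlgHom (σ : Equiv.Perm (Fin n)) :
    InvFld.Fld (Fin n) k →ₐ[k] InvFld.Fld (Fin n) k :=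
  liftFld (fun i : Fin n => (InvFld.X (σ i) : InvFld.Fld (Fin n) k))
    ((NN.algInd_X k (Fin n)).comp σ σ.injective)

@[simp] theorem permAlgHom_X (σ : Equiv.Perm (Fin n)) (i : Fin n) :
    permAlgHom k n σ (InvFld.X i) = InvFld.X (σ i) := liftFld_X _ _ i

theorem permAlgHom_mul (σ τ : Equiv.Perm (Fin n)) :
    (permAlgHom k n σ).comp (permAlgHom k n τ) = permAlgHom k n (σ * τ) := by
  apply algHom_ext
  intro i
  simp

theorem permAlgHom_one : permAlgHom k n 1 = AlgHom.id k _ := by
  apply algHom_ext
  intro i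
  simp

/-- The action of the symmetric group on `k(x_1, …, x_n)`. -/
noncomputable def permHom :
    Equiv.Perm (Fin n) →* (InvFld.Fld (Fin n) k ≃ₐ[k] InvFld.Fld (Fin n) k) where
  toFun σ := AlgEquiv.ofAlgHom (permAlgHom k n σ) (permAlgHom k n σ⁻¹)
    (by rw [permAlgHom_mul, mul_inv_cancel, permAlgHom_one])
    (by rw [permAlgHom_mul, inv_mul_cancel, permAlgHom_one])
  map_one' := by
    apply algEquiv_ext
    intro i
    simp
  map_mul' σ τ := by
    apply algEquiv_ext
    intro i
    simp [AlgEquiv.mul_apply]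

@[simp] theorem permHom_X (σ : Equiv.Perm (Fin n)) (i : Fin n) :
    permHom k n σ (InvFld.X i) = InvFld.X (σ i) := permAlgHom_X k n σ i

theorem permHom_injective : Function.Injective (permHom k n) := by
  intro σ τ h
  ext i
  have := congrArg (fun φ : InvFld.Fld (Fin n) k ≃ₐ[k] InvFld.Fld (Fin n) k => φ (InvFld.X i)) h
  simp only [permHom_X] at this
  exact congrArg Fin.val (X_injective k (Fin n) this)

theorem permHom_algebraMap (σ : Equiv.Perm (Fin n)) (p : MvPolynomial (Fin n) k) :
    permHom k n σ (algebraMap (MvPolynomial (Fin n) k) (InvFld.Fld (Fin n) k) p) =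
      algebraMap (MvPolynomial (Fin n) k) (InvFld.Fld (Fin n) k) (MvPolynomial.rename σ p) := by
  have : ((permHom k n σ : InvFld.Fld (Fin n) k →ₐ[k] InvFld.Fld (Fin n) k)).comp
      (IsScalarTower.toAlgHom k (MvPolynomial (Fin n) k) (InvFld.Fld (Fin n) k)) =
      (IsScalarTower.toAlgHom k (MvPolynomial (Fin n) k) (InvFld.Fld (Fin n) k)).comp
        (MvPolynomial.rename σ) := by
    apply MvPolynomial.algHom_ext
    intro i
    simp only [AlgHom.comp_apply, IsScalarTower.coe_toAlgHom', MvPolynomial.rename_X,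
      AlgEquiv.coe_toAlgHom]
    exact permHom_X k n σ i
  exact congrArg (fun φ : MvPolynomial (Fin n) k →ₐ[k] InvFld.Fld (Fin n) k => φ p) this

/-- The elementary symmetric functions in `k(x)`. -/
noncomputable def eps (i : Fin n) : InvFld.Fld (Fin n) k :=
  algebraMap (MvPolynomial (Fin n) k) (InvFld.Fld (Fin n) k) (MvPolynomial.esymm (Fin n) k (i + 1))

theorem aeval_eps (p : MvPolynomial (Fin n) k) :
    MvPolynomial.aeval (eps k n) p = algebraMap (MvPolynomial (Fin n) k) (InvFld.Fld (Fin n) k)
      ((MvPolynomial.esymmAlgHom (Fin n) k n p).val) := by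
  rw [MvPolynomial.esymmAlgHom_apply]
  exact MvPolynomial.aeval_algebraMap_apply (InvFld.Fld (Fin n) k)
    (fun i : Fin n => MvPolynomial.esymm (Fin n) k (i + 1)) p

theorem algInd_eps : AlgebraicIndependent k (eps k n) := by
  rw [algebraicIndependent_iff_injective_aeval]
  intro p q hpq
  rw [aeval_eps, aeval_eps] at hpq
  have h1 := IsFractionRing.injective (MvPolynomial (Fin n) k) (InvFld.Fld (Fin n) k) hpq
  exact MvPolynomial.esymmAlgHom_fin_injective k le_rfl (Subtype.ext h1)

theorem mem_adjoin_of_isSymmetric (A : MvPolynomial (Fin n) k) (hA : A.IsSymmetric) :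
    algebraMap (MvPolynomial (Fin n) k) (InvFld.Fld (Fin n) k) A ∈
      IntermediateField.adjoin k (Set.range (eps k n)) := by
  obtain ⟨p, hp⟩ := (MvPolynomial.esymmAlgHom_fin_bijective k n).2 ⟨A, hA⟩
  have h1 : algebraMap (MvPolynomial (Fin n) k) (InvFld.Fld (Fin n) k) A =
      MvPolynomial.aeval (eps k n) p := by
    rw [aeval_eps, hp]
  rw [h1]
  have : MvPolynomial.aeval (eps k n) p ∈ Algebra.adjoin k (Set.range (eps k n)) := by
    rw [Algebra.adjoin_range_eq_range_aeval]
    exact ⟨p, rfl⟩
  exact IntermediateField.algebra_adjoin_le_adjoin k _ this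

theorem fixedField_perm :
    IntermediateField.fixedField (permHom k n).range =
      IntermediateField.adjoin k (Set.range (eps k n)) := by
  classical
  apply le_antisymm
  · intro f hf
    rw [IntermediateField.mem_fixedField_iff] at hf
    have hf' : ∀ σ : Equiv.Perm (Fin n), permHom k n σ f = f := fun σ => hf _ ⟨σ, rfl⟩
    obtain ⟨a, b, hb, rfl⟩ := IsFractionRing.div_surjective (A := MvPolynomial (Fin n) k) f
    have hb0 : b ≠ 0 := nonZeroDivisors.ne_zero hb
    set B₁ : MvPolynomial (Fin n) k :=
      ∏ σ ∈ (Finset.univ : Finset (Equiv.Perm (Fin n))).erase 1, MvPolynomial.rename σ b with hB₁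
    set B : MvPolynomial (Fin n) k :=
      ∏ σ : Equiv.Perm (Fin n), MvPolynomial.rename σ b with hB
    have hBB₁ : B = b * B₁ := by
      rw [hB, hB₁, ← Finset.mul_prod_erase _ _ (Finset.mem_univ (1 : Equiv.Perm (Fin n)))]
      congr 1
      simp
    have hBsymm : B.IsSymmetric := by
      intro τ
      rw [hB, map_prod]
      simp only [MvPolynomial.rename_rename]
      exact Fintype.prod_equiv (Equiv.mulLeft τ) _ _ (fun σ => rfl)
    have hB0 : B ≠ 0 := by
      rw [hB, Finset.prod_ne_zero_iff]
      intro σ _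
      exact (map_ne_zero_iff _ (MvPolynomial.rename_injective _ σ.injective)).2 hb0
    set ι := algebraMap (MvPolynomial (Fin n) k) (InvFld.Fld (Fin n) k) with hι
    have hιinj : Function.Injective ι := IsFractionRing.injective _ _
    have hιB0 : ι B ≠ 0 := (map_ne_zero_iff _ hιinj).2 hB0
    have hιb0 : ι b ≠ 0 := (map_ne_zero_iff _ hιinj).2 hb0
    set A : MvPolynomial (Fin n) k := a * B₁ with hA
    have hfAB : ι a / ι b = ι A / ι B := by
      rw [hA, hBB₁, map_mul, map_mul]
      have hB₁0 : ι B₁ ≠ 0 := by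
        intro h
        apply hιB0
        rw [hBB₁, map_mul, h, mul_zero]
      field_simp
    have hAeq : ι A = (ι a / ι b) * ι B := by
      rw [hfAB]; field_simp
    have hAsymm : A.IsSymmetric := by
      intro σ
      apply hιinj
      rw [← permHom_algebraMap, hAeq, map_mul, hf' σ, permHom_algebraMap, hBsymm σ]
    rw [hfAB]
    exact div_mem (mem_adjoin_of_isSymmetric k n A hAsymm) (mem_adjoin_of_isSymmetric k n B hBsymm)
  · apply IntermediateField.adjoin_le_iff.2
    rintro _ ⟨i, rfl⟩
    show eps k n i ∈ IntermediateField.fixedField (permHom k n).range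
    rw [IntermediateField.mem_fixedField_iff]
    rintro _ ⟨σ, rfl⟩
    unfold eps
    rw [permHom_algebraMap, MvPolynomial.esymm_isSymmetric]

end Groth.Agent.Lib.helper1.SE
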