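import Mathlib

set_option autoImplicit false

namespace Groth.Agent.Lib.helper1.SE

open IntermediateField

/-- Purely transcendental (finitely generated) extension. -/
def PureTr (k L : Type*) [Field k] [Field L] [Algebra k L] : Prop :=
  ∃ (N : ℕ) (t : Fin N → L), AlgebraicIndependent k t ∧ IntermediateField.adjoin k (Set.range t) = ⊤

theorem PureTr.of_algEquiv {k L L' : Type*} [Field k] [Field L] [Field L'] [Algebra k L]
    [Algebra k L'] (f : L ≃ₐ[k] L') (h : PureTr k L) : PureTr k L' := by
  obtain ⟨N, t, ht, htop⟩ := h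
  refine ⟨N, fun i => f (t i), ?_, ?_⟩
  · exact ht.map' (f := (f : L →ₐ[k] L')) f.injective
  · have h1 : (IntermediateField.adjoin k (Set.range t)).map (f : L →ₐ[k] L') =
        IntermediateField.adjoin k (Set.range fun i => f (t i)) := by
      rw [IntermediateField.adjoin_map]
      congr 1
      ext z
      constructor
      · rintro ⟨_, ⟨i, rfl⟩, rfl⟩; exact ⟨i, rfl⟩
      · rintro ⟨i, rfl⟩; exact ⟨_, ⟨i, rfl⟩, rfl⟩
    rw [← h1, htop, eq_top_iff]
    intro z _
    exact ⟨f.symm z, trivial, by simp⟩

theorem PureTr.of_intermediateField {k L : Type*} [Field k] [Field L] [Algebra k L]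
    (M : IntermediateField k L) {N : ℕ} (T : Fin N → L) (hT : AlgebraicIndependent k T)
    (hM : IntermediateField.adjoin k (Set.range T) = M) : PureTr k M := by
  have hmem : ∀ i, T i ∈ M := fun i => hM ▸ IntermediateField.subset_adjoin k _ ⟨i, rfl⟩
  refine ⟨N, fun i => ⟨T i, hmem i⟩, ?_, ?_⟩
  · exact AlgebraicIndependent.of_comp M.val hT
  · apply IntermediateField.map_injective M.val
    rw [IntermediateField.adjoin_map]
    have h1 : (M.val '' Set.range fun i => (⟨T i, hmem i⟩ : M)) = Set.range T := by
      ext z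
      constructor
      · rintro ⟨_, ⟨i, rfl⟩, rfl⟩; exact ⟨i, rfl⟩
      · rintro ⟨i, rfl⟩; exact ⟨_, ⟨i, rfl⟩, rfl⟩
    rw [h1, hM]
    ext z
    constructor
    · intro hz; exact ⟨⟨z, hz⟩, trivial, rfl⟩
    · rintro ⟨w, -, rfl⟩; exact w.2

open scoped IntermediateField.algebraAdjoinAdjoin in
theorem algInd_tower {k L : Type*} [Field k] [Field L] [Algebra k L] (F : IntermediateField k L)
    {a b : ℕ} (ε' : Fin a → L) (hε : AlgebraicIndependent k ε')
    (hF : IntermediateField.adjoin k (Set.range ε') = F)
    (t : Fin b → L) (ht : AlgebraicIndependent F t) :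
    AlgebraicIndependent k (Sum.elim t ε') ∧
    IntermediateField.adjoin k (Set.range (Sum.elim t ε')) =
      IntermediateField.restrictScalars k (IntermediateField.adjoin F (Set.range t)) := by
  subst hF
  constructor
  · rw [AlgebraicIndependent.sumElim_iff]
    refine ⟨hε, ?_⟩
    exact ht.restrictScalars (K := IntermediateField.adjoin k (Set.range ε'))
      (FaithfulSMul.algebraMap_injective _ _)
  · rw [IntermediateField.adjoin_adjoin_left, Set.Sum.elim_range, Set.union_comm]

theorem PureTr.of_tower {k L : Type*} [Field k] [Field L] [Algebra k L] (F M : IntermediateField k L)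
    {a b : ℕ} (ε' : Fin a → L) (hε : AlgebraicIndependent k ε')
    (hF : IntermediateField.adjoin k (Set.range ε') = F)
    (t : Fin b → L) (ht : AlgebraicIndependent F t)
    (hM : IntermediateField.restrictScalars k (IntermediateField.adjoin F (Set.range t)) = M) :
    PureTr k M := by
  obtain ⟨h1, h2⟩ := algInd_tower F ε' hε hF t ht
  have h3 : AlgebraicIndependent k (fun i : Fin (b + a) => Sum.elim t ε' (finSumFinEquiv.symm i)) :=
    h1.comp _ finSumFinEquiv.symm.injective
  apply PureTr.of_intermediateField M _ h3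
  rw [← hM, ← h2]
  congr 1
  ext z
  constructor
  · rintro ⟨i, rfl⟩; exact ⟨_, rfl⟩
  · rintro ⟨i, rfl⟩; exact ⟨finSumFinEquiv i, by simp⟩

end Groth.Agent.Lib.helper1.SE
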