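import Mathlib
import Groth.Prelude.Def_W4c2brnrinvarInvFld
import Groth.Agent.Lib.helper1.SE5
import Groth.Agent.Lib.helper1.SE6
import Groth.Agent.Lib.helper1.SE7
import Groth.Agent.Lib.helper1.SE8

set_option autoImplicit false

namespace Groth.Agent.Lib.helper1.SE

open IntermediateField

universe u

variable {k : Type u} [Field k] {n m : ℕ}

attribute [local irreducible] j₁ j₂

open scoped IntermediateField.algebraAdjoinAdjoin in
/-- Both descriptions of the fixed field of the diagonal group. -/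
theorem diag_all (k : Type u) [Field k] (n m : ℕ)
    (G : Subgroup (InvFld.Fld (Fin n) k ≃ₐ[k] InvFld.Fld (Fin n) k)) [Finite G]
    (H : Subgroup (InvFld.Fld (Fin m) k ≃ₐ[k] InvFld.Fld (Fin m) k)) [Finite H] (e : G ≃* H)
    (hG : ∀ σ ∈ G, ∀ i : Fin n, σ (InvFld.X i) ∈ Submodule.span k
      (Set.range fun j : Fin n => (InvFld.X j : InvFld.Fld (Fin n) k)))
    (hH : ∀ τ ∈ H, ∀ i : Fin m, τ (InvFld.X i) ∈ Submodule.span k
      (Set.range fun j : Fin m => (InvFld.X j : InvFld.Fld (Fin m) k))) :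
    Nonempty (InvFld.Fld (Fin m) (IntermediateField.fixedField G) ≃ₐ[k]
      IntermediateField.fixedField (diag G H e)) ∧
    ∃ t : Fin n → InvFld.Fld (Fin n ⊕ Fin m) k,
      AlgebraicIndependent ↥((IntermediateField.fixedField H).map (j₂ k n m)) t ∧
      IntermediateField.restrictScalars k (IntermediateField.adjoin
        ↥((IntermediateField.fixedField H).map (j₂ k n m)) (Set.range t)) =
        IntermediateField.fixedField (diag G H e) := by
  classical
  set L := InvFld.Fld (Fin n ⊕ Fin m) k with hL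
  set Γ := diag G H e with hΓ
  -- existence of lifts
  have hlift : ∀ g : G, ∃ γ ∈ Γ, (∀ z, γ (j₁ k n m z) = j₁ k n m ((g : _ ≃ₐ[k] _) z)) ∧
      (∀ z, γ (j₂ k n m z) = j₂ k n m ((e g : _ ≃ₐ[k] _) z)) := by
    intro g
    obtain ⟨Φ, h1, h2⟩ := exists_algEquiv (g : InvFld.Fld (Fin n) k ≃ₐ[k] InvFld.Fld (Fin n) k)
      (e g : InvFld.Fld (Fin m) k ≃ₐ[k] InvFld.Fld (Fin m) k) (hG g g.2) (hH (e g) (e g).2)
      (hG (g⁻¹ : G) (g⁻¹ : G).2) (by
        have := hH (e g)⁻¹ ((e g)⁻¹ : H).2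
        exact this)
    exact ⟨Φ, ⟨g, h1, h2⟩, h1, h2⟩
  have hone : ∀ γ ∈ Γ, ∀ g : G, (∀ z, γ (j₁ k n m z) = j₁ k n m ((g : _ ≃ₐ[k] _) z)) →
      (∀ z, γ (j₂ k n m z) = j₂ k n m ((e g : _ ≃ₐ[k] _) z)) → g = 1 → γ = 1 := by
    intro γ _ g h1 h2 hg
    subst hg
    apply algEquiv_ext₂
    · intro z; rw [h1]; rfl
    · intro z; rw [h2, map_one]; rfl
  -- first application
  have iso1 : Nonempty (InvFld.Fld (Fin m) (IntermediateField.fixedField G) ≃ₐ[k]
      IntermediateField.fixedField Γ) := by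
    refine lemmaB Γ (fun i : Fin n => (InvFld.X (Sum.inl i) : L))
      (fun i : Fin m => (InvFld.X (Sum.inr i) : L)) G (j₁ k n m) (j₁_X k n m) ?_ ?_ ?_ ?_
      (NN.algInd_ys k n m) ?_
    · rintro γ ⟨g, h1, h2⟩
      exact ⟨g, g.2, h1⟩
    · intro g hg
      obtain ⟨γ, hγ, h1, -⟩ := hlift ⟨g, hg⟩
      exact ⟨γ, hγ, h1⟩
    · rintro γ ⟨g, h1, h2⟩ i
      have h3 : γ (InvFld.X (Sum.inr i)) = j₂ k n m
          (((e g : H) : InvFld.Fld (Fin m) k ≃ₐ[k] InvFld.Fld (Fin m) k) (InvFld.X i)) := by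
        rw [← h2, j₂_X]
      rw [h3]
      have h4 := Submodule.apply_mem_span_image_of_mem_span (j₂ k n m).toLinearMap
        (hH (e g) (e g).2 i)
      refine Submodule.span_mono ?_ h4
      rintro _ ⟨_, ⟨l, rfl⟩, rfl⟩
      exact ⟨l, (j₂_X k n m l).symm⟩
    · rintro γ ⟨g, h1, h2⟩ hfix
      refine hone γ ⟨g, h1, h2⟩ g h1 h2 ?_
      apply Subtype.ext
      apply algEquiv_ext
      intro i
      apply j_injective₁ (k := k) (n := n) (m := m)
      rw [← h1, j₁_X, Subgroup.coe_one, AlgEquiv.one_apply, j₁_X]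
      exact hfix i
    · rw [← NN.adjoin_X_eq_top k (Fin n ⊕ Fin m)]
      congr 1
      ext z
      constructor
      · rintro (⟨i, rfl⟩ | ⟨i, rfl⟩)
        · exact ⟨Sum.inl i, rfl⟩
        · exact ⟨Sum.inr i, rfl⟩
      · rintro ⟨i | i, rfl⟩
        · exact Or.inl ⟨i, rfl⟩
        · exact Or.inr ⟨i, rfl⟩
  have hind2 : AlgebraicIndependent
      (IntermediateField.adjoin k (Set.range fun i : Fin m => (InvFld.X (Sum.inr i) : L)))
      (fun i : Fin n => (InvFld.X (Sum.inl i) : L)) := by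
    have h0 := NN.algInd_X k (Fin n ⊕ Fin m)
    have h1 : AlgebraicIndependent k (Sum.elim
        (fun i : Fin n => (InvFld.X (Sum.inl i) : L))
        (fun i : Fin m => (InvFld.X (Sum.inr i) : L))) := by
      convert h0 using 1
      funext i
      cases i <;> rfl
    have h2 := (AlgebraicIndependent.sumElim_iff.1 h1).2
    exact h2.extendScalars _
  refine ⟨iso1, ?_⟩
  refine lemmaB' Γ (fun i : Fin m => (InvFld.X (Sum.inr i) : L))
    (fun i : Fin n => (InvFld.X (Sum.inl i) : L)) H (j₂ k n m) (j₂_X k n m) ?_ ?_ ?_ ?_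
    hind2 ?_
  · rintro γ ⟨g, h1, h2⟩
    exact ⟨e g, (e g).2, h2⟩
  · intro h hh
    obtain ⟨γ, hγ, -, h2⟩ := hlift (e.symm ⟨h, hh⟩)
    refine ⟨γ, hγ, ?_⟩
    intro z
    rw [h2, MulEquiv.apply_symm_apply]
  · rintro γ ⟨g, h1, h2⟩ i
    have h3 : γ (InvFld.X (Sum.inl i)) = j₁ k n m
        (((g : G) : InvFld.Fld (Fin n) k ≃ₐ[k] InvFld.Fld (Fin n) k) (InvFld.X i)) := by
      rw [← h1, j₁_X]
    rw [h3]
    have h4 := Submodule.apply_mem_span_image_of_mem_span (j₁ k n m).toLinearMap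
      (hG g g.2 i)
    refine Submodule.span_mono ?_ h4
    rintro _ ⟨_, ⟨l, rfl⟩, rfl⟩
    exact ⟨l, (j₁_X k n m l).symm⟩
  · rintro γ ⟨g, h1, h2⟩ hfix
    refine hone γ ⟨g, h1, h2⟩ g h1 h2 ?_
    have : e g = 1 := by
      apply Subtype.ext
      apply algEquiv_ext
      intro i
      apply j_injective₂ (k := k) (n := n) (m := m)
      rw [← h2, j₂_X, Subgroup.coe_one, AlgEquiv.one_apply, j₂_X]
      exact hfix i
    exact e.injective (this.trans (map_one e).symm)
  · rw [← NN.adjoin_X_eq_top k (Fin n ⊕ Fin m)]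
    congr 1
    ext z
    constructor
    · rintro (⟨i, rfl⟩ | ⟨i, rfl⟩)
      · exact ⟨Sum.inr i, rfl⟩
      · exact ⟨Sum.inl i, rfl⟩
    · rintro ⟨i | i, rfl⟩
      · exact Or.inr ⟨i, rfl⟩
      · exact Or.inl ⟨i, rfl⟩

/-- Stable purity of the invariants of a faithful linear action of the symmetric group. -/
theorem stably_pure (k : Type u) [Field k] (n m : ℕ)
    (G : Subgroup (InvFld.Fld (Fin m) k ≃ₐ[k] InvFld.Fld (Fin m) k)) [Finite G]
    (e : G ≃* Equiv.Perm (Fin n))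
    (hG : ∀ σ ∈ G, ∀ i : Fin m, σ (InvFld.X i) ∈ Submodule.span k
      (Set.range fun j : Fin m => (InvFld.X j : InvFld.Fld (Fin m) k))) :
    PureTr k (InvFld.Fld (Fin n) (IntermediateField.fixedField G)) := by
  classical
  set H : Subgroup (InvFld.Fld (Fin n) k ≃ₐ[k] InvFld.Fld (Fin n) k) := (permHom k n).range with hHdef
  let e₀ : Equiv.Perm (Fin n) ≃* H := MonoidHom.ofInjective (permHom_injective k n)
  haveI : Finite H := Finite.of_equiv _ e₀.toEquiv
  let e' : G ≃* H := e.trans e₀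
  have hH : ∀ τ ∈ H, ∀ i : Fin n, τ (InvFld.X i) ∈ Submodule.span k
      (Set.range fun j : Fin n => (InvFld.X j : InvFld.Fld (Fin n) k)) := by
    rintro _ ⟨σ, rfl⟩ i
    rw [permHom_X]
    exact Submodule.subset_span ⟨σ i, rfl⟩
  obtain ⟨⟨iso1⟩, t, htind, htgen⟩ := diag_all k m n G H e' hG hH
  have hF : IntermediateField.adjoin k (Set.range fun i => j₂ k m n (eps k n i)) =
      (IntermediateField.fixedField H).map (j₂ k m n) := by
    rw [hHdef, fixedField_perm, IntermediateField.adjoin_map]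
    congr 1
    ext z
    constructor
    · rintro ⟨i, rfl⟩; exact ⟨_, ⟨i, rfl⟩, rfl⟩
    · rintro ⟨_, ⟨i, rfl⟩, rfl⟩; exact ⟨i, rfl⟩
  have hε : AlgebraicIndependent k (fun i => j₂ k m n (eps k n i)) :=
    (algInd_eps k n).map' (f := j₂ k m n) (j_injective₂ (k := k) (n := m) (m := n))
  have hpure : PureTr k (IntermediateField.fixedField (diag G H e')) :=
    PureTr.of_tower _ _ _ hε hF t htind htgen
  exact hpure.of_algEquiv iso1.symm

end Groth.Agent.Lib.helper1.SE
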