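import Mathlib

set_option autoImplicit false
open scoped Pointwise

namespace Groth.Agent.Lib.helper1.TI

section Gen
variable {G B : Type*} [Group G] [CommRing B] [MulSemiringAction G B]

lemma smul_mem_pow {m : Ideal B} {σ : G} (hσ : σ • m = m) (n : ℕ) {x : B} (hx : x ∈ m ^ n) :
    σ • x ∈ m ^ n := by
  have : σ • (m ^ n) = m ^ n := by rw [smul_pow', hσ]
  rw [← this]
  exact Ideal.smul_mem_pointwise_smul _ _ _ hx

lemma smul_mem {m : Ideal B} {σ : G} (hσ : σ • m = m) {x : B} (hx : x ∈ m) : σ • x ∈ m := by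
  have := smul_mem_pow hσ 1 (x := x) (by simpa using hx)
  simpa using this

/-- If `σ` stabilises `m` and moves everything by `m^(i+1)`, it moves `m^j` by `m^(i+j)`. -/
lemma sub_mem_pow_add {m : Ideal B} {σ : G} (hσ : σ • m = m) {i : ℕ}
    (h : ∀ x : B, σ • x - x ∈ m ^ (i + 1)) (j : ℕ) :
    ∀ {x : B}, x ∈ m ^ j → σ • x - x ∈ m ^ (i + j) := by
  induction j with
  | zero =>
    intro x _
    exact Ideal.pow_le_pow_right (by omega) (h x)
  | succ j ih =>
    intro x hx
    rw [pow_succ] at hx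
    refine Submodule.mul_induction_on hx ?_ ?_
    · intro a ha b hb
      have e : σ • (a * b) - a * b = (σ • a - a) * (σ • b) + a * (σ • b - b) := by
        rw [smul_mul']; ring
      rw [e]
      refine Ideal.add_mem _ ?_ ?_
      · have h1 := Ideal.mul_mem_mul (ih ha) (smul_mem hσ hb)
        rw [← pow_succ] at h1
        convert h1 using 2
        omega
      · have h1 := Ideal.mul_mem_mul ha (h b)
        rw [← pow_add] at h1
        convert h1 using 2
        omega
    · intro a b ha hb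
      have e : σ • (a + b) - (a + b) = (σ • a - a) + (σ • b - b) := by
        rw [smul_add]; ring
      rw [e]
      exact Ideal.add_mem _ ha hb

lemma pow_smul_sub_mem {m : Ideal B} {σ : G} (hσ : σ • m = m) {n : ℕ} {y : B}
    (hy : σ • y - y ∈ m ^ n) (k : ℕ) : σ ^ k • y - y ∈ m ^ n := by
  induction k with
  | zero => simp
  | succ k ih =>
    have e : σ ^ (k + 1) • y - y = σ • (σ ^ k • y - y) + (σ • y - y) := by
      rw [pow_succ', mul_smul, smul_sub]; ring
    rw [e]
    exact Ideal.add_mem _ (smul_mem_pow hσ n ih) hy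

/-- An element of the wild inertia group of order prime to the residue characteristic is trivial. -/
lemma eq_one_of_pow_eq_one [IsNoetherianRing B] [IsDomain B] [FaithfulSMul G B]
    {m : Ideal B} [hm : m.IsMaximal] {σ : G} (hσ : σ • m = m)
    (h : ∀ x : B, σ • x - x ∈ m ^ 2) {l : ℕ} (hl : (l : B) ∉ m) (hpow : σ ^ l = 1) : σ = 1 := by
  by_contra hne
  have hx : ∃ x : B, σ • x ≠ x := by
    by_contra hcon
    push Not at hcon
    exact hne (FaithfulSMul.eq_of_smul_eq_smul (α := B) (fun x => by rw [hcon x, one_smul]))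
  obtain ⟨x, hx⟩ := hx
  have hy : σ • x - x ≠ 0 := sub_ne_zero.mpr hx
  have hinf : (⨅ n : ℕ, m ^ n) = ⊥ := Ideal.iInf_pow_eq_bot_of_isDomain m hm.ne_top
  have hN : ∃ N, σ • x - x ∉ m ^ N := by
    by_contra hcon
    push Not at hcon
    have : σ • x - x ∈ (⨅ n : ℕ, m ^ n) := by
      rw [Ideal.mem_iInf]; exact hcon
    rw [hinf] at this
    exact hy (by simpa using this)
  have hex : ∃ n, ¬ (∀ x : B, σ • x - x ∈ m ^ n) := by
    obtain ⟨N, hN⟩ := hN
    exact ⟨N, fun hc => hN (hc x)⟩
  classical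
  let n₁ := Nat.find hex
  have hn₁ : ¬ (∀ x : B, σ • x - x ∈ m ^ n₁) := Nat.find_spec hex
  have hmin : ∀ k, k < n₁ → ∀ x : B, σ • x - x ∈ m ^ k := fun k hk => by
    have := Nat.find_min hex hk
    push Not at this
    exact this
  have hge : 3 ≤ n₁ := by
    by_contra hlt
    push Not at hlt
    exact hn₁ (fun x => Ideal.pow_le_pow_right (by omega) (h x))
  obtain ⟨i, hi⟩ : ∃ i, n₁ = i + 2 := ⟨n₁ - 2, by omega⟩
  have hi1 : 1 ≤ i := by omega
  have hS : ∀ x : B, σ • x - x ∈ m ^ (i + 1) := hmin (i + 1) (by omega)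
  rw [hi] at hn₁
  push Not at hn₁
  obtain ⟨x₀, hx₀⟩ := hn₁
  set y := σ • x₀ - x₀ with hydef
  have hy1 : y ∈ m ^ (i + 1) := hS x₀
  have hy2 : σ • y - y ∈ m ^ (i + 2) := by
    have := sub_mem_pow_add hσ hS (i + 1) hy1
    exact Ideal.pow_le_pow_right (by omega) this
  have key : ∀ k : ℕ, σ ^ k • x₀ - x₀ - k • y ∈ m ^ (i + 2) := by
    intro k
    induction k with
    | zero => simp
    | succ k ih =>
      have e : σ ^ (k + 1) • x₀ - x₀ - (k + 1) • y
          = (σ ^ k • x₀ - x₀ - k • y) + (σ ^ k • y - y) := by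
        have : σ ^ (k + 1) • x₀ = σ ^ k • x₀ + σ ^ k • y := by
          rw [pow_succ, mul_smul, ← smul_add, hydef]; congr 1; ring
        rw [this, add_smul, one_smul]; ring
      rw [e]
      exact Ideal.add_mem _ ih (pow_smul_sub_mem hσ hy2 k)
  have := key l
  rw [hpow, one_smul, sub_self, zero_sub, neg_mem_iff, nsmul_eq_mul] at this
  rcases Ideal.IsMaximal.mul_mem_pow m this with h1 | h1
  · exact hl h1
  · exact hx₀ h1

end Gen

end Groth.Agent.Lib.helper1.TI
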