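import Groth.Agent.Lib.helper1.TI1

set_option autoImplicit false
open scoped Pointwise

namespace Groth.Agent.Lib.helper1.TI

section Ded
variable {G B : Type*} [Group G] [CommRing B] [IsDedekindDomain B] [MulSemiringAction G B]

/-- `Rel m π σ u`: `σ π ≡ u π` modulo `m²`. -/
def Rel (m : Ideal B) (π : B) (σ : G) (u : B ⧸ m) : Prop :=
  ∃ d : B, Ideal.Quotient.mk m d = u ∧ σ • π - π * d ∈ m ^ 2

variable {m : Ideal B} [hmax : m.IsMaximal] {π : B}

lemma rel_exists (hm : m ≠ ⊥) (hπ : π ∈ m) (hπ2 : π ∉ m ^ 2) {σ : G} (hσ : σ • m = m) :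
    ∃ u, Rel m π σ u := by
  obtain ⟨d, e, he, hde⟩ := Ideal.exists_mul_add_mem_pow_succ hm (i := 1) π (σ • π)
    (by simpa using hπ) hπ2 (by simpa using smul_mem hσ hπ)
  refine ⟨_, d, rfl, ?_⟩
  rw [← hde]
  simpa using he

lemma rel_unique (hm : m ≠ ⊥) (hπ2 : π ∉ m ^ 2) {σ : G} {u v : B ⧸ m}
    (hu : Rel m π σ u) (hv : Rel m π σ v) : u = v := by
  obtain ⟨d, rfl, hd⟩ := hu
  obtain ⟨d', rfl, hd'⟩ := hv
  rw [Ideal.Quotient.eq]
  have : π * (d - d') ∈ m ^ (1 + 1) := by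
    have := Ideal.sub_mem _ hd' hd
    convert this using 1; ring
  exact Ideal.mem_prime_of_mul_mem_pow hm hπ2 this

lemma rel_one : Rel m π (1 : G) 1 := ⟨1, rfl, by simp⟩

lemma rel_mul (hπ : π ∈ m) {σ τ : G} (hσ : σ • m = m) (hσI : ∀ x : B, σ • x - x ∈ m)
    {u v : B ⧸ m} (hu : Rel m π σ u) (hv : Rel m π τ v) : Rel m π (σ * τ) (u * v) := by
  obtain ⟨d, rfl, hd⟩ := hu
  obtain ⟨d', rfl, hd'⟩ := hv
  refine ⟨d * d', by simp, ?_⟩
  have e : (σ * τ) • π - π * (d * d') =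
      σ • (τ • π - π * d') + (σ • π) * (σ • d' - d') + (σ • π - π * d) * d' := by
    rw [mul_smul, smul_sub, smul_mul']; ring
  rw [e]
  refine Ideal.add_mem _ (Ideal.add_mem _ (smul_mem_pow hσ 2 hd') ?_) (Ideal.mul_mem_right _ _ hd)
  rw [pow_two]
  exact Ideal.mul_mem_mul (smul_mem hσ hπ) (hσI d')

lemma rel_one_iff (hπ : π ∈ m) {σ : G} : Rel m π σ 1 ↔ σ • π - π ∈ m ^ 2 := by
  constructor
  · rintro ⟨d, hd, h⟩
    have hd1 : d - 1 ∈ m := by
      rw [← Ideal.Quotient.eq, hd]; simp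
    have : σ • π - π = (σ • π - π * d) + π * (d - 1) := by ring
    rw [this]
    refine Ideal.add_mem _ h ?_
    rw [pow_two]
    exact Ideal.mul_mem_mul hπ hd1
  · intro h
    exact ⟨1, rfl, by simpa using h⟩

/-- If `σ` (in the inertia group) moves the uniformizer by `m²`, it moves all of `m` by `m²`. -/
lemma sub_mem_sq_of_mem (hm : m ≠ ⊥) (hπ : π ∈ m) (hπ2 : π ∉ m ^ 2) {σ : G} (hσ : σ • m = m)
    (hσI : ∀ x : B, σ • x - x ∈ m) (h : σ • π - π ∈ m ^ 2) {x : B} (hx : x ∈ m) :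
    σ • x - x ∈ m ^ 2 := by
  obtain ⟨d, e, he, hde⟩ := Ideal.exists_mul_add_mem_pow_succ hm (i := 1) π x
    (by simpa using hπ) hπ2 (by simpa using hx)
  have he' : e ∈ m ^ 2 := by simpa using he
  have e1 : σ • x - x = (σ • π) * (σ • d - d) + (σ • π - π) * d + (σ • e - e) := by
    rw [← hde, smul_add, smul_mul']; ring
  rw [e1]
  refine Ideal.add_mem _ (Ideal.add_mem _ ?_ (Ideal.mul_mem_right _ _ h))
    (Ideal.sub_mem _ (smul_mem_pow hσ 2 he') he')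
  rw [pow_two]
  exact Ideal.mul_mem_mul (smul_mem hσ hπ) (hσI d)

end Ded

end Groth.Agent.Lib.helper1.TI
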