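import Groth.Agent.Lib.helper1.TI2

set_option autoImplicit false
open scoped Pointwise
open Polynomial

namespace Groth.Agent.Lib.helper1.TI

section Sep
variable {G A B : Type*} [Group G] [CommRing A] [CommRing B] [Algebra A B]
  [MulSemiringAction G B] [SMulCommClass G A B]
  {m : Ideal B} [m.IsMaximal] (p : Ideal A) [p.IsMaximal] [m.LiesOver p]

attribute [local instance] Ideal.Quotient.field

omit [m.IsMaximal] [p.IsMaximal] in
lemma mk_aeval (α : B) (F : A[X]) :
    aeval (Ideal.Quotient.mk m α) (F.map (Ideal.Quotient.mk p)) =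
      Ideal.Quotient.mk m (aeval α F) := by
  have h1 : aeval (Ideal.Quotient.mk m α) (F.map (algebraMap A (A ⧸ p))) =
      aeval (Ideal.Quotient.mk m α) F := aeval_map_algebraMap _ _ _
  have h2 : aeval (Ideal.Quotient.mk m α) F = Ideal.Quotient.mk m (aeval α F) :=
    aeval_algHom_apply (Ideal.Quotient.mkₐ A m) α F
  rw [← h2, ← h1]
  rfl

omit [m.IsMaximal] [p.IsMaximal] [m.LiesOver p] in
lemma smul_aeval (σ : G) (α : B) (F : A[X]) : σ • (aeval α F) = aeval (σ • α) F :=
  (aeval_algHom_apply (MulSemiringAction.toAlgHom A B σ) α F).symm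

/-- With separable residue field extension, an inertia element acting trivially on `m/m²`
acts trivially on `B/m²`. -/
lemma sub_mem_sq_of_forall_mem [Algebra.IsSeparable (A ⧸ p) (B ⧸ m)]
    [Module.Finite (A ⧸ p) (B ⧸ m)]
    {σ : G} (hσI : ∀ x : B, σ • x - x ∈ m)
    (h : ∀ x ∈ m, σ • x - x ∈ m ^ 2) (x : B) : σ • x - x ∈ m ^ 2 := by
  obtain ⟨α', hα'⟩ := Field.exists_primitive_element (A ⧸ p) (B ⧸ m)
  obtain ⟨α, rfl⟩ := Ideal.Quotient.mk_surjective α'
  have hint : IsIntegral (A ⧸ p) (Ideal.Quotient.mk m α) := Algebra.IsIntegral.isIntegral _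
  have hgen : ∀ x : B, ∃ F : A[X], x - aeval α F ∈ m := by
    intro x
    have h1 : Algebra.adjoin (A ⧸ p) {Ideal.Quotient.mk m α} = ⊤ := by
      have := IntermediateField.adjoin_simple_toSubalgebra_of_isAlgebraic hint.isAlgebraic
      rw [hα'] at this
      simpa using this.symm
    have h2 : Ideal.Quotient.mk m x ∈ Algebra.adjoin (A ⧸ p) {Ideal.Quotient.mk m α} := by
      rw [h1]; trivial
    rw [Algebra.adjoin_singleton_eq_range_aeval] at h2
    obtain ⟨f, hf⟩ := h2
    obtain ⟨F, rfl⟩ := Polynomial.map_surjective (Ideal.Quotient.mk p)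
      Ideal.Quotient.mk_surjective f
    refine ⟨F, ?_⟩
    rw [← Ideal.Quotient.eq, ← hf]
    exact mk_aeval (m := m) p α F
  -- the minimal polynomial
  have hsep : (minpoly (A ⧸ p) (Ideal.Quotient.mk m α)).Separable :=
    Algebra.IsSeparable.isSeparable (A ⧸ p) (Ideal.Quotient.mk m α)
  obtain ⟨H, hH⟩ := Polynomial.map_surjective (Ideal.Quotient.mk p)
    Ideal.Quotient.mk_surjective (minpoly (A ⧸ p) (Ideal.Quotient.mk m α))
  have hHα : aeval α H ∈ m := by
    rw [← Ideal.Quotient.eq_zero_iff_mem, ← mk_aeval p, hH, minpoly.aeval]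
  have hH'α : aeval α (derivative H) ∉ m := by
    rw [← Ideal.Quotient.eq_zero_iff_mem, ← mk_aeval p, ← Polynomial.derivative_map, hH]
    exact hsep.aeval_derivative_ne_zero (minpoly.aeval _ _)
  set δ := σ • α - α with hδ
  have hδm : δ ∈ m := hσI α
  have hσα : σ • α = α + δ := by rw [hδ]; ring
  have hδ2 : δ ∈ m ^ 2 := by
    obtain ⟨k, hk⟩ := Polynomial.binomExpansion (H.map (algebraMap A B)) α δ
    rw [← hσα, eval_map_algebraMap, eval_map_algebraMap, Polynomial.derivative_map,
      eval_map_algebraMap, ← smul_aeval] at hk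
    have h1 : σ • (aeval α H) - aeval α H ∈ m ^ 2 := h _ hHα
    have h2 : k * δ ^ 2 ∈ m ^ 2 := Ideal.mul_mem_left _ _ (Ideal.pow_mem_pow hδm 2)
    have h3 : aeval α (derivative H) * δ ∈ m ^ 2 := by
      have : aeval α (derivative H) * δ = (σ • (aeval α H) - aeval α H) - k * δ ^ 2 := by
        rw [hk]; ring
      rw [this]
      exact Ideal.sub_mem _ h1 h2
    rcases Ideal.IsMaximal.mul_mem_pow m h3 with h4 | h4
    · exact absurd h4 hH'α
    · exact h4
  obtain ⟨F, hF⟩ := hgen x
  have e : σ • x - x = (aeval (σ • α) F - aeval α F) +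
      (σ • (x - aeval α F) - (x - aeval α F)) := by
    rw [smul_sub, smul_aeval]; ring
  rw [e]
  refine Ideal.add_mem _ ?_ (h _ hF)
  have hdvd := Polynomial.sub_dvd_eval_sub (σ • α) α (F.map (algebraMap A B))
  rw [eval_map_algebraMap, eval_map_algebraMap] at hdvd
  obtain ⟨c, hc⟩ := hdvd
  rw [hc]
  exact Ideal.mul_mem_right _ _ hδ2

end Sep

end Groth.Agent.Lib.helper1.TI
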