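import Groth.Agent.Lib.helper1.TI3

set_option autoImplicit false
open scoped Pointwise
open Algebra

namespace Groth.Agent.Lib.helper1.TI

section Card
variable {R S G : Type*} [CommRing R] [CommRing S] [Algebra R S] [Group G]
  [MulSemiringAction G S] [IsGaloisGroup G R S] [Finite G]

attribute [local instance] Ideal.Quotient.field in
theorem card_stabilizer_eq_card_inertia_mul_finrank' (p : Ideal R) [p.IsMaximal]
    (P : Ideal S) [P.LiesOver p] [P.IsMaximal] [Algebra.IsSeparable (R ⧸ p) (S ⧸ P)] :
    Nat.card (MulAction.stabilizer G P) = Nat.card (Ideal.inertia G P) * P.inertiaDeg R := by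
  have : IsGalois (R ⧸ p) (S ⧸ P) := { __ := Ideal.Quotient.normal G p P }
  have : Module.Finite (R ⧸ p) (S ⧸ P) := Ideal.Quotient.finite_of_isInvariant G p P
  have : Subgroup.index _ = _ := Nat.card_congr
    (Ideal.Quotient.stabilizerQuotientInertiaEquiv G p P).toEquiv
  rw [Ideal.inertiaDeg_eq_of_isMaximal p P, ← IsGalois.card_aut_eq_finrank (R ⧸ p) (S ⧸ P), ← this,
    ← ((Ideal.inertia G P).subgroupOf (MulAction.stabilizer G P)).card_mul_index,
    Nat.card_congr (Subgroup.subgroupOfEquivOfLe (Ideal.inertia_le_stabilizer (M := G) P)).toEquiv,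
    AddSubgroup.subgroupOf_inertia]

lemma card_inertia_eq_ramificationIdx' [IsDomain R] [IsDomain S] [Module.Finite R S]
    [Module.Flat R S]
    (p : Ideal R) (P : Ideal S) [P.LiesOver p] [p.IsMaximal] [P.IsMaximal]
    [Algebra.IsSeparable (R ⧸ p) (S ⧸ P)] :
    Nat.card (P.inertia G) = P.ramificationIdx R := by
  have H1 := card_stabilizer_eq_card_inertia_mul_finrank' (G := G) p P
  have H2 : (p.primesOver S).ncard * Nat.card (MulAction.stabilizer G P) = Nat.card G := by
    rw [← Algebra.IsInvariant.orbit_eq_primesOver R S G p P]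
    simpa using Nat.card_congr (MulAction.orbitProdStabilizerEquivGroup G P)
  have H3 := Ideal.ncard_primesOver_mul_ramificationIdxIn_mul_inertiaDegIn p S G
  rw [Ideal.ramificationIdxIn_eq_ramificationIdx p P G, Ideal.inertiaDegIn_eq_inertiaDeg p P G] at H3
  rw [H1, ← H3] at H2
  have h1 : (p.primesOver S).ncard ≠ 0 := by
    intro h0; rw [h0, zero_mul] at H3
    exact (Nat.card_pos (α := G)).ne' H3.symm
  have h2 : P.inertiaDeg R ≠ 0 := (Ideal.inertiaDeg_pos (q := P) (R := R)).ne'
  rw [mul_right_inj' h1, mul_left_inj' h2] at H2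
  exact H2

end Card

end Groth.Agent.Lib.helper1.TI
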