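import Groth.Agent.Lib.helper1.TI4

set_option autoImplicit false
open scoped Pointwise

namespace Groth.Agent.Lib.helper1.TI

lemma nat_div_pow_factorization {q a c e : ℕ} (hq : q.Prime) (hc : ¬ q ∣ c) (he : e = q ^ a * c) :
    e / q ^ e.factorization q = c := by
  have hc0 : c ≠ 0 := fun h => hc (h ▸ dvd_zero q)
  have hfa : e.factorization q = a := by
    rw [he, Nat.factorization_mul (pow_ne_zero _ hq.ne_zero) hc0, Finsupp.add_apply,
      hq.factorization_pow, Finsupp.single_eq_same, Nat.factorization_eq_zero_of_not_dvd hc,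
      add_zero]
  rw [hfa, he, Nat.mul_div_cancel_left c (pow_pos hq.pos a)]

section Wild
variable {B G : Type*} [CommRing B] [IsDedekindDomain B]
  [Group G] [Finite G] [MulSemiringAction G B] [FaithfulSMul G B]
  (m : Ideal B) [m.IsMaximal]

/-- The wild inertia group has no elements of prime order invertible in the residue field. -/
lemma not_dvd_card_wild {l : ℕ} (hl : l.Prime) (hlm : (l : B) ∉ m) :
    ¬ l ∣ Nat.card ↥(MulAction.stabilizer G m ⊓ (m ^ 2).inertia G) := by
  intro hdvd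
  haveI : Fact l.Prime := ⟨hl⟩
  obtain ⟨x, hx⟩ := exists_prime_orderOf_dvd_card' l hdvd
  have hxD : (x : G) • m = m := x.2.1
  have hxP : ∀ y : B, (x : G) • y - y ∈ m ^ 2 := x.2.2
  have hpow : (x : G) ^ l = 1 := by
    have := pow_orderOf_eq_one x
    rw [hx] at this
    exact_mod_cast congrArg Subtype.val this
  have h1 : (x : G) = 1 := eq_one_of_pow_eq_one hxD hxP hlm hpow
  have : x = 1 := Subtype.ext h1
  rw [this, orderOf_one] at hx
  exact hl.one_lt.ne hx

end Wild


section Theta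
variable {A B G : Type*} [CommRing A] [CommRing B] [IsDedekindDomain B]
  [Algebra A B] [Group G] [MulSemiringAction G B] [SMulCommClass G A B]
  (p : Ideal A) [p.IsMaximal] (m : Ideal B) [m.IsMaximal] [m.LiesOver p]
  (hm : m ≠ ⊥) {π : B} (hπ : π ∈ m) (hπ2 : π ∉ m ^ 2)

lemma stab_of_inertia (σ : m.inertia G) : (σ : G) • m = m :=
  Ideal.inertia_le_stabilizer m σ.2

lemma inertia_apply (σ : m.inertia G) (x : B) : (σ : G) • x - x ∈ m := σ.2 x

include hm hπ hπ2 in
lemma thetaFun_exists (σ : m.inertia G) : ∃ u, Rel m π (σ : G) u :=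
  rel_exists hm hπ hπ2 (stab_of_inertia m σ)

/-- The tame character `σ ↦ σ(π)/π mod m`, as a function. -/
noncomputable def thetaFun (σ : m.inertia G) : B ⧸ m :=
  Classical.choose (thetaFun_exists m hm hπ hπ2 σ)

lemma thetaFun_spec (σ : m.inertia G) : Rel m π (σ : G) (thetaFun m hm hπ hπ2 σ) :=
  Classical.choose_spec (thetaFun_exists m hm hπ hπ2 σ)

/-- The tame character as a monoid hom to `B ⧸ m`. -/
noncomputable def theta0 : m.inertia G →* B ⧸ m where
  toFun := thetaFun m hm hπ hπ2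
  map_one' := rel_unique hm hπ2 (thetaFun_spec m hm hπ hπ2 1) rel_one
  map_mul' σ τ := rel_unique hm hπ2 (thetaFun_spec m hm hπ hπ2 (σ * τ))
    (rel_mul hπ (stab_of_inertia m σ) (inertia_apply m σ)
      (thetaFun_spec m hm hπ hπ2 σ) (thetaFun_spec m hm hπ hπ2 τ))

lemma theta0_spec (σ : m.inertia G) : Rel m π (σ : G) (theta0 m hm hπ hπ2 σ) :=
  thetaFun_spec m hm hπ hπ2 σ

attribute [local instance] Ideal.Quotient.field in
lemma theta0_eq_one_iff [Algebra.IsSeparable (A ⧸ p) (B ⧸ m)] [Module.Finite (A ⧸ p) (B ⧸ m)]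
    (σ : m.inertia G) :
    theta0 m hm hπ hπ2 σ = 1 ↔ (σ : G) ∈ MulAction.stabilizer G m ⊓ (m ^ 2).inertia G := by
  constructor
  · intro h
    have hrel : Rel m π (σ : G) 1 := h ▸ theta0_spec m hm hπ hπ2 σ
    have h1 : (σ : G) • π - π ∈ m ^ 2 := (rel_one_iff hπ).mp hrel
    refine ⟨stab_of_inertia m σ, ?_⟩
    intro x
    exact sub_mem_sq_of_forall_mem p (inertia_apply m σ)
      (fun y hy => sub_mem_sq_of_mem hm hπ hπ2 (stab_of_inertia m σ) (inertia_apply m σ) h1 hy) x
  · rintro ⟨-, h2⟩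
    have hrel : Rel m π (σ : G) 1 := (rel_one_iff hπ).mpr (h2 π)
    exact rel_unique hm hπ2 (theta0_spec m hm hπ hπ2 σ) hrel

end Theta

end Groth.Agent.Lib.helper1.TI
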