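import Groth.Agent.Lib.helper1.TI5

set_option autoImplicit false
open scoped Pointwise

namespace Groth.Agent.Lib.helper1.TI

section Units
variable {κ : Type*} [CommRing κ] [IsDomain κ]

lemma unit_eq_one_of_pow_char_pow (q : ℕ) [hq : Fact q.Prime] [CharP κ q] (a : ℕ) (u : κˣ)
    (h : u ^ q ^ a = 1) : u = 1 := by
  have h1 : ((u : κ) - 1) ^ q ^ a = 0 := by
    rw [sub_pow_char_pow, one_pow, ← Units.val_pow_eq_pow_val, h, Units.val_one, sub_self]
  have h2 : (u : κ) - 1 = 0 := pow_eq_zero_iff (pow_ne_zero _ hq.out.ne_zero) |>.mp h1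
  exact Units.ext (by simpa using sub_eq_zero.mp h2)

end Units

section Main
variable {A B G : Type*} [CommRing A] [IsDomain A] [CommRing B] [IsDedekindDomain B]
  [Algebra A B] [Group G] [Finite G] [MulSemiringAction G B] [IsGaloisGroup G A B]
  (p : Ideal A) [p.IsMaximal] (m : Ideal B) [m.IsMaximal] [m.LiesOver p]
  [Algebra.IsSeparable (A ⧸ p) (B ⧸ m)]

attribute [local instance] Ideal.Quotient.field in
theorem main (hm : m ≠ ⊥) (e : ℕ) (he : Nat.card (m.inertia G) = e) :
    let D : Subgroup G := MulAction.stabilizer G m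
    let I : Subgroup G := m.inertia G
    let P : Subgroup G := D ⊓ (m ^ 2).inertia G
    P ≤ I ∧ I ≤ D ∧ (P.subgroupOf D).Normal ∧
    (∀ q : ℕ, q.Prime → CharP (A ⧸ p) q → IsPGroup q P) ∧
    (CharZero (A ⧸ p) → P = ⊥) ∧
    (∀ [(P.subgroupOf I).Normal],
      IsCyclic (I ⧸ P.subgroupOf I) ∧
      (∀ q : ℕ, q.Prime → CharP (A ⧸ p) q →
        Nat.card (I ⧸ P.subgroupOf I) = e / q ^ e.factorization q) ∧
      (CharZero (A ⧸ p) → Nat.card (I ⧸ P.subgroupOf I) = e) ∧
      Nonempty (I ⧸ P.subgroupOf I ≃* ↥(rootsOfUnity e (B ⧸ m)))) := by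
  intro D I P
  haveI : FaithfulSMul G B := IsGaloisGroup.faithful A
  haveI : SMulCommClass G A B := IsGaloisGroup.commutes
  have hinj : Function.Injective (algebraMap (A ⧸ p) (B ⧸ m)) :=
    FaithfulSMul.algebraMap_injective (A ⧸ p) (B ⧸ m)
  have hPI : P ≤ I := fun σ hσ x => Ideal.pow_le_self two_ne_zero (hσ.2 x)
  have hID : I ≤ D := Ideal.inertia_le_stabilizer m
  have hN : (P.subgroupOf D).Normal := by
    refine ⟨fun n hn g => ?_⟩
    rw [Subgroup.mem_subgroupOf] at hn ⊢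
    refine ⟨(g * n * g⁻¹).2, fun x => ?_⟩
    have e1 : ((g * n * g⁻¹ : D) : G) • x - x =
        (g : G) • ((n : G) • ((g : G)⁻¹ • x) - (g : G)⁻¹ • x) := by
      simp [mul_smul, smul_sub]
    rw [e1]
    exact smul_mem_pow g.2 2 (hn.2 _)
  have hchar : ∀ q : ℕ, CharP (A ⧸ p) q → ∀ l : ℕ, l.Prime → l ≠ q → (l : B) ∉ m := by
    intro q hq l hl hne hmem
    haveI : CharP (B ⧸ m) q := charP_of_injective_algebraMap hinj q
    have h0 : ((l : ℕ) : B ⧸ m) = 0 := by
      rw [← map_natCast (Ideal.Quotient.mk m)]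
      exact Ideal.Quotient.eq_zero_iff_mem.mpr hmem
    rw [CharP.cast_eq_zero_iff (B ⧸ m) q] at h0
    rcases (Nat.dvd_prime hl).mp h0 with h1 | h1
    · exact CharP.char_ne_one (B ⧸ m) q h1
    · exact hne h1.symm
  have hPG : ∀ q : ℕ, q.Prime → CharP (A ⧸ p) q → IsPGroup q P := by
    intro q hq hc
    have hcard : Nat.card P = q ^ (Nat.card P).primeFactorsList.length :=
      Nat.eq_prime_pow_of_unique_prime_dvd Nat.card_pos.ne' (fun {l} hl hdvd => by
        by_contra hne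
        exact not_dvd_card_wild m hl (hchar q hc l hl hne) hdvd)
    exact IsPGroup.of_card hcard
  have hP0 : CharZero (A ⧸ p) → P = ⊥ := by
    intro hc
    rw [← Subgroup.card_eq_one]
    by_contra hne
    obtain ⟨l, hl, hdvd⟩ := Nat.exists_prime_and_dvd hne
    refine not_dvd_card_wild m hl ?_ hdvd
    intro hmem
    haveI : CharZero (B ⧸ m) := charZero_of_injective_algebraMap hinj
    have h0 : ((l : ℕ) : B ⧸ m) = 0 := by
      rw [← map_natCast (Ideal.Quotient.mk m)]
      exact Ideal.Quotient.eq_zero_iff_mem.mpr hmem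
    exact hl.ne_zero (by exact_mod_cast h0)
  refine ⟨hPI, hID, hN, hPG, hP0, ?_⟩
  intro hPIn
  obtain ⟨π, hπ, hπ2⟩ : ∃ π, π ∈ m ∧ π ∉ m ^ 2 := by
    have := Ideal.pow_succ_lt_pow hm 1
    obtain ⟨π, h1, h2⟩ := SetLike.exists_of_lt this
    exact ⟨π, by simpa using h1, h2⟩
  haveI : Module.Finite (A ⧸ p) (B ⧸ m) := Ideal.Quotient.finite_of_isInvariant G p m
  let θ0 : I →* B ⧸ m := theta0 (G := G) m hm hπ hπ2
  let θ : I →* (B ⧸ m)ˣ := θ0.toHomUnits
  have hker : θ.ker = P.subgroupOf I := by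
    ext σ
    rw [MonoidHom.mem_ker, Subgroup.mem_subgroupOf, ← theta0_eq_one_iff p m hm hπ hπ2 σ,
      Units.ext_iff]
    rfl
  let E1 : I ⧸ P.subgroupOf I ≃* θ.range :=
    (QuotientGroup.quotientMulEquivOfEq hker.symm).trans (QuotientGroup.quotientKerEquivRange θ)
  haveI : Finite θ.range := Finite.of_surjective _ θ.rangeRestrict_surjective
  have hcyc : IsCyclic (I ⧸ P.subgroupOf I) :=
    isCyclic_of_surjective E1.symm E1.symm.surjective
  have hcI : Nat.card I = Nat.card (I ⧸ P.subgroupOf I) * Nat.card P := by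
    rw [Subgroup.card_eq_card_quotient_mul_card_subgroup (P.subgroupOf I),
      Nat.card_congr (Subgroup.subgroupOfEquivOfLe hPI).toEquiv]
  have hcE : Nat.card (I ⧸ P.subgroupOf I) = Nat.card θ.range := Nat.card_congr E1.toEquiv
  have hc1 : ∀ q : ℕ, q.Prime → CharP (A ⧸ p) q →
      Nat.card (I ⧸ P.subgroupOf I) = e / q ^ e.factorization q := by
    intro q hq hc
    haveI : Fact q.Prime := ⟨hq⟩
    haveI : CharP (B ⧸ m) q := charP_of_injective_algebraMap hinj q
    obtain ⟨a, ha⟩ := (IsPGroup.iff_card.mp (hPG q hq hc))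
    have hnd : ¬ q ∣ Nat.card (I ⧸ P.subgroupOf I) := by
      rw [hcE]
      intro hdvd
      obtain ⟨u, hu⟩ := exists_prime_orderOf_dvd_card' q hdvd
      have h1 : (u : (B ⧸ m)ˣ) ^ q ^ 1 = 1 := by
        have := pow_orderOf_eq_one u
        rw [hu] at this
        rw [pow_one]
        exact_mod_cast congrArg Subtype.val this
      have h2 : (u : (B ⧸ m)ˣ) = 1 := unit_eq_one_of_pow_char_pow q 1 _ h1
      have h3 : u = 1 := Subtype.ext h2
      rw [h3, orderOf_one] at hu
      exact hq.one_lt.ne hu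
    refine (nat_div_pow_factorization hq hnd (a := a) ?_).symm
    rw [← he, hcI, ha, mul_comm]
  have hc2 : CharZero (A ⧸ p) → Nat.card (I ⧸ P.subgroupOf I) = e := by
    intro hc
    have hPb : P = ⊥ := hP0 hc
    rw [← he, hcI, hPb, Subgroup.card_bot, mul_one]
  refine ⟨hcyc, hc1, hc2, ?_⟩
  have hsub : θ.range ≤ rootsOfUnity e (B ⧸ m) := by
    rintro _ ⟨σ, rfl⟩
    rw [mem_rootsOfUnity, ← map_pow, ← he]
    have : σ ^ Nat.card I = 1 := pow_card_eq_one'
    rw [this, map_one]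
  have he0 : e ≠ 0 := by rw [← he]; exact Nat.card_pos.ne'
  have hle : Nat.card (rootsOfUnity e (B ⧸ m)) ≤ Nat.card θ.range := by
    rw [← hcE]
    obtain ⟨q, hq⟩ := CharP.exists (A ⧸ p)
    rcases CharP.char_is_prime_or_zero (A ⧸ p) q with hqp | hq0
    · haveI : Fact q.Prime := ⟨hqp⟩
      haveI : CharP (B ⧸ m) q := charP_of_injective_algebraMap hinj q
      set c := Nat.card (I ⧸ P.subgroupOf I) with hcdef
      have hce : q ^ e.factorization q * c = e := by
        rw [hc1 q hqp hq]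
        exact Nat.ordProj_mul_ordCompl_eq_self e q
      have hc0 : c ≠ 0 := Nat.card_pos.ne'
      haveI : NeZero c := ⟨hc0⟩
      have hsub2 : rootsOfUnity e (B ⧸ m) ≤ rootsOfUnity c (B ⧸ m) := by
        intro u hu
        rw [mem_rootsOfUnity] at hu ⊢
        rw [← hce, mul_comm, pow_mul] at hu
        exact unit_eq_one_of_pow_char_pow q _ _ hu
      exact (Subgroup.card_le_of_le hsub2).trans (card_rootsOfUnity (B ⧸ m) c)
    · subst hq0
      haveI : CharZero (A ⧸ p) := CharP.charP_to_charZero _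
      rw [hc2 inferInstance]
      haveI : NeZero e := ⟨he0⟩
      exact card_rootsOfUnity (B ⧸ m) e
  haveI : NeZero e := ⟨he0⟩
  have heq : θ.range = rootsOfUnity e (B ⧸ m) := Subgroup.eq_of_le_of_card_ge hsub hle
  exact ⟨E1.trans (MulEquiv.subgroupCongr heq)⟩

end Main

end Groth.Agent.Lib.helper1.TI
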