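import Mathlib

/-! Helper library for S2161: ring maps generated by "purely inseparable type" elements. -/

namespace Groth.Agent.Lib.helper1.UH

open Polynomial

universe u

section core
variable {R S : Type*} [CommRing R] [CommRing S] [Algebra R S]

/-- Each generator is integral. -/
theorem isIntegral_gen {x : S} {n : ℕ} {P : R[X]}
    (hP : P.map (algebraMap R S) = (X - C x) ^ n) (hn : 0 < n) : IsIntegral R x := by
  rcases subsingleton_or_nontrivial S with h | h
  · exact ⟨1, monic_one, Subsingleton.elim _ _⟩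
  have hlift : ((X - C x) ^ n : S[X]) ∈ Polynomial.lifts (algebraMap R S) := ⟨P, hP⟩
  obtain ⟨q, hq, -, hqm⟩ := Polynomial.lifts_and_degree_eq_and_monic hlift
    ((monic_X_sub_C x).pow n)
  refine ⟨q, hqm, ?_⟩
  rw [← Polynomial.eval_map, hq]
  simp [hn.ne']

theorem isIntegral_of_gens (G : Set S) (hG : Algebra.adjoin R G = ⊤)
    (hpow : ∀ x ∈ G, ∃ (n : ℕ) (P : R[X]), 0 < n ∧
      P.map (algebraMap R S) = (X - C x) ^ n) : Algebra.IsIntegral R S := by
  have h1 : Algebra.adjoin R G ≤ integralClosure R S := by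
    refine Algebra.adjoin_le fun x hx => ?_
    obtain ⟨n, P, hn, hP⟩ := hpow x hx
    exact isIntegral_gen hP hn
  refine ⟨fun s => h1 ?_⟩
  rw [hG]; trivial

/-- Two ring homs to a domain which agree on `R` agree. -/
theorem ringHom_ext_of_gens (G : Set S) (hG : Algebra.adjoin R G = ⊤)
    (hpow : ∀ x ∈ G, ∃ (n : ℕ) (P : R[X]), 0 < n ∧
      P.map (algebraMap R S) = (X - C x) ^ n)
    {Ω : Type*} [CommRing Ω] [IsDomain Ω] (φ φ' : S →+* Ω)
    (h : φ.comp (algebraMap R S) = φ'.comp (algebraMap R S)) : φ = φ' := by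
  let E : Subalgebra R S :=
    { carrier := {s | φ s = φ' s}
      mul_mem' := fun {a b} ha hb => by
        simp only [Set.mem_ofPred_eq] at ha hb ⊢
        rw [map_mul, map_mul, ha, hb]
      add_mem' := fun {a b} ha hb => by
        simp only [Set.mem_ofPred_eq] at ha hb ⊢
        rw [map_add, map_add, ha, hb]
      algebraMap_mem' := fun r => by
        simpa using RingHom.congr_fun h r }
  have h1 : Algebra.adjoin R G ≤ E := by
    refine Algebra.adjoin_le fun x hx => ?_
    obtain ⟨n, P, hn, hP⟩ := hpow x hx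
    change φ x = φ' x
    have e1 : (X - C (φ x)) ^ n = (P.map (algebraMap R S)).map φ := by
      rw [hP]; simp
    have e2 : (X - C (φ' x)) ^ n = (P.map (algebraMap R S)).map φ' := by
      rw [hP]; simp
    rw [Polynomial.map_map, h, ← Polynomial.map_map, ← e2] at e1
    have := congrArg (Polynomial.eval (φ x)) e1
    simp only [eval_pow, eval_sub, eval_X, eval_C, sub_self, zero_pow hn.ne'] at this
    exact sub_eq_zero.mp (pow_eq_zero_iff hn.ne' |>.mp this.symm)
  refine RingHom.ext fun s => ?_
  have : s ∈ E := h1 (by rw [hG]; trivial)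
  exact this

end core

section field
variable {K L : Type*} [Field K] [Field L] [Algebra K L]

theorem mem_perfectClosure_of_pow {x : L} {n : ℕ} {Q : K[X]}
    (hQ : Q.map (algebraMap K L) = (X - C x) ^ n) (hn : 0 < n) : x ∈ perfectClosure K L := by
  rw [mem_perfectClosure_iff_natSepDegree_eq_one]
  have hQ0 : Q ≠ 0 := by
    rintro rfl
    rw [Polynomial.map_zero] at hQ
    exact pow_ne_zero n (X_sub_C_ne_zero x) hQ.symm
  have hev : aeval x Q = 0 := by
    rw [aeval_def, ← eval_map, hQ]; simp [hn.ne']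
  have hint : IsIntegral K x := IsAlgebraic.isIntegral ⟨Q, hQ0, hev⟩
  have hdvd : minpoly K x ∣ Q := minpoly.dvd K x hev
  have h1 : (minpoly K x).natSepDegree ≤ 1 := by
    calc (minpoly K x).natSepDegree ≤ Q.natSepDegree := natSepDegree_le_of_dvd _ _ hdvd hQ0
      _ = (Q.map (algebraMap K L)).natSepDegree := (natSepDegree_map _ _ _).symm
      _ = 1 := by rw [hQ, natSepDegree_X_sub_C_pow]; simp [hn.ne']
  have h2 : (minpoly K x).natSepDegree ≠ 0 :=
    natSepDegree_ne_zero _ (minpoly.natDegree_pos hint).ne'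
  omega

end field

end Groth.Agent.Lib.helper1.UH
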