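import Mathlib
import Groth.Agent.Lib.helper1.UH1

namespace Groth.Agent.Lib.helper1.UH

open Polynomial TensorProduct

universe u

section
variable {R S : Type u} [CommRing R] [CommRing S] [Algebra R S]

theorem comap_surjective (hker : ∀ r : R, algebraMap R S r = 0 → IsNilpotent r)
    (G : Set S) (hG : Algebra.adjoin R G = ⊤)
    (hpow : ∀ x ∈ G, ∃ (n : ℕ) (P : R[X]), 0 < n ∧
      P.map (algebraMap R S) = (X - C x) ^ n) :
    Function.Surjective (PrimeSpectrum.comap (algebraMap R S)) := by
  haveI := isIntegral_of_gens G hG hpow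
  intro p
  obtain ⟨Q, -, hQ, hQp⟩ := Ideal.exists_ideal_over_prime_of_isIntegral p.asIdeal (⊥ : Ideal S)
    (by
      intro r hr
      have h0 : algebraMap R S r = 0 := by simpa using hr
      obtain ⟨k, hk⟩ := hker r h0
      exact p.2.mem_of_pow_mem k (hk ▸ p.asIdeal.zero_mem))
  exact ⟨⟨Q, hQ⟩, PrimeSpectrum.ext hQp⟩

theorem comap_injective (G : Set S) (hG : Algebra.adjoin R G = ⊤)
    (hpow : ∀ x ∈ G, ∃ (n : ℕ) (P : R[X]), 0 < n ∧
      P.map (algebraMap R S) = (X - C x) ^ n) :
    Function.Injective (PrimeSpectrum.comap (algebraMap R S)) := by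
  intro q q' hqq'
  -- residue fields
  let p : Ideal R := q.asIdeal.comap (algebraMap R S)
  have hp' : p = q'.asIdeal.comap (algebraMap R S) := congrArg PrimeSpectrum.asIdeal hqq'
  let K := p.ResidueField
  let L := q.asIdeal.ResidueField
  let L' := q'.asIdeal.ResidueField
  let f : K →+* L := Ideal.ResidueField.map p q.asIdeal (algebraMap R S) rfl
  let f' : K →+* L' := Ideal.ResidueField.map p q'.asIdeal (algebraMap R S) hp'
  letI : Algebra K L := f.toAlgebra
  letI : Algebra K L' := f'.toAlgebra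
  haveI : Nontrivial (L ⊗[K] L') :=
    Algebra.TensorProduct.nontrivial_of_algebraMap_injective_of_flat_left K L L'
      (algebraMap K L').injective
  obtain ⟨m, hm⟩ := Ideal.exists_maximal (L ⊗[K] L')
  let Ω := (L ⊗[K] L') ⧸ m
  letI : Field Ω := Ideal.Quotient.field m
  let ψ : L →+* Ω := (Ideal.Quotient.mk m).comp
    (Algebra.TensorProduct.includeLeft : L →ₐ[K] L ⊗[K] L').toRingHom
  let ψ' : L' →+* Ω := (Ideal.Quotient.mk m).comp
    (Algebra.TensorProduct.includeRight : L' →ₐ[K] L ⊗[K] L').toRingHom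
  let φ : S →+* Ω := ψ.comp (algebraMap S L)
  let φ' : S →+* Ω := ψ'.comp (algebraMap S L')
  have hφ : φ.comp (algebraMap R S) = φ'.comp (algebraMap R S) := by
    refine RingHom.ext fun r => ?_
    have e1 : algebraMap S L (algebraMap R S r) = algebraMap K L (algebraMap R K r) :=
      (Ideal.ResidueField.map_algebraMap p q.asIdeal (algebraMap R S) rfl r).symm
    have e2 : algebraMap S L' (algebraMap R S r) = algebraMap K L' (algebraMap R K r) :=
      (Ideal.ResidueField.map_algebraMap p q'.asIdeal (algebraMap R S) hp' r).symm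
    simp only [φ, φ', ψ, ψ', RingHom.comp_apply, e1, e2, AlgHom.toRingHom_eq_coe,
      RingHom.coe_coe, AlgHom.commutes]
  have key := ringHom_ext_of_gens G hG hpow φ φ' hφ
  have hq : ∀ s : S, s ∈ q.asIdeal ↔ φ s = 0 := by
    intro s
    rw [← Ideal.algebraMap_residueField_eq_zero (I := q.asIdeal)]
    exact (map_eq_zero_iff ψ ψ.injective).symm
  have hq' : ∀ s : S, s ∈ q'.asIdeal ↔ φ' s = 0 := by
    intro s
    rw [← Ideal.algebraMap_residueField_eq_zero (I := q'.asIdeal)]
    exact (map_eq_zero_iff ψ' ψ'.injective).symm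
  refine PrimeSpectrum.ext (Ideal.ext fun s => ?_)
  rw [hq, hq', key]

theorem isHomeomorph (hker : ∀ r : R, algebraMap R S r = 0 → IsNilpotent r)
    (G : Set S) (hG : Algebra.adjoin R G = ⊤)
    (hpow : ∀ x ∈ G, ∃ (n : ℕ) (P : R[X]), 0 < n ∧
      P.map (algebraMap R S) = (X - C x) ^ n) :
    IsHomeomorph (PrimeSpectrum.comap (algebraMap R S)) := by
  haveI := isIntegral_of_gens G hG hpow
  rw [isHomeomorph_iff_continuous_isClosedMap_bijective]
  refine ⟨PrimeSpectrum.continuous_comap _, ?_, comap_injective G hG hpow,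
    comap_surjective hker G hG hpow⟩
  exact PrimeSpectrum.isClosedMap_comap_of_isIntegral _ (algebraMap_isIntegral_iff.mpr inferInstance)

end

end Groth.Agent.Lib.helper1.UH
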