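import Mathlib
import Groth.Agent.Lib.helper1.UH2

namespace Groth.Agent.Lib.helper1.UH

open Polynomial TensorProduct

universe u

section
variable {R S : Type u} [CommRing R] [CommRing S] [Algebra R S]

theorem purelyInsep (G : Set S) (hG : Algebra.adjoin R G = ⊤)
    (hpow : ∀ x ∈ G, ∃ (n : ℕ) (P : R[X]), 0 < n ∧
      P.map (algebraMap R S) = (X - C x) ^ n)
    (q : Ideal S) [q.IsPrime] (p : Ideal R) [p.IsPrime] [q.LiesOver p] :
    @IsPurelyInseparable p.ResidueField q.ResidueField _ _
      (Ideal.ResidueField.mapₐ p q (Algebra.ofId R S) (q.over_def p)).toRingHom.toAlgebra := by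
  letI alg : Algebra p.ResidueField q.ResidueField :=
    (Ideal.ResidueField.mapₐ p q (Algebra.ofId R S) (q.over_def p)).toRingHom.toAlgebra
  set K := p.ResidueField
  set L := q.ResidueField
  have hcomp : ∀ r : R, algebraMap S L (algebraMap R S r) = algebraMap K L (algebraMap R K r) := by
    intro r
    exact (Ideal.ResidueField.map_algebraMap p q (algebraMap R S) (q.over_def p) r).symm
  have hcomp' : (algebraMap S L).comp (algebraMap R S) = (algebraMap K L).comp (algebraMap R K) :=
    RingHom.ext hcomp
  -- the subalgebra of elements mapping into the perfect closure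
  let E : Subalgebra R S :=
    { carrier := {s | algebraMap S L s ∈ perfectClosure K L}
      mul_mem' := fun {a b} ha hb => by
        simp only [Set.mem_ofPred_eq] at ha hb ⊢
        rw [map_mul]; exact mul_mem ha hb
      add_mem' := fun {a b} ha hb => by
        simp only [Set.mem_ofPred_eq] at ha hb ⊢
        rw [map_add]; exact add_mem ha hb
      algebraMap_mem' := fun r => by
        simp only [Set.mem_ofPred_eq]
        rw [hcomp]; exact (perfectClosure K L).algebraMap_mem _ }
  have h1 : Algebra.adjoin R G ≤ E := by
    refine Algebra.adjoin_le fun x hx => ?_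
    obtain ⟨n, P, hn, hP⟩ := hpow x hx
    change algebraMap S L x ∈ perfectClosure K L
    refine mem_perfectClosure_of_pow (n := n) (Q := P.map (algebraMap R K)) ?_ hn
    rw [Polynomial.map_map, ← hcomp', ← Polynomial.map_map, hP]
    simp
  have hS : ∀ s : S, algebraMap S L s ∈ perfectClosure K L := fun s =>
    h1 (by rw [hG]; trivial)
  rw [isPurelyInseparable_iff_perfectClosure_eq_top]
  refine top_unique fun y _ => ?_
  obtain ⟨a, b, hb, rfl⟩ := IsFractionRing.div_surjective (A := S ⧸ q) y
  obtain ⟨a, rfl⟩ := Ideal.Quotient.mk_surjective a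
  obtain ⟨b, rfl⟩ := Ideal.Quotient.mk_surjective b
  rw [Ideal.algebraMap_quotient_residueField_mk, Ideal.algebraMap_quotient_residueField_mk]
  exact div_mem (hS a) (hS b)

end

end Groth.Agent.Lib.helper1.UH
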