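import Mathlib
import Groth.Prelude

/-! Descent along universally injective ring maps (helper1). -/

set_option autoImplicit false
universe u
open scoped TensorProduct

namespace Groth.Agent.Lib.helper1.UnivInj

variable {R S : Type u} [CommRing R] [CommRing S] [Algebra R S]

theorem subsingleton_of_tensor (h : Pi1.UnivInjective R S) (Q : Type u) [AddCommGroup Q]
    [Module R Q] (hQ : Subsingleton (S ⊗[R] Q)) : Subsingleton Q := by
  have h1 : Subsingleton (Q ⊗[R] S) := (TensorProduct.comm R Q S).toEquiv.subsingleton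
  have h2 : Subsingleton (Q ⊗[R] R) := (h Q).subsingleton
  exact (TensorProduct.rid R Q).symm.toEquiv.subsingleton

theorem exists_finset_span (M : Type u) [AddCommGroup M] [Module R M] (t : S ⊗[R] M) :
    ∃ F : Finset M, t ∈ Submodule.span S ((TensorProduct.mk R S M 1) '' (F : Set M)) := by
  classical
  induction t using TensorProduct.induction_on with
  | zero => exact ⟨∅, Submodule.zero_mem _⟩
  | tmul s m =>
    refine ⟨{m}, ?_⟩
    have : s ⊗ₜ[R] m = s • ((TensorProduct.mk R S M 1) m) := by
      simp [TensorProduct.smul_tmul']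
    rw [this]
    exact Submodule.smul_mem _ _ (Submodule.subset_span ⟨m, by simp, rfl⟩)
  | add x y hx hy =>
    obtain ⟨F, hF⟩ := hx
    obtain ⟨G, hG⟩ := hy
    refine ⟨F ∪ G, Submodule.add_mem _ ?_ ?_⟩
    · exact Submodule.span_mono (Set.image_mono (by simp)) hF
    · exact Submodule.span_mono (Set.image_mono (by simp)) hG

theorem finite_of_tensor (h : Pi1.UnivInjective R S) (M : Type u) [AddCommGroup M] [Module R M]
    [Module.Finite S (S ⊗[R] M)] : Module.Finite R M := by
  classical
  obtain ⟨T, hT⟩ := (Module.Finite.fg_top : (⊤ : Submodule S (S ⊗[R] M)).FG)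
  choose F hF using exists_finset_span (R := R) (S := S) M
  let Fall : Finset M := T.biUnion F
  let N : Submodule R M := Submodule.span R (Fall : Set M)
  have hsub : Subsingleton (S ⊗[R] (M ⧸ N)) := by
    let φ : S ⊗[R] M →ₗ[S] S ⊗[R] (M ⧸ N) := LinearMap.baseChange S N.mkQ
    have hφs : Function.Surjective φ := by
      have : Function.Surjective (LinearMap.lTensor S N.mkQ) :=
        LinearMap.lTensor_surjective S N.mkQ_surjective
      exact this
    have hφ0 : φ = 0 := by
      apply LinearMap.ext_on_range (v := fun t : T => (t : S ⊗[R] M)) (by simpa using hT)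
      rintro ⟨t, ht⟩
      have h1 : t ∈ Submodule.span S ((TensorProduct.mk R S M 1) '' (Fall : Set M)) :=
        Submodule.span_mono (Set.image_mono (by
          intro m hm
          exact Finset.mem_biUnion.mpr ⟨t, ht, hm⟩)) (hF t)
      have h2 : Submodule.span S ((TensorProduct.mk R S M 1) '' (Fall : Set M)) ≤
          LinearMap.ker φ := by
        rw [Submodule.span_le]
        rintro _ ⟨m, hm, rfl⟩
        have hmN : m ∈ N := Submodule.subset_span hm
        simp [φ, (Submodule.Quotient.mk_eq_zero N).mpr hmN]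
      simpa using h2 h1
    constructor
    intro a b
    obtain ⟨a', rfl⟩ := hφs a
    obtain ⟨b', rfl⟩ := hφs b
    simp [hφ0]
  have hQ : Subsingleton (M ⧸ N) := subsingleton_of_tensor h _ hsub
  have hN : N = ⊤ := by
    rw [eq_top_iff]
    intro m _
    rw [← Submodule.Quotient.mk_eq_zero N]
    exact Subsingleton.elim _ _
  exact ⟨⟨Fall, hN⟩⟩


theorem eq_zero_of_tmul_eq_zero (h : Pi1.UnivInjective R S) (Q : Type u) [AddCommGroup Q]
    [Module R Q] (x : Q) (hx : (1 : S) ⊗ₜ[R] x = 0) : x = 0 := by
  have h1 : x ⊗ₜ[R] (1 : S) = 0 := by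
    have := congrArg (TensorProduct.comm R S Q) hx
    simpa using this
  have h2 : (LinearMap.lTensor Q (Algebra.linearMap R S)) (x ⊗ₜ[R] (1 : R)) = 0 := by
    simpa using h1
  have h3 : x ⊗ₜ[R] (1 : R) = 0 := h Q (by rw [h2, map_zero])
  have := congrArg (TensorProduct.rid R Q) h3
  simpa using this

theorem exists_finset_span_of_mem_range {F : Type u} [AddCommGroup F] [Module R F]
    (K : Submodule R F) (t : S ⊗[R] F) (ht : t ∈ LinearMap.range (LinearMap.baseChange S K.subtype)) :
    ∃ G : Finset F, (∀ g ∈ G, g ∈ K) ∧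
      t ∈ Submodule.span S ((TensorProduct.mk R S F 1) '' (G : Set F)) := by
  classical
  obtain ⟨t', rfl⟩ := ht
  obtain ⟨G', hG'⟩ := exists_finset_span (R := R) (S := S) K t'
  refine ⟨G'.image K.subtype, ?_, ?_⟩
  · intro g hg
    obtain ⟨g', _, rfl⟩ := Finset.mem_image.mp hg
    exact g'.2
  · have := Submodule.mem_map_of_mem (f := LinearMap.baseChange S K.subtype) hG'
    rw [Submodule.map_span] at this
    refine Submodule.span_mono ?_ this
    rintro _ ⟨_, ⟨g', hg', rfl⟩, rfl⟩
    refine ⟨g'.1, ?_, by simp⟩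
    rw [Finset.coe_image]
    exact ⟨g', hg', rfl⟩

theorem finitePresentation_of_tensor (h : Pi1.UnivInjective R S) (M : Type u) [AddCommGroup M]
    [Module R M] [Module.FinitePresentation S (S ⊗[R] M)] : Module.FinitePresentation R M := by
  classical
  have : Module.Finite R M := finite_of_tensor h M
  obtain ⟨n, f, hf⟩ := Module.Finite.exists_fin' R M
  let K := LinearMap.ker f
  have hfS : Function.Surjective (f.baseChange S) := LinearMap.lTensor_surjective S hf
  obtain ⟨T, hT⟩ := Module.FinitePresentation.fg_ker (f.baseChange S) hfS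
  have hex : Function.Exact (K.subtype.baseChange S) (f.baseChange S) :=
    lTensor_exact S f.exact_subtype_ker_map hf
  have hrange : LinearMap.ker (f.baseChange S) = LinearMap.range (K.subtype.baseChange S) :=
    hex.linearMap_ker_eq
  have hTmem : ∀ t : S ⊗[R] (Fin n → R), t ∈ T → t ∈ LinearMap.range (K.subtype.baseChange S) := by
    intro t ht
    rw [← hrange, ← hT]
    exact Submodule.subset_span ht
  have hG : ∀ t : S ⊗[R] (Fin n → R), ∃ G : Finset (Fin n → R), t ∈ T → ((∀ g ∈ G, g ∈ K) ∧
      t ∈ Submodule.span S ((TensorProduct.mk R S (Fin n → R) 1) '' (G : Set (Fin n → R)))) := by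
    intro t
    by_cases ht : t ∈ T
    · obtain ⟨G, hG⟩ := exists_finset_span_of_mem_range K t (hTmem t ht)
      exact ⟨G, fun _ => hG⟩
    · exact ⟨∅, fun h => (ht h).elim⟩
  choose G hG using hG
  let Gall : Finset (Fin n → R) := T.biUnion G
  let K' : Submodule R (Fin n → R) := Submodule.span R (Gall : Set (Fin n → R))
  have hK'K : K' ≤ K := by
    rw [Submodule.span_le]
    intro g hg
    obtain ⟨t, ht, hgt⟩ := Finset.mem_biUnion.mp hg
    exact (hG t ht).1 g hgt
  have hKK' : K ≤ K' := by
    intro k hk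
    let ψ : S ⊗[R] (Fin n → R) →ₗ[S] S ⊗[R] ((Fin n → R) ⧸ K') := LinearMap.baseChange S K'.mkQ
    have hker : LinearMap.ker (f.baseChange S) ≤ LinearMap.ker ψ := by
      rw [← hT, Submodule.span_le]
      intro t ht
      have h1 := (hG t ht).2
      have h2 : Submodule.span S ((TensorProduct.mk R S (Fin n → R) 1) '' (G t : Set (Fin n → R))) ≤
          LinearMap.ker ψ := by
        rw [Submodule.span_le]
        rintro _ ⟨g, hg, rfl⟩
        have hgK' : g ∈ K' := Submodule.subset_span (Finset.mem_biUnion.mpr ⟨t, ht, hg⟩)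
        simp [ψ, (Submodule.Quotient.mk_eq_zero K').mpr hgK']
      exact h2 h1
    have hk1 : (1 : S) ⊗ₜ[R] k ∈ LinearMap.ker (f.baseChange S) := by
      have : f k = 0 := hk
      simp [this]
    have hk2 : (1 : S) ⊗ₜ[R] (K'.mkQ k) = 0 := by
      have := hker hk1
      simpa [ψ] using this
    have := eq_zero_of_tmul_eq_zero h _ _ hk2
    exact (Submodule.Quotient.mk_eq_zero K').mp this
  have hKfg : K.FG := by
    rw [le_antisymm hKK' hK'K]
    exact ⟨Gall, rfl⟩
  exact Module.finitePresentation_of_free_of_surjective f hf hKfg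


theorem finiteType_of_tensor (h : Pi1.UnivInjective R S) (A : Type u) [CommRing A] [Algebra R A]
    [Algebra.FiniteType S (S ⊗[R] A)] : Algebra.FiniteType R A := by
  classical
  obtain ⟨T, hT⟩ := (Algebra.FiniteType.out : (⊤ : Subalgebra S (S ⊗[R] A)).FG)
  choose F hF using exists_finset_span (R := R) (S := S) A
  let Fall : Finset A := T.biUnion F
  let A' : Subalgebra R A := Algebra.adjoin R (Fall : Set A)
  let φ : S ⊗[R] A' →ₐ[S] S ⊗[R] A := Algebra.TensorProduct.map (AlgHom.id S S) A'.val
  have hφ : φ.range = ⊤ := by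
    rw [eq_top_iff, ← hT]
    apply Algebra.adjoin_le
    intro t ht
    have hle : Submodule.span S ((TensorProduct.mk R S A 1) '' (F t : Set A)) ≤
        Subalgebra.toSubmodule φ.range := by
      rw [Submodule.span_le]
      rintro _ ⟨a, ha, rfl⟩
      exact ⟨1 ⊗ₜ ⟨a, Algebra.subset_adjoin (Finset.mem_biUnion.mpr ⟨t, ht, ha⟩)⟩, by simp [φ]⟩
    exact hle (hF t)
  let N : Submodule R A := Subalgebra.toSubmodule A'
  have hsub : Subsingleton (S ⊗[R] (A ⧸ N)) := by
    have hs : Function.Surjective (LinearMap.lTensor S N.mkQ) :=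
      LinearMap.lTensor_surjective S N.mkQ_surjective
    have key : ∀ x : S ⊗[R] A, LinearMap.lTensor S N.mkQ x = 0 := by
      intro x
      have hx : x ∈ φ.range := hφ ▸ Algebra.mem_top
      obtain ⟨y, rfl⟩ := hx
      induction y using TensorProduct.induction_on with
      | zero => simp
      | tmul s a =>
        have : N.mkQ (a : A) = 0 := (Submodule.Quotient.mk_eq_zero N).mpr a.2
        simp [φ, this]
      | add y z hy hz => rw [map_add, map_add, hy, hz, add_zero]
    constructor
    intro a b
    obtain ⟨a', rfl⟩ := hs a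
    obtain ⟨b', rfl⟩ := hs b
    rw [key, key]
  have hQ : Subsingleton (A ⧸ N) := subsingleton_of_tensor h _ hsub
  have hA' : A' = ⊤ := by
    rw [eq_top_iff]
    intro a _
    have : a ∈ N := by
      rw [← Submodule.Quotient.mk_eq_zero N]
      exact Subsingleton.elim _ _
    exact this
  exact ⟨⟨Fall, hA'⟩⟩

end Groth.Agent.Lib.helper1.UnivInj
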