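import Mathlib
import Groth.Prelude
import Groth.Agent.Lib.helper1.UnivInj

set_option autoImplicit false
universe u
open scoped TensorProduct

namespace Groth.Agent.Lib.helper1.UnivInj

variable {R S : Type u} [CommRing R] [CommRing S] [Algebra R S]

section ext

variable {M : Type u} [AddCommGroup M] [Module R M] {ι : Type*} {κ : Type*} [Fintype ι] [Fintype κ]
  [DecidableEq ι] [DecidableEq κ]

theorem tensor_prod_pi_ext (u v : S ⊗[R] ((ι → M) × (κ → R)))
    (h1 : ∀ i, LinearMap.lTensor S (LinearMap.proj i ∘ₗ LinearMap.fst R (ι → M) (κ → R)) u =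
      LinearMap.lTensor S (LinearMap.proj i ∘ₗ LinearMap.fst R (ι → M) (κ → R)) v)
    (h2 : ∀ p, LinearMap.lTensor S (LinearMap.proj p ∘ₗ LinearMap.snd R (ι → M) (κ → R)) u =
      LinearMap.lTensor S (LinearMap.proj p ∘ₗ LinearMap.snd R (ι → M) (κ → R)) v) : u = v := by
  have hid : (LinearMap.id : ((ι → M) × (κ → R)) →ₗ[R] ((ι → M) × (κ → R))) =
      (∑ i, (LinearMap.inl R (ι → M) (κ → R) ∘ₗ LinearMap.single R (fun _ => M) i) ∘ₗ
        (LinearMap.proj i ∘ₗ LinearMap.fst R (ι → M) (κ → R))) +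
      ∑ p, (LinearMap.inr R (ι → M) (κ → R) ∘ₗ LinearMap.single R (fun _ => R) p) ∘ₗ
        (LinearMap.proj p ∘ₗ LinearMap.snd R (ι → M) (κ → R)) := by
    apply LinearMap.ext
    rintro ⟨a, b⟩
    simp only [LinearMap.id_coe, id_eq, LinearMap.add_apply, LinearMap.coe_sum, Finset.sum_apply,
      LinearMap.coe_comp, Function.comp_apply, LinearMap.fst_apply, LinearMap.snd_apply,
      LinearMap.proj_apply, LinearMap.inl_apply, LinearMap.inr_apply, LinearMap.coe_single]
    ext j
    · simp [Prod.fst_sum, Finset.sum_apply, Pi.single_apply]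
    · simp [Prod.snd_sum, Finset.sum_apply, Pi.single_apply]
  have key : ∀ w : S ⊗[R] ((ι → M) × (κ → R)), w =
      (∑ i, LinearMap.lTensor S (LinearMap.inl R (ι → M) (κ → R) ∘ₗ LinearMap.single R (fun _ => M) i)
        (LinearMap.lTensor S (LinearMap.proj i ∘ₗ LinearMap.fst R (ι → M) (κ → R)) w)) +
      ∑ p, LinearMap.lTensor S (LinearMap.inr R (ι → M) (κ → R) ∘ₗ LinearMap.single R (fun _ => R) p)
        (LinearMap.lTensor S (LinearMap.proj p ∘ₗ LinearMap.snd R (ι → M) (κ → R)) w) := by
    intro w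
    conv_lhs => rw [← LinearMap.id_apply (R := R) w, ← LinearMap.lTensor_id S, hid]
    rw [LinearMap.lTensor_add, LinearMap.add_apply]
    have hsum1 : ∀ (g : ι → (((ι → M) × (κ → R)) →ₗ[R] ((ι → M) × (κ → R)))),
        LinearMap.lTensor S (∑ a, g a) = ∑ a, LinearMap.lTensor S (g a) := by
      intro g
      exact map_sum (LinearMap.lTensorHom (R := R) (N := (ι → M) × (κ → R))
        (P := (ι → M) × (κ → R)) S) g Finset.univ
    have hsum2 : ∀ (g : κ → (((ι → M) × (κ → R)) →ₗ[R] ((ι → M) × (κ → R)))),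
        LinearMap.lTensor S (∑ a, g a) = ∑ a, LinearMap.lTensor S (g a) := by
      intro g
      exact map_sum (LinearMap.lTensorHom (R := R) (N := (ι → M) × (κ → R))
        (P := (ι → M) × (κ → R)) S) g Finset.univ
    rw [hsum1, hsum2, LinearMap.sum_apply, LinearMap.sum_apply]
    simp only [LinearMap.lTensor_comp, LinearMap.comp_apply]
  rw [key u, key v]
  simp only [h1, h2]

end ext


theorem flat_of_tensor (h : Pi1.UnivInjective R S) (M : Type u) [AddCommGroup M] [Module R M]
    [Module.Flat S (S ⊗[R] M)] : Module.Flat R M := by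
  classical
  apply Module.Flat.of_forall_isTrivialRelation
  intro l f x hfx
  -- the relation over `S`
  have hS : ∑ i, (algebraMap R S (f i)) • ((1 : S) ⊗ₜ[R] x i) = 0 := by
    have h0 : (1 : S) ⊗ₜ[R] (∑ i, f i • x i) = 0 := by rw [hfx, TensorProduct.tmul_zero]
    rw [TensorProduct.tmul_sum] at h0
    rw [← h0]
    refine Finset.sum_congr rfl fun i _ => ?_
    rw [TensorProduct.smul_tmul', smul_eq_mul, mul_one, Algebra.algebraMap_eq_smul_one,
      TensorProduct.smul_tmul]
  obtain ⟨k, a, y, hy', ha'⟩ := Module.Flat.isTrivialRelation_of_sum_smul_eq_zero hS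
  have hy : ∀ i, (1 : S) ⊗ₜ[R] x i = ∑ j, a i j • y j := hy'
  have ha : ∀ j, ∑ i, algebraMap R S (f i) * a i j = 0 := ha'
  choose σ hσ using fun j => TensorProduct.exists_finsupp_right (y j)
  let F : Finset M := Finset.univ.biUnion fun j => (σ j).support
  have hyF : ∀ j, y j = ∑ m ∈ F, (σ j m) ⊗ₜ[R] m := by
    intro j
    rw [hσ j, Finsupp.sum]
    apply Finset.sum_subset
    · intro m hm
      exact Finset.mem_biUnion.mpr ⟨j, Finset.mem_univ _, hm⟩
    · intro m _ hm
      rw [Finsupp.notMem_support_iff.mp hm, TensorProduct.zero_tmul]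
  let c : Fin l → M → S := fun i m => ∑ j, a i j * σ j m
  have hc1 : ∀ i, (1 : S) ⊗ₜ[R] x i = ∑ m ∈ F, c i m ⊗ₜ[R] m := by
    intro i
    rw [hy i]
    simp_rw [hyF, Finset.smul_sum, TensorProduct.smul_tmul', smul_eq_mul]
    rw [Finset.sum_comm]
    refine Finset.sum_congr rfl fun m _ => ?_
    rw [TensorProduct.sum_tmul]
  have hc2 : ∀ m, ∑ i, algebraMap R S (f i) * c i m = 0 := by
    intro m
    simp only [c, Finset.mul_sum]
    rw [Finset.sum_comm]
    have : ∀ j, ∑ i, algebraMap R S (f i) * (a i j * σ j m) =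
        (∑ i, algebraMap R S (f i) * a i j) * σ j m := by
      intro j
      rw [Finset.sum_mul]
      refine Finset.sum_congr rfl fun i _ => by ring
    simp_rw [this, ha, zero_mul, Finset.sum_const_zero]
  -- the linear system
  let Φ : (Fin l → ↥F → R) →ₗ[R] ((Fin l → M) × (↥F → R)) :=
    LinearMap.prod
      (LinearMap.pi fun i => ∑ p : ↥F,
        (LinearMap.proj p ∘ₗ (LinearMap.proj i : (Fin l → ↥F → R) →ₗ[R] (↥F → R))).smulRight (p : M))
      (LinearMap.pi fun p => ∑ i : Fin l,
        f i • (LinearMap.proj p ∘ₗ (LinearMap.proj i : (Fin l → ↥F → R) →ₗ[R] (↥F → R))))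
  have hΦfst : ∀ (X : Fin l → ↥F → R) (i : Fin l), (Φ X).1 i = ∑ p : ↥F, X i p • (p : M) := by
    intro X i
    change (∑ p : ↥F, (LinearMap.proj p ∘ₗ
      (LinearMap.proj i : (Fin l → ↥F → R) →ₗ[R] (↥F → R))).smulRight (p : M)) X = _
    rw [LinearMap.sum_apply]
    rfl
  have hΦsnd : ∀ (X : Fin l → ↥F → R) (p : ↥F), (Φ X).2 p = ∑ i, f i * X i p := by
    intro X p
    change (∑ i : Fin l, f i • (LinearMap.proj p ∘ₗ
      (LinearMap.proj i : (Fin l → ↥F → R) →ₗ[R] (↥F → R)))) X = _
    rw [LinearMap.sum_apply]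
    rfl
  let t : (Fin l → M) × (↥F → R) := (x, 0)
  let C : S ⊗[R] (Fin l → ↥F → R) :=
    ∑ i, ∑ p : ↥F, c i p ⊗ₜ[R] (Pi.single i (Pi.single p (1 : R)) : Fin l → ↥F → R)
  have hΦ1 : ∀ (i i' : Fin l) (p : ↥F),
      (LinearMap.proj i ∘ₗ LinearMap.fst R (Fin l → M) (↥F → R) ∘ₗ Φ)
        (Pi.single i' (Pi.single p (1 : R))) = if i' = i then (p : M) else 0 := by
    intro i i' p
    simp only [LinearMap.coe_comp, Function.comp_apply, LinearMap.fst_apply, LinearMap.proj_apply,
      hΦfst]
    by_cases hi : i' = i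
    · subst hi
      simp [Pi.single_apply]
    · simp [Pi.single_apply, hi, Ne.symm hi]
  have hΦ2 : ∀ (q : ↥F) (i' : Fin l) (p : ↥F),
      (LinearMap.proj q ∘ₗ LinearMap.snd R (Fin l → M) (↥F → R) ∘ₗ Φ)
        (Pi.single i' (Pi.single p (1 : R))) = if p = q then f i' else 0 := by
    intro q i' p
    simp only [LinearMap.coe_comp, Function.comp_apply, LinearMap.snd_apply, LinearMap.proj_apply,
      hΦsnd]
    by_cases hp : p = q
    · subst hp
      rw [if_pos rfl, Finset.sum_eq_single i']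
      · rw [Pi.single_eq_same, Pi.single_eq_same, mul_one]
      · intro i _ hi
        rw [Pi.single_eq_of_ne hi, Pi.zero_apply, mul_zero]
      · intro hi
        exact (hi (Finset.mem_univ _)).elim
    · rw [if_neg hp]
      apply Finset.sum_eq_zero
      intro i _
      by_cases hi : i = i'
      · subst hi
        rw [Pi.single_eq_same, Pi.single_eq_of_ne (Ne.symm hp), mul_zero]
      · rw [Pi.single_eq_of_ne hi, Pi.zero_apply, mul_zero]
  have key : LinearMap.lTensor S Φ C = (1 : S) ⊗ₜ[R] t := by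
    apply tensor_prod_pi_ext
    · intro i
      rw [← LinearMap.comp_apply, ← LinearMap.lTensor_comp, LinearMap.comp_assoc]
      simp only [C, map_sum, LinearMap.lTensor_tmul, hΦ1]
      simp only [LinearMap.coe_comp, Function.comp_apply, LinearMap.fst_apply,
        LinearMap.proj_apply, t]
      rw [hc1 i, ← Finset.sum_coe_sort F]
      rw [Finset.sum_eq_single i]
      · simp
      · intro i' _ hi'
        simp [hi']
      · intro hi
        exact (hi (Finset.mem_univ _)).elim
    · intro q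
      rw [← LinearMap.comp_apply, ← LinearMap.lTensor_comp, LinearMap.comp_assoc]
      simp only [C, map_sum, LinearMap.lTensor_tmul, hΦ2]
      simp only [LinearMap.coe_comp, Function.comp_apply, LinearMap.snd_apply,
        LinearMap.proj_apply, t, Pi.zero_apply, TensorProduct.tmul_zero]
      have : ∀ i' : Fin l, ∑ p : ↥F, c i' p ⊗ₜ[R] (if p = q then f i' else 0) =
          (algebraMap R S (f i') * c i' q) ⊗ₜ[R] (1 : R) := by
        intro i'
        rw [Finset.sum_eq_single q]
        · rw [if_pos rfl]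
          have : f i' = f i' • (1 : R) := by simp
          conv_lhs => rw [this, ← TensorProduct.smul_tmul, Algebra.smul_def]
        · intro p _ hp
          simp [hp]
        · intro hq
          exact (hq (Finset.mem_univ _)).elim
      simp_rw [this]
      rw [← TensorProduct.sum_tmul, hc2, TensorProduct.zero_tmul]
  have hmk : (1 : S) ⊗ₜ[R] ((LinearMap.range Φ).mkQ t) = 0 := by
    have h1 : (1 : S) ⊗ₜ[R] ((LinearMap.range Φ).mkQ t) =
        LinearMap.lTensor S (LinearMap.range Φ).mkQ ((1 : S) ⊗ₜ[R] t) := by simp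
    rw [h1, ← key, ← LinearMap.comp_apply, ← LinearMap.lTensor_comp]
    have h2 : (LinearMap.range Φ).mkQ ∘ₗ Φ = 0 := by
      apply LinearMap.ext
      intro X
      simp
    rw [h2, LinearMap.lTensor_zero, LinearMap.zero_apply]
  have ht : (LinearMap.range Φ).mkQ t = 0 := eq_zero_of_tmul_eq_zero h _ _ hmk
  obtain ⟨X, hX⟩ : t ∈ LinearMap.range Φ := by
    simpa using ht
  let e : ↥F ≃ Fin F.card := F.equivFin
  refine ⟨F.card, fun i j => X i (e.symm j), fun j => ((e.symm j : ↥F) : M), ?_, ?_⟩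
  · intro i
    have := congrFun (congrArg Prod.fst hX) i
    rw [hΦfst] at this
    change _ = x i at this
    rw [← this]
    exact (Equiv.sum_comp e.symm (fun p : ↥F => X i p • (p : M))).symm
  · intro j
    have := congrFun (congrArg Prod.snd hX) (e.symm j)
    rw [hΦsnd] at this
    exact this

end Groth.Agent.Lib.helper1.UnivInj
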