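import Mathlib
import Groth.Prelude
import Groth.Agent.Lib.helper1.UnivInj2

set_option autoImplicit false
universe u
open scoped TensorProduct

namespace Groth.Agent.Lib.helper1.UnivInj

variable {R S : Type u} [CommRing R] [CommRing S] [Algebra R S]

theorem finitePresentationAlg_of_tensor (h : Pi1.UnivInjective R S) (A : Type u) [CommRing A]
    [Algebra R A] [Algebra.FinitePresentation S (S ⊗[R] A)] : Algebra.FinitePresentation R A := by
  classical
  have hft : Algebra.FiniteType R A := finiteType_of_tensor h A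
  obtain ⟨n, π, hπ⟩ := Algebra.FiniteType.iff_quotient_mvPolynomial''.mp hft
  let P := MvPolynomial (Fin n) R
  let I : Ideal P := RingHom.ker π.toRingHom
  -- base change of π
  let πS : S ⊗[R] P →ₐ[S] S ⊗[R] A := Algebra.TensorProduct.map (AlgHom.id S S) π
  have hcoe : ∀ z : S ⊗[R] P, πS z = LinearMap.lTensor S π.toLinearMap z := by
    intro z
    induction z using TensorProduct.induction_on with
    | zero => simp
    | tmul s p => simp [πS]
    | add a b ha hb => rw [map_add, map_add, ha, hb]
  have hπS : Function.Surjective πS := by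
    have : Function.Surjective (LinearMap.lTensor S π.toLinearMap) :=
      LinearMap.lTensor_surjective S hπ
    intro z
    obtain ⟨w, hw⟩ := this z
    exact ⟨w, by rw [hcoe, hw]⟩
  have hJfg : (RingHom.ker πS.toRingHom).FG :=
    Algebra.FinitePresentation.ker_fG_of_surjective πS hπS
  -- the kernel is generated by `1 ⊗ i`, `i ∈ I`
  let gens : Set (S ⊗[R] P) := (fun i : P => (1 : S) ⊗ₜ[R] i) '' (I : Set P)
  have hJ : RingHom.ker πS.toRingHom = Ideal.span gens := by
    apply le_antisymm
    · intro z hz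
      have hz' : LinearMap.lTensor S π.toLinearMap z = 0 := by
        have : πS z = 0 := hz
        rw [← hcoe, this]
      have hex : Function.Exact (LinearMap.lTensor S (Submodule.subtype (Submodule.restrictScalars R I)))
          (LinearMap.lTensor S π.toLinearMap) := by
        apply lTensor_exact S _ hπ
        intro p
        constructor
        · intro hp
          exact ⟨⟨p, hp⟩, rfl⟩
        · rintro ⟨⟨q, hq⟩, rfl⟩
          exact hq
      obtain ⟨w, rfl⟩ := (hex z).mp hz'
      clear hz hz'
      induction w using TensorProduct.induction_on with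
      | zero => simp
      | tmul s i =>
        have : (LinearMap.lTensor S (Submodule.subtype (Submodule.restrictScalars R I)))
            (s ⊗ₜ[R] i) = (s ⊗ₜ[R] (1 : P)) * ((1 : S) ⊗ₜ[R] (i : P)) := by
          simp
        rw [this]
        exact Ideal.mul_mem_left _ _ (Ideal.subset_span ⟨i, i.2, rfl⟩)
      | add a b ha hb =>
        rw [map_add]
        exact Ideal.add_mem _ ha hb
    · rw [Ideal.span_le]
      rintro _ ⟨i, hi, rfl⟩
      have : π i = 0 := hi
      show πS ((1 : S) ⊗ₜ[R] i) = 0
      simp [πS, this]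
  rw [hJ] at hJfg
  obtain ⟨G, hGsub, hGspan⟩ := (Submodule.fg_span_iff_fg_span_finset_subset gens).mp hJfg
  -- choose preimages in `I`
  have hchoose : ∀ g : ↥G, ∃ i : P, i ∈ I ∧ (1 : S) ⊗ₜ[R] i = (g : S ⊗[R] P) := by
    intro g
    obtain ⟨i, hi, hig⟩ := hGsub g.2
    exact ⟨i, hi, hig⟩
  choose ι hιI hιg using hchoose
  let I' : Ideal P := Ideal.span (Set.range ι)
  have hI'I : I' ≤ I := by
    rw [Ideal.span_le]
    rintro _ ⟨g, rfl⟩
    exact hιI g
  have hII' : I ≤ I' := by
    intro i hi
    -- work in the quotient `P ⧸ I'`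
    let q : S ⊗[R] P →ₐ[S] S ⊗[R] (P ⧸ I') :=
      Algebra.TensorProduct.map (AlgHom.id S S) (Ideal.Quotient.mkₐ R I')
    have hker : Ideal.span gens ≤ RingHom.ker q.toRingHom := by
      have hG : Ideal.span gens = Ideal.span (G : Set (S ⊗[R] P)) := hGspan
      rw [hG, Ideal.span_le]
      intro g hg
      have hg' := hιg ⟨g, hg⟩
      show q g = 0
      have : (g : S ⊗[R] P) = (1 : S) ⊗ₜ[R] ι ⟨g, hg⟩ := hg'.symm
      rw [this]
      have hmem : ι ⟨g, hg⟩ ∈ I' := Ideal.subset_span ⟨_, rfl⟩
      simp [q, Ideal.Quotient.eq_zero_iff_mem.mpr hmem]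
    have h1 : (1 : S) ⊗ₜ[R] i ∈ Ideal.span gens := Ideal.subset_span ⟨i, hi, rfl⟩
    have h2 : q ((1 : S) ⊗ₜ[R] i) = 0 := hker h1
    have h3 : (1 : S) ⊗ₜ[R] (Ideal.Quotient.mk I' i) = 0 := by simpa [q] using h2
    have h4 := eq_zero_of_tmul_eq_zero h (P ⧸ I') _ h3
    exact Ideal.Quotient.eq_zero_iff_mem.mp h4
  have hIfg : I.FG := by
    rw [le_antisymm hII' hI'I]
    exact ⟨Finset.univ.image ι, by simp [I']⟩
  exact Algebra.FinitePresentation.of_surjective hπ hIfg

end Groth.Agent.Lib.helper1.UnivInj
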