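import Mathlib

/-! Helper library for S14795 (weak subintegral closure): ring-level lemmas. -/

namespace Groth.Agent.Lib.helper1.WS

open TensorProduct

universe u

/-- Extend a field-valued point along an injective integral extension, after enlarging the field. -/
theorem exists_extension {C B : Type u} [CommRing C] [CommRing B] [Algebra C B]
    [Algebra.IsIntegral C B] (hinj : Function.Injective (algebraMap C B))
    (K : Type u) [Field K] (φ : C →+* K) :
    ∃ (K' : Type u) (_ : Field K') (j : K →+* K') (ψ : B →+* K'),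
      ψ.comp (algebraMap C B) = j.comp φ := by
  let p : Ideal C := RingHom.ker φ
  haveI : p.IsPrime := RingHom.ker_isPrime φ
  obtain ⟨q, -, hq, hqp⟩ := Ideal.exists_ideal_over_prime_of_isIntegral p (⊥ : Ideal B) (by
    rw [Ideal.comap_bot_of_injective _ hinj]; exact bot_le)
  haveI := hq
  let f : p.ResidueField →+* q.ResidueField :=
    Ideal.ResidueField.map p q (algebraMap C B) hqp.symm
  have hunit : p.primeCompl ≤ (IsUnit.submonoid K).comap φ := by
    intro c hc
    change IsUnit (φ c)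
    rw [isUnit_iff_ne_zero]
    exact fun h => hc h
  let g : p.ResidueField →+* K := Ideal.ResidueField.lift p φ le_rfl hunit
  letI : Algebra p.ResidueField q.ResidueField := f.toAlgebra
  letI : Algebra p.ResidueField K := g.toAlgebra
  haveI : Nontrivial (q.ResidueField ⊗[p.ResidueField] K) :=
    Algebra.TensorProduct.nontrivial_of_algebraMap_injective_of_flat_left _ _ _
      (algebraMap p.ResidueField K).injective
  obtain ⟨m, hm⟩ := Ideal.exists_maximal (q.ResidueField ⊗[p.ResidueField] K)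
  letI : Field ((q.ResidueField ⊗[p.ResidueField] K) ⧸ m) := Ideal.Quotient.field m
  let j : K →+* (q.ResidueField ⊗[p.ResidueField] K) ⧸ m := (Ideal.Quotient.mk m).comp
    (Algebra.TensorProduct.includeRight :
      K →ₐ[p.ResidueField] q.ResidueField ⊗[p.ResidueField] K).toRingHom
  let ψ : B →+* (q.ResidueField ⊗[p.ResidueField] K) ⧸ m := ((Ideal.Quotient.mk m).comp
    (Algebra.TensorProduct.includeLeft :
      q.ResidueField →ₐ[p.ResidueField] q.ResidueField ⊗[p.ResidueField] K).toRingHom).comp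
    (algebraMap B q.ResidueField)
  refine ⟨_, inferInstance, j, ψ, RingHom.ext fun c => ?_⟩
  have e1 : algebraMap B q.ResidueField (algebraMap C B c) =
      algebraMap p.ResidueField q.ResidueField (algebraMap C p.ResidueField c) :=
    (Ideal.ResidueField.map_algebraMap p q (algebraMap C B) hqp.symm c).symm
  have e2 : φ c = algebraMap p.ResidueField K (algebraMap C p.ResidueField c) :=
    (Ideal.ResidueField.lift_algebraMap p φ le_rfl hunit c).symm
  simp only [ψ, j, RingHom.comp_apply, e1, e2, AlgHom.toRingHom_eq_coe, RingHom.coe_coe,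
    AlgHom.commutes]

section
variable {A B : Type u} [CommRing A] [CommRing B] [Algebra A B]

/-- The set of `b` with `b ⊗ 1 - 1 ⊗ b` nilpotent is a subalgebra. -/
def nilSub (A B : Type u) [CommRing A] [CommRing B] [Algebra A B] : Subalgebra A B where
  carrier := {b | IsNilpotent (b ⊗ₜ[A] (1 : B) - (1 : B) ⊗ₜ[A] b)}
  mul_mem' := by
    intro a b ha hb
    simp only [Set.mem_ofPred_eq] at ha hb ⊢
    have e : (a * b) ⊗ₜ[A] (1 : B) - (1 : B) ⊗ₜ[A] (a * b) =
        (a ⊗ₜ[A] (1 : B)) * (b ⊗ₜ[A] (1 : B) - (1 : B) ⊗ₜ[A] b) +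
        (a ⊗ₜ[A] (1 : B) - (1 : B) ⊗ₜ[A] a) * ((1 : B) ⊗ₜ[A] b) := by
      simp only [mul_sub, sub_mul, Algebra.TensorProduct.tmul_mul_tmul, mul_one, one_mul]
      abel
    rw [e]
    exact (Commute.all _ _).isNilpotent_add ((Commute.all _ _).isNilpotent_mul_left hb)
      ((Commute.all _ _).isNilpotent_mul_right ha)
  add_mem' := by
    intro a b ha hb
    simp only [Set.mem_ofPred_eq] at ha hb ⊢
    have e : (a + b) ⊗ₜ[A] (1 : B) - (1 : B) ⊗ₜ[A] (a + b) =
        (a ⊗ₜ[A] (1 : B) - (1 : B) ⊗ₜ[A] a) + (b ⊗ₜ[A] (1 : B) - (1 : B) ⊗ₜ[A] b) := by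
      rw [TensorProduct.add_tmul, TensorProduct.tmul_add]; abel
    rw [e]
    exact (Commute.all _ _).isNilpotent_add ha hb
  algebraMap_mem' := by
    intro r
    simp only [Set.mem_ofPred_eq]
    have : (algebraMap A B r) ⊗ₜ[A] (1 : B) = (1 : B) ⊗ₜ[A] (algebraMap A B r) := by
      rw [Algebra.algebraMap_eq_smul_one, TensorProduct.smul_tmul]
    rw [this, sub_self]
    exact IsNilpotent.zero

theorem mem_nilSub {b : B} :
    b ∈ nilSub A B ↔ IsNilpotent (b ⊗ₜ[A] (1 : B) - (1 : B) ⊗ₜ[A] b) := Iff.rfl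

/-- Field valued points of `nilSub` are determined by their restriction to `A`. -/
theorem hom_ext_nilSub [Algebra.IsIntegral A B] (K : Type u) [Field K]
    (φ₁ φ₂ : nilSub A B →+* K)
    (h : φ₁.comp (algebraMap A (nilSub A B)) = φ₂.comp (algebraMap A (nilSub A B))) :
    φ₁ = φ₂ := by
  haveI : Algebra.IsIntegral (nilSub A B) B := Algebra.IsIntegral.tower_top (R := A)
  have hinj : Function.Injective (algebraMap (nilSub A B) B) := Subtype.val_injective
  obtain ⟨K₁, _, j₁, ψ₁, h₁⟩ := exists_extension hinj K φ₁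
  obtain ⟨K₂, _, j₂, ψ₂, h₂⟩ := exists_extension hinj K₁ (j₁.comp φ₂)
  -- two `A`-algebra maps `B → K₂`
  let θ₁ : B →+* K₂ := j₂.comp ψ₁
  let θ₂ : B →+* K₂ := ψ₂
  letI : Algebra A K₂ := (θ₁.comp (algebraMap A B)).toAlgebra
  have hA : ∀ a : A, θ₂ (algebraMap A B a) = θ₁ (algebraMap A B a) := by
    intro a
    have e1 : θ₁ (algebraMap A B a) = j₂ (j₁ (φ₁ (algebraMap A (nilSub A B) a))) := by
      have := RingHom.congr_fun h₁ (algebraMap A (nilSub A B) a)
      simp only [RingHom.comp_apply] at this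
      simp only [θ₁, RingHom.comp_apply]
      rw [← this]; rfl
    have e2 : θ₂ (algebraMap A B a) = j₂ (j₁ (φ₂ (algebraMap A (nilSub A B) a))) := by
      have := RingHom.congr_fun h₂ (algebraMap A (nilSub A B) a)
      simp only [RingHom.comp_apply] at this
      rw [← this]; rfl
    rw [e1, e2]
    have := RingHom.congr_fun h a
    simp only [RingHom.comp_apply] at this
    rw [this]
  let Θ₁ : B →ₐ[A] K₂ := { θ₁ with commutes' := fun a => rfl }
  let Θ₂ : B →ₐ[A] K₂ := { θ₂ with commutes' := fun a => hA a }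
  let Φ : B ⊗[A] B →ₐ[A] K₂ := Algebra.TensorProduct.productMap Θ₁ Θ₂
  refine RingHom.ext fun c => ?_
  have hc : IsNilpotent ((c : B) ⊗ₜ[A] (1 : B) - (1 : B) ⊗ₜ[A] (c : B)) := c.2
  have hΦ : IsNilpotent (Φ ((c : B) ⊗ₜ[A] (1 : B) - (1 : B) ⊗ₜ[A] (c : B))) := hc.map Φ
  have hval : Φ ((c : B) ⊗ₜ[A] (1 : B) - (1 : B) ⊗ₜ[A] (c : B)) = θ₁ c - θ₂ c := by
    simp [Φ, Θ₁, Θ₂, Algebra.TensorProduct.productMap_apply_tmul]
  rw [hval] at hΦ
  have h0 : θ₁ c = θ₂ c := sub_eq_zero.mp hΦ.eq_zero
  have e1 : θ₁ c = j₂ (j₁ (φ₁ c)) := by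
    have := RingHom.congr_fun h₁ c
    simp only [RingHom.comp_apply] at this
    simp only [θ₁, RingHom.comp_apply]
    rw [← this]; rfl
  have e2 : θ₂ c = j₂ (j₁ (φ₂ c)) := by
    have := RingHom.congr_fun h₂ c
    simp only [RingHom.comp_apply] at this
    rw [← this]; rfl
  rw [e1, e2] at h0
  exact j₁.injective (j₂.injective h0)

end

end Groth.Agent.Lib.helper1.WS
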