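import Mathlib
import Groth.Prelude.Def_Flat
import Groth.Agent.Lib.helper1.WS1

/-! Helper library for S14795: scheme-level lemmas on universal homeomorphisms. -/

open AlgebraicGeometry CategoryTheory TensorProduct

namespace Groth.Agent.Lib.helper1.WS

universe u

/-- Field-valued points criterion for universal injectivity, affine case. -/
theorem universallyInjective_SpecMap_iff {A C : CommRingCat.{u}} (f : A ⟶ C) :
    UniversallyInjective (Spec.map f) ↔
      ∀ (K : Type u) [Field K] (φ₁ φ₂ : C →+* K), φ₁.comp f.hom = φ₂.comp f.hom → φ₁ = φ₂ := by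
  have htfae := (tfae_universallyInjective (Spec.map f)).out 0 1
  rw [htfae]
  constructor
  · intro H K _ φ₁ φ₂ h
    have h1 : Spec.map (CommRingCat.ofHom φ₁) ≫ Spec.map f =
        Spec.map (CommRingCat.ofHom φ₂) ≫ Spec.map f := by
      rw [← Spec.map_comp, ← Spec.map_comp]
      congr 1
      ext x
      exact RingHom.congr_fun h x
    have h2 := Spec.map_injective (@H K _ _ _ h1)
    have h3 := congrArg CommRingCat.Hom.hom h2
    simpa using h3
  · intro H K _ g₁ g₂ hg
    dsimp only at hg
    rw [← Spec.map_preimage g₁, ← Spec.map_preimage g₂, ← Spec.map_comp, ← Spec.map_comp] at hg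
    have h1 := Spec.map_injective hg
    have h2 : (Spec.preimage g₁).hom = (Spec.preimage g₂).hom := by
      apply H
      have := congrArg CommRingCat.Hom.hom h1
      simpa using this
    rw [← Spec.map_preimage g₁, ← Spec.map_preimage g₂]
    congr 1
    ext x
    exact RingHom.congr_fun h2 x

theorem isUnivHomeo_of {X Y : Scheme.{u}} (f : X ⟶ Y) [UniversallyInjective f]
    [UniversallyClosed f] [Surjective f] : FlatMor.IsUnivHomeo f := by
  intro X' Y' i₁ i₂ f' h
  have h1 : UniversallyInjective f' := MorphismProperty.of_isPullback h.flip inferInstance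
  have h2 : UniversallyClosed f' := MorphismProperty.of_isPullback h.flip inferInstance
  have h3 : Surjective f' := MorphismProperty.of_isPullback h.flip inferInstance
  exact isHomeomorph_iff_continuous_isClosedMap_bijective.mpr
    ⟨f'.continuous, f'.isClosedMap, f'.injective, f'.surjective⟩

theorem universallyInjective_of_isUnivHomeo {X Y : Scheme.{u}} {f : X ⟶ Y}
    (h : FlatMor.IsUnivHomeo f) : UniversallyInjective f := by
  rw [universallyInjective_eq]
  exact MorphismProperty.universally_mono (fun _ _ g hg => hg.injective) _ h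

section
variable {A B : Type u} [CommRing A] [CommRing B] [Algebra A B]

theorem isUnivHomeo_nilSub (hinj : Function.Injective (algebraMap A B)) [Algebra.IsIntegral A B] :
    FlatMor.IsUnivHomeo (Spec.map (CommRingCat.ofHom (algebraMap A (nilSub A B)))) := by
  haveI hint : Algebra.IsIntegral A (nilSub A B) :=
    ⟨fun d => (isIntegral_algHom_iff (nilSub A B).val Subtype.val_injective).mp
      (Algebra.IsIntegral.isIntegral (d : B))⟩
  have hinj' : Function.Injective (algebraMap A (nilSub A B)) := by
    intro a a' h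
    exact hinj (congrArg Subtype.val h)
  haveI : FaithfulSMul A (nilSub A B) := (faithfulSMul_iff_algebraMap_injective _ _).mpr hinj'
  haveI : UniversallyInjective (Spec.map (CommRingCat.ofHom (algebraMap A (nilSub A B)))) := by
    rw [universallyInjective_SpecMap_iff]
    intro K _ φ₁ φ₂ h
    exact hom_ext_nilSub K φ₁ φ₂ h
  haveI : IsIntegralHom (Spec.map (CommRingCat.ofHom (algebraMap A (nilSub A B)))) := by
    rw [IsIntegralHom.SpecMap_iff]
    exact algebraMap_isIntegral_iff.mpr hint
  haveI : Surjective (Spec.map (CommRingCat.ofHom (algebraMap A (nilSub A B)))) := by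
    refine ⟨fun x => ?_⟩
    obtain ⟨y, hy⟩ := Algebra.IsIntegral.comap_surjective A (nilSub A B) x
    exact ⟨y, hy⟩
  exact isUnivHomeo_of _

theorem nilpotent_of_isUnivHomeo (C : Subalgebra A B)
    (hC : FlatMor.IsUnivHomeo (Spec.map (CommRingCat.ofHom (algebraMap A C)))) {b : B}
    (hb : b ∈ C) : IsNilpotent (b ⊗ₜ[A] (1 : B) - (1 : B) ⊗ₜ[A] b) := by
  have hUI := universallyInjective_of_isUnivHomeo hC
  rw [universallyInjective_SpecMap_iff] at hUI
  let c : C := ⟨b, hb⟩
  have hnil : IsNilpotent (c ⊗ₜ[A] (1 : C) - (1 : C) ⊗ₜ[A] c) := by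
    rw [nilpotent_iff_mem_prime]
    intro P hP
    haveI := hP
    let φ₁ : C →+* P.ResidueField := (algebraMap (C ⊗[A] C) P.ResidueField).comp
      (Algebra.TensorProduct.includeLeft : C →ₐ[A] C ⊗[A] C).toRingHom
    let φ₂ : C →+* P.ResidueField := (algebraMap (C ⊗[A] C) P.ResidueField).comp
      (Algebra.TensorProduct.includeRight : C →ₐ[A] C ⊗[A] C).toRingHom
    have h12 : φ₁ = φ₂ := by
      apply hUI
      refine RingHom.ext fun a => ?_
      simp only [φ₁, φ₂, RingHom.comp_apply, CommRingCat.hom_ofHom, AlgHom.toRingHom_eq_coe,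
        RingHom.coe_coe, AlgHom.commutes]
    have := RingHom.congr_fun h12 c
    simp only [φ₁, φ₂, RingHom.comp_apply, AlgHom.toRingHom_eq_coe, RingHom.coe_coe,
      Algebra.TensorProduct.includeLeft_apply, Algebra.TensorProduct.includeRight_apply] at this
    rw [← Ideal.algebraMap_residueField_eq_zero (I := P), map_sub, this, sub_self]
  have := hnil.map (Algebra.TensorProduct.map C.val C.val)
  simpa [c] using this

theorem main (hinj : Function.Injective (algebraMap A B)) [Algebra.IsIntegral A B]
    (C : Subalgebra A B)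
    (hC : FlatMor.IsUnivHomeo (Spec.map (CommRingCat.ofHom (algebraMap A C))))
    (hmax : ∀ D : Subalgebra A B,
      FlatMor.IsUnivHomeo (Spec.map (CommRingCat.ofHom (algebraMap A D))) → D ≤ C) (b : B) :
    b ∈ C ↔ IsNilpotent (b ⊗ₜ[A] (1 : B) - (1 : B) ⊗ₜ[A] b) :=
  ⟨fun hb => nilpotent_of_isUnivHomeo C hC hb,
    fun hb => hmax (nilSub A B) (isUnivHomeo_nilSub hinj) hb⟩

end

end Groth.Agent.Lib.helper1.WS
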