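import Groth.Prelude.Def_MoreMor

set_option autoImplicit false
universe u
open CategoryTheory CategoryTheory.Limits AlgebraicGeometry

namespace Groth.Agent.Lib.helper1.WT

theorem finSepDegree_comp_equiv {K L L' : Type u} [Field K] [Field L] [Field L']
    (a : K →+* L') (b : L' ≃+* L) :
    @Field.finSepDegree K L _ _ ((b.toRingHom.comp a).toAlgebra) =
      @Field.finSepDegree K L' _ _ a.toAlgebra := by
  letI := a.toAlgebra
  letI := (b.toRingHom.comp a).toAlgebra
  let i : L' ≃ₐ[K] L := { b with commutes' := fun r => rfl }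
  exact (Field.finSepDegree_eq_of_equiv K L' L i).symm

theorem fibreIntegral_congr {U V : Scheme.{u}} (π π' : U ⟶ V) (h : π = π') (w w' : U → ℤ)
    (hw : w = w') : MoreMor.fibreIntegral π w = MoreMor.fibreIntegral π' w' := by
  subst h; subst hw; rfl

theorem sepDeg_comp_iso {U U₀ V : Scheme.{u}} (e : U ⟶ U₀) [IsIso e] (π₀ : U₀ ⟶ V) (u : U) :
    @Field.finSepDegree (V.residueField ((e ≫ π₀) u)) (U.residueField u) _ _
        (((e ≫ π₀).residueFieldMap u).hom.toAlgebra) =
      @Field.finSepDegree (V.residueField (π₀ (e u))) (U₀.residueField (e u)) _ _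
        ((π₀.residueFieldMap (e u)).hom.toAlgebra) := by
  have h := finSepDegree_comp_equiv (π₀.residueFieldMap (e u)).hom
    (asIso (e.residueFieldMap u)).commRingCatIsoToRingEquiv
  rw [← h]
  congr 1
  rw [Scheme.residueFieldMap_comp]
  rfl

theorem fibreIntegral_comp_iso {U U₀ V : Scheme.{u}} (e : U ⟶ U₀) [IsIso e] (π₀ : U₀ ⟶ V)
    (w₀ : U₀ → ℤ) (v : V) :
    MoreMor.fibreIntegral (e ≫ π₀) (fun u => w₀ (e u)) v = MoreMor.fibreIntegral π₀ w₀ v := by
  unfold MoreMor.fibreIntegral
  let ε : {u : U // (e ≫ π₀) u = v} → {u₀ : U₀ // π₀ u₀ = v} := fun u => ⟨e u.1, u.2⟩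
  have hε : Function.Bijective ε := by
    have hb : Function.Bijective e := (Scheme.homeoOfIso (asIso e)).bijective
    constructor
    · intro a b hab
      exact Subtype.ext (hb.1 (congrArg Subtype.val hab))
    · intro b
      obtain ⟨a, ha⟩ := hb.2 b.1
      exact ⟨⟨a, by change π₀ (e a) = v; rw [ha]; exact b.2⟩, Subtype.ext ha⟩
  refine finsum_eq_of_bijective ε hε (fun u => ?_)
  change w₀ (e u.1) * _ = w₀ (e u.1) * _
  congr 1
  exact congrArg (fun n : ℕ => (n : ℤ)) (sepDeg_comp_iso e π₀ u.1)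

end Groth.Agent.Lib.helper1.WT
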